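import Cfsg.Agent.LocalThree.HallJankoType.OrderFormula

/-!
Counting tools for local subgroups with two classes of involutions in a normal subgroup, and normalisers of subgroups
of prime order under homomorphisms.
-/

set_option autoImplicit false
set_option linter.unusedSectionVars false
set_option linter.style.haveILetI false

namespace Cfsg.Lib.JankoFour.LocalCount

open Subgroup
open Cfsg.Lib.HallJankoType

universe u v

variable {G : Type u} [Group G] [Finite G]

/-- The order formula for two classes of involutions inside a normal subgroup. -/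
theorem two_class_formula_in (C : Subgroup G) [C.Normal] {z t : G} (hz : orderOf z = 2) (ht : orderOf t = 2)
    (hzC : z ∈ C) (htC : t ∈ C) (hzt : ¬ IsConj z t)
    (hcls : ∀ x ∈ C, orderOf x = 2 → IsConj z x ∨ IsConj t x) :
    Nat.card G = Nat.card (PairSet z t z) * Nat.card (centralizer ({t} : Set G)) +
      Nat.card (PairSet z t t) * Nat.card (centralizer ({z} : Set G)) := by
  classical
  letI := Fintype.ofFinite G
  set Az := Nat.card (PairSet z t z) with hAz
  set At := Nat.card (PairSet z t t) with hAt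
  set nz := Nat.card {x // IsConj z x} with hnz
  set nt := Nat.card {x // IsConj t x} with hnt
  set S : Finset (G × G) := Finset.univ.filter fun p => IsConj z p.1 ∧ IsConj t p.2 with hS
  set I : Finset G := Finset.univ.filter fun u => IsConj z u ∨ IsConj t u with hI
  have hin : ∀ {a b : G}, a ∈ C → IsConj a b → b ∈ C := fun {a b} ha h => by
    obtain ⟨g, rfl⟩ := isConj_iff.1 h
    exact Normal.conj_mem inferInstance a ha g
  have hmaps : ∀ p ∈ S, pairInvol p.1 p.2 ∈ I := by
    intro p hp
    simp only [hS, Finset.mem_filter, Finset.mem_univ, true_and] at hp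
    have h1 := order_two_of_conj hz hp.1
    have h2 := order_two_of_conj ht hp.2
    have he := even_of_not_conj h1 h2 fun e => hzt ((hp.1.trans e).trans hp.2.symm)
    simp only [hI, Finset.mem_filter, Finset.mem_univ, true_and]
    exact hcls _ (pow_mem (mul_mem (hin hzC hp.1) (hin htC hp.2)) _) (Cfsg.Lib.InvolCalc.central_spec h1 h2 he).1
  have hfib : ∀ u, (S.filter fun p => pairInvol p.1 p.2 = u).card = Nat.card (PairSet z t u) := fun u => by
    rw [Nat.card_coe_set_eq, ← Set.ncard_coe_finset]
    congr 1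
    ext p
    simp only [hS, PairSet, Finset.coe_filter, Finset.mem_filter, Finset.mem_univ, true_and, Set.mem_setOf_eq,
      and_assoc]
  have hsum := Finset.card_eq_sum_card_fiberwise hmaps
  simp only [hfib] at hsum
  have hScard : S.card = nz * nt := by
    rw [hnz, hnt, Nat.card_eq_fintype_card, Nat.card_eq_fintype_card, Fintype.card_subtype, Fintype.card_subtype,
      ← Finset.card_product]
    congr 1
    ext p
    simp [hS]
  have hIeq : I = (Finset.univ.filter fun u => IsConj z u) ∪ (Finset.univ.filter fun u => IsConj t u) := by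
    ext u
    simp [hI]
  have hdisj : Disjoint (Finset.univ.filter fun u => IsConj z u) (Finset.univ.filter fun u => IsConj t u) :=
    Finset.disjoint_filter.2 fun u _ h1 h2 => hzt (h1.trans h2.symm)
  rw [hIeq, Finset.sum_union hdisj, hScard] at hsum
  have s1 : ∑ u ∈ Finset.univ.filter (fun u => IsConj z u), Nat.card (PairSet z t u) = nz * Az := by
    rw [Finset.sum_eq_card_nsmul (b := Az) fun u hu => ?_, smul_eq_mul, hnz, Nat.card_eq_fintype_card,
      Fintype.card_subtype]
    exact (pairSet_card_conj z t (Finset.mem_filter.1 hu).2).symm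
  have s2 : ∑ u ∈ Finset.univ.filter (fun u => IsConj t u), Nat.card (PairSet z t u) = nt * At := by
    rw [Finset.sum_eq_card_nsmul (b := At) fun u hu => ?_, smul_eq_mul, hnt, Nat.card_eq_fintype_card,
      Fintype.card_subtype]
    exact (pairSet_card_conj z t (Finset.mem_filter.1 hu).2).symm
  rw [s1, s2] at hsum
  have hcz := card_class_mul z
  have hct := card_class_mul t
  set cz := Nat.card (centralizer ({z} : Set G))
  set ct := Nat.card (centralizer ({t} : Set G))
  have hpos : 0 < nz * nt := by
    have : Nonempty {x // IsConj z x} := ⟨⟨z, IsConj.refl z⟩⟩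
    have : Nonempty {x // IsConj t x} := ⟨⟨t, IsConj.refl t⟩⟩
    exact Nat.mul_pos Nat.card_pos Nat.card_pos
  refine Nat.eq_of_mul_eq_mul_left hpos ?_
  calc nz * nt * Nat.card G = (nz * Az + nt * At) * Nat.card G := by rw [hsum]
    _ = nz * Az * (nt * ct) + nt * At * (nz * cz) := by rw [hcz, hct]; ring
    _ = _ := by ring

/-- Commuting pairs from two classes counted from either side. -/
theorem commuting_pairs (z t : G) :
    {y : G | IsConj t y ∧ Commute z y}.ncard * Nat.card (centralizer ({t} : Set G)) =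
      {x : G | IsConj z x ∧ Commute x t}.ncard * Nat.card (centralizer ({z} : Set G)) := by
  classical
  letI := Fintype.ofFinite G
  have key : ∀ (a b : G) (x : G), IsConj a x →
      {y : G | IsConj b y ∧ Commute x y}.ncard = {y : G | IsConj b y ∧ Commute a y}.ncard := by
    intro a b x hx
    obtain ⟨g, rfl⟩ := isConj_iff.1 hx
    symm
    refine Set.ncard_congr (fun y _ => g * y * g⁻¹) (fun y hy => ⟨hy.1.trans (isConj_iff.2 ⟨g, rfl⟩), ?_⟩)
      (fun a b _ _ e => by simpa using e)
      fun y hy => ⟨g⁻¹ * y * g, ⟨hy.1.trans (isConj_iff.2 ⟨g⁻¹, by group⟩), ?_⟩, by group⟩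
    · exact hy.2.map (MulAut.conj g)
    · have := hy.2.map (MulAut.conj g⁻¹)
      simpa [mul_assoc] using this
  let A : Finset G := Finset.univ.filter fun x => IsConj z x
  let B : Finset G := Finset.univ.filter fun y => IsConj t y
  have h := Finset.sum_card_bipartiteAbove_eq_sum_card_bipartiteBelow (fun x y : G => Commute x y) (s := A) (t := B)
  have hA : ∀ x ∈ A, (B.bipartiteAbove (fun x y : G => Commute x y) x).card =
      {y : G | IsConj t y ∧ Commute z y}.ncard := fun x hx => by
    rw [← key z t x (Finset.mem_filter.1 hx).2, ← Set.ncard_coe_finset]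
    congr 1
    ext y
    simp [B, Finset.bipartiteAbove]
  have hB : ∀ y ∈ B, (A.bipartiteBelow (fun x y : G => Commute x y) y).card =
      {x : G | IsConj z x ∧ Commute x t}.ncard := fun y hy => by
    have := key t z y (Finset.mem_filter.1 hy).2
    rw [show {x : G | IsConj z x ∧ Commute x t} = {x : G | IsConj z x ∧ Commute t x} by
      ext; exact and_congr_right fun _ => ⟨Commute.symm, Commute.symm⟩, ← this, ← Set.ncard_coe_finset]
    congr 1
    ext x
    simp only [A, Finset.bipartiteBelow, Finset.coe_filter, Finset.mem_filter, Finset.mem_univ, true_and]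
    exact and_congr_right fun _ => ⟨Commute.symm, Commute.symm⟩
  rw [Finset.sum_congr rfl hA, Finset.sum_congr rfl hB, Finset.sum_const, Finset.sum_const, smul_eq_mul,
    smul_eq_mul] at h
  have hAc : A.card = Nat.card {x // IsConj z x} := by rw [Nat.card_eq_fintype_card, Fintype.card_subtype]
  have hBc : B.card = Nat.card {x // IsConj t x} := by rw [Nat.card_eq_fintype_card, Fintype.card_subtype]
  rw [hAc, hBc] at h
  have hcz := card_class_mul z
  have hct := card_class_mul t
  set cz := Nat.card (centralizer ({z} : Set G))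
  set ct := Nat.card (centralizer ({t} : Set G))
  refine Nat.eq_of_mul_eq_mul_left
    (show 0 < Nat.card {x // IsConj z x} * Nat.card {x // IsConj t x} from ?_) ?_
  · have : Nonempty {x // IsConj z x} := ⟨⟨z, IsConj.refl z⟩⟩
    have : Nonempty {x // IsConj t x} := ⟨⟨t, IsConj.refl t⟩⟩
    exact Nat.mul_pos Nat.card_pos Nat.card_pos
  · set nz := Nat.card {x // IsConj z x}
    set nt := Nat.card {x // IsConj t x}
    set a := {y : G | IsConj t y ∧ Commute z y}.ncard
    set b := {x : G | IsConj z x ∧ Commute x t}.ncard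
    calc nz * nt * (a * ct) = (nz * a) * (nt * ct) := by ring
      _ = (nt * b) * (nz * cz) := by rw [h, hct, hcz]
      _ = nz * nt * (b * cz) := by ring

/-- The order of a subgroup from its part in the kernel and its image. -/
theorem card_split {Y : Type v} [Group Y] (f : G →* Y) (R : Subgroup G) :
    Nat.card R = Nat.card ↥(f.ker ⊓ R) * Nat.card (R.map f) := by
  have h := (f.comp R.subtype).ker.card_mul_index
  rw [index_ker, MonoidHom.range_comp, range_subtype] at h
  rw [← h]
  congr 1
  refine Nat.card_congr ⟨fun x => ⟨x.1.1, x.2, x.1.2⟩, fun x => ⟨⟨x.1, x.2.2⟩, x.2.1⟩, fun _ => rfl, fun _ => rfl⟩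

/-- The normaliser contains the centraliser. -/
theorem centralizer_le_norm (Q : Subgroup G) : centralizer (Q : Set G) ≤ normalizer (Q : Set G) := fun g hg =>
  mem_normalizer_iff.mpr fun x => by
    have key : ∀ y ∈ Q, g * y * g⁻¹ = y := fun y hy => by
      rw [← mem_centralizer_iff.mp hg y hy, mul_inv_cancel_right]
    refine ⟨fun hx => by rwa [key x hx], fun hx => ?_⟩
    have h := key _ hx
    rw [show x = g⁻¹ * (g * x * g⁻¹) * g by group]
    rw [show g⁻¹ * (g * x * g⁻¹) * g = g * x * g⁻¹ by
      conv_lhs => rw [← h]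
      group]
    exact hx

/-- The orders of the normaliser and of the centraliser of a subgroup of prime order not dividing the kernel of a
surjective homomorphism. -/
theorem local_cards {Y : Type v} [Group Y] [Finite Y] (f : G →* Y) (hf : Function.Surjective f) (Q : Subgroup G)
    {q : ℕ} (hq : q.Prime) (hQ : Nat.card Q = q) (hk : ¬ q ∣ Nat.card f.ker) :
    Nat.card (Q.map f) = q ∧
    Nat.card (normalizer (Q : Set G)) =
      Nat.card ↥(f.ker ⊓ centralizer (Q : Set G)) * Nat.card (normalizer (Q.map f : Set Y)) ∧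
    Nat.card (centralizer (Q : Set G)) =
      Nat.card ↥(f.ker ⊓ centralizer (Q : Set G)) * Nat.card (centralizer (Q.map f : Set Y)) := by
  classical
  haveI := Fact.mk hq
  have hdisj : ∀ x ∈ Q, f x = 1 → x = 1 := by
    intro x hx h1
    by_contra hne
    have ho : orderOf x = q := orderOf_eq_prime (orderOf_dvd_iff_pow_eq_one.mp (by
      have := Subgroup.orderOf_dvd_natCard (s := Q) hx
      rwa [hQ] at this)) hne
    exact hk (ho ▸ Subgroup.orderOf_dvd_natCard f.ker (MonoidHom.mem_ker.mpr h1))
  have hcard : Nat.card (Q.map f) = q := by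
    refine Eq.trans (Nat.card_congr (Equiv.ofBijective (fun x : ↥Q => (⟨f x, x, x.2, rfl⟩ : ↥(Q.map f)))
      ⟨fun a b e => ?_, ?_⟩).symm) hQ
    · have e' : f a = f b := congrArg Subtype.val e
      have := hdisj _ (mul_mem a.2 (inv_mem b.2)) (by rw [map_mul, map_inv, e', mul_inv_cancel])
      exact Subtype.ext (mul_inv_eq_one.mp this)
    · rintro ⟨_, x, hx, rfl⟩
      exact ⟨⟨x, hx⟩, rfl⟩
  -- lifting
  have lift : ∀ y ∈ normalizer (Q.map f : Set Y), ∃ n ∈ normalizer (Q : Set G), f n = y := by
    intro y hy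
    obtain ⟨g, rfl⟩ := hf y
    set R := (Q.map f).comap f with hR
    have hle : Q ≤ R := le_comap_map f Q
    have hQ' : Q.map (MulAut.conj g).toMonoidHom ≤ R := by
      rintro _ ⟨x, hx, rfl⟩
      show f (g * x * g⁻¹) ∈ Q.map f
      rw [map_mul, map_mul, map_inv]
      exact (mem_normalizer_iff.mp hy _).mp ⟨x, hx, rfl⟩
    have hRc : Nat.card R = Nat.card f.ker * q := by
      have hmap : R.map f = Q.map f := map_comap_eq_self_of_surjective hf _
      rw [card_split f R, hmap, hcard]
      congr 3
      exact inf_eq_left.mpr fun x hx => by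
        show f x ∈ Q.map f
        rw [MonoidHom.mem_ker.mp hx]; exact one_mem _
    have hfac : (Nat.card R).factorization q = 1 := by
      rw [hRc, Nat.factorization_mul Nat.card_pos.ne' hq.ne_zero, Finsupp.add_apply,
        Nat.factorization_eq_zero_of_not_dvd hk, hq.factorization_self]
    let P1 : Sylow q R := Sylow.ofCard (Q.subgroupOf R) (by
      rw [Nat.card_congr (subgroupOfEquivOfLe hle).toEquiv, hQ, hfac, pow_one])
    let P2 : Sylow q R := Sylow.ofCard ((Q.map (MulAut.conj g).toMonoidHom).subgroupOf R) (by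
      rw [Nat.card_congr (subgroupOfEquivOfLe hQ').toEquiv, card_map_of_injective (MulAut.conj g).injective, hQ,
        hfac, pow_one])
    obtain ⟨r, hr⟩ := MulAction.exists_smul_eq R P2 P1
    have hconj : ∀ x ∈ Q, (r : G) * (g * x * g⁻¹) * (r : G)⁻¹ ∈ Q := fun x hx => by
      have h1 : (⟨g * x * g⁻¹, hQ' ⟨x, hx, rfl⟩⟩ : R) ∈ (P2 : Subgroup R) := ⟨x, hx, rfl⟩
      have h2 : r * ⟨g * x * g⁻¹, hQ' ⟨x, hx, rfl⟩⟩ * r⁻¹ ∈ ((r • P2 : Sylow q R) : Subgroup R) := by
        rw [Sylow.coe_subgroup_smul]; exact ⟨_, h1, rfl⟩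
      rw [hr] at h2
      exact h2
    obtain ⟨q0, hq0, hq0'⟩ := (r.2 : f r ∈ Q.map f)
    refine ⟨q0⁻¹ * r * g, mem_normalizer_fintype fun x hx => ?_, ?_⟩
    · rw [show q0⁻¹ * r * g * x * (q0⁻¹ * r * g)⁻¹ = q0⁻¹ * (r * (g * x * g⁻¹) * (r : G)⁻¹) * q0 by group]
      exact mul_mem (mul_mem (inv_mem hq0) (hconj x hx)) hq0
    · rw [map_mul, map_mul, map_inv, hq0', inv_mul_cancel, one_mul]
  have hker : f.ker ⊓ normalizer (Q : Set G) = f.ker ⊓ centralizer (Q : Set G) := by
    refine le_antisymm (fun k hk' => ⟨hk'.1, mem_centralizer_iff.mpr fun x hx => ?_⟩)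
      (inf_le_inf_left _ (centralizer_le_norm _))
    have h1 := hdisj _ (mul_mem ((mem_normalizer_iff.mp hk'.2 x).mp hx) (inv_mem hx)) (by
      simp only [map_mul, map_inv, MonoidHom.mem_ker.mp hk'.1]; simp)
    rw [mul_inv_eq_one, mul_inv_eq_iff_eq_mul] at h1
    exact h1.symm
  refine ⟨hcard, ?_, ?_⟩
  · rw [card_split f (normalizer (Q : Set G)), hker]
    refine congrArg (fun K : Subgroup Y => _ * Nat.card K) (SetLike.ext fun y => ⟨?_, fun hy => ?_⟩)
    · rintro ⟨n, hn, rfl⟩
      exact mem_normalizer_fintype fun _ ⟨x, hx, e⟩ => ⟨n * x * n⁻¹, (mem_normalizer_iff.mp hn x).mp hx, by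
        rw [← e]; simp⟩
    · obtain ⟨n, hn, rfl⟩ := lift y hy
      exact ⟨n, hn, rfl⟩
  · rw [card_split f (centralizer (Q : Set G))]
    refine congrArg (fun K : Subgroup Y => _ * Nat.card K) (SetLike.ext fun y => ⟨?_, fun hy => ?_⟩)
    · rintro ⟨n, hn, rfl⟩
      refine mem_centralizer_iff.mpr fun _ ⟨x, hx, e⟩ => ?_
      rw [← e, ← map_mul, ← map_mul, mem_centralizer_iff.mp hn x hx]
    · obtain ⟨n, hn, rfl⟩ := lift y (centralizer_le_norm _ hy)
      refine ⟨n, mem_centralizer_iff.mpr fun x hx => ?_, rfl⟩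
      have h1 := hdisj _ (mul_mem ((mem_normalizer_iff.mp hn x).mp hx) (inv_mem hx)) (by
        have := mem_centralizer_iff.mp hy (f x) ⟨x, hx, rfl⟩
        simp only [map_mul, map_inv, ← this]; simp)
      rw [mul_inv_eq_one, mul_inv_eq_iff_eq_mul] at h1
      exact h1.symm

end Cfsg.Lib.JankoFour.LocalCount
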