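import Mathlib.Data.Nat.Notation

/-!
Words for the generators of the two-point stabiliser in three standard elements.
-/

set_option autoImplicit false

namespace Cfsg.Lib.JankoFour.Data

/-- The words. -/
def topW : List (List ℕ) := [
  [1, 0, 1, 2, 0, 2, 0, 0, 2, 0, 1, 0],
  [0, 1, 0, 2, 2, 0, 1, 2, 0, 0, 2, 0, 2, 2, 2],
  [1, 2, 0, 2, 0, 2, 0, 0, 0, 2, 0, 0, 2, 2, 1],
  [2, 0, 2, 1, 0, 2, 0, 0, 0, 0, 2, 0, 2, 1, 0, 1],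
  [1, 2, 0, 2, 1, 2, 0, 1, 2, 1, 0, 2, 0],
  [2, 1, 0, 0, 1, 2, 0, 2, 1, 2, 0, 2, 1, 0]]

end Cfsg.Lib.JankoFour.Data
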