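import Cfsg.Agent.Golay.FusionCert
import Cfsg.Agent.Golay.OctInv
import Cfsg.Agent.Golay.AutM22
import Cfsg.Agent.Golay.OuterMathieu
import Cfsg.Agent.JankoFour.Data
import Cfsg.Agent.JankoFour.TopData

/-!
Three generators of the Mathieu group on 22 points with their relations and an outer automorphism.
-/

set_option autoImplicit false
set_option maxRecDepth 100000
set_option maxHeartbeats 1000000

namespace Cfsg.Lib.JankoFour

open Cfsg Cfsg.Lib.PermCert Cfsg.Lib.Golay
open Cfsg.Lib.Golay.FusionCert (same)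

/-- The three generators as tables. -/
def gPP : List PP := [Data.alpha, Data.beta, Data.gamma]

/-- The tables of a word. -/
def wPP (w : List ℕ) : List PP := w.map fun i => gPP.getD i Data.alpha

theorem chain_eq : cgAutM22.chain = m24PointChain.drop 2 := rfl

theorem gens_check : (gPP.all fun g => valid 24 g && sift 24 cgAutM22.chain [g]) = true ∧
    same (List.replicate 11 Data.alpha) [] = true ∧ same [Data.alpha] [] = false ∧
    same (List.replicate 5 Data.beta) [] = true ∧ same (List.replicate 4 Data.gamma) [] = true ∧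
    same [Data.beta, Data.alpha] (List.replicate 4 Data.alpha ++ [Data.beta]) = true ∧
    same [Data.gamma, Data.beta] [Data.beta, Data.beta, Data.gamma] = true ∧
    same (List.replicate 5 [Data.alpha, Data.gamma]).flatten [] = true ∧
    preserves Data.sigma = true ∧ ap Data.sigma.1 23 = 0 ∧ ap Data.sigma.1 0 = 23 ∧
    (valid 24 Data.sigma = true) ∧
    same [Data.sigma, Data.alpha] (wPP Data.WAw.1 ++ [Data.sigma]) = true ∧
    same [Data.sigma, Data.beta] (wPP Data.WBw.1 ++ [Data.sigma]) = true ∧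
    same [Data.sigma, Data.gamma] (wPP Data.WCw.1 ++ [Data.sigma]) = true := by decide +kernel

theorem top_check : ((List.range Data.topW.length).all fun i =>
    same [(topGens cgAutM22.chain).getD i Data.alpha] (wPP (Data.topW.getD i []))) = true ∧
    (topGens cgAutM22.chain).length = Data.topW.length ∧
    ((topGens cgAutM22.chain).all fun g => valid 24 g) = true := by decide +kernel

/-- The data of the generators. -/
theorem exists_gens : ∃ (g : ℕ → Spor.M22) (φ : MulAut Spor.M22),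
    g 0 ^ 11 = 1 ∧ g 0 ≠ 1 ∧ g 1 ^ 5 = 1 ∧ g 2 ^ 4 = 1 ∧ g 1 * g 0 = g 0 ^ 4 * g 1 ∧ g 2 * g 1 = g 1 ^ 2 * g 2 ∧
    (g 0 * g 2) ^ 5 = 1 ∧ Subgroup.closure ({g 0, g 1, g 2} : Set Spor.M22) = ⊤ ∧ φ ∉ Cfsg.Inn Spor.M22 ∧
    φ (g 0) = (Data.WAw.1.map g).prod ∧ φ (g 1) = (Data.WBw.1.map g).prod ∧ φ (g 2) = (Data.WCw.1.map g).prod := by
  have hch := chain_eq
  obtain ⟨hg, a11, a1, b5, c4, hba, hcb, hac, hsp, hs0, hs1, hsv, sA, sB, sC⟩ := gens_check
  have hgv : ∀ i, valid 24 (gPP.getD i Data.alpha) = true ∧ toP (gPP.getD i Data.alpha) ∈ Spor.M22 := by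
    intro i
    have hmem : gPP.getD i Data.alpha ∈ gPP := by
      by_cases hi : i < gPP.length
      · rw [List.getD_eq_getElem _ _ hi]; exact List.getElem_mem _
      · rw [List.getD_eq_default _ _ (not_lt.mp hi)]; exact List.mem_cons_self
    have h := List.all_eq_true.mp hg _ hmem
    rw [Bool.and_eq_true] at h
    refine ⟨h.1, ?_⟩
    rw [M22_eq, ← hch]
    exact mem_of_sift cgAutM22_ok.1 h.1 h.2
  let g : ℕ → Spor.M22 := fun i => ⟨toP (gPP.getD i Data.alpha), (hgv i).2⟩
  have rw' : ∀ w : List ℕ, Rep ((((w.map g).prod : Spor.M22) : Equiv.Perm GolayPt)) (wPP w) := by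
    intro w
    induction w with
    | nil => exact rep_one
    | cons i w ih =>
      rw [List.map_cons, List.prod_cons, Subgroup.coe_mul]
      exact (rep_toP (hgv i).1).mul ih
  have eqw : ∀ w v : List ℕ, same (wPP w) (wPP v) = true → (w.map g).prod = (v.map g).prod := fun w v h =>
    Subtype.ext (((rw' w).eq_iff (rw' v)).mpr h)
  have hrepl : ∀ n i, wPP (List.replicate n i) = List.replicate n (gPP.getD i Data.alpha) ∧
      ((List.replicate n i).map g).prod = g i ^ n := fun n i => by simp [wPP]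
  let s := toP Data.sigma
  obtain ⟨hsn, hni⟩ : (∀ x ∈ Spor.M22, s * x * s⁻¹ ∈ Spor.M22) ∧
      ¬ ∃ h ∈ Spor.M22, ∀ x ∈ Spor.M22, s * x * s⁻¹ = h * x * h⁻¹ := by
    refine (Cfsg.Agent.S5599.result s (toP_mem_M24 hsp) ?_ ?_).2
    · have h := toP_ptAt hsv (show (23 : ℕ) < 24 by norm_num)
      rw [hs0] at h
      exact h
    · have h := toP_ptAt hsv (show (0 : ℕ) < 24 by norm_num)
      rw [hs1] at h
      exact h
  let f : Spor.M22 →* Spor.M22 :=
    { toFun := fun x => ⟨s * x * s⁻¹, hsn x x.2⟩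
      map_one' := Subtype.ext (by simp)
      map_mul' := fun x y => Subtype.ext (by simp [mul_assoc]) }
  have hf : Function.Bijective f := Finite.injective_iff_bijective.mp fun x y e =>
    Subtype.ext (mul_left_cancel (mul_right_cancel (congrArg Subtype.val e)))
  obtain ⟨φ, hφ⟩ : ∃ φ : MulAut Spor.M22, ∀ x : Spor.M22, ((φ x : Spor.M22) : Equiv.Perm GolayPt) = s * x * s⁻¹ :=
    ⟨MulEquiv.ofBijective f hf, fun _ => rfl⟩
  clear hf f
  refine ⟨g, φ, ?_, ?_, ?_, ?_, ?_, ?_, ?_, ?_, ?_, ?_, ?_, ?_⟩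
  · rw [← (hrepl 11 0).2]; exact eqw _ [] (by rw [(hrepl 11 0).1]; exact a11)
  · intro e
    refine Bool.false_ne_true (a1.symm.trans ?_)
    exact ((rw' [0]).eq_iff rep_one).mp (by simp [e])
  · rw [← (hrepl 5 1).2]; exact eqw _ [] (by rw [(hrepl 5 1).1]; exact b5)
  · rw [← (hrepl 4 2).2]; exact eqw _ [] (by rw [(hrepl 4 2).1]; exact c4)
  · simpa [pow_succ, mul_assoc] using eqw [1, 0] [0, 0, 0, 0, 1] hba
  · simpa [pow_succ, mul_assoc] using eqw [2, 1] [1, 1, 2] hcb
  · simpa [pow_succ, mul_assoc] using eqw [0, 2, 0, 2, 0, 2, 0, 2, 0, 2] [] hac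
  · rw [eq_top_iff]
    rintro x -
    obtain ⟨htop, hlen, hval⟩ := top_check
    have hle : cgAutM22.grp ≤ (Subgroup.closure ({g 0, g 1, g 2} : Set Spor.M22)).map Spor.M22.subtype := by
      rw [CG.grp, onPts, grp, MonoidHom.map_closure, Subgroup.closure_le]
      rintro _ ⟨_, ⟨t, ht, rfl⟩, rfl⟩
      obtain ⟨i, hi, rfl⟩ := List.getElem_of_mem ht
      have h := List.all_eq_true.mp htop i (List.mem_range.mpr (hlen ▸ hi))
      rw [List.getD_eq_getElem _ _ hi] at h
      refine ⟨((Data.topW.getD i []).map g).prod, ?_, ?_⟩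
      · refine list_prod_mem ?_
        intro y hy
        obtain ⟨j, -, rfl⟩ := List.mem_map.mp hy
        refine Subgroup.subset_closure ?_
        by_cases hj : j < 3
        · rcases (show j = 0 ∨ j = 1 ∨ j = 2 by omega) with rfl | rfl | rfl <;> simp
        · exact Or.inl (Subtype.ext (congrArg toP
            (show gPP.getD j Data.alpha = gPP.getD 0 Data.alpha from List.getD_eq_default _ _ (not_lt.mp hj))))
      · exact (((rw' _).eq_iff (rep_toP (List.all_eq_true.mp hval _ (List.getElem_mem hi)))).mpr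
          (by
            rw [same, List.all_eq_true] at h ⊢
            exact fun x hx => beq_iff_eq.mpr (beq_iff_eq.mp (h x hx)).symm))
    have hx : (x : Equiv.Perm GolayPt) ∈ cgAutM22.grp := by
      show _ ∈ onPts cgAutM22.chain
      rw [hch, ← M22_eq]
      exact x.2
    obtain ⟨y, hy, hyx⟩ := hle hx
    rwa [← Subtype.ext hyx]
  · rintro ⟨h, hh⟩
    refine hni ⟨h, h.2, fun x hx => ?_⟩
    have e := congrArg (fun t : Spor.M22 => (t : Equiv.Perm GolayPt)) (DFunLike.congr_fun hh ⟨x, hx⟩)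
    simp only [hφ, MulAut.conj_apply, Subgroup.coe_mul, Subgroup.coe_inv] at e
    exact e.symm
  · refine Subtype.ext ?_
    rw [hφ, mul_inv_eq_iff_eq_mul]
    exact (((rep_toP hsv).mul (rep_toP (hgv 0).1)).eq_iff ((rw' _).mul (rep_toP hsv))).mpr sA
  · refine Subtype.ext ?_
    rw [hφ, mul_inv_eq_iff_eq_mul]
    exact (((rep_toP hsv).mul (rep_toP (hgv 1).1)).eq_iff ((rw' _).mul (rep_toP hsv))).mpr sB
  · refine Subtype.ext ?_
    rw [hφ, mul_inv_eq_iff_eq_mul]
    exact (((rep_toP hsv).mul (rep_toP (hgv 2).1)).eq_iff ((rw' _).mul (rep_toP hsv))).mpr sC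

theorem card_aut_M22 : Nat.card (MulAut Spor.M22) = 887040 ∧ (Cfsg.Inn Spor.M22).index = 2 := by
  haveI := isSimple_M22
  have h2 : Nat.card (Cfsg.Out Spor.M22) = 2 := by
    refine le_antisymm ?_ two_le_card_out_M22
    rw [M22_eq]
    exact card_out_le_M22.1
  have hinj : Function.Injective (MulAut.conj : Spor.M22 →* MulAut Spor.M22) := by
    rw [← MonoidHom.ker_eq_bot_iff]
    rcases IsSimpleGroup.eq_bot_or_eq_top_of_normal (MulAut.conj : Spor.M22 →* MulAut Spor.M22).ker inferInstance with h | h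
    · exact h
    · exfalso
      have hc : ∀ x y : Spor.M22, x * y = y * x := fun x y => by
        have e := DFunLike.congr_fun (MonoidHom.mem_ker.mp (show x ∈ (MulAut.conj : Spor.M22 →* MulAut Spor.M22).ker by rw [h]; trivial)) y
        exact mul_inv_eq_iff_eq_mul.mp e
      haveI : IsMulCommutative Spor.M22 := ⟨⟨hc⟩⟩
      have hp := (Group.is_simple_iff_prime_card (α := Spor.M22)).mp inferInstance
      rw [card_M22] at hp
      exact absurd hp (by norm_num)
  have hI : Nat.card (Cfsg.Inn Spor.M22) = 443520 := by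
    rw [← card_M22]
    exact (Nat.card_congr (MonoidHom.ofInjective hinj).toEquiv).symm
  refine ⟨?_, h2⟩
  rw [← (Cfsg.Inn Spor.M22).card_mul_index, hI, show (Cfsg.Inn Spor.M22).index = 2 from h2]

end Cfsg.Lib.JankoFour
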