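import Cfsg.Agent.LargeExtra.Basic
import Cfsg.Agent.JankoFour.MathieuGens
import Cfsg.Prelude.Def_JankoFourType

/-!
The centraliser of the involution in a group of Janko-four type: the normaliser of the subgroup of order three covers
the quotient by the extraspecial subgroup, and its centraliser maps onto the inner automorphisms.
-/

set_option autoImplicit false
set_option maxRecDepth 100000
set_option maxHeartbeats 1000000
set_option linter.style.haveILetI false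
set_option linter.unusedSectionVars false

namespace Cfsg.Lib.JankoFour

open Subgroup
open Cfsg.Lib.LargeExtra (X2 exists_x2 core_normalized core_le)

universe u

variable {G : Type u} [Group G] [Finite G]

/-- The basic data. -/
structure Base (z : G) (P : Subgroup G) where
  E : Subgroup G
  p : G
  hz : orderOf z = 2
  hE : E = twoCoreOfCentralizer z
  ext : Cfsg.IsExtraspecial 2 ↥E
  X : X2 E z
  card : Nat.card E = 8192
  cQ : centralizer (E : Set G) ≤ E
  nQ : centralizer ({z} : Set G) ≤ normalizer (E : Set G)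
  le : E ≤ centralizer ({z} : Set G)
  hp : zpowers p = P
  ord : orderOf p = 3
  pH : p ∈ centralizer ({z} : Set G)
  fpf : ∀ e ∈ E, (p * e * p⁻¹ = e ∨ p * e * p⁻¹ = z * e) → e = 1 ∨ e = z
  ψ : ↥(centralizer ({z} : Set G)) →* MulAut Spor.M22
  ψ_surj : Function.Surjective ψ
  ψ_ker : ∀ h : ↥(centralizer ({z} : Set G)), ψ h = 1 ↔ ∃ e ∈ E, ∃ k : ℕ, (h : G) = e * p ^ k
  L_img : ∀ m : Spor.M22, ∃ h : ↥(centralizer ({z} : Set G)), Commute (h : G) p ∧ ψ h = MulAut.conj m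
  N_img : ∀ φ : MulAut Spor.M22, φ ∉ Cfsg.Inn Spor.M22 →
    ∃ h : ↥(centralizer ({z} : Set G)), (h : G) * p * (h : G)⁻¹ = p⁻¹ ∧ ψ h = φ
  cardH : Nat.card ↥(centralizer ({z} : Set G)) = 8192 * 2661120
  NE : ∀ h ∈ centralizer ({z} : Set G), ∃ e ∈ E, ∃ m ∈ normalizer (P : Set G), h = e * m
  deg : ∀ h ∈ centralizer ({z} : Set G), h ∈ normalizer (P : Set G) → h * p * h⁻¹ = p ∨ h * p * h⁻¹ = p⁻¹

theorem pow_three_cases {p x : G} (hp : orderOf p = 3) (hx : x ∈ zpowers p) : x = 1 ∨ x = p ∨ x = p⁻¹ := by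
  obtain ⟨k, rfl⟩ := mem_zpowers_iff.mp hx
  rw [← zpow_mod_orderOf, hp]
  have h1 := Int.emod_nonneg k (show ((3 : ℕ) : ℤ) ≠ 0 by norm_num)
  have h2 := Int.emod_lt_of_pos k (show (0 : ℤ) < ((3 : ℕ) : ℤ) by norm_num)
  rcases (show k % ((3 : ℕ) : ℤ) = 0 ∨ k % ((3 : ℕ) : ℤ) = 1 ∨ k % ((3 : ℕ) : ℤ) = 2 by omega) with e | e | e <;> rw [e]
  · exact Or.inl (zpow_zero p)
  · exact Or.inr (Or.inl (zpow_one p))
  · refine Or.inr (Or.inr (eq_inv_of_mul_eq_one_left ?_))
    have h3 : p ^ 3 = 1 := hp ▸ pow_orderOf_eq_one p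
    rw [show ((2 : ℤ)) = ((2 : ℕ) : ℤ) from rfl, zpow_natCast, ← pow_succ, h3]

theorem exists_base {z : G} {P : Subgroup G} (hJ : Cfsg.IsOfJankoFourTypeWith z P) : Nonempty (Base z P) := by
  classical
  obtain ⟨hz, hext, hcard, hCH, ⟨N, hEN, hNH, hnN, hNc, ⟨hnn, ⟨eN⟩⟩, hPN⟩, hP3, hCEP, hneq, -⟩ := hJ
  set E := twoCoreOfCentralizer z with hE
  set H := centralizer ({z} : Set G) with hH
  have hEle : E ≤ H := core_le H
  obtain ⟨z', hx, -⟩ := exists_x2 hext
  have hzE : z ∈ E := by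
    have h : z ∈ zpowers z := mem_zpowers z
    rw [← hCEP] at h
    exact h.1
  have hz1 : z ≠ 1 := fun e => by simp [e] at hz
  obtain rfl : z = z' :=
    (hx.cen z hzE fun a ha => mem_centralizer_singleton_iff.mp (hEle ha)).resolve_left hz1
  have hcQ : centralizer (E : Set G) ≤ E := fun c hc =>
    hCH ⟨mem_centralizer_singleton_iff.mpr (mem_centralizer_iff.mp hc z hzE).symm, hc⟩
  haveI : Fact (Nat.Prime 3) := ⟨by norm_num⟩
  haveI : IsCyclic ↥P := isCyclic_of_prime_card hP3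
  obtain ⟨⟨p, hpP⟩, hgen⟩ := IsCyclic.exists_generator (α := ↥P)
  have hp : zpowers p = P := le_antisymm (zpowers_le.mpr hpP) fun x hx => by
    obtain ⟨k, hk⟩ := mem_zpowers_iff.mp (hgen ⟨x, hx⟩)
    exact mem_zpowers_iff.mpr ⟨k, congrArg Subtype.val hk⟩
  have hord : orderOf p = 3 := by rw [← Nat.card_zpowers, hp, hP3]
  have hp3 : p ^ 3 = 1 := hord ▸ pow_orderOf_eq_one p
  have hpH : p ∈ H := hNH (hPN hpP)
  have hzz : z * z = 1 := hx.zz
  have hpz : Commute p z := mem_centralizer_singleton_iff.mp hpH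
  have hfpf : ∀ e ∈ E, (p * e * p⁻¹ = e ∨ p * e * p⁻¹ = z * e) → e = 1 ∨ e = z := by
    intro e he hc
    have hfix : p * e * p⁻¹ = e := by
      rcases hc with hc | hc
      · exact hc
      · exfalso
        have h2 : p ^ 3 * e * (p ^ 3)⁻¹ = z * e := by
          have e1 : p ^ 2 * e * (p ^ 2)⁻¹ = e := by
            rw [show p ^ 2 * e * (p ^ 2)⁻¹ = p * (p * e * p⁻¹) * p⁻¹ by simp [pow_two, mul_assoc], hc,
              show p * (z * e) * p⁻¹ = (p * z * p⁻¹) * (p * e * p⁻¹) by group, hc, hpz.eq, mul_inv_cancel_right,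
              ← mul_assoc, hzz, one_mul]
          rw [show p ^ 3 * e * (p ^ 3)⁻¹ = p * (p ^ 2 * e * (p ^ 2)⁻¹) * p⁻¹ by simp [pow_succ, mul_assoc], e1, hc]
        rw [hp3, one_mul, inv_one, mul_one] at h2
        exact hz1 (mul_eq_right.mp h2.symm)
    have hec : e ∈ E ⊓ centralizer (P : Set G) := by
      refine ⟨he, mem_centralizer_iff.mpr fun x hx => ?_⟩
      rw [SetLike.mem_coe, ← hp] at hx
      obtain ⟨k, rfl⟩ := mem_zpowers_iff.mp hx
      exact ((show Commute p e from mul_inv_eq_iff_eq_mul.mp hfix).zpow_left k).eq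
    rw [hCEP] at hec
    exact (Cfsg.Lib.LargeExtra.mem_zpowers_two hzz).mp hec
  have hnE : H ≤ normalizer (E : Set G) := core_normalized H
  -- the subgroup of index two to the quotient
  have hsup : E ⊔ P = N := by
    refine eq_of_le_of_card_ge (sup_le hEN hPN) ?_
    rw [hNc, hcard]
    refine Nat.le_of_dvd Nat.card_pos (Nat.Coprime.mul_dvd_of_dvd_of_dvd (by norm_num) ?_ ?_)
    · rw [← hP3]; exact card_dvd_of_le le_sup_right
    · rw [← hcard]; exact card_dvd_of_le le_sup_left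
  have hmemN : ∀ n : G, n ∈ N ↔ ∃ e ∈ E, ∃ k : ℕ, n = e * p ^ k := by
    intro n
    constructor
    · intro hn
      rw [← hsup, ← SetLike.mem_coe, coe_mul_of_right_le_normalizer_left E P (fun x hx => hnE (hNH (hPN hx)))] at hn
      obtain ⟨e, he, x, hx, rfl⟩ := Set.mem_mul.mp hn
      rw [SetLike.mem_coe, ← hp] at hx
      obtain ⟨k, rfl⟩ := (isOfFinOrder_of_finite p).mem_zpowers_iff_mem_range_orderOf.mp hx |> Finset.mem_image.mp |>
        fun ⟨k, _, e⟩ => (⟨k, e⟩ : ∃ k : ℕ, p ^ k = x)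
      exact ⟨e, he, k, rfl⟩
    · rintro ⟨e, he, k, rfl⟩
      exact mul_mem (hEN he) (pow_mem (hPN hpP) k)
  let ψ : ↥H →* MulAut Spor.M22 := eN.toMonoidHom.comp (QuotientGroup.mk' (N.subgroupOf H))
  have hψs : Function.Surjective ψ := eN.surjective.comp (QuotientGroup.mk'_surjective _)
  have hψk : ∀ h : ↥H, ψ h = 1 ↔ (h : G) ∈ N := fun h => by
    show eN (QuotientGroup.mk' _ h) = 1 ↔ _
    rw [MulEquiv.map_eq_one_iff, ← MonoidHom.mem_ker, QuotientGroup.ker_mk', mem_subgroupOf]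
  obtain ⟨hAut, hInn⟩ := card_aut_M22
  have hcardH : Nat.card ↥H = 8192 * 2661120 := by
    rw [card_eq_card_quotient_mul_card_subgroup (N.subgroupOf H), Nat.card_congr eN.toEquiv,
      Nat.card_congr (subgroupOfEquivOfLe hNH).toEquiv, hNc, hcard, hAut]
    norm_num
  have hfr : ∀ h ∈ H, ∃ e ∈ E, ∃ m ∈ normalizer (P : Set G), h = e * m := by
    intro h hh
    have hc : ∀ x ∈ P, h * x * h⁻¹ ∈ N := fun x hx => (mem_normalizer_iff.mp (hnN hh) x).mp (hPN hx)
    let P' : Subgroup G := P.map (MulAut.conj h).toMonoidHom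
    have hP'N : P' ≤ N := by rintro _ ⟨x, hx, rfl⟩; exact hc x hx
    have hP'c : Nat.card ↥P' = 3 := by
      rw [← hP3]
      exact (Nat.card_congr (P.equivMapOfInjective _ (MulAut.conj h).injective).toEquiv).symm
    have hfac : (Nat.card ↥N).factorization 3 = 1 := by
      rw [hNc, hcard, Nat.factorization_mul (by norm_num) (by norm_num), Finsupp.add_apply,
        Nat.prime_three.factorization_self, Nat.factorization_eq_zero_of_not_dvd (by norm_num)]
    let S : Sylow 3 ↥N := Sylow.ofCard (P.subgroupOf N)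
      (by rw [Nat.card_congr (subgroupOfEquivOfLe hPN).toEquiv, hP3, hfac, pow_one])
    let S' : Sylow 3 ↥N := Sylow.ofCard (P'.subgroupOf N)
      (by rw [Nat.card_congr (subgroupOfEquivOfLe hP'N).toEquiv, hP'c, hfac, pow_one])
    obtain ⟨n, hn⟩ := MulAction.exists_smul_eq ↥N S S'
    obtain ⟨e, he, k, hnk⟩ := (hmemN n).mp n.2
    have key : ∀ x ∈ P, (n : G) * x * (n : G)⁻¹ ∈ P' := fun x hx => by
      have h1 : n * ⟨x, hPN hx⟩ * n⁻¹ ∈ ((n • S : Sylow 3 ↥N) : Subgroup ↥N) := by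
        rw [Sylow.coe_subgroup_smul]
        exact ⟨⟨x, hPN hx⟩, mem_subgroupOf.mpr hx, rfl⟩
      rw [hn] at h1
      exact mem_subgroupOf.mp h1
    have hmem : ∀ x ∈ P, ((n : G)⁻¹ * h)⁻¹ * x * ((n : G)⁻¹ * h) ∈ P := fun x hx => by
      obtain ⟨y, hy, hye⟩ := key x hx
      have hye' : h * y * h⁻¹ = (n : G) * x * (n : G)⁻¹ := hye
      rw [show ((n : G)⁻¹ * h)⁻¹ * x * ((n : G)⁻¹ * h) = h⁻¹ * ((n : G) * x * (n : G)⁻¹) * h by group, ← hye',
        show h⁻¹ * (h * y * h⁻¹) * h = y by group]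
      exact hy
    have hm : (n : G)⁻¹ * h ∈ normalizer (P : Set G) := by
      have h1 : ((n : G)⁻¹ * h)⁻¹ ∈ normalizer (P : Set G) := by
        refine Subgroup.mem_normalizer_fintype fun x hx => ?_
        simpa using hmem x hx
      simpa using inv_mem h1
    refine ⟨e, he, p ^ k * ((n : G)⁻¹ * h), mul_mem (pow_mem (le_normalizer hpP) k) hm, ?_⟩
    rw [← mul_assoc, ← hnk]; group
  have hdeg : ∀ h ∈ H, h ∈ normalizer (P : Set G) → h * p * h⁻¹ = p ∨ h * p * h⁻¹ = p⁻¹ := by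
    intro h _ hn
    have : h * p * h⁻¹ ∈ P := (mem_normalizer_iff.mp hn p).mp hpP
    rcases pow_three_cases hord (hp.symm ▸ this : h * p * h⁻¹ ∈ zpowers p) with e | e | e
    · have : p = 1 := by simpa using e
      simp [this] at hord
    · exact Or.inl e
    · exact Or.inr e
  let Lh : Subgroup ↥H := (centralizer (P : Set G)).subgroupOf H
  have hLmem : ∀ h : ↥H, h ∈ Lh ↔ Commute (h : G) p := by
    intro h
    rw [mem_subgroupOf, mem_centralizer_iff]
    constructor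
    · intro hc; exact (hc p hpP).symm
    · intro hc x hx
      rw [SetLike.mem_coe, ← hp] at hx
      obtain ⟨k, rfl⟩ := mem_zpowers_iff.mp hx
      exact ((hc.zpow_right k).eq).symm
  have hNrep : ∀ h : ↥H, ∃ m : ↥H, (m : G) ∈ normalizer (P : Set G) ∧ ψ m = ψ h := by
    intro h
    obtain ⟨e, he, m, hm, heq⟩ := hfr _ h.2
    have hmH : m ∈ H := by
      have : m = e⁻¹ * h := by rw [heq]; group
      rw [this]; exact mul_mem (inv_mem (hEle he)) h.2
    refine ⟨⟨m, hmH⟩, hm, ?_⟩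
    have h1 : ψ ⟨e, hEle he⟩ = 1 := (hψk _).mpr (hEN he)
    rw [show h = ⟨e, hEle he⟩ * ⟨m, hmH⟩ from Subtype.ext heq, map_mul, h1, one_mul]
  have hInnle : ∀ φ ∈ Cfsg.Inn Spor.M22, φ ∈ Lh.map ψ := by
    have hidx : ∀ a b : MulAut Spor.M22, a ∉ Lh.map ψ → b ∉ Lh.map ψ → a * b ∈ Lh.map ψ := by
      intro a b ha hb
      obtain ⟨h, rfl⟩ := hψs a
      obtain ⟨h', rfl⟩ := hψs b
      obtain ⟨m, hm, em⟩ := hNrep h
      obtain ⟨m', hm', em'⟩ := hNrep h'
      rw [← em] at ha ⊢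
      rw [← em'] at hb ⊢
      have d1 : (m : G) * p * (m : G)⁻¹ = p⁻¹ := (hdeg _ m.2 hm).resolve_left fun e =>
        ha ⟨m, (hLmem m).mpr (mul_inv_eq_iff_eq_mul.mp e), rfl⟩
      have d2 : (m' : G) * p * (m' : G)⁻¹ = p⁻¹ := (hdeg _ m'.2 hm').resolve_left fun e =>
        hb ⟨m', (hLmem m').mpr (mul_inv_eq_iff_eq_mul.mp e), rfl⟩
      refine ⟨m * m', (hLmem _).mpr (mul_inv_eq_iff_eq_mul.mp ?_), map_mul ψ m m'⟩
      show (m : G) * m' * p * ((m : G) * m')⁻¹ = p
      rw [show (m : G) * m' * p * ((m : G) * m')⁻¹ = (m : G) * ((m' : G) * p * (m' : G)⁻¹) * (m : G)⁻¹ by group, d2,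
        show (m : G) * p⁻¹ * (m : G)⁻¹ = ((m : G) * p * (m : G)⁻¹)⁻¹ by group, d1, inv_inv]
    intro φ hφ
    by_contra hno
    obtain ⟨γ, hγ⟩ := hφ
    haveI := Cfsg.Lib.Golay.isSimple_M22
    let K : Subgroup Spor.M22 := (Lh.map ψ).comap MulAut.conj
    have hKn : K.Normal := by
      refine normal_of_index_eq_two ?_
      rw [index_eq_two_iff]
      refine ⟨γ, fun m => ?_⟩
      have hg : γ ∉ K := fun h => hno (hγ ▸ h)
      by_cases hm : m ∈ K
      · exact Or.inr ⟨hm, fun h => hg ((K.mul_mem_cancel_left hm).mp h)⟩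
      · refine Or.inl ⟨?_, hm⟩
        show MulAut.conj (m * γ) ∈ Lh.map ψ
        rw [map_mul]
        exact hidx _ _ hm hg
    rcases IsSimpleGroup.eq_bot_or_eq_top_of_normal K hKn with hK | hK
    · have h2 : ∀ m : Spor.M22, m = 1 ∨ m = γ⁻¹ := fun m => by
        by_cases hm : m ∈ K
        · rw [hK] at hm; exact Or.inl (mem_bot.mp hm)
        · refine Or.inr (eq_inv_of_mul_eq_one_left (mem_bot.mp (hK ▸ ?_ : m * γ ∈ (⊥ : Subgroup Spor.M22))))
          show MulAut.conj (m * γ) ∈ Lh.map ψ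
          rw [map_mul]
          exact hidx _ _ hm (hγ ▸ hno)
      have hle : Nat.card Spor.M22 ≤ 2 := by
        refine le_trans (Nat.card_le_card_of_injective (fun m : Spor.M22 => decide (m = 1)) fun a b h => ?_) (by simp)
        rcases h2 a with rfl | rfl <;> rcases h2 b with rfl | rfl <;> simp_all
      rw [Cfsg.Lib.Golay.card_M22] at hle
      norm_num at hle
    · exact hno (hγ ▸ (hK ▸ mem_top γ : γ ∈ K))
  refine ⟨{
    E := E, p := p, hz := hz, hE := hE, ext := hext, X := hx, card := by rw [hcard]; norm_num, cQ := hcQ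
    nQ := hnE, le := hEle, hp := hp, ord := hord, pH := hpH, fpf := hfpf, ψ := ψ, ψ_surj := hψs
    ψ_ker := fun h => by rw [hψk, hmemN]
    L_img := fun m => by
      obtain ⟨h, hh, e⟩ := hInnle (MulAut.conj m) ⟨m, rfl⟩
      exact ⟨h, (hLmem h).mp hh, e⟩
    N_img := ?_, cardH := hcardH, NE := hfr, deg := hdeg }⟩
  intro φ hφ
  obtain ⟨h, rfl⟩ := hψs φ
  obtain ⟨m, hm, em⟩ := hNrep h
  refine ⟨m, (hdeg _ m.2 hm).resolve_left fun e => ?_, em⟩
  -- otherwise the centraliser would be the whole normaliser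
  have hmL : m ∈ Lh := (hLmem m).mpr (mul_inv_eq_iff_eq_mul.mp e)
  refine hneq (le_antisymm (fun x hx => ⟨hx.1, ?_⟩) (fun x hx => ⟨hx.1, centralizer_le_normalizer _ hx.2⟩))
  have hLtop : ∀ a : MulAut Spor.M22, a ∈ Lh.map ψ := by
    intro a
    by_cases ha : a ∈ Cfsg.Inn Spor.M22
    · exact hInnle a ha
    · have h2 : a * ψ m ∈ Cfsg.Inn Spor.M22 :=
        (mul_mem_iff_of_index_two hInn).mpr (iff_of_false ha (em ▸ hφ))
      have := mul_mem (hInnle _ h2) (inv_mem (mem_map_of_mem ψ hmL))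
      rwa [mul_inv_cancel_right] at this
  obtain ⟨l, hl, hle⟩ := hLtop (ψ ⟨x, hx.1⟩)
  have hxl : ((⟨x, hx.1⟩ * l⁻¹ : ↥H) : G) ∈ N := (hψk _).mp (by rw [map_mul, map_inv, hle, mul_inv_cancel])
  obtain ⟨e', he', k, hek⟩ := (hmemN _).mp hxl
  have hlc := (hLmem l).mp hl
  have hxl' : x * (l : G)⁻¹ = e' * p ^ k := hek
  have hxn : x ∈ normalizer (P : Set G) := hx.2
  have hlc' : (l : G) ∈ centralizer (P : Set G) := mem_subgroupOf.mp hl
  have he'n : e' ∈ normalizer (P : Set G) := by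
    have he : e' = x * (l : G)⁻¹ * (p ^ k)⁻¹ := by rw [hxl', mul_inv_cancel_right]
    rw [he]
    exact mul_mem (mul_mem hxn (inv_mem ((centralizer_le_normalizer _) hlc'))) (inv_mem (pow_mem (le_normalizer hpP) k))
  have hcomm : Commute e' p := by
    have h1 : e' * p * e'⁻¹ * p⁻¹ ∈ P := mul_mem ((mem_normalizer_iff.mp he'n p).mp hpP) (inv_mem hpP)
    have h2 : e' * p * e'⁻¹ * p⁻¹ ∈ E := by
      rw [show e' * p * e'⁻¹ * p⁻¹ = e' * (p * e'⁻¹ * p⁻¹) by group]
      exact mul_mem he' ((mem_normalizer_iff.mp (hnE hpH) _).mp (inv_mem he'))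
    have hc := Cfsg.Lib.Coprime.eq_one_of_coprime (N := P) (H := E) (by rw [hP3, hcard]; norm_num) h1 h2
    exact mul_inv_eq_iff_eq_mul.mp (mul_inv_eq_one.mp hc)
  refine mem_centralizer_iff.mpr fun y hy => ?_
  rw [SetLike.mem_coe, ← hp] at hy
  obtain ⟨j, rfl⟩ := mem_zpowers_iff.mp hy
  have hxp : Commute x p := by
    rw [show x = e' * p ^ k * (l : G) by rw [← hxl']; group]
    exact (hcomm.mul_left (Commute.pow_left (Commute.refl p) k)).mul_left hlc
  exact (hxp.zpow_right j).eq.symm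

end Cfsg.Lib.JankoFour
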