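import Cfsg.Agent.JankoFour.Lifts
import Cfsg.Agent.S0051

/-!
The normaliser of the distinguished subgroup splits over it.
-/

set_option autoImplicit false
set_option maxRecDepth 100000
set_option maxHeartbeats 1000000
set_option linter.style.haveILetI false
set_option linter.unusedSectionVars false

namespace Cfsg.Lib.JankoFour

open Subgroup
open Data (W0 X0 w1B yGen)

universe u

variable {G : Type u} [Group G] [Finite G]

theorem rep191 : mul8 191 191 = 0 ∧ ∀ k < 15, mul8 191 (xi k) = mul8 (xi k) 191 → clsTo (mul8 191 (xi k)) 191 = true := by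
  obtain ⟨h1, -, -, h4⟩ := rep_first
  simp only [List.all_eq_true, List.mem_range, Bool.or_eq_true, Bool.not_eq_true', beq_eq_false_iff_ne] at h4
  exact ⟨h1, fun k hk e => (h4 k hk).resolve_left fun h => h e⟩

theorem w1_spec {x : ℕ} (hx : x ∈ spanX w1B) : x < 4096 ∧ qB x = false ∧ mv Data.OM x ∈ spanX w1B := by
  have h := w1_ok
  simp only [Bool.and_eq_true, List.all_eq_true, decide_eq_true_eq, Bool.not_eq_true', List.contains_iff_mem] at h
  have hall : (spanX w1B).all (fun u => decide (u < 4096) && !qB u && (spanX w1B).contains (mv Data.OM u)) = true := by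
    decide +kernel
  simp only [Bool.and_eq_true, List.all_eq_true, decide_eq_true_eq, Bool.not_eq_true', List.contains_iff_mem] at hall
  exact ⟨(hall x hx).1.1, (hall x hx).1.2, (hall x hx).2⟩

theorem w1_xor {a b : ℕ} (ha : a ∈ spanX w1B) (hb : b ∈ spanX w1B) : a ^^^ b ∈ spanX w1B := by
  have h : ((spanX w1B).all fun a => w1B.all fun b => (spanX w1B).contains (b ^^^ a)) = true := by decide +kernel
  simp only [List.all_eq_true, List.contains_iff_mem] at h
  exact spanX_ind (p := fun b => a ^^^ b ∈ spanX w1B) (by rw [Nat.xor_zero]; exact ha) w1B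
    (fun c hc x hx => by
      have := h _ hx c hc
      rwa [show c ^^^ (a ^^^ x) = a ^^^ (c ^^^ x) by rw [← Nat.xor_assoc, Nat.xor_comm c a, Nat.xor_assoc]] at this)
    b hb

theorem w1_perp {a b : ℕ} (ha : a ∈ spanX w1B) (hb : b ∈ spanX w1B) : pB a b = false := by
  have h : ((spanX w1B).all fun a => (spanX w1B).all fun b => !pB a b) = true := by decide +kernel
  simp only [List.all_eq_true, Bool.not_eq_true'] at h
  exact h a ha b hb

theorem w1_stable {g : ℕ} (hg : g ∈ yGen) {x : ℕ} (hx : x ∈ spanX w1B) : mv (elt g) x ∈ spanX w1B := by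
  have h : (yGen.all fun g => (spanX w1B).all fun x => (spanX w1B).contains (mv (elt g) x)) = true := by decide +kernel
  simp only [List.all_eq_true, List.contains_iff_mem] at h
  exact h g hg x hx

theorem yEl_mul (k : ℕ) (e d : Bool) : ∀ r, r = [0, yR, mul8 yR yR, mul8 (mul8 yR yR) yR].getD k 0 →
    yEl k e d = mul8 (mul8 r (if e then yGen.getD 0 0 else 0)) (if d then yGen.getD 2 0 else 0) := by
  intro r hr
  rw [hr]; rfl

namespace Ctx

variable {z : G} {P : Subgroup G} (C : Ctx z P)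

include C

theorem x_in_V {x : G} {k : ℕ} (hk : k < 15) (hx : C.Lift x (xi k)) : x ∈ C.V := by
  refine C.mem_V_of_comm hx.1.1 fun q hq => ?_
  have h : ((spanL X0.2).all fun i => W0.all fun w => mv (elt i) w == w) = true := by decide +kernel
  simp only [List.all_eq_true, beq_iff_eq] at h
  exact C.fixed_comm hx.1 hx.2.2 hq.1 (h _ (xi_facts.1 k hk).2.1 _ hq.2) (W0_spec hq.2).2.1

theorem sq_outer_rep [IsSimpleGroup G] (hG : ¬ IsMulCommutative G) {g : G} (hg : C.Lift g 191) : g * g = 1 := by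
  refine (C.lift_sq hg rep191.1).resolve_right fun hz => ?_
  have hst : ∀ b ∈ Data.w0B, mv (elt 191) b ∈ W0 := by
    have h := rep_first.2.2.1
    simp only [List.all_eq_true, List.contains_iff_mem] at h
    exact h
  have hM := C.mem_M_of_rep hg.1.1 hg.2.2 hst
  have hnX : 191 ∉ spanL X0.2 := by decide +kernel
  have hgV : g ∉ C.V := fun h => by
    obtain ⟨⟨-, i, hi, hs, hr⟩, -⟩ := C.mem_V.mp h
    exact hnX (elt_inj (by norm_num) hi (C.rep_unique hg.2.2 hr) ▸ hs)
  obtain ⟨v, hv, hgv⟩ := C.involution_lift hG (C.M_normalizes hM).1 hgV (hz ▸ C.Wt_le_V C.z_mem_Wt)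
  have hv' := C.M_conj_V hM hv
  have hkey : g * v * g⁻¹ * v = z := by
    have e : g * v * (g * v) = g * v * g⁻¹ * (g * g * v) := by group
    rw [e, hz] at hgv
    have hzV := C.Wt_le_V C.z_mem_Wt
    calc g * v * g⁻¹ * v = g * v * g⁻¹ * (z * v) * (v⁻¹ * z⁻¹ * v) := by group
      _ = v⁻¹ * z⁻¹ * v := by rw [hgv, one_mul]
      _ = z⁻¹ := by rw [mul_assoc, ← (C.V_comm hv (inv_mem hzV)).eq, inv_mul_cancel_left]
      _ = z := inv_eq_of_mul_eq_one_right C.X.zz
  have hgvv : g * v * g⁻¹ = v * z := by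
    calc g * v * g⁻¹ = g * v * g⁻¹ * (v * v) := by rw [C.V_sq hv, mul_one]
      _ = z * v := by rw [← mul_assoc, hkey]
      _ = v * z := (C.z_comm (C.V_le_H hv)).eq.symm
  -- the part outside the extraspecial subgroup
  obtain ⟨x, w, hw, hvxw, hgx⟩ : ∃ x w, w ∈ C.Wt ∧ v = x * w ∧ Commute g x := by
    by_cases hvE : v ∈ C.E
    · exact ⟨1, v, C.mem_Wt_iff.mp ⟨hv, hvE⟩, (one_mul v).symm, Commute.one_right g⟩
    obtain ⟨k, hk, hr⟩ := C.V_index hv hvE
    obtain ⟨x, hx⟩ := C.exists_lift (xi_facts.1 k hk).1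
    have hxV := C.x_in_V hk hx
    refine ⟨x, x⁻¹ * v, C.mem_Wt_iff.mp (Subgroup.mem_inf.mpr ⟨mul_mem (inv_mem hxV) hv,
      C.rep_quot (C.V_le_H hv) hx.1.1 hr hx.2.2⟩),
      by group, ?_⟩
    have hcx : mul8 191 (xi k) = mul8 (xi k) 191 := by
      have r1 : RepBy C.E C.π (g * v) (elt (mul8 191 (xi k))) :=
        C.Sset_mul (by norm_num) (xi_facts.1 k hk).1 (C.V_le_H hv) hg.2.2 hr
      have r2 : RepBy C.E C.π (v * z * g) (elt (mul8 (xi k) 191)) := by
        refine C.Sset_mul (xi_facts.1 k hk).1 (by norm_num) hg.1.1 (fun q hq => ?_) hg.2.2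
        rw [C.rep_mul (C.le C.X.mem) hr (C.rep_E C.X.mem) q hq, mv_mm, mv_idM (C.π_lt q)]
      rw [← hgvv, inv_mul_cancel_right] at r2
      exact elt_inj (mul8_lt _ _) (mul8_lt _ _) (C.rep_unique r1 r2)
    have hgx2 : g * x * (g * x) = g * g :=
      C.cls_square (rep191.2 k hk hcx) (mul8_lt _ _) (by norm_num) hg (C.lift_mul hg hx) rep191.1
    have h1 : x * g * x = g := by
      calc x * g * x = g⁻¹ * (g * x * (g * x)) := by group
        _ = g := by rw [hgx2]; group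
    show g * x = x * g
    calc g * x = x * g * x * x := by rw [h1]
      _ = x * g * (x * x) := by group
      _ = x * g := by rw [C.V_sq hxV, mul_one]
  subst hvxw
  have hw' : g * w * g⁻¹ = w * z := by
    rw [show g * (x * w) * g⁻¹ = g * x * g⁻¹ * (g * w * g⁻¹) by group, hgx.eq, mul_inv_cancel_right, mul_assoc x w z]
      at hgvv
    exact mul_left_cancel hgvv
  have hfix : mv (elt 191) (C.π w) = C.π w := by
    rw [← hg.2.2 w hw.1, hw', C.π_mul w hw.1 z C.X.mem, (C.π_zero z C.X.mem).mpr (Or.inr rfl), Nat.xor_zero]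
  rw [(C.fixed_comm hg.1 hg.2.2 hw.1 hfix (W0_spec hw.2).2.1).eq, mul_inv_cancel_right] at hw'
  exact C.X.ne (mul_eq_left.mp hw'.symm)

theorem sq_first {g : G} (hg : C.Lift g 7) : g * g = 1 := by
  obtain ⟨x, hx⟩ := C.exists_lifts
  have h0 : xi 0 = 7 := rep_first.2.1
  obtain ⟨h1, h2, h3⟩ := hx 0 (by norm_num)
  have hL : C.Lift (x 0) 7 := ⟨⟨h1, Or.inl h2⟩, by norm_num, h0 ▸ h3⟩
  rw [C.sq_shift h1 (C.lift_unique hg hL)]
  exact C.lifts_square hx 0 (by norm_num)

/-- All involutions of the table lift to involutions normalising the subgroup of order three. -/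
theorem lift_involution [IsSimpleGroup G] (hG : ¬ IsMulCommutative G) {g : G} {i : ℕ} (hg : C.Lift g i)
    (h0 : i ≠ 0) (h2 : mul8 i i = 0) : g * g = 1 := by
  have h := rep_triple
  simp only [Bool.and_eq_true, beq_iff_eq] at h
  obtain ⟨⟨⟨⟨⟨⟨⟨c2, c74⟩, c205⟩, p1⟩, p2⟩, p3⟩, hprod⟩, -⟩ := h
  obtain ⟨a, ha⟩ := C.exists_lift (show 191 < 256 by norm_num)
  obtain ⟨s, hs⟩ := C.exists_lift (show 7 < 256 by norm_num)
  have h191 : ∀ {g : G} {i : ℕ}, C.Lift g i → clsTo i 191 = true → g * g = 1 := fun {g i} hg hc => by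
    rw [C.cls_square hc hg.2.1 (by norm_num) ha hg rep191.1]; exact C.sq_outer_rep hG ha
  have h7 : ∀ {g : G} {i : ℕ}, C.Lift g i → clsTo i 7 = true → g * g = 1 := fun {g i} hg hc => by
    rw [C.cls_square hc hg.2.1 (by norm_num) hs hg (by decide +kernel)]; exact C.sq_first hs
  have hc := List.all_eq_true.mp cls_cover i (List.mem_range.mpr hg.2.1)
  simp only [h2, beq_self_eq_true, Bool.not_true, Bool.or_false, Bool.or_eq_true, beq_iff_eq, h0, false_or] at hc
  rcases hc with (hc | hc) | hc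
  · exact h7 hg hc
  · exact h191 hg hc
  obtain ⟨u, hu⟩ := C.exists_lift (show 2 < 256 by norm_num)
  obtain ⟨v, hv⟩ := C.exists_lift (show 74 < 256 by norm_num)
  obtain ⟨w, hw⟩ := C.exists_lift (show 205 < 256 by norm_num)
  have uu := h191 hu c2
  have vv := h191 hv c74
  have ww := h191 hw c205
  have huv := C.comm_of_squares uu vv (h7 (C.lift_mul hu hv) p1)
  have huw := C.comm_of_squares uu ww (h7 (C.lift_mul hu hw) p2)
  have hvw := C.comm_of_squares vv ww (h7 (C.lift_mul hv hw) p3)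
  have hr : C.Lift (u * v * w) 35 := hprod ▸ C.lift_mul (C.lift_mul hu hv) hw
  rw [C.cls_square hc hg.2.1 (by norm_num) hr hg (by decide +kernel)]
  calc u * v * w * (u * v * w) = u * v * (w * (u * v)) * w := by group
    _ = u * v * ((u * v) * w) * w := by rw [(huw.mul_left hvw).symm.eq]
    _ = u * (v * u) * v * (w * w) := by group
    _ = u * u * (v * v) * (w * w) := by rw [huv.symm.eq]; group
    _ = 1 := by rw [uu, vv, ww, mul_one, mul_one]

theorem hh_z {u : G} (hu : u ∈ C.E) (h : C.π u = 0) : C.hh u = 1 := by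
  rw [C.hh_shift hu (one_mem _) (h.trans C.π_one.symm), hh]
  group

/-- The complement in the extraspecial subgroup. -/
def E1 : Subgroup G where
  carrier := {x | ∃ u ∈ C.E, C.π u ∈ spanX w1B ∧ x = C.hh u}
  one_mem' := ⟨1, one_mem _, by rw [C.π_one]; exact zero_mem_spanX _, by rw [hh]; group⟩
  mul_mem' := by
    rintro _ _ ⟨u, hu, hu', rfl⟩ ⟨v, hv, hv', rfl⟩
    refine ⟨u * v, mul_mem hu hv, by rw [C.π_mul u hu v hv]; exact w1_xor hu' hv', ?_⟩
    have hc : Commute v (C.p * u * C.p⁻¹) := (C.π_comm v hv _ (C.conj_mem C.pH hu)).mpr (by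
      rw [C.rep_p u hu]; exact w1_perp hv' (w1_spec hu').2.2)
    show u * (C.p * u * C.p⁻¹) * (v * (C.p * v * C.p⁻¹)) = u * v * (C.p * (u * v) * C.p⁻¹)
    calc u * (C.p * u * C.p⁻¹) * (v * (C.p * v * C.p⁻¹))
        = u * ((C.p * u * C.p⁻¹) * v) * (C.p * v * C.p⁻¹) := by group
      _ = u * (v * (C.p * u * C.p⁻¹)) * (C.p * v * C.p⁻¹) := by rw [hc.eq]
      _ = _ := by group
  inv_mem' := by
    rintro _ ⟨u, hu, hu', rfl⟩
    refine ⟨u⁻¹, inv_mem hu, by rwa [C.π_inv hu], ?_⟩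
    have hc : Commute u (C.p * u * C.p⁻¹) := (C.π_comm u hu _ (C.conj_mem C.pH hu)).mpr (by
      rw [C.rep_p u hu]; exact w1_perp hu' (w1_spec hu').2.2)
    show (u * (C.p * u * C.p⁻¹))⁻¹ = u⁻¹ * (C.p * u⁻¹ * C.p⁻¹)
    rw [hc.eq]; group

theorem E1_le : C.E1 ≤ C.E := by
  rintro _ ⟨u, hu, -, rfl⟩
  exact mul_mem hu (C.conj_mem C.pH hu)

theorem E1_inf {x : G} (hx : x ∈ C.E1) (h : C.π x ∈ W0) : x = 1 := by
  obtain ⟨u, hu, hu', rfl⟩ := hx
  rw [C.hh_π hu] at h
  have hw : C.π u ^^^ mv Data.OM (C.π u) ∈ spanX w1B := w1_xor hu' (w1_spec hu').2.2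
  have h0 : C.π u ^^^ mv Data.OM (C.π u) = 0 := by
    have h' := w1_ok
    simp only [Bool.and_eq_true, List.all_eq_true, Bool.or_eq_true, beq_iff_eq, Bool.not_eq_true',
      List.contains_eq_mem, decide_eq_false_iff_not] at h'
    exact (h'.2 _ hw).resolve_right fun hn => hn h
  refine C.hh_z hu ?_
  have e := Nat.xor_eq_zero_iff.mp h0
  have e2 := OM_sum (C.π_lt u)
  rw [← e, ← e, Nat.xor_self] at e2
  exact e2.symm

theorem E1_conj {g : G} {i : ℕ} (hi : i ∈ yGen) (hg : C.Lift g i) {x : G} (hx : x ∈ C.E1) : g * x * g⁻¹ ∈ C.E1 := by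
  obtain ⟨u, hu, hu', rfl⟩ := hx
  have hgu : C.π (g * u * g⁻¹) ∈ spanX w1B := by rw [hg.2.2 u hu]; exact w1_stable hi hu'
  rcases C.hh_conj hg.1 hg.2.2 hu (w1_spec hgu).2.1 with ⟨-, e⟩ | ⟨-, -, e⟩
  · exact ⟨_, C.conj_mem hg.1.1 hu, hgu, e⟩
  · have hw : C.p⁻¹ * (g * u * g⁻¹) * C.p ∈ C.E := by simpa using C.conj_mem (inv_mem C.pH) (C.conj_mem hg.1.1 hu)
    refine ⟨_, hw, ?_, e⟩
    have e2 : mv Data.OM (C.π (C.p⁻¹ * (g * u * g⁻¹) * C.p)) = C.π (g * u * g⁻¹) := by
      rw [← C.rep_p _ hw]; congr 1; group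
    have h3 : ∀ y < 4096, mv Data.OM (mv Data.OM (mv Data.OM y)) = y :=
      lin_ext (f := fun x => mv Data.OM (mv Data.OM (mv Data.OM x))) (g := id) (· ^^^ ·) 12
        (fun a b => by simp only [mv_xor]) (fun a b => rfl) (by simp [mv_zero]) (by decide +kernel)
    rw [← h3 _ (C.π_lt _), e2]
    exact (w1_spec (w1_spec hgu).2.2).2.2

theorem exists_complement_sylow [IsSimpleGroup G] (hG : ¬ IsMulCommutative G) :
    ∃ A : Subgroup G, A ≤ C.S ∧ A ⊓ C.V = ⊥ ∧ 1024 ≤ Nat.card ↥A := by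
  classical
  have hyg := y_gen
  simp only [Bool.and_eq_true, decide_eq_true_eq, beq_iff_eq] at hyg
  obtain ⟨⟨⟨⟨⟨⟨⟨⟨⟨la, lb⟩, lc⟩, ia⟩, ib⟩, ic⟩, iac⟩, ibc⟩, irr⟩, -⟩ := hyg
  obtain ⟨hsep, hnd⟩ := y_sep
  simp only [List.all_eq_true, Bool.or_eq_true, Bool.not_eq_true', beq_iff_eq, List.contains_eq_mem,
    decide_eq_false_iff_not] at hsep
  have hmem3 : yGen.getD 0 0 ∈ yGen ∧ yGen.getD 1 0 ∈ yGen ∧ yGen.getD 2 0 ∈ yGen := by decide +kernel
  obtain ⟨a, ha⟩ := C.exists_lift la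
  obtain ⟨b, hb⟩ := C.exists_lift lb
  obtain ⟨c, hc⟩ := C.exists_lift lc
  have hne : yGen.getD 0 0 ≠ 0 ∧ yGen.getD 1 0 ≠ 0 ∧ yGen.getD 2 0 ≠ 0 ∧ mul8 (yGen.getD 0 0) (yGen.getD 2 0) ≠ 0 ∧
      mul8 (yGen.getD 1 0) (yGen.getD 2 0) ≠ 0 ∧ mul8 yR yR ≠ 0 := by decide +kernel
  obtain ⟨na, nb, nc, nac, nbc, nrr⟩ := hne
  have aa := C.lift_involution hG ha na ia
  have bb := C.lift_involution hG hb nb ib
  have cc := C.lift_involution hG hc nc ic
  have cac := C.comm_of_squares aa cc (C.lift_involution hG (C.lift_mul ha hc) nac iac)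
  have cbc := C.comm_of_squares bb cc (C.lift_involution hG (C.lift_mul hb hc) nbc ibc)
  set r := a * b with hr
  have hrl : C.Lift r yR := C.lift_mul ha hb
  have r4 : r ^ 4 = 1 := by
    rw [show r ^ 4 = r * r * (r * r) by simp [pow_succ, mul_assoc]]
    exact C.lift_involution hG (C.lift_mul hrl hrl) nrr irr
  have har : ∀ k : ℕ, a * r ^ k = r ^ (3 * k) * a := by
    intro k
    induction k with
    | zero => simp
    | succ k ih =>
      have hi : r⁻¹ = r ^ 3 := inv_eq_of_mul_eq_one_right (by rw [← pow_succ']; exact r4)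
      have h1 : a * r = r ^ 3 * a := by
        rw [← hi, hr, mul_inv_rev, inv_eq_of_mul_eq_one_right aa, inv_eq_of_mul_eq_one_right bb, ← mul_assoc, aa,
          one_mul, mul_assoc, aa, mul_one]
      rw [pow_succ, ← mul_assoc, ih, mul_assoc, h1, ← mul_assoc, ← pow_add]
      rfl
  have hcr : Commute c r := cac.symm.mul_right cbc.symm
  have hbr : b = a * r := by rw [hr, ← mul_assoc, aa, one_mul]
  let word : ℕ → Bool → Bool → G := fun k e d => r ^ k * (if e then a else 1) * (if d then c else 1)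
  have hone : C.Lift (1 : G) 0 := ⟨C.np_one, by norm_num, elt_zero ▸ C.rep_one⟩
  have hword : ∀ k < 4, ∀ e d, C.Lift (word k e d) (yEl k e d) := by
    intro k hk e d
    have h1 : C.Lift (r ^ k) ([0, yR, mul8 yR yR, mul8 (mul8 yR yR) yR].getD k 0) := by
      rcases (show k = 0 ∨ k = 1 ∨ k = 2 ∨ k = 3 by omega) with rfl | rfl | rfl | rfl
      · rw [pow_zero]; exact hone
      · rw [pow_one]; exact hrl
      · rw [pow_two]; exact C.lift_mul hrl hrl
      · rw [pow_succ, pow_two]; exact C.lift_mul (C.lift_mul hrl hrl) hrl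
    rw [yEl_mul k e d _ rfl]
    refine C.lift_mul (C.lift_mul h1 ?_) ?_
    · cases e
      exacts [hone, ha]
    · cases d
      exacts [hone, hc]
  let Y : Subgroup G := Subgroup.closure ({a, b, c} : Set G)
  have hY : ∀ y ∈ Y, ∃ k < 4, ∃ e d, y = word k e d := by
    have hmod : ∀ k : ℕ, r ^ k = r ^ (k % 4) := fun k => by
      conv_lhs => rw [← Nat.div_add_mod k 4, pow_add, pow_mul, r4, one_pow, one_mul]
    have hA : ∀ k e d, ∃ k' < 4, ∃ e' d', a * word k e d = word k' e' d' := by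
      intro k e d
      refine ⟨3 * k % 4, Nat.mod_lt _ (by norm_num), !e, d, ?_⟩
      show a * (r ^ k * _ * _) = r ^ (3 * k % 4) * _ * _
      rw [← hmod, ← mul_assoc, ← mul_assoc, har]
      cases e <;> simp [mul_assoc, aa, ← mul_assoc a a]
    intro y hy
    have hfin : ∀ g ∈ ({a, b, c} : Set G), g⁻¹ = g := by
      rintro g (rfl | rfl | rfl)
      exacts [inv_eq_of_mul_eq_one_right aa, inv_eq_of_mul_eq_one_right bb, inv_eq_of_mul_eq_one_right cc]
    have hstep : ∀ g ∈ ({a, b, c} : Set G), ∀ k < 4, ∀ e d, ∃ k' < 4, ∃ e' d', g * word k e d = word k' e' d' := by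
      rintro g hg k hk e d
      rcases hg with rfl | rfl | rfl
      · exact hA k e d
      · obtain ⟨k', hk', e', d', h⟩ := hA ((k + 1) % 4) e d
        refine ⟨k', hk', e', d', ?_⟩
        rw [← h, hbr]
        show a * r * (r ^ k * _ * _) = a * (r ^ ((k + 1) % 4) * _ * _)
        rw [← hmod, pow_succ']; group
      · refine ⟨k, hk, e, !d, ?_⟩
        show g * (r ^ k * _ * _) = r ^ k * _ * _
        have hcg : Commute g (r ^ k * if e then a else 1) := by
          refine (hcr.pow_right k).mul_right ?_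
          cases e
          exacts [Commute.one_right _, cac.symm]
        rw [← mul_assoc, hcg.eq]
        cases d <;> simp [mul_assoc, cc]
    induction hy using Subgroup.closure_induction_left with
    | one => exact ⟨0, by norm_num, false, false, by simp [word]⟩
    | mul_left g hg y _ ih =>
      obtain ⟨k, hk, e, d, rfl⟩ := ih
      exact hstep g hg k hk e d
    | inv_mul_cancel g hg y _ ih =>
      obtain ⟨k, hk, e, d, rfl⟩ := ih
      rw [hfin g hg]
      exact hstep g hg k hk e d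
  have hYS : Y ≤ C.S := by
    rw [Subgroup.closure_le]
    rintro g (rfl | rfl | rfl)
    exacts [C.mem_S.mpr ⟨ha.1.1, _, ha.2.1, ha.2.2⟩, C.mem_S.mpr ⟨hb.1.1, _, hb.2.1, hb.2.2⟩,
      C.mem_S.mpr ⟨hc.1.1, _, hc.2.1, hc.2.2⟩]
  have hYN : Y ≤ normalizer (C.E1 : Set G) := by
    rw [Subgroup.closure_le]
    rintro g (rfl | rfl | rfl)
    exacts [Subgroup.mem_normalizer_fintype fun x hx => C.E1_conj hmem3.1 ha hx,
      Subgroup.mem_normalizer_fintype fun x hx => C.E1_conj hmem3.2.1 hb hx,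
      Subgroup.mem_normalizer_fintype fun x hx => C.E1_conj hmem3.2.2 hc hx]
  refine ⟨C.E1 ⊔ Y, sup_le (C.E1_le.trans C.E_le_S) hYS, (eq_bot_iff_forall _).mpr ?_, ?_⟩
  · rintro x ⟨hx, hxV⟩
    replace hx : x ∈ ((C.E1 ⊔ Y : Subgroup G) : Set G) := hx
    rw [coe_mul_of_right_le_normalizer_left C.E1 Y hYN] at hx
    obtain ⟨e, he, y, hy, rfl⟩ := Set.mem_mul.mp hx
    obtain ⟨k, hk, eb, db, rfl⟩ := hY y hy
    obtain ⟨⟨-, i, hi, hs, hr⟩, -⟩ := C.mem_V.mp hxV
    have hL := hword k hk eb db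
    have hr' : RepBy C.E C.π (e * word k eb db) (elt (yEl k eb db)) := fun q hq => by
      rw [C.rep_mul hL.1.1 (C.rep_E (C.E1_le he)) hL.2.2 q hq, mv_mm, mv_idM (mv_lt (n := 12) (elt_lt _) _)]
    have hie := elt_inj hL.2.1 hi (C.rep_unique hr' hr)
    have hmem : (k, eb, db) ∈ yExp := by
      rcases (show k = 0 ∨ k = 1 ∨ k = 2 ∨ k = 3 by omega) with rfl | rfl | rfl | rfl <;>
        cases eb <;> cases db <;> decide
    have h0 := (hsep _ hmem).resolve_left fun h => h (hie ▸ hs)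
    simp only [Prod.mk.injEq] at h0
    obtain ⟨rfl, rfl, rfl⟩ := h0
    have hw1 : word 0 false false = 1 := by simp [word]
    rw [hw1, mul_one] at hxV ⊢
    exact C.E1_inf he (C.mem_Wt_iff.mp ⟨hxV, C.E1_le he⟩).2
  · choose sec hsecE hsec using fun v : ↥(spanX w1B).toFinset => C.π_surj v.1 (w1_spec (List.mem_toFinset.mp v.2)).1
    have hexp : ∀ t : ↥yExp.toFinset, t.1.1 < 4 := fun t => by
      have h : ∀ t ∈ yExp, t.1 < 4 := by decide
      exact h t.1 (List.mem_toFinset.mp t.2)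
    have hin : ∀ t : ↥yExp.toFinset, word t.1.1 t.1.2.1 t.1.2.2 ∈ Y := fun t => by
      refine mul_mem (mul_mem (pow_mem (mul_mem (subset_closure (by simp)) (subset_closure (by simp))) _) ?_) ?_
      · split
        exacts [subset_closure (by simp), one_mem _]
      · split
        exacts [subset_closure (by simp), one_mem _]
    let f : ↥(spanX w1B).toFinset × ↥yExp.toFinset → ↥(C.E1 ⊔ Y) := fun t =>
      ⟨C.hh (sec t.1) * word t.2.1.1 t.2.1.2.1 t.2.1.2.2, mul_mem_sup ⟨_, hsecE _, by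
        rw [hsec]; exact List.mem_toFinset.mp t.1.2, rfl⟩ (hin _)⟩
    have hf : Function.Injective f := by
      rintro ⟨v, t⟩ ⟨v', t'⟩ e
      have e' : C.hh (sec v) * word t.1.1 t.1.2.1 t.1.2.2 = C.hh (sec v') * word t'.1.1 t'.1.2.1 t'.1.2.2 :=
        congrArg Subtype.val e
      have hrep : ∀ (v : ↥(spanX w1B).toFinset) (t : ↥yExp.toFinset),
          RepBy C.E C.π (C.hh (sec v) * word t.1.1 t.1.2.1 t.1.2.2) (elt (yEl t.1.1 t.1.2.1 t.1.2.2)) := fun v t q hq => by
        have hL := hword _ (hexp t) t.1.2.1 t.1.2.2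
        rw [C.rep_mul hL.1.1 (C.rep_E (show C.hh (sec v) ∈ C.E from mul_mem (hsecE v) (C.conj_mem C.pH (hsecE v)))) hL.2.2 q hq, mv_mm,
          mv_idM (mv_lt (n := 12) (elt_lt _) _)]
      have hidx := elt_inj (hword _ (hexp t) t.1.2.1 t.1.2.2).2.1 (hword _ (hexp t') t'.1.2.1 t'.1.2.2).2.1
        (C.rep_unique (hrep v t) (e' ▸ hrep v' t'))
      have ht : t = t' := Subtype.ext (List.inj_on_of_nodup_map hnd (List.mem_toFinset.mp t.2)
        (List.mem_toFinset.mp t'.2) hidx)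
      subst ht
      have e2 := congrArg C.π (mul_right_cancel e')
      rw [C.hh_π (hsecE v), C.hh_π (hsecE v'), hsec, hsec] at e2
      have hv : v = v' := Subtype.ext (by
        have hl := (w1_spec (List.mem_toFinset.mp v.2)).1
        have hl' := (w1_spec (List.mem_toFinset.mp v'.2)).1
        have e3 := congrArg (mv Data.OM) e2
        simp only [mv_xor] at e3
        rw [Nat.xor_comm (mv Data.OM v.1), Nat.xor_comm (mv Data.OM v'.1), OM_sum hl, OM_sum hl'] at e3
        exact e3)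
      subst hv
      rfl
    refine le_trans (le_of_eq ?_) (Nat.card_le_card_of_injective f hf)
    rw [Nat.card_prod, Nat.card_eq_fintype_card, Nat.card_eq_fintype_card (α := ↥yExp.toFinset), Fintype.card_coe,
      Fintype.card_coe]
    decide +kernel

theorem S_le_normalizer : C.S ≤ normalizer (C.V : Set G) := by
  intro s hs
  refine Subgroup.mem_normalizer_fintype fun v hv => ?_
  have hU : Cfsg.IsElementaryAbelian 2 (C.V.map (MulAut.conj s).toMonoidHom) := by
    refine ⟨⟨⟨fun a b => Subtype.ext ?_⟩⟩, ?_⟩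
    · obtain ⟨x, hx, ex⟩ := a.2
      obtain ⟨y, hy, ey⟩ := b.2
      show (a : G) * b = b * a
      rw [← ex, ← ey, ← map_mul, ← map_mul, (C.V_comm hx hy).eq]
    · rintro _ ⟨x, hx, rfl⟩
      rw [← map_pow, pow_two, C.V_sq hx, map_one]
  refine C.le_V hU ?_ ((card_map_of_injective (MulAut.conj s).injective).trans C.V_spec.2.1) ⟨v, hv, rfl⟩
  rintro _ ⟨x, hx, rfl⟩
  exact mul_mem (mul_mem hs (C.V_spec.2.2 hx)) (inv_mem hs)

theorem exists_complement [IsSimpleGroup G] (hG : ¬ IsMulCommutative G) :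
    ∃ K : Subgroup G, K ≤ normalizer (C.V : Set G) ∧ K ⊓ C.V = ⊥ ∧ K ⊔ C.V = normalizer (C.V : Set G) ∧
      Cfsg.Spor.IsoM24 ↥K := by
  classical
  obtain ⟨A, hAS, hAV, hAc⟩ := C.exists_complement_sylow hG
  set N := normalizer (C.V : Set G) with hN
  obtain ⟨φ, hφ, hker⟩ : ∃ φ : ↥N →* ↥Cfsg.M24, Function.Surjective φ ∧ φ.ker = C.V.subgroupOf N := C.exists_hom hG
  have hSN : C.S ≤ N := C.S_le_normalizer
  have hVS : C.V ≤ C.S := C.V_spec.2.2
  have hsup : C.V ⊔ A = C.S := by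
    refine eq_of_le_of_card_ge (sup_le hVS hAS) ?_
    let f : ↥C.V × ↥A → ↥(C.V ⊔ A) := fun t => ⟨t.1 * t.2, mul_mem_sup t.1.2 t.2.2⟩
    have hf : Function.Injective f := by
      rintro ⟨v, a⟩ ⟨v', a'⟩ e
      have e' : (v : G) * a = v' * a' := congrArg Subtype.val e
      have h1 : (v' : G)⁻¹ * v = a' * (a : G)⁻¹ := by
        rw [eq_mul_inv_iff_mul_eq, mul_assoc, e', inv_mul_cancel_left]
      have h2 : (v' : G)⁻¹ * v ∈ A ⊓ C.V :=
        Subgroup.mem_inf.mpr ⟨h1 ▸ mul_mem a'.2 (inv_mem a.2), mul_mem (inv_mem v'.2) v.2⟩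
      rw [hAV, mem_bot] at h2
      rw [h2, eq_comm, mul_inv_eq_one] at h1
      exact Prod.ext (Subtype.ext (inv_mul_eq_one.mp h2).symm) (Subtype.ext h1.symm)
    have := Nat.card_le_card_of_injective f hf
    rw [Nat.card_prod, C.V_spec.2.1] at this
    rw [C.card_S]
    omega
  have hNc : Nat.card ↥N = 1771 * (138240 * 2048) := by
    rw [hN, show normalizer (C.V : Set G) = normalizer ((C.sextet hG).A : Set G) from rfl,
      (C.sextet hG).card_normalizer]
    show 1771 * Nat.card ↥(normalizer (C.V : Set G) ⊓ centralizer ({z} : Set G)) = _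
    rw [← C.M_eq, C.M_card.1]
  haveI hn : (C.V.subgroupOf N).Normal := hker ▸ inferInstance
  haveI hcm : IsMulCommutative ↥(C.V.subgroupOf N) :=
    ⟨⟨fun a b => Subtype.ext (Subtype.ext (C.V_comm a.2 b.2).eq)⟩⟩
  have hidx : (C.S.subgroupOf N).index = 1771 * 135 := by
    have h := (C.S.subgroupOf N).card_mul_index
    rw [Nat.card_congr (subgroupOfEquivOfLe hSN).toEquiv, C.card_S, hNc] at h
    omega
  obtain ⟨H, hH⟩ := Cfsg.Agent.S0051.result (C.V.subgroupOf N) (C.S.subgroupOf N) (fun v hv => hVS hv) (by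
      rw [Nat.card_congr (subgroupOfEquivOfLe (hVS.trans hSN)).toEquiv, C.V_spec.2.1, hidx]
      exact Nat.Coprime.pow_left _ (by norm_num)) (A.subgroupOf N) (fun a ha => hAS ha)
    ((eq_bot_iff_forall _).mpr fun x hx => Subtype.ext (mem_bot.mp (hAV ▸ (⟨hx.1, hx.2⟩ : (x : G) ∈ A ⊓ C.V))))
    (by rw [← subgroupOf_sup (hVS.trans hSN) (hAS.trans hSN), hsup])
  refine ⟨H.map N.subtype, map_subtype_le H, (eq_bot_iff_forall _).mpr ?_, ?_, ?_⟩
  · rintro _ ⟨⟨x, hx, rfl⟩, hxV⟩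
    have : x ∈ C.V.subgroupOf N ⊓ H := ⟨hxV, hx⟩
    rw [hH.disjoint.eq_bot, mem_bot] at this
    rw [this]; rfl
  · refine le_antisymm (sup_le (map_subtype_le H) (le_normalizer)) fun x hx => ?_
    obtain ⟨⟨v, h⟩, e, -⟩ := isComplement_iff_existsUnique.mp hH ⟨x, hx⟩
    rw [show x = ((v : ↥N) : G) * ((h : ↥N) : G) from (congrArg Subtype.val e).symm, sup_comm]
    exact mul_mem_sup v.2 ⟨_, h.2, rfl⟩
  · refine ⟨(H.equivMapOfInjective _ N.subtype_injective).symm.trans
      (MulEquiv.ofBijective (φ.comp H.subtype) ⟨?_, fun m => ?_⟩)⟩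
    · rw [← MonoidHom.ker_eq_bot_iff, eq_bot_iff_forall]
      intro x hx
      have : (x : ↥N) ∈ C.V.subgroupOf N ⊓ H := ⟨hker ▸ (hx : φ x = 1), x.2⟩
      rw [hH.disjoint.eq_bot, mem_bot] at this
      exact Subtype.ext this
    · obtain ⟨n, rfl⟩ := hφ m
      obtain ⟨⟨v, h⟩, e, -⟩ := isComplement_iff_existsUnique.mp hH n
      refine ⟨h, ?_⟩
      have hv : φ (v : ↥N) = 1 := MonoidHom.mem_ker.mp (hker.symm ▸ v.2)
      show φ h = φ n
      rw [← show (v : ↥N) * h = n from e, map_mul, hv, one_mul]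

end Ctx

end Cfsg.Lib.JankoFour
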