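import Cfsg.Agent.LargeFischer.SextetCount

/-!
Counting in an elementary abelian subgroup of order two to the eleventh when the classes in the inner part are not
yet known.
-/

set_option autoImplicit false
set_option maxRecDepth 100000
set_option maxHeartbeats 1000000
set_option linter.unusedSectionVars false
set_option linter.style.haveILetI false

namespace Cfsg.Lib.JankoFour

open Subgroup
open Cfsg.Lib.LargeFischer (prime_of_perm)

universe u

/-- The local data at the central involution, before the classes in the inner part are known. -/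
structure Pre (G : Type u) [Group G] (z : G) where
  A : Subgroup G
  A0 : Subgroup G
  Q : Subgroup G
  sq : ∀ a ∈ A, a * a = 1
  cardA : Nat.card ↥A = 2048
  le0 : A0 ≤ A
  mem0 : z ∈ A0
  ne1 : z ≠ 1
  card0 : Nat.card ↥A0 = 128
  fuse : ∀ a ∈ A, IsConj z a → ∃ m ∈ normalizer (A : Set G), m * z * m⁻¹ = a
  c : ℕ
  inner : {a : G | a ∈ A0 ∧ a ≠ 1 ∧ ¬ IsConj z a}.ncard = c
  inv0 : ∀ m ∈ normalizer (A : Set G), m * z = z * m → ∀ a ∈ A0, m * a * m⁻¹ ∈ A0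
  coset : ∀ a ∈ A, a ∉ A0 → ∀ b ∈ A, b ∉ A0 →
    ∃ m ∈ normalizer (A : Set G), m * z = z * m ∧ (m * a * m⁻¹) * b ∈ A0
  qN : ∀ q ∈ Q, q ∈ normalizer (A : Set G) ∧ q * z = z * q
  qcoset : ∀ q ∈ Q, ∀ a ∈ A, q * a * q⁻¹ * a ∈ A0
  big : ∀ a ∈ A, a ∉ A0 → 16 ∣ {x : G | ∃ q ∈ Q, q * a * q⁻¹ = x}.ncard

namespace Pre

variable {G : Type u} [Group G] [Finite G] {z : G} (D : Pre G z)

/-- The involutions of the second class. -/
def T : Set G := {a | a ∈ D.A ∧ a ≠ 1 ∧ ¬ IsConj z a}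

/-- The involutions of the first class. -/
def Z : Set G := {a | a ∈ D.A ∧ IsConj z a}

theorem memA : z ∈ D.A := D.le0 D.mem0

theorem conjA {m : G} (hm : m ∈ normalizer (D.A : Set G)) {a : G} (ha : a ∈ D.A) : m * a * m⁻¹ ∈ D.A :=
  (mem_normalizer_iff.mp hm a).mp ha

theorem commA {a b : G} (ha : a ∈ D.A) (hb : b ∈ D.A) : a * b = b * a := by
  have hi : ∀ x ∈ D.A, x⁻¹ = x := fun x hx => inv_eq_of_mul_eq_one_right (D.sq x hx)
  rw [← hi (a * b) (mul_mem ha hb), mul_inv_rev, hi a ha, hi b hb]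

theorem conj_T {m : G} (hm : m ∈ normalizer (D.A : Set G)) {a : G} (ha : a ∈ D.T) : m * a * m⁻¹ ∈ D.T := by
  obtain ⟨h1, h2, h3⟩ := ha
  exact ⟨D.conjA hm h1, fun e => h2 (conj_eq_one_iff.mp e),
    fun h => h3 (h.trans (isConj_iff.mpr ⟨m, rfl⟩ : IsConj a (m * a * m⁻¹)).symm)⟩

theorem conj_Z {m : G} (hm : m ∈ normalizer (D.A : Set G)) {a : G} (ha : a ∈ D.Z) : m * a * m⁻¹ ∈ D.Z :=
  ⟨D.conjA hm ha.1, ha.2.trans (isConj_iff.mpr ⟨m, rfl⟩)⟩

theorem one_not_Z : (1 : G) ∉ D.Z := fun h => D.ne1 (isConj_one_left.mp h.2)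

theorem card_classes : D.T.ncard + D.Z.ncard = 2047 := by
  have hd : Disjoint D.T D.Z := Set.disjoint_left.mpr fun a ha hb => ha.2.2 hb.2
  have h1 : insert (1 : G) (D.T ∪ D.Z) = (D.A : Set G) := by
    ext a
    simp only [Set.mem_insert_iff, Set.mem_union, SetLike.mem_coe]
    constructor
    · rintro (rfl | h | h)
      exacts [one_mem _, h.1, h.1]
    · intro ha
      rcases eq_or_ne a 1 with e | e
      · exact Or.inl e
      · by_cases h : IsConj z a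
        exacts [Or.inr (Or.inr ⟨ha, h⟩), Or.inr (Or.inl ⟨ha, e, h⟩)]
  have h := congrArg Set.ncard h1
  rw [Set.ncard_insert_of_notMem (by simp only [Set.mem_union, not_or]; exact ⟨fun h => h.2.1 rfl, D.one_not_Z⟩)
    (Set.toFinite _), Set.ncard_union_eq hd (Set.toFinite _) (Set.toFinite _),
    ← Nat.card_coe_set_eq (D.A : Set G), SetLike.coe_sort_coe, D.cardA] at h
  omega

/-- The part of the second class in the coset of an element. -/
def fib (a : G) : Set G := {x | x ∈ D.T ∧ a * x ∈ D.A0}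

theorem fib_dvd {a : G} (ha : a ∈ D.A) (ha0 : a ∉ D.A0) : 16 ∣ (D.fib a).ncard := by
  classical
  have hQ : ∀ q : ↥D.Q, ∀ x : ↥(D.fib a), (q : G) * x * (q : G)⁻¹ ∈ D.fib a := fun q x => by
    obtain ⟨hxT, hax⟩ := x.2
    refine ⟨D.conj_T (D.qN q q.2).1 hxT, ?_⟩
    rw [show a * ((q : G) * x * (q : G)⁻¹) = a * x * ((q : G) * x * (q : G)⁻¹ * x) by
      have hc : (x : G) * ((q : G) * x * (q : G)⁻¹) = (q : G) * x * (q : G)⁻¹ * x :=
        D.commA hxT.1 (D.conjA (D.qN q q.2).1 hxT.1)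
      rw [mul_assoc a, ← hc, ← mul_assoc (x : G) x, D.sq _ hxT.1, one_mul]]
    exact mul_mem hax (D.qcoset q q.2 x hxT.1)
  letI : MulAction ↥D.Q ↥(D.fib a) :=
    { smul := fun q x => ⟨(q : G) * x * (q : G)⁻¹, hQ q x⟩
      one_smul := fun x => Subtype.ext (by show ((1 : ↥D.Q) : G) * x * ((1 : ↥D.Q) : G)⁻¹ = x; simp)
      mul_smul := fun q r x => Subtype.ext (by
        show ((q * r : ↥D.Q) : G) * x * ((q * r : ↥D.Q) : G)⁻¹ = (q : G) * ((r : G) * x * (r : G)⁻¹) * (q : G)⁻¹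
        push_cast
        group) }
  haveI : Fintype (MulAction.orbitRel.Quotient ↥D.Q ↥(D.fib a)) := Fintype.ofFinite _
  rw [← Nat.card_coe_set_eq, Nat.card_congr (MulAction.selfEquivSigmaOrbits ↥D.Q ↥(D.fib a)), Nat.card_sigma]
  refine Finset.dvd_sum fun o _ => ?_
  obtain ⟨x, hx⟩ : ∃ x, o.out = x := ⟨_, rfl⟩
  rw [hx, Nat.card_coe_set_eq, ← Set.ncard_image_of_injective _ Subtype.val_injective]
  have hx0 : (x : G) ∉ D.A0 := fun h => ha0 (by
    have := mul_mem x.2.2 h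
    rwa [mul_assoc, D.sq _ x.2.1.1, mul_one] at this)
  refine (D.big x x.2.1.1 hx0).trans (dvd_of_eq (congrArg Set.ncard ?_))
  ext y
  constructor
  · rintro ⟨q, hq, rfl⟩
    exact ⟨⟨_, hQ ⟨q, hq⟩ x⟩, ⟨⟨q, hq⟩, rfl⟩, rfl⟩
  · rintro ⟨w, ⟨q, rfl⟩, rfl⟩
    exact ⟨q, q.2, rfl⟩

theorem fib_const {a b : G} (ha : a ∈ D.A) (ha0 : a ∉ D.A0) (hb : b ∈ D.A) (hb0 : b ∉ D.A0) :
    (D.fib a).ncard ≤ (D.fib b).ncard := by
  obtain ⟨m, hm, hmz, hab⟩ := D.coset a ha ha0 b hb hb0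
  refine Set.ncard_le_ncard_of_injOn (fun x => m * x * m⁻¹) (fun x hx => ⟨D.conj_T hm hx.1, ?_⟩)
    (fun x _ y _ h => by simpa using h) (Set.toFinite _)
  have h1 := D.inv0 m hm hmz _ hx.2
  have h2 : (m * a * m⁻¹) * b * (m * (a * x) * m⁻¹) ∈ D.A0 := mul_mem hab h1
  have hA1 := D.conjA hm ha
  rwa [D.commA hA1 hb, show b * (m * a * m⁻¹) * (m * (a * x) * m⁻¹) = b * (m * (a * a * x) * m⁻¹) by group,
    D.sq a ha, one_mul] at h2

theorem card_eq_fib {a : G} (ha : a ∈ D.A) (ha0 : a ∉ D.A0) : D.T.ncard = D.c + 15 * (D.fib a).ncard := by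
  classical
  haveI := Fintype.ofFinite G
  have h1 : D.T = {x | x ∈ D.A0 ∧ x ≠ 1 ∧ ¬ IsConj z x} ∪ (D.T \ D.A0) := by
    ext x
    simp only [T, Set.mem_union, Set.mem_setOf_eq, Set.mem_diff, SetLike.mem_coe]
    exact ⟨fun h => if h' : x ∈ D.A0 then Or.inl ⟨h', h.2⟩ else Or.inr ⟨h, h'⟩,
      fun h => h.elim (fun h => ⟨D.le0 h.1, h.2⟩) And.left⟩
  rw [h1, Set.ncard_union_eq (Set.disjoint_left.mpr fun x hx hx' => hx'.2 hx.1) (Set.toFinite _) (Set.toFinite _), D.inner]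
  congr 1
  set N := D.A0.subgroupOf D.A with hN
  haveI : N.Normal := ⟨fun n hn g => by
    rw [show g * n * g⁻¹ = n from Subtype.ext (by
      show (g : G) * n * (g : G)⁻¹ = n
      rw [D.commA g.2 n.2, mul_inv_cancel_right])]
    exact hn⟩
  haveI : Fintype (↥D.A ⧸ N) := Fintype.ofFinite _
  have hq : Fintype.card (↥D.A ⧸ N) = 16 := by
    have h := N.card_eq_card_quotient_mul_card_subgroup
    rw [D.cardA, Nat.card_congr (subgroupOfEquivOfLe D.le0).toEquiv, D.card0, Nat.card_eq_fintype_card] at h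
    omega
  let S : Finset ↥D.A := Finset.univ.filter fun x => (x : G) ∈ D.T ∧ (x : G) ∉ D.A0
  have hS : (D.T \ (D.A0 : Set G)).ncard = S.card := by
    rw [← Set.ncard_coe_finset, ← Set.ncard_image_of_injective _ (f := Subtype.val) Subtype.val_injective]
    congr 1
    ext x
    simp only [Set.mem_diff, SetLike.mem_coe, S, Finset.coe_filter, Finset.mem_univ, true_and, Set.mem_image,
      Set.mem_setOf_eq]
    exact ⟨fun h => ⟨⟨x, h.1.1⟩, h, rfl⟩, fun ⟨y, h, e⟩ => e ▸ h⟩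
  rw [hS, Finset.card_eq_sum_card_fiberwise (f := fun x : ↥D.A => (x : ↥D.A ⧸ N))
    (t := Finset.univ.erase 1) (fun x hx => by
      refine Finset.mem_coe.mpr (Finset.mem_erase.mpr ⟨fun e => ?_, Finset.mem_univ _⟩)
      exact (Finset.mem_filter.mp hx).2.2 ((QuotientGroup.eq_one_iff x).mp e)),
    Finset.sum_const_nat (m := (D.fib a).ncard) fun o ho => ?_, Finset.card_erase_of_mem (Finset.mem_univ _),
    Finset.card_univ, hq]
  obtain ⟨b, rfl⟩ := QuotientGroup.mk_surjective o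
  have hb0 : (b : G) ∉ D.A0 := fun h => (Finset.mem_erase.mp ho).1 ((QuotientGroup.eq_one_iff b).mpr h)
  rw [le_antisymm (D.fib_const ha ha0 b.2 hb0) (D.fib_const b.2 hb0 ha ha0), ← Set.ncard_coe_finset,
    ← Set.ncard_image_of_injective _ (f := Subtype.val) Subtype.val_injective]
  congr 1
  ext x
  simp only [fib, S, Finset.coe_filter, Finset.mem_univ, true_and, Set.mem_image, Set.mem_setOf_eq,
    Finset.mem_filter, QuotientGroup.eq]
  constructor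
  · rintro ⟨y, ⟨⟨hy, -⟩, hyb⟩, rfl⟩
    refine ⟨hy, ?_⟩
    have h : ((y⁻¹ * b : ↥D.A) : G) ∈ D.A0 := hyb
    rw [Subgroup.coe_mul, Subgroup.coe_inv, inv_eq_of_mul_eq_one_right (D.sq _ y.2), D.commA y.2 b.2] at h
    exact h
  · rintro ⟨hx, hbx⟩
    refine ⟨⟨x, hx.1⟩, ⟨⟨hx, fun h => hb0 ?_⟩, ?_⟩, rfl⟩
    · have := mul_mem hbx h
      rwa [mul_assoc, D.sq x hx.1, mul_one] at this
    · show x⁻¹ * (b : G) ∈ D.A0
      rw [inv_eq_of_mul_eq_one_right (D.sq _ hx.1), D.commA hx.1 b.2]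
      exact hbx

theorem prime_Z {p : ℕ} [Fact p.Prime] (hp2 : p ≠ 2) (hp : p ∣ D.Z.ncard) : ∃ k, 1 ≤ k ∧ k ≤ 11 ∧ (2 ^ k) % p = 1 := by
  classical
  let f : ↥(normalizer (D.A : Set G)) →* MulAut ↥D.A := D.A.normalizerMonoidHom
  let act : MulAut ↥D.A →* Equiv.Perm ↥D.A := MulAut.toPerm _
  letI : MulAction ↥f.range ↥D.A := MulAction.compHom _ (act.comp f.range.subtype)
  have horb : MulAction.orbit ↥f.range (⟨z, D.memA⟩ : ↥D.A) = {x : ↥D.A | IsConj z (x : G)} := by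
    ext x
    constructor
    · rintro ⟨⟨_, m, rfl⟩, rfl⟩
      exact isConj_iff.mpr ⟨(m : G), rfl⟩
    · intro hx
      obtain ⟨m, hm, e⟩ := D.fuse x x.2 hx
      exact ⟨⟨f ⟨m, hm⟩, ⟨m, hm⟩, rfl⟩, Subtype.ext e⟩
  have hcard : D.Z.ncard = (MulAction.orbit ↥f.range (⟨z, D.memA⟩ : ↥D.A)).ncard := by
    rw [horb, ← Set.ncard_image_of_injective _ (f := Subtype.val) Subtype.val_injective]
    congr 1
    ext x
    simp only [Z, Set.mem_image, Set.mem_setOf_eq]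
    exact ⟨fun h => ⟨⟨x, h.1⟩, h.2, rfl⟩, fun ⟨y, h, e⟩ => e ▸ ⟨y.2, h⟩⟩
  rw [hcard, ← MulAction.index_stabilizer] at hp
  haveI : Finite ↥f.range := inferInstance
  obtain ⟨⟨σ, hσm⟩, hσ⟩ := exists_prime_orderOf_dvd_card' (G := ↥f.range) p (hp.trans (Subgroup.index_dvd_card _))
  rw [Subgroup.orderOf_mk] at hσ
  refine prime_of_perm D.cardA σ (hσ ▸ pow_orderOf_eq_one σ) (fun e => ?_) hp2
  rw [e, orderOf_one] at hσ
  exact (Fact.out : p.Prime).ne_one hσ.symm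

end Pre

end Cfsg.Lib.JankoFour
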