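import Cfsg.Agent.LargeFischer.SextetCount
import Mathlib.GroupTheory.Sylow
import Mathlib.GroupTheory.SpecificGroups.Cyclic

/-!
Automorphism groups of small two-groups: an irreducible element of prime order restricts the order of the group.
-/

set_option autoImplicit false
set_option linter.style.haveILetI false
set_option linter.unusedSectionVars false

namespace Cfsg.Lib.JankoFour

open Subgroup

universe u

variable {A : Type u} [Group A] [Finite A]

/-- The elements fixed by a group of automorphisms. -/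
def fixA (P : Subgroup (MulAut A)) : Subgroup A where
  carrier := {a | ∀ σ ∈ P, σ a = a}
  one_mem' := fun σ _ => map_one σ
  mul_mem' := fun {a b} ha hb σ hσ => by rw [map_mul, ha σ hσ, hb σ hσ]
  inv_mem' := fun {a} ha σ hσ => by rw [map_inv, ha σ hσ]

theorem fix_modEq {p : ℕ} [Fact p.Prime] {P : Subgroup (MulAut A)} (hP : IsPGroup p ↥P) (F : Subgroup A)
    (hF : ∀ σ ∈ P, ∀ a ∈ F, σ a ∈ F) : Nat.card ↥F ≡ Nat.card ↥(F ⊓ fixA P) [MOD p] := by
  letI : MulAction ↥P ↥F :=
    { smul := fun σ a => ⟨(σ : MulAut A) a, hF σ σ.2 a a.2⟩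
      one_smul := fun a => rfl
      mul_smul := fun σ τ a => rfl }
  have h := hP.card_modEq_card_fixedPoints ↥F
  have e : Nat.card (MulAction.fixedPoints ↥P ↥F) = Nat.card ↥(F ⊓ fixA P) :=
    Nat.card_congr
      { toFun := fun a => ⟨a.1, a.1.2, fun σ hσ => congrArg Subtype.val (a.2 ⟨σ, hσ⟩)⟩
        invFun := fun a => ⟨⟨a, a.2.1⟩, fun σ => Subtype.ext (a.2.2 σ σ.2)⟩
        left_inv := fun a => rfl
        right_inv := fun a => rfl }
  rwa [e] at h

theorem card_pow_two {k : ℕ} (hA : Nat.card A = 2 ^ k) (F : Subgroup A) : ∃ j, j ≤ k ∧ Nat.card ↥F = 2 ^ j :=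
  (Nat.dvd_prime_pow Nat.prime_two).mp (hA ▸ F.card_subgroup_dvd_card)

theorem free_dvd (K : Subgroup (MulAut A)) (S : Set A) (hinv : ∀ σ ∈ K, ∀ a ∈ S, σ a ∈ S)
    (hfree : ∀ σ ∈ K, ∀ a ∈ S, σ a = a → σ = 1) : Nat.card ↥K ∣ S.ncard := by
  letI : MulAction ↥K ↥S :=
    { smul := fun σ a => ⟨(σ : MulAut A) a, hinv σ σ.2 a a.2⟩
      one_smul := fun a => rfl
      mul_smul := fun σ τ a => rfl }
  haveI : Fintype (MulAction.orbitRel.Quotient ↥K ↥S) := Fintype.ofFinite _
  rw [← Nat.card_coe_set_eq, Nat.card_congr (MulAction.selfEquivSigmaOrbits ↥K ↥S), Nat.card_sigma]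
  refine Finset.dvd_sum fun o _ => ?_
  have hst : MulAction.stabilizer ↥K o.out = ⊥ := (eq_bot_iff_forall _).mpr fun σ hσ =>
    Subtype.ext (hfree σ σ.2 o.out o.out.2 (congrArg Subtype.val hσ))
  rw [Nat.card_coe_set_eq, ← MulAction.index_stabilizer, hst, index_bot]

theorem pow_two_mod {p k i : ℕ} (hp : p.Prime) (hp2 : p ≠ 2) (hi : i ≤ k) (h : 2 ^ k ≡ 2 ^ i [MOD p]) :
    2 ^ (k - i) % p = 1 := by
  have hcop : Nat.Coprime p (2 ^ i) := ((Nat.coprime_primes hp Nat.prime_two).mpr hp2).pow_right i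
  have h2 : 2 ^ i * 2 ^ (k - i) ≡ 2 ^ i * 1 [MOD p] := by rwa [mul_one, ← pow_add, show i + (k - i) = k by omega]
  have h3 : 2 ^ (k - i) ≡ 1 [MOD p] := h2.cancel_left_of_coprime hcop
  rwa [Nat.ModEq, Nat.mod_eq_of_lt hp.one_lt] at h3

theorem no_irred {p k : ℕ} (hp : p.Prime) (hp2 : p ≠ 2) (hA : Nat.card A = 2 ^ k)
    (hord : ∀ j < k, 1 ≤ j → 2 ^ j % p ≠ 1) (X : Subgroup (MulAut A)) (hdvd : p ∣ Nat.card ↥X)
    (hsq : ¬ p ^ 2 ∣ Nat.card ↥X)
    (hnum : ∀ c d r, c ∣ 2 ^ k - 1 → p ∣ c → d ∣ p - 1 → c * d * r = Nat.card ↥X → r % p ≠ 1) : False := by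
  haveI := Fact.mk hp
  obtain ⟨σ, hσ⟩ := exists_prime_orderOf_dvd_card' (G := ↥X) p hdvd
  have hZc : Nat.card ↥(zpowers σ) = p := (Nat.card_zpowers σ).trans hσ
  let P : Subgroup (MulAut A) := (zpowers σ).map X.subtype
  have hP : IsPGroup p ↥P := (IsPGroup.of_card (n := 1) (by rw [hZc, pow_one])).map _
  have hσP : (σ : MulAut A) ∈ P := ⟨σ, mem_zpowers σ, rfl⟩
  have hfix : fixA P = ⊥ := by
    obtain ⟨i, hi, hFi⟩ := card_pow_two hA (fixA P)
    have h := fix_modEq hP ⊤ (fun _ _ _ _ => mem_top _)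
    rw [top_inf_eq, card_top, hA, hFi] at h
    have h1 := pow_two_mod hp hp2 hi h
    by_contra hne
    have hi0 : i ≠ 0 := fun e => hne (eq_bot_of_card_eq _ (by rw [hFi, e, pow_zero]))
    rcases eq_or_ne i k with rfl | hik
    · have htop : fixA P = ⊤ := eq_top_of_card_eq _ (by rw [hFi, hA])
      have h1 : σ = 1 := Subtype.ext (MulEquiv.ext fun a => (htop ▸ mem_top a : a ∈ fixA P) _ hσP)
      rw [h1, orderOf_one] at hσ
      exact hp.ne_one hσ.symm
    · exact hord (k - i) (by omega) (by omega) h1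
  have hcent : Nat.card ↥(centralizer ({σ} : Set ↥X)) ∣ 2 ^ k - 1 := by
    rw [← card_map_of_injective X.subtype_injective]
    have hS : ({a | a ≠ 1} : Set A).ncard = 2 ^ k - 1 := by
      rw [show ({a | a ≠ 1} : Set A) = ({1} : Set A)ᶜ from rfl, Set.ncard_compl, Set.ncard_singleton, hA]
    rw [← hS]
    refine free_dvd _ _ (fun τ _ a ha e => ha (τ.injective (e.trans (map_one τ).symm))) ?_
    rintro _ ⟨τ, hτ, rfl⟩ a ha hτa
    let F : Subgroup A :=
      { carrier := {b | (τ : MulAut A) b = b}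
        one_mem' := map_one _
        mul_mem' := fun {a b} ha hb => by
          show (τ : MulAut A) (a * b) = a * b
          rw [map_mul, show (τ : MulAut A) a = a from ha, show (τ : MulAut A) b = b from hb]
        inv_mem' := fun {a} ha => by
          show (τ : MulAut A) a⁻¹ = a⁻¹
          rw [map_inv, show (τ : MulAut A) a = a from ha] }
    have hFinv : ∀ π ∈ P, ∀ b ∈ F, π b ∈ F := by
      rintro _ ⟨π, hπ, rfl⟩ b hb
      have hc : Commute τ π := by
        obtain ⟨n, rfl⟩ := mem_zpowers_iff.mp hπ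
        exact (show Commute τ σ from mem_centralizer_singleton_iff.mp hτ).zpow_right n
      show (τ : MulAut A) ((π : MulAut A) b) = (π : MulAut A) b
      have e := congrArg (fun x : ↥X => (x : MulAut A) b) hc.eq
      simp only [Subgroup.coe_mul, MulAut.mul_apply] at e
      rw [e, show (τ : MulAut A) b = b from hb]
    obtain ⟨j, hj, hFj⟩ := card_pow_two hA F
    have h := fix_modEq hP F hFinv
    rw [hfix, inf_bot_eq, card_bot, hFj] at h
    rw [Nat.ModEq, Nat.mod_eq_of_lt hp.one_lt] at h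
    have hj0 : j ≠ 0 := fun e => ha (by
      have : F = ⊥ := eq_bot_of_card_eq _ (by rw [hFj, e, pow_zero])
      exact mem_bot.mp (this ▸ (hτa : a ∈ F)))
    rcases eq_or_ne j k with rfl | hjk
    · have htop : F = ⊤ := eq_top_of_card_eq _ (by rw [hFj, hA])
      exact MulEquiv.ext fun b => (htop ▸ mem_top b : b ∈ F)
    · exact absurd h (hord j (by omega) (by omega))
  let N := normalizer (zpowers σ : Set ↥X)
  let φ : ↥N →* MulAut ↥(zpowers σ) := (zpowers σ).normalizerMonoidHom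
  have hker : Nat.card φ.ker = Nat.card ↥(centralizer ({σ} : Set ↥X)) := by
    rw [show φ.ker = (centralizer (zpowers σ : Set ↥X)).subgroupOf N from Subgroup.normalizerMonoidHom_ker _,
      Nat.card_congr (subgroupOfEquivOfLe (centralizer_le_normalizer (zpowers σ : Set ↥X))).toEquiv]
    congr 2
    ext x
    rw [mem_centralizer_singleton_iff, mem_centralizer_iff]
    refine ⟨fun h => (h σ (mem_zpowers σ)).symm, fun h y hy => ?_⟩
    obtain ⟨n, rfl⟩ := mem_zpowers_iff.mp hy
    exact ((show Commute x σ from h).zpow_right n).eq.symm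
  have hrange : Nat.card φ.range ∣ p - 1 := by
    haveI : IsCyclic ↥(zpowers σ) := isCyclic_of_prime_card hZc
    have h := φ.range.card_subgroup_dvd_card
    rwa [IsCyclic.card_mulAut, hZc, Nat.totient_prime hp] at h
  have hN : Nat.card ↥N = Nat.card φ.ker * Nat.card φ.range := by
    rw [← φ.ker.card_mul_index, index_ker]
  have hfac : (Nat.card ↥X).factorization p = 1 := by
    refine le_antisymm ?_ (hp.factorization_pos_of_dvd Nat.card_pos.ne' hdvd)
    by_contra! h
    exact hsq ((pow_dvd_pow p h).trans (Nat.ordProj_dvd _ _))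
  let S : Sylow p ↥X := Sylow.ofCard (zpowers σ) (by rw [hZc, hfac, pow_one])
  have hr : N.index % p = 1 := by
    have h := card_sylow_modEq_one p ↥X
    rw [Sylow.card_eq_index_normalizer S, Nat.ModEq, Nat.mod_eq_of_lt hp.one_lt] at h
    exact h
  refine hnum _ _ N.index hcent ?_ hrange ?_ hr
  · have hm : σ ∈ centralizer ({σ} : Set ↥X) := mem_centralizer_singleton_iff.mpr rfl
    have h := orderOf_dvd_natCard (⟨σ, hm⟩ : ↥(centralizer ({σ} : Set ↥X)))
    rwa [Subgroup.orderOf_mk, hσ] at h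
  · rw [← hker, ← hN, N.card_mul_index]

theorem no_eleven (hA : Nat.card A = 2 ^ 11) (X : Subgroup (MulAut A)) (h : 11 ^ 2 ∣ Nat.card ↥X) : False := by
  haveI : Fact (Nat.Prime 11) := ⟨by norm_num⟩
  obtain ⟨P₀, hP₀⟩ := Sylow.exists_subgroup_card_pow_prime 11 h
  let P : Subgroup (MulAut A) := P₀.map X.subtype
  have hPc : Nat.card ↥P = 11 ^ 2 := by rw [card_map_of_injective X.subtype_injective, hP₀]
  have hP : IsPGroup 11 ↥P := IsPGroup.of_card hPc
  have hcases : ∀ Q : Subgroup (MulAut A), IsPGroup 11 ↥Q → Q ≠ ⊥ → Nat.card ↥(fixA Q) = 2 := by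
    intro Q hQ hne
    obtain ⟨i, hi, hFi⟩ := card_pow_two hA (fixA Q)
    have h := fix_modEq hQ ⊤ (fun _ _ _ _ => mem_top _)
    rw [top_inf_eq, card_top, hA, hFi] at h
    have h1 := pow_two_mod (by norm_num) (by norm_num) hi h
    have hi11 : i ≠ 11 := fun e => hne ((eq_bot_iff_forall Q).mpr fun τ hτ => MulEquiv.ext fun a =>
      ((eq_top_of_card_eq (fixA Q) (by rw [hFi, hA, e])) ▸ mem_top a : a ∈ fixA Q) τ hτ)
    have : i = 1 := by
      interval_cases i <;> simp at h1 hi11 ⊢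
    rw [hFi, this]
    rfl
  have hPne : P ≠ ⊥ := fun e => by rw [e, card_bot] at hPc; norm_num at hPc
  have h2 := hcases P hP hPne
  have hfree : ∀ τ ∈ P, ∀ a ∉ fixA P, τ a = a → τ = 1 := by
    intro τ hτ a ha hτa
    by_contra hne
    have hle : zpowers τ ≤ P := zpowers_le.mpr hτ
    have h3 := hcases _ (hP.to_le hle) (fun e => hne (mem_bot.mp (e ▸ mem_zpowers τ)))
    have hsub : fixA P ≤ fixA (zpowers τ) := fun b hb ρ hρ => hb ρ (hle hρ)
    refine ha ((eq_of_le_of_card_ge hsub (by rw [h2, h3])).symm ▸ ?_)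
    intro ρ hρ
    obtain ⟨n, rfl⟩ := mem_zpowers_iff.mp hρ
    have hm : τ ∈ MulAction.stabilizer (MulAut A) a := hτa
    exact (zpow_mem hm n :)
  have hd := free_dvd P ((fixA P : Set A)ᶜ) (fun τ hτ a ha h => ha fun ρ hρ => by
    have e := (h : ∀ σ ∈ P, σ (τ a) = τ a) τ⁻¹ (inv_mem hτ)
    rw [MulAut.inv_apply_self] at e
    have := h ρ hρ
    rw [← e] at this
    exact this) (fun τ hτ a ha => hfree τ hτ a ha)
  rw [Set.ncard_compl, ← Nat.card_coe_set_eq (fixA P : Set A), SetLike.coe_sort_coe, h2, hA, hPc] at hd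
  norm_num at hd

end Cfsg.Lib.JankoFour
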