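import Cfsg.Agent.JankoFour.Orbits
import Cfsg.Agent.JankoFour.PreCount
import Cfsg.Agent.JankoFour.Singer

/-!
Which involutions of the distinguished subgroup are conjugates of the central involution.
-/

set_option autoImplicit false
set_option maxRecDepth 100000
set_option maxHeartbeats 1000000
set_option linter.style.haveILetI false
set_option linter.unusedSectionVars false

namespace Cfsg.Lib.JankoFour

open Subgroup
open Data (W0)

universe u

variable {G : Type u} [Group G] [Finite G]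

theorem cls_two (x : ℕ) : cls x = 0 ∨ cls x = 1 := Nat.mod_two_eq_zero_or_one _

theorem mem_partW {c x : ℕ} : x ∈ partW c ↔ x ∈ W0 ∧ x ≠ 0 ∧ cls x = c := by
  simp [partW, List.mem_filter]

theorem partW_nodup (c : ℕ) : (partW c).Nodup := W0_facts.2.1.filter _

namespace Ctx

variable {z : G} {P : Subgroup G} (C : Ctx z P)

include C

theorem E_le_M {e : G} (he : e ∈ C.E) : e ∈ C.M :=
  ⟨C.le he, fun q hq => ⟨C.conj_mem (C.le he) hq.1, by rw [C.rep_E he q hq.1, mv_idM (C.π_lt q)]; exact hq.2⟩⟩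

theorem M_normalizes {m : G} (hm : m ∈ C.M) : m ∈ normalizer (C.V : Set G) ∧ m * z = z * m := by
  have h : m ∈ normalizer (C.V : Set G) ⊓ centralizer ({z} : Set G) := C.M_eq ▸ hm
  exact ⟨h.1, mem_centralizer_singleton_iff.mp h.2⟩

theorem fuse {a : G} (ha : a ∈ C.V) (hc : IsConj z a) :
    ∃ m ∈ normalizer (C.V : Set G), m * z * m⁻¹ = a := by
  obtain ⟨g, rfl⟩ := isConj_iff.mp hc
  let W : Subgroup G := C.V.map (MulAut.conj g⁻¹).toMonoidHom
  have hWH : W ≤ centralizer ({z} : Set G) := by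
    rintro _ ⟨v, hv, rfl⟩
    have e : z = g⁻¹ * (g * z * g⁻¹) * g := by group
    refine mem_centralizer_singleton_iff.mpr ?_
    show g⁻¹ * v * g⁻¹⁻¹ * z = z * (g⁻¹ * v * g⁻¹⁻¹)
    calc g⁻¹ * v * g⁻¹⁻¹ * z = g⁻¹ * (v * (g * z * g⁻¹)) * g := by group
      _ = g⁻¹ * (g * z * g⁻¹ * v) * g := by rw [(C.V_comm hv ha).eq]
      _ = z * (g⁻¹ * v * g⁻¹⁻¹) := by group
  obtain ⟨h, hh, hS⟩ := C.to_S (A := W) ((IsPGroup.of_card (p := 2) C.V_spec.2.1).map _) hWH
  let U : Subgroup G := C.V.map (MulAut.conj (h * g⁻¹)).toMonoidHom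
  have hUS : U ≤ C.S := by
    rintro _ ⟨v, hv, rfl⟩
    have := hS _ ⟨v, hv, rfl⟩
    show h * g⁻¹ * v * (h * g⁻¹)⁻¹ ∈ C.S
    rwa [show h * g⁻¹ * v * (h * g⁻¹)⁻¹ = h * (g⁻¹ * v * g⁻¹⁻¹) * h⁻¹ by group]
  have hUe : Cfsg.IsElementaryAbelian 2 U := by
    refine ⟨⟨⟨fun a b => Subtype.ext ?_⟩⟩, ?_⟩
    · obtain ⟨x, hx, ex⟩ := a.2
      obtain ⟨y, hy, ey⟩ := b.2
      show (a : G) * b = b * a
      rw [← ex, ← ey, ← map_mul, ← map_mul, (C.V_comm hx hy).eq]
    · rintro _ ⟨x, hx, rfl⟩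
      rw [← map_pow, pow_two, C.V_sq hx, map_one]
  have hUc : Nat.card ↥U = 2 ^ 11 := (card_map_of_injective (MulAut.conj (h * g⁻¹)).injective).trans C.V_spec.2.1
  have hUV : U = C.V := eq_of_le_of_card_ge (C.le_V hUe hUS hUc) (by rw [hUc, C.V_spec.2.1])
  refine ⟨g * h⁻¹, ?_, ?_⟩
  · have hm : h * g⁻¹ ∈ normalizer (C.V : Set G) := Subgroup.mem_normalizer_fintype fun v hv =>
      hUV ▸ (⟨v, hv, rfl⟩ : h * g⁻¹ * v * (h * g⁻¹)⁻¹ ∈ U)
    have := inv_mem hm
    rwa [show (h * g⁻¹)⁻¹ = g * h⁻¹ by group] at this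
  · calc g * h⁻¹ * z * (g * h⁻¹)⁻¹ = g * (h⁻¹ * z) * h * g⁻¹ := by group
      _ = g * (z * h⁻¹) * h * g⁻¹ := by rw [(C.z_comm (inv_mem hh)).eq]
      _ = g * z * g⁻¹ := by group

theorem inv0 {m : G} (hm : m ∈ normalizer (C.V : Set G)) (hz : m * z = z * m) {a : G} (ha : a ∈ C.V ⊓ C.E) :
    m * a * m⁻¹ ∈ C.V ⊓ C.E :=
  ⟨(mem_normalizer_iff.mp hm a).mp ha.1, C.conj_mem (mem_centralizer_singleton_iff.mpr hz) ha.2⟩

theorem coset0 {a : G} (ha : a ∈ C.V) (ha0 : a ∉ C.V ⊓ C.E) {b : G} (hb : b ∈ C.V) (hb0 : b ∉ C.V ⊓ C.E) :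
    ∃ m ∈ normalizer (C.V : Set G), m * z = z * m ∧ m * a * m⁻¹ * b ∈ C.V ⊓ C.E := by
  obtain ⟨m, hm, he⟩ := C.coset ha (fun h => ha0 ⟨ha, h⟩) hb (fun h => hb0 ⟨hb, h⟩)
  obtain ⟨hn, hz⟩ := C.M_normalizes hm
  have hV := C.M_conj_V hm ha
  refine ⟨m, hn, hz, mul_mem hV hb, ?_⟩
  rwa [inv_eq_of_mul_eq_one_right (C.V_sq hV)] at he

theorem qcoset {q : G} (hq : q ∈ C.E) {a : G} (ha : a ∈ C.V) : q * a * q⁻¹ * a ∈ C.V ⊓ C.E := by
  refine ⟨mul_mem (C.M_conj_V (C.E_le_M hq) ha) ha, ?_⟩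
  have h := mul_mem hq (C.conj_mem (C.V_le_H ha) (inv_mem hq))
  rwa [inv_eq_of_mul_eq_one_right (C.V_sq ha), ← mul_assoc, ← mul_assoc] at h

theorem big {a : G} (ha : a ∈ C.V) (ha0 : a ∉ C.V ⊓ C.E) :
    16 ∣ {x : G | ∃ q ∈ C.E, q * a * q⁻¹ = x}.ncard := C.orbit16 ha fun h => ha0 ⟨ha, h⟩

/-- The data for the first count. -/
noncomputable def pre : Pre G z where
  A := C.V
  A0 := C.V ⊓ C.E
  Q := C.E
  sq := fun _ ha => C.V_sq ha
  cardA := by rw [C.V_spec.2.1]; norm_num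
  le0 := inf_le_left
  mem0 := ⟨C.Wt_le_V C.z_mem_Wt, C.X.mem⟩
  ne1 := C.X.ne
  card0 := C.card_Wt
  fuse := fun _ ha hc => C.fuse ha hc
  c := {a : G | a ∈ C.V ⊓ C.E ∧ a ≠ 1 ∧ ¬ IsConj z a}.ncard
  inner := rfl
  inv0 := fun _ hm hz _ ha => C.inv0 hm hz ha
  coset := fun _ ha ha0 _ hb hb0 => C.coset0 ha ha0 hb hb0
  qN := fun _ hq => C.M_normalizes (C.E_le_M hq)
  qcoset := fun _ hq _ ha => C.qcoset hq ha
  big := fun _ ha ha0 => C.big ha ha0

/-- The elements lying liftsOf a list of codes. -/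
def liftsOf (l : List ℕ) : Set G := {a | a ∈ C.E ∧ C.π a ∈ l}

theorem lifts_ncard {l : List ℕ} (hnd : l.Nodup) (hlt : ∀ x ∈ l, x < 4096) : (C.liftsOf l).ncard = 2 * l.length := by
  classical
  choose sec hsecE hsec using fun v : ↥l.toFinset => C.π_surj v.1 (hlt _ (List.mem_toFinset.mp v.2))
  have hb : ∀ b : Bool, (if b then z else 1) ∈ C.E := fun b => by cases b <;> simp [C.X.mem, one_mem]
  have hπ : ∀ (v : ↥l.toFinset) (b : Bool), C.π ((if b then z else 1) * sec v) = v.1 := fun v b => by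
    rw [C.π_mul _ (hb b) _ (hsecE v), (C.π_zero _ (hb b)).mpr (by cases b <;> simp), Nat.zero_xor, hsec]
  let f : ↥l.toFinset × Bool → ↥(C.liftsOf l) := fun t => ⟨(if t.2 then z else 1) * sec t.1,
    mul_mem (hb _) (hsecE _), by rw [hπ]; exact List.mem_toFinset.mp t.1.2⟩
  have hf : Function.Bijective f := by
    constructor
    · rintro ⟨v, b⟩ ⟨v', b'⟩ e
      have e' : (if b then z else 1) * sec v = (if b' then z else 1) * sec v' := congrArg Subtype.val e
      have hv : v = v' := Subtype.ext (by rw [← hπ v b, ← hπ v' b', e'])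
      subst hv
      have e3 := mul_right_cancel e'
      cases b <;> cases b' <;> first | rfl | exact absurd e3 C.X.ne.symm | exact absurd e3 C.X.ne
    · rintro ⟨a, ha, hl⟩
      let v : ↥l.toFinset := ⟨C.π a, List.mem_toFinset.mpr hl⟩
      rcases C.π_eq ha (hsecE v) (hsec v).symm with e | e
      · exact ⟨(v, false), Subtype.ext (by simp [f, ← e])⟩
      · exact ⟨(v, true), Subtype.ext (by simp [f, ← e])⟩
  rw [← Nat.card_coe_set_eq, ← Nat.card_congr (Equiv.ofBijective f hf), Nat.card_prod,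
    Nat.card_eq_fintype_card (α := ↥l.toFinset), Fintype.card_coe, List.toFinset_card_of_nodup hnd]
  simp [mul_comm]

theorem part_ncard : (C.liftsOf (partW 0)).ncard = 90 ∧ (C.liftsOf (partW 1)).ncard = 36 := by
  have h : ∀ c, ∀ x ∈ partW c, x < 4096 := fun c x hx => (W0_spec (mem_partW.mp hx).1).1
  rw [C.lifts_ncard (partW_nodup 0) (h 0), C.lifts_ncard (partW_nodup 1) (h 1), part_facts.1, part_facts.2.1]
  exact ⟨rfl, rfl⟩

theorem part_conj {c : ℕ} {a b : G} (ha : a ∈ C.liftsOf (partW c)) (hb : b ∈ C.liftsOf (partW c)) : IsConj a b := by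
  obtain ⟨h1, h2, h3⟩ := mem_partW.mp ha.2
  obtain ⟨k1, k2, k3⟩ := mem_partW.mp hb.2
  exact C.conj_cls ha.1 hb.1 h2 k2 (W0_spec h1).2.1 (W0_spec k1).2.1 (h3.trans k3.symm)

theorem A0_cases {a : G} (ha : a ∈ C.V ⊓ C.E) :
    a = 1 ∨ a = z ∨ a ∈ C.liftsOf (partW 0) ∨ a ∈ C.liftsOf (partW 1) := by
  by_cases h0 : C.π a = 0
  · rcases (C.π_zero a ha.2).mp h0 with h | h
    exacts [Or.inl h, Or.inr (Or.inl h)]
  · have hW := (C.mem_Wt_iff.mp ha).2
    rcases cls_two (C.π a) with h | h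
    · exact Or.inr (Or.inr (Or.inl ⟨ha.2, mem_partW.mpr ⟨hW, h0, h⟩⟩))
    · exact Or.inr (Or.inr (Or.inr ⟨ha.2, mem_partW.mpr ⟨hW, h0, h⟩⟩))

theorem lifts_A0 {c : ℕ} {a : G} (ha : a ∈ C.liftsOf (partW c)) : a ∈ C.V ⊓ C.E ∧ a ≠ 1 ∧ a ≠ z := by
  obtain ⟨h1, h2, -⟩ := mem_partW.mp ha.2
  exact ⟨C.mem_Wt_iff.mpr ⟨ha.1, h1⟩, fun e => h2 (by rw [e, C.π_one]),
    fun e => h2 ((C.π_zero a ha.1).mpr (Or.inr e))⟩

theorem some_part [IsSimpleGroup G] (hG : ¬ IsMulCommutative G) :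
    ∃ c, (c = 0 ∨ c = 1) ∧ ∀ a ∈ C.liftsOf (partW c), IsConj z a := by
  obtain ⟨g, hgE, hne⟩ := C.exists_conj_E hG
  set w := g * z * g⁻¹
  have hw1 : w ≠ 1 := fun e => C.X.ne (conj_eq_one_iff.mp e)
  have hw0 : C.π w ≠ 0 := fun h => ((C.π_zero w hgE).mp h).elim hw1 hne
  have hw2 : w * w = 1 := by rw [conj_mul, C.X.zz, mul_one, mul_inv_cancel]
  refine ⟨cls (C.π w), cls_two _, fun a ha => (isConj_iff.mpr ⟨g, rfl⟩ : IsConj z w).trans ?_⟩
  obtain ⟨h1, h2, h3⟩ := mem_partW.mp ha.2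
  exact C.conj_cls hgE ha.1 hw0 h2 ((C.π_sq w hgE).mp hw2) (W0_spec h1).2.1 h3.symm

theorem card_normalizer : Nat.card ↥(normalizer (C.V : Set G)) = C.pre.Z.ncard * (138240 * 2048) := by
  letI : MulAction ↥(normalizer (C.V : Set G)) G :=
    MulAction.compHom G ((ConjAct.toConjAct : G ≃* ConjAct G).toMonoidHom.comp (normalizer (C.V : Set G)).subtype)
  have horb : MulAction.orbit ↥(normalizer (C.V : Set G)) z = C.pre.Z := by
    ext x
    constructor
    · rintro ⟨g, rfl⟩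
      exact C.pre.conj_Z g.2 ⟨C.pre.memA, IsConj.refl z⟩
    · intro hx
      obtain ⟨m, hm, e⟩ := C.fuse hx.1 hx.2
      exact ⟨⟨m, hm⟩, e⟩
  have hst : MulAction.stabilizer ↥(normalizer (C.V : Set G)) z = C.M.subgroupOf (normalizer (C.V : Set G)) := by
    ext g
    rw [MulAction.mem_stabilizer_iff, mem_subgroupOf, C.M_eq, mem_inf, mem_centralizer_singleton_iff]
    show (g : G) * z * (g : G)⁻¹ = z ↔ _
    rw [mul_inv_eq_iff_eq_mul]
    exact ⟨fun h => ⟨g.2, h⟩, fun h => h.2⟩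
  have h := (MulAction.stabilizer ↥(normalizer (C.V : Set G)) z).card_mul_index
  rw [MulAction.index_stabilizer, horb, hst,
    Nat.card_congr (subgroupOfEquivOfLe (C.M_eq.le.trans inf_le_left)).toEquiv, C.M_card.1] at h
  rw [← h, mul_comm]

theorem range_card {A : Type u} [Group A] (φ : ↥(normalizer (C.V : Set G)) →* MulAut A)
    (hker : ∀ g : ↥(normalizer (C.V : Set G)), φ g = 1 ↔ (g : G) ∈ C.V) :
    Nat.card φ.range = C.pre.Z.ncard * 138240 := by
  have h := φ.ker.card_mul_index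
  rw [index_ker, show φ.ker = C.V.subgroupOf (normalizer (C.V : Set G)) from Subgroup.ext fun g => by
    rw [MonoidHom.mem_ker, hker, mem_subgroupOf], Nat.card_congr (subgroupOfEquivOfLe (le_normalizer)).toEquiv,
    C.V_spec.2.1, C.card_normalizer] at h
  omega

theorem inner_card [IsSimpleGroup G] (hG : ¬ IsMulCommutative G) :
    {a : G | a ∈ C.V ⊓ C.E ∧ a ≠ 1 ∧ ¬ IsConj z a}.ncard = 36 ∧
      (∀ a ∈ C.liftsOf (partW 0), IsConj z a) ∧ ∀ a ∈ C.liftsOf (partW 1), ¬ IsConj z a := by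
  classical
  set T0 := {a : G | a ∈ C.V ⊓ C.E ∧ a ≠ 1 ∧ ¬ IsConj z a} with hT0
  obtain ⟨c, hc, hconj⟩ := C.some_part hG
  have hall : ∀ c, (∀ a ∈ C.liftsOf (partW c), IsConj z a) ∨ ∀ a ∈ C.liftsOf (partW c), ¬ IsConj z a := fun c => by
    by_cases h : ∃ a ∈ C.liftsOf (partW c), IsConj z a
    · obtain ⟨a, ha, hza⟩ := h
      exact Or.inl fun b hb => hza.trans (C.part_conj ha hb)
    · push Not at h; exact Or.inr h
  have hsplit : ∀ d e : ℕ, (d = 0 ∧ e = 1 ∨ d = 1 ∧ e = 0) → (∀ a ∈ C.liftsOf (partW d), IsConj z a) →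
      (∀ a ∈ C.liftsOf (partW e), ¬ IsConj z a) → T0 = C.liftsOf (partW e) := by
    intro d e hde hd he
    ext a
    constructor
    · rintro ⟨ha, h1, hn⟩
      rcases C.A0_cases ha with r | r | r | r
      · exact absurd r h1
      · exact absurd (r ▸ IsConj.refl z) hn
      · rcases hde with ⟨rfl, rfl⟩ | ⟨rfl, rfl⟩
        exacts [absurd (hd a r) hn, r]
      · rcases hde with ⟨rfl, rfl⟩ | ⟨rfl, rfl⟩
        exacts [r, absurd (hd a r) hn]
    · intro ha
      exact ⟨(C.lifts_A0 ha).1, (C.lifts_A0 ha).2.1, he a ha⟩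
  obtain ⟨p0, p1⟩ := C.part_ncard
  rcases hall 0 with h0 | h0 <;> rcases hall 1 with h1 | h1
  rotate_left
  · exact ⟨by rw [hsplit 0 1 (Or.inl ⟨rfl, rfl⟩) h0 h1, p1], h0, h1⟩
  rotate_left 2
  all_goals exfalso
  all_goals
    obtain ⟨x, hx, hx0⟩ : ∃ x ∈ C.pre.A, x ∉ C.pre.A0 := by
      by_contra h
      push Not at h
      have := Subgroup.card_le_of_le h
      rw [C.pre.cardA, C.pre.card0] at this
      omega
    obtain ⟨i, hi⟩ := C.pre.fib_dvd hx hx0
    have hT := C.pre.card_eq_fib hx hx0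
    have hC := C.pre.card_classes
    have hbound : (C.pre.fib x).ncard ≤ 128 :=
      (Set.ncard_le_ncard_of_injOn (t := (C.pre.A0 : Set G)) (fun y => x * y) (fun y hy => hy.2)
        (fun y _ y' _ h => mul_left_cancel h) (Set.toFinite _)).trans_eq
        (by rw [← Nat.card_coe_set_eq, SetLike.coe_sort_coe, C.pre.card0])
    have hcv : C.pre.c = T0.ncard := rfl
    have hi8 : i ≤ 8 := by omega
    have hkill : ∀ p, p.Prime → p ≠ 2 → p ∣ C.pre.Z.ncard → (∀ k < 12, 1 ≤ k → (2 ^ k) % p ≠ 1) → False :=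
      fun p hp hp2 hd hno => by
        haveI := Fact.mk hp
        obtain ⟨k, k1, k2, k3⟩ := C.pre.prime_Z hp2 hd
        exact hno k (by omega) k1 k3
  · -- both parts
    have hT00 : T0.ncard = 0 := by
      rw [Set.ncard_eq_zero (Set.toFinite _), Set.eq_empty_iff_forall_notMem]
      rintro a ⟨ha, a1, hn⟩
      rcases C.A0_cases ha with r | r | r | r
      exacts [a1 r, hn (r ▸ IsConj.refl z), hn (h0 a r), hn (h1 a r)]
    have hZ : C.pre.Z.ncard = 2047 - 240 * i := by omega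
    have hNV : ∀ g : ↥(normalizer (C.V : Set G)), C.V.normalizerMonoidHom g = 1 ↔ (g : G) ∈ C.V := fun g => by
      rw [← MonoidHom.mem_ker, Subgroup.normalizerMonoidHom_ker, mem_subgroupOf]
      exact ⟨fun h => C.centralizer_V h, fun h => mem_centralizer_iff.mpr fun v hv => (C.V_comm hv h).eq⟩
    have hX := C.range_card _ hNV
    have hVc : Nat.card ↥C.V = 2 ^ 11 := C.V_spec.2.1
    interval_cases i
    · -- every involution
      rw [hZ] at hX
      refine no_irred (p := 89) (by norm_num) (by norm_num) hVc (by decide) _ (by rw [hX]; norm_num)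
        (by rw [hX]; norm_num) ?_
      intro a d r ha hpa hd hcdr
      rw [hX] at hcdr
      obtain ⟨a', rfl⟩ := hpa
      have ha' : a' ∣ 23 := Nat.dvd_of_mul_dvd_mul_left (show 0 < 89 by norm_num) (by norm_num at ha ⊢; exact ha)
      have h2 : d ∣ 23 * 138240 := Dvd.intro_left (a' * r) (by
        refine Nat.eq_of_mul_eq_mul_left (show 0 < 89 by norm_num) ?_
        rw [show 89 * (a' * r * d) = 89 * a' * d * r by ring, hcdr])
      rcases (Nat.dvd_prime (by norm_num)).mp ha' with rfl | rfl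
      all_goals
        have hd8 : d ∣ 8 := by
          exact (Nat.dvd_gcd hd h2).trans (by norm_num)
        have := Nat.le_of_dvd (by norm_num) hd8
        interval_cases d <;> omega
    · exact hkill 13 (by norm_num) (by norm_num) (by rw [hZ]; norm_num) (by decide)
    · exact hkill 1567 (by norm_num) (by norm_num) (by rw [hZ]) (by decide)
    · exact hkill 1327 (by norm_num) (by norm_num) (by rw [hZ]) (by decide)
    · exact hkill 1087 (by norm_num) (by norm_num) (by rw [hZ]) (by decide)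
    · refine no_eleven (hVc.trans (by norm_num)) C.V.normalizerMonoidHom.range ?_
      rw [hX, hZ]; norm_num
    · exact hkill 607 (by norm_num) (by norm_num) (by rw [hZ]) (by decide)
    · exact hkill 367 (by norm_num) (by norm_num) (by rw [hZ]) (by decide)
    · -- the inner part only
      have hsub : ∀ a ∈ C.V ⊓ C.E, a ≠ 1 → a ∈ C.pre.Z := fun a ha a1 => ⟨ha.1, by
        rcases C.A0_cases ha with r | r | r | r
        exacts [absurd r a1, r ▸ IsConj.refl z, h0 a r, h1 a r]⟩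
      have hA0Z : (((C.V ⊓ C.E : Subgroup G) : Set G) \ {1}) = C.pre.Z := by
        refine Set.eq_of_subset_of_ncard_le (fun a ha => hsub a ha.1 ha.2) ?_ (Set.toFinite _)
        rw [hZ, Set.ncard_diff (Set.singleton_subset_iff.mpr (one_mem (C.V ⊓ C.E))), ← Nat.card_coe_set_eq,
          SetLike.coe_sort_coe, C.card_Wt, Set.ncard_singleton]
      have hle : normalizer (C.V : Set G) ≤ normalizer ((C.V ⊓ C.E : Subgroup G) : Set G) := fun g hg =>
        Subgroup.mem_normalizer_fintype fun a ha => by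
          rcases eq_or_ne a 1 with rfl | a1
          · simp [one_mem]
          · have h : g * a * g⁻¹ ∈ C.pre.Z := C.pre.conj_Z hg (hsub a ha a1)
            rw [← hA0Z] at h
            exact h.1
      let φ : ↥(normalizer (C.V : Set G)) →* MulAut ↥(C.V ⊓ C.E) :=
        (C.V ⊓ C.E).normalizerMonoidHom.comp (Subgroup.inclusion hle)
      have hφ : ∀ g : ↥(normalizer (C.V : Set G)), φ g = 1 ↔ (g : G) ∈ C.V := by
        intro g
        rw [show φ g = (C.V ⊓ C.E).normalizerMonoidHom (Subgroup.inclusion hle g) from rfl, ← MonoidHom.mem_ker,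
          Subgroup.normalizerMonoidHom_ker, mem_subgroupOf]
        constructor
        · intro h
          refine C.mem_V_of_comm ?_ fun q hq => (mem_centralizer_iff.mp h q (C.mem_Wt_iff.mpr hq)).symm
          exact mem_centralizer_singleton_iff.mpr (mem_centralizer_iff.mp h z C.pre.mem0).symm
        · exact fun h => mem_centralizer_iff.mpr fun v hv => (C.V_comm hv.1 h).eq
      have hX' := C.range_card φ hφ
      rw [hZ] at hX'
      refine no_irred (A := ↥(C.V ⊓ C.E)) (p := 127) (k := 7) (by norm_num) (by norm_num) (C.card_Wt.trans (by norm_num))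
        (by decide) _ (by rw [hX']; norm_num) (by rw [hX']; norm_num) ?_
      intro a d r ha hpa hd hcdr
      rw [hX'] at hcdr
      have ha' : a = 127 := Nat.dvd_antisymm (by norm_num at ha; exact ha) hpa
      subst ha'
      have hd18 : d ∣ 18 := by
        have h2 : d ∣ 138240 := Dvd.intro r (by norm_num at hcdr ⊢; linarith)
        exact (Nat.dvd_gcd hd h2).trans (by norm_num)
      have := Nat.le_of_dvd (by norm_num) hd18
      interval_cases d <;> omega
  · -- the part of thirty-six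
    have hT90 : T0.ncard = 90 := by rw [hsplit 1 0 (Or.inr ⟨rfl, rfl⟩) h1 h0, p0]
    have hZ : C.pre.Z.ncard = 1957 - 240 * i := by omega
    interval_cases i
    · exact hkill 19 (by norm_num) (by norm_num) (by rw [hZ]; norm_num) (by decide)
    · exact hkill 101 (by norm_num) (by norm_num) (by rw [hZ]; norm_num) (by decide)
    · exact hkill 211 (by norm_num) (by norm_num) (by rw [hZ]; norm_num) (by decide)
    · exact hkill 1237 (by norm_num) (by norm_num) (by rw [hZ]) (by decide)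
    · exact hkill 997 (by norm_num) (by norm_num) (by rw [hZ]) (by decide)
    · exact hkill 757 (by norm_num) (by norm_num) (by rw [hZ]) (by decide)
    · exact hkill 47 (by norm_num) (by norm_num) (by rw [hZ]; norm_num) (by decide)
    · exact hkill 277 (by norm_num) (by norm_num) (by rw [hZ]) (by decide)
    · exact hkill 37 (by norm_num) (by norm_num) (by rw [hZ]) (by decide)
  · -- no part
    obtain ⟨a, ha⟩ : (C.liftsOf (partW c)).Nonempty := Set.nonempty_of_ncard_ne_zero (by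
      rcases hc with rfl | rfl
      · rw [p0]; norm_num
      · rw [p1]; norm_num)
    rcases hc with rfl | rfl
    exacts [h0 a ha (hconj a ha), h1 a ha (hconj a ha)]

end Ctx

end Cfsg.Lib.JankoFour
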