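import Cfsg.Agent.JankoFour.Involutions
import Cfsg.Agent.Golay.M24

/-!
A section of the action of the normaliser of the distinguished subgroup on the twenty-four points, and the pairs of
points attached to the elements of the second class.
-/

set_option autoImplicit false
set_option maxRecDepth 100000
set_option maxHeartbeats 1000000
set_option linter.style.haveILetI false
set_option linter.unusedSectionVars false

namespace Cfsg.Lib.JankoFour

open Subgroup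
open scoped Pointwise

universe u

variable {G : Type u} [Group G] [Finite G]

/-- The base pair of points. -/
def pairZero : Set Cfsg.GolayPt := {none, some 0}

namespace Ctx

variable {z : G} {P : Subgroup G}

/-- A complement together with the action on the points and a base element of the second class. -/
structure Sec (C : Ctx z P) where
  φ : ↥(normalizer (C.V : Set G)) →* Equiv.Perm Cfsg.GolayPt
  range_le : ∀ g, φ g ∈ Cfsg.M24
  ker_iff : ∀ g : ↥(normalizer (C.V : Set G)), φ g = 1 ↔ (g : G) ∈ C.V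
  t₀ : G
  t₀_mem : t₀ ∈ C.V
  t₀_ne : t₀ ≠ 1
  t₀_T : ¬ IsConj z t₀
  stab : ∀ g : ↥(normalizer (C.V : Set G)),
    (g : G) * t₀ * (g : G)⁻¹ = t₀ ↔ φ g • pairZero = pairZero
  trans : ∀ u ∈ C.V, u ≠ 1 → ¬ IsConj z u → ∃ g : ↥(normalizer (C.V : Set G)), (g : G) * t₀ * (g : G)⁻¹ = u
  K : Subgroup G
  KN : K ≤ normalizer (C.V : Set G)
  KV : K ⊓ C.V = ⊥
  sup : K ⊔ C.V = normalizer (C.V : Set G)
  l : ↥Cfsg.M24 →* G
  l_mem : ∀ m, l m ∈ K
  φ_l : ∀ m, φ ⟨l m, KN (l_mem m)⟩ = m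
  l_surj : ∀ k ∈ K, ∃ m, l m = k

theorem exists_sec [IsSimpleGroup G] (C : Ctx z P) (hG : ¬ IsMulCommutative G) : Nonempty (Sec C) := by
  classical
  obtain ⟨t, ht⟩ := (C.sextet hG).T_nonempty
  obtain ⟨φ, hs, hker, hst⟩ : ∃ φ : ↥(normalizer (C.V : Set G)) →* ↥Cfsg.M24, Function.Surjective φ ∧
      φ.ker = C.V.subgroupOf (normalizer (C.V : Set G)) ∧ ∀ g : ↥(normalizer (C.V : Set G)),
        (g : G) * t * (g : G)⁻¹ = t ↔ (φ g : Equiv.Perm Cfsg.GolayPt) ∈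
          MulAction.stabilizer (Equiv.Perm Cfsg.GolayPt) ({none, some 0} : Set Cfsg.GolayPt) :=
    (C.sextet hG).exists_hom C.large ht
  obtain ⟨K, hKN, hKV, hsup, -⟩ := C.exists_complement hG
  have hk : ∀ x : ↥(normalizer (C.V : Set G)), φ x = 1 ↔ (x : G) ∈ C.V := fun x => by
    rw [← MonoidHom.mem_ker]
    exact (SetLike.ext_iff.mp hker x).trans mem_subgroupOf
  let ψ : ↥K →* ↥Cfsg.M24 := φ.comp (Subgroup.inclusion hKN)
  have hinj : Function.Injective ψ := by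
    rw [← MonoidHom.ker_eq_bot_iff, eq_bot_iff_forall]
    intro x hx
    exact Subtype.ext (mem_bot.mp (hKV ▸ (mem_inf.mpr ⟨x.2, (hk _).mp hx⟩ : (x : G) ∈ K ⊓ C.V)))
  have hsurj : Function.Surjective ψ := fun m => by
    obtain ⟨⟨x, hx⟩, rfl⟩ := hs m
    have hx' : x ∈ ((C.V ⊔ K : Subgroup G) : Set G) := by rw [sup_comm, hsup]; exact hx
    rw [coe_mul_of_right_le_normalizer_left C.V K hKN] at hx'
    obtain ⟨v, hv, k, hk', rfl⟩ := Set.mem_mul.mp hx'
    refine ⟨⟨k, hk'⟩, ?_⟩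
    rw [show (⟨v * k, hx⟩ : ↥(normalizer (C.V : Set G))) = ⟨v, le_normalizer hv⟩ * ⟨k, hKN hk'⟩ from rfl,
      map_mul, (hk _).mpr hv, one_mul]
    rfl
  let e := MulEquiv.ofBijective ψ ⟨hinj, hsurj⟩
  refine ⟨{
    φ := Cfsg.M24.subtype.comp φ
    range_le := fun g => (φ g).2
    ker_iff := fun g => by
      rw [← hk]; exact ⟨fun h => Subtype.ext h, fun h => congrArg Subtype.val h⟩
    t₀ := t
    t₀_mem := ht.1
    t₀_ne := ht.2.1
    t₀_T := ht.2.2
    stab := fun g => (hst g).trans MulAction.mem_stabilizer_iff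
    trans := fun u hu h1 hc => by
      obtain ⟨g, hg, e⟩ := (C.sextet hG).transitive ht (⟨hu, h1, hc⟩ : u ∈ (C.sextet hG).T)
      exact ⟨⟨g, hg⟩, e⟩
    K := K
    KN := hKN
    KV := hKV
    sup := hsup
    l := K.subtype.comp e.symm.toMonoidHom
    l_mem := fun m => (e.symm m).2
    φ_l := fun m => congrArg Subtype.val (e.apply_symm_apply m)
    l_surj := fun k hk' => ⟨e ⟨k, hk'⟩, congrArg Subtype.val (e.symm_apply_apply ⟨k, hk'⟩)⟩ }⟩

variable {C : Ctx z P} (S : Sec C)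

namespace Sec

theorem dec {x : G} (hx : x ∈ normalizer (C.V : Set G)) : ∃ v ∈ C.V, ∃ m, x = v * S.l m := by
  have hx' : x ∈ ((C.V ⊔ S.K : Subgroup G) : Set G) := by rw [sup_comm, S.sup]; exact hx
  rw [coe_mul_of_right_le_normalizer_left C.V S.K S.KN] at hx'
  obtain ⟨v, hv, k, hk, rfl⟩ := Set.mem_mul.mp hx'
  obtain ⟨m, rfl⟩ := S.l_surj k hk
  exact ⟨v, hv, m, rfl⟩

theorem φ_mul_l {v : G} (hv : v ∈ C.V) (m : ↥Cfsg.M24) (h : v * S.l m ∈ normalizer (C.V : Set G)) :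
    S.φ ⟨v * S.l m, h⟩ = m := by
  rw [show (⟨v * S.l m, h⟩ : ↥(normalizer (C.V : Set G))) = ⟨v, le_normalizer hv⟩ * ⟨S.l m, S.KN (S.l_mem m)⟩ from rfl,
    map_mul, (S.ker_iff _).mpr hv, one_mul, S.φ_l]

theorem l_injective : Function.Injective S.l := fun a b e => Subtype.ext (by
  rw [← S.φ_l a, ← S.φ_l b]
  exact congrArg S.φ (Subtype.ext e))

theorem l_mem_V {m : ↥Cfsg.M24} (h : S.l m ∈ C.V) : m = 1 := by
  refine S.l_injective ?_
  rw [map_one]
  exact mem_bot.mp (S.KV ▸ (mem_inf.mpr ⟨S.l_mem m, h⟩ : S.l m ∈ S.K ⊓ C.V))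

open _root_.Classical in
/-- The pair of points of an element of the second class. -/
noncomputable def pairOf (u : G) : Set Cfsg.GolayPt :=
  if h : ∃ g : ↥(normalizer (C.V : Set G)), (g : G) * S.t₀ * (g : G)⁻¹ = u then S.φ h.choose • pairZero else ∅

theorem pairOf_conj (g : ↥(normalizer (C.V : Set G))) :
    S.pairOf ((g : G) * S.t₀ * (g : G)⁻¹) = S.φ g • pairZero := by
  have h : ∃ k : ↥(normalizer (C.V : Set G)), (k : G) * S.t₀ * (k : G)⁻¹ = (g : G) * S.t₀ * (g : G)⁻¹ := ⟨g, rfl⟩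
  rw [pairOf, dif_pos h]
  have e := h.choose_spec
  have h1 : S.φ (g⁻¹ * h.choose) • pairZero = pairZero := (S.stab _).mp (by
    simp only [Subgroup.coe_mul, Subgroup.coe_inv, mul_inv_rev, inv_inv]
    rw [show (g : G)⁻¹ * h.choose * S.t₀ * ((h.choose : G)⁻¹ * g) = (g : G)⁻¹ * (h.choose * S.t₀ * (h.choose : G)⁻¹) * g by
      group, e]
    group)
  rw [map_mul, map_inv, mul_smul, inv_smul_eq_iff] at h1
  exact h1

theorem pairOf_inj {u u' : G} (hu : u ∈ C.V) (h1 : u ≠ 1) (hc : ¬ IsConj z u) (hu' : u' ∈ C.V) (h1' : u' ≠ 1)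
    (hc' : ¬ IsConj z u') (e : S.pairOf u = S.pairOf u') : u = u' := by
  obtain ⟨g, rfl⟩ := S.trans u hu h1 hc
  obtain ⟨k, rfl⟩ := S.trans u' hu' h1' hc'
  rw [S.pairOf_conj, S.pairOf_conj] at e
  have h := (S.stab (k⁻¹ * g)).mpr (by rw [map_mul, map_inv, mul_smul, e, inv_smul_smul])
  simp only [Subgroup.coe_mul, Subgroup.coe_inv, mul_inv_rev, inv_inv] at h
  calc (g : G) * S.t₀ * (g : G)⁻¹ = k * ((k : G)⁻¹ * g * S.t₀ * ((g : G)⁻¹ * k)) * (k : G)⁻¹ := by group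
    _ = _ := by rw [h]

theorem pairOf_smul (g : ↥(normalizer (C.V : Set G))) {u : G} (hu : u ∈ C.V) (h1 : u ≠ 1) (hc : ¬ IsConj z u) :
    S.pairOf ((g : G) * u * (g : G)⁻¹) = S.φ g • S.pairOf u := by
  obtain ⟨k, rfl⟩ := S.trans u hu h1 hc
  rw [S.pairOf_conj, ← mul_smul, ← map_mul, ← S.pairOf_conj]
  congr 1
  simp [mul_assoc]

/-- An element commutes with a member of the second class exactly if it fixes the pair. -/
theorem fix_iff (g : ↥(normalizer (C.V : Set G))) {u : G} (hu : u ∈ C.V) (h1 : u ≠ 1) (hc : ¬ IsConj z u) :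
    (g : G) * u * (g : G)⁻¹ = u ↔ S.φ g • S.pairOf u = S.pairOf u := by
  rw [← S.pairOf_smul g hu h1 hc]
  refine ⟨fun e => by rw [e], fun e => ?_⟩
  exact S.pairOf_inj ((mem_normalizer_iff.mp g.2 u).mp hu) (fun h => h1 (conj_eq_one_iff.mp h))
    (fun h => hc (h.trans (isConj_iff.mpr ⟨g, rfl⟩ : IsConj u ((g : G) * u * (g : G)⁻¹)).symm)) hu h1 hc e

/-- Every pair of distinct points comes from an element of the second class. -/
theorem exists_pair {a b : Cfsg.GolayPt} (hab : a ≠ b) :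
    ∃ u ∈ C.V, u ≠ 1 ∧ ¬ IsConj z u ∧ S.pairOf u = {a, b} := by
  haveI := Cfsg.Lib.Golay.le_five 2 (by norm_num)
  obtain ⟨m, hma, hmb⟩ : ∃ m : ↥Cfsg.M24, m • (none : Cfsg.GolayPt) = a ∧ m • (some 0 : Cfsg.GolayPt) = b :=
    MulAction.is_two_pretransitive_iff.mp inferInstance (by simp) hab
  let g : ↥(normalizer (C.V : Set G)) := ⟨S.l m, S.KN (S.l_mem m)⟩
  refine ⟨(g : G) * S.t₀ * (g : G)⁻¹, (mem_normalizer_iff.mp g.2 _).mp S.t₀_mem,
    fun h => S.t₀_ne (conj_eq_one_iff.mp h),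
    fun h => S.t₀_T (h.trans (isConj_iff.mpr ⟨g, rfl⟩ : IsConj S.t₀ ((g : G) * S.t₀ * (g : G)⁻¹)).symm), ?_⟩
  rw [S.pairOf_conj, S.φ_l, pairZero, Set.smul_set_insert, Set.smul_set_singleton, ← hma, ← hmb]
  rfl

theorem pairOf_spec {u : G} (hu : u ∈ C.V) (h1 : u ≠ 1) (hc : ¬ IsConj z u) :
    ∃ a b, a ≠ b ∧ S.pairOf u = {a, b} := by
  obtain ⟨g, rfl⟩ := S.trans u hu h1 hc
  refine ⟨S.φ g none, S.φ g (some 0), fun h => by simpa using (S.φ g).injective h, ?_⟩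
  rw [S.pairOf_conj, pairZero, Set.smul_set_insert, Set.smul_set_singleton]
  rfl

/-- The order of a subgroup of the normaliser from its image on the points. -/
theorem card_of_image {R : Subgroup G} (hR : R ≤ normalizer (C.V : Set G)) {F : Subgroup (Equiv.Perm Cfsg.GolayPt)}
    (h1 : ∀ (n : G) (hn : n ∈ R), S.φ ⟨n, hR hn⟩ ∈ F)
    (h2 : ∀ m ∈ F, ∃ (n : G) (hn : n ∈ R), S.φ ⟨n, hR hn⟩ = m) :
    Nat.card R = Nat.card ↥(C.V ⊓ R) * Nat.card F := by
  set R' := R.subgroupOf (normalizer (C.V : Set G)) with hR'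
  have h := (S.φ.comp R'.subtype).ker.card_mul_index
  rw [index_ker, MonoidHom.range_comp, range_subtype] at h
  rw [← Nat.card_congr (subgroupOfEquivOfLe hR).toEquiv, ← hR', ← h]
  congr 1
  · exact Nat.card_congr ⟨fun x => ⟨x.1.1.1, (S.ker_iff _).mp x.2, x.1.2⟩,
      fun x => ⟨⟨⟨x.1, hR x.2.2⟩, x.2.2⟩, (S.ker_iff _).mpr x.2.1⟩, fun _ => rfl, fun _ => rfl⟩
  · refine congrArg (fun A : Subgroup (Equiv.Perm Cfsg.GolayPt) => Nat.card A) (SetLike.ext fun m => ⟨?_, fun hm => ?_⟩)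
    · rintro ⟨n, hn, rfl⟩
      exact h1 _ hn
    · obtain ⟨n, hn, rfl⟩ := h2 m hm
      exact ⟨⟨n, hR hn⟩, hn, rfl⟩

end Sec

end Ctx

end Cfsg.Lib.JankoFour
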