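import Cfsg.Agent.JankoFour.FiveStructure
import Cfsg.Agent.JankoFour.Section

/-!
A Frobenius group of order twenty containing a subgroup of order five.
-/

set_option autoImplicit false
set_option maxRecDepth 100000
set_option maxHeartbeats 1000000
set_option linter.style.haveILetI false
set_option linter.unusedSectionVars false

namespace Cfsg.Lib.JankoFour

open Subgroup
open Cfsg.Lib.Golay.OrderFive (x5 n5 x5_mem x5_order n5_mem)
open scoped Pointwise

universe u

variable {G : Type u} [Group G] [Finite G]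

theorem n5_four : n5 ^ 4 = 1 := by decide +kernel

namespace Ctx

namespace Five

variable {z : G} {P : Subgroup G} {C : Ctx z P} (F : C.Five)

include F

theorem fac_group [IsSimpleGroup G] (hG : ¬ IsMulCommutative G) : (Nat.card G).factorization 5 = 1 := by
  have hp : Nat.Prime 5 := by norm_num
  have h1 := (hp.dvd_iff_one_le_factorization Nat.card_pos.ne').mp
    (show 5 ∣ Nat.card G from F.s_order ▸ orderOf_dvd_natCard F.s)
  by_contra hne
  refine F.not_sq_dvd hG (show 5 ^ 2 ∣ Nat.card G from ?_)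
  exact (hp.pow_dvd_iff_le_factorization Nat.card_pos.ne').mpr (by omega)

theorem exists_frobenius [IsSimpleGroup G] (hG : ¬ IsMulCommutative G) :
    ∃ R : Subgroup G, zpowers F.s ≤ R ∧ R ≤ normalizer (zpowers F.s : Set G) ∧ Nat.card ↥R = 20 ∧
      R ⊓ centralizer (zpowers F.s : Set G) = zpowers F.s := by
  classical
  haveI : Fact (Nat.Prime 5) := ⟨by norm_num⟩
  obtain ⟨S⟩ := C.exists_sec hG
  set x : ↥Cfsg.M24 := ⟨x5, x5_mem⟩
  set m : ↥Cfsg.M24 := ⟨n5, n5_mem.1⟩
  have hmx : m * x * m⁻¹ = x ^ 2 := Subtype.ext Cfsg.Lib.Golay.OrderFive.n5_conj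
  have hu : Nat.card (zpowers (S.l x)) = 5 := by
    rw [Nat.card_zpowers, orderOf_injective S.l S.l_injective, ← Subgroup.orderOf_coe]
    exact x5_order
  obtain ⟨g, -, hg⟩ := conj_of_prime_card (H := (⊤ : Subgroup G)) le_top le_top hu F.card_s
    (by rw [card_top]; exact F.fac_group hG)
  set Q := zpowers F.s with hQ
  set u := g * S.l x * g⁻¹ with hu'
  set n := g * S.l m * g⁻¹ with hn'
  have hun : n * u * n⁻¹ = u ^ 2 := by
    rw [hn', hu', show g * S.l m * g⁻¹ * (g * S.l x * g⁻¹) * (g * S.l m * g⁻¹)⁻¹ =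
      g * (S.l m * S.l x * (S.l m)⁻¹) * g⁻¹ by group, ← map_inv, ← map_mul, ← map_mul, hmx, map_pow, conj_pow]
  obtain ⟨a, ha⟩ := mem_zpowers_iff.mp (show F.s ∈ zpowers u by
    rw [hu', show zpowers (g * S.l x * g⁻¹) = Q by
      rw [← hg, MonoidHom.map_zpowers]; rfl]
    exact mem_zpowers _)
  have hns : n * F.s * n⁻¹ = F.s ^ 2 := by
    rw [← ha, ← conj_zpow, hun]
    show (u ^ 2) ^ a = (u ^ a) ^ 2
    simp only [← zpow_natCast, ← zpow_mul, mul_comm]
  have hn4 : n ^ 4 = 1 := by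
    rw [hn', conj_pow, ← map_pow, show m ^ 4 = 1 from Subtype.ext n5_four, map_one, mul_one, mul_inv_cancel]
  have hnN : n ∈ normalizer (Q : Set G) := by
    refine Cfsg.Lib.Golay.mem_normalizer_zpowers.mpr ?_
    rw [hns]
    exact pow_mem (mem_zpowers _) 2
  have hpow : ∀ j : ℕ, n ^ j * F.s * (n ^ j)⁻¹ = F.s ^ (2 ^ j) := fun j => by
    induction j with
    | zero => rw [pow_zero, pow_zero, pow_one, one_mul, inv_one, mul_one]
    | succ j ih =>
      rw [pow_succ' n, show n * n ^ j * F.s * (n * n ^ j)⁻¹ = n * (n ^ j * F.s * (n ^ j)⁻¹) * n⁻¹ by group, ih,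
        ← conj_pow, hns, ← pow_mul, ← pow_succ']
  have hone : ∀ j < 4, n ^ j ∈ centralizer (Q : Set G) → j = 0 := by
    intro j hj h
    have h' := mem_centralizer_zpowers.mp h
    have h1 := hpow j
    rw [h'.eq, mul_inv_cancel_right] at h1
    have h2 : F.s ^ 1 = F.s ^ (2 ^ j) := by rw [pow_one]; exact h1
    rw [pow_eq_pow_iff_modEq, F.s_order] at h2
    revert h2
    interval_cases j <;> decide
  have hQC : Q ≤ centralizer (Q : Set G) := zpowers_le.mpr (mem_centralizer_zpowers.mpr (Commute.refl _))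
  have hfour : ∀ k : ℤ, ∃ j < 4, n ^ k = n ^ j := fun k => by
    obtain ⟨r, hr⟩ := (isOfFinOrder_of_finite n).mem_powers_iff_mem_zpowers.mpr (zpow_mem (mem_zpowers n) k)
    refine ⟨r % 4, Nat.mod_lt _ (by norm_num), ?_⟩
    rw [← show n ^ r = n ^ k from hr]
    conv_lhs => rw [← Nat.mod_add_div r 4]
    rw [pow_add, pow_mul, hn4, one_pow, mul_one]
  have hnZ : zpowers n ≤ normalizer (Q : Set G) := zpowers_le.mpr hnN
  have hmem : ∀ w : G, w ∈ Q ⊔ zpowers n ↔ ∃ q ∈ Q, ∃ j < 4, w = q * n ^ j := by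
    intro w
    rw [← SetLike.mem_coe, coe_mul_of_right_le_normalizer_left Q (zpowers n) hnZ, Set.mem_mul]
    constructor
    · rintro ⟨q, hq, y, hy, rfl⟩
      obtain ⟨k, rfl⟩ := mem_zpowers_iff.mp hy
      obtain ⟨j, hj, e⟩ := hfour k
      exact ⟨q, hq, j, hj, by rw [e]⟩
    · rintro ⟨q, hq, j, -, rfl⟩
      exact ⟨q, hq, n ^ j, pow_mem (mem_zpowers n) j, rfl⟩
  refine ⟨Q ⊔ zpowers n, le_sup_left, sup_le le_normalizer hnZ, ?_, ?_⟩
  · let f : ↥Q × Fin 4 → ↥(Q ⊔ zpowers n) := fun t => ⟨t.1 * n ^ (t.2 : ℕ), (hmem _).mpr ⟨_, t.1.2, _, t.2.2, rfl⟩⟩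
    have hf : Function.Bijective f := by
      constructor
      · have key : ∀ {a b : ↥Q} {i j : Fin 4}, i ≤ j → (a : G) * n ^ (i : ℕ) = b * n ^ (j : ℕ) → i = j := by
          intro a b i j hij e
          have h1 : n ^ ((j : ℕ) - i) ∈ centralizer (Q : Set G) := hQC (by
            rw [show n ^ ((j : ℕ) - i) = (b : G)⁻¹ * a by
              rw [← Nat.sub_add_cancel (Fin.le_def.mp hij), pow_add, ← mul_assoc] at e
              rw [mul_right_cancel e, inv_mul_cancel_left]]
            exact mul_mem (inv_mem b.2) a.2)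
          have := hone _ (by omega) h1
          exact Fin.ext (by have := Fin.le_def.mp hij; omega)
        rintro ⟨a, i⟩ ⟨b, j⟩ e
        have e' : (a : G) * n ^ (i : ℕ) = b * n ^ (j : ℕ) := congrArg Subtype.val e
        obtain rfl : i = j := by
          rcases le_total i j with h | h
          exacts [key h e', (key h e'.symm).symm]
        exact Prod.ext (Subtype.ext (mul_right_cancel e')) rfl
      · rintro ⟨w, hw⟩
        obtain ⟨q, hq, j, hj, rfl⟩ := (hmem w).mp hw
        exact ⟨(⟨q, hq⟩, ⟨j, hj⟩), rfl⟩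
    rw [← Nat.card_congr (Equiv.ofBijective f hf), Nat.card_prod, Nat.card_fin, F.card_s]
  · refine le_antisymm ?_ (le_inf le_sup_left hQC)
    rintro w ⟨hw, hc⟩
    obtain ⟨q, hq, j, hj, rfl⟩ := (hmem w).mp hw
    have h := mul_mem (inv_mem (hQC hq)) hc
    rw [inv_mul_cancel_left] at h
    rw [hone j hj h, pow_zero, mul_one]
    exact hq

end Five

end Ctx

end Cfsg.Lib.JankoFour
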