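import Cfsg.Agent.JankoFour.SevenCount
import Mathlib.GroupTheory.SchurZassenhaus

/-!
The centraliser of a subgroup of order seven is its product with the symmetric group of degree five.
-/

set_option autoImplicit false
set_option maxRecDepth 100000
set_option maxHeartbeats 1000000
set_option linter.style.haveILetI false
set_option linter.unusedSectionVars false

namespace Cfsg.Lib.JankoFour

open Subgroup
open Cfsg.Lib.Golay
open scoped Pointwise

universe u

variable {G : Type u} [Group G] [Finite G]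

namespace Ctx

variable {z : G} {P : Subgroup G} {C : Ctx z P} {S : Sec C}

namespace Sec

namespace Trio

variable (T : Trio S)

include T

/-- The centraliser inside the normaliser of the distinguished subgroup permutes the three members transitively. -/
theorem trio_trans {w : G} (hw : w ∈ ({T.t, T.t', T.t''} : Set G)) :
    ∃ n ∈ normalizer (C.V : Set G), n ∈ centralizer (zpowers S.s7 : Set G) ∧ n * w * n⁻¹ = T.t := by
  obtain ⟨-, -, h1, -, -, -, a, b, c, -⟩ := seven_fix_tab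
  have hv := valid_of_fvalid h1
  let gm : ↥Cfsg.M24 := ⟨toP cgSevenG1.1, seven_le.2 (seven_le.1 seven_gens_mem.2)⟩
  have hgN : S.l gm ∈ normalizer (C.V : Set G) := S.KN (S.l_mem _)
  have hgC : S.l gm ∈ centralizer (zpowers S.s7 : Set G) :=
    mem_centralizer_zpowers.mpr (S.l_commute seven_gens_mem.2)
  have key : ∀ {u v : G}, u ∈ C.V → u ≠ 1 → ¬ IsConj z u → v ∈ C.V → v ≠ 1 → ¬ IsConj z v →
      toP cgSevenG1.1 • S.pairOf u = S.pairOf v → S.l gm * u * (S.l gm)⁻¹ = v := by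
    intro u v hu h1 hc hv' h1' hc' e
    refine S.pairOf_inj ((mem_normalizer_iff.mp hgN u).mp hu) (fun h => h1 (conj_eq_one_iff.mp h))
      (fun h => hc (h.trans (isConj_iff.mpr ⟨S.l gm, rfl⟩ : IsConj u (S.l gm * u * (S.l gm)⁻¹)).symm)) hv' h1'
      hc' ?_
    rw [S.pairOf_smul ⟨_, hgN⟩ hu h1 hc, S.φ_l, e]
  obtain ⟨p1, p2, p3⟩ := T.pair
  have g0 : toP cgSevenG1.1 (ptAt 0) = ptAt 5 := by rw [toP_ptAt hv (by norm_num), a]
  have g5 : toP cgSevenG1.1 (ptAt 5) = ptAt 11 := by rw [toP_ptAt hv (by norm_num), b]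
  have g11 : toP cgSevenG1.1 (ptAt 11) = ptAt 0 := by rw [toP_ptAt hv (by norm_num), c]
  have k1 : S.l gm * T.t' * (S.l gm)⁻¹ = T.t := key T.mem.2.1 T.ne.2.1 T.cls.2.1 T.mem.1 T.ne.1 T.cls.1 (by
    rw [p2, p1, Set.smul_set_insert, Set.smul_set_singleton, Equiv.Perm.smul_def, Equiv.Perm.smul_def, g0, g5])
  have k2 : S.l gm * T.t'' * (S.l gm)⁻¹ = T.t' := key T.mem.2.2 T.ne.2.2.1 T.cls.2.2 T.mem.2.1 T.ne.2.1 T.cls.2.1 (by
    rw [p3, p2, Set.smul_set_insert, Set.smul_set_singleton, Equiv.Perm.smul_def, Equiv.Perm.smul_def, g0, g11,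
      Set.pair_comm])
  rcases hw with rfl | rfl | rfl
  · exact ⟨1, one_mem _, one_mem _, by simp⟩
  · exact ⟨S.l gm, hgN, hgC, k1⟩
  · refine ⟨S.l gm * S.l gm, mul_mem hgN hgN, mul_mem hgC hgC, ?_⟩
    rw [show S.l gm * S.l gm * T.t'' * (S.l gm * S.l gm)⁻¹ = S.l gm * (S.l gm * T.t'' * (S.l gm)⁻¹) * (S.l gm)⁻¹
      by group, k2, k1]

theorem centralizer_card [IsSimpleGroup G] (hG : ¬ IsMulCommutative G) :
    Nat.card (centralizer (zpowers S.s7 : Set G)) = 840 := by
  classical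
  obtain ⟨hN, -⟩ := T.counts hG
  obtain ⟨o1, o2, -, -⟩ := T.orders hG
  set N := normalizer (zpowers S.s7 : Set G) with hNdef
  set S7 := zpowers S.s7 with hS7
  haveI : Fact (Nat.Prime 7) := ⟨by norm_num⟩
  have hcyc : IsCyclic ↥S7 := isCyclic_of_prime_card S.s7_card
  have haut : Nat.card (MulAut ↥S7) = 6 := by
    rw [Nat.card_congr (IsCyclic.mulAutMulEquiv ↥S7).toEquiv, S.s7_card, Nat.card_eq_fintype_card,
      ZMod.card_units_eq_totient, Nat.totient_prime (by norm_num)]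
  let f : ↥N →* MulAut ↥S7 := S7.normalizerMonoidHom
  have hker : Nat.card f.ker = Nat.card (centralizer (S7 : Set G)) := by
    rw [show f.ker = (centralizer (S7 : Set G)).subgroupOf N from S7.normalizerMonoidHom_ker]
    exact Nat.card_congr (subgroupOfEquivOfLe (LocalCount.centralizer_le_norm _)).toEquiv
  have h := f.ker.card_mul_index
  rw [index_ker, hker, hN] at h
  have hdvd : Nat.card f.range ∣ 6 := haut ▸ Subgroup.card_subgroup_dvd_card _
  have h3 : 3 ∣ Nat.card f.range := by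
    set Nt := (centralizer ({T.t} : Set G) ⊓ N).subgroupOf N with hNt
    have hs := LocalCount.card_split f Nt
    have hNtc : Nat.card Nt = 168 := by
      rw [hNt, Nat.card_congr (subgroupOfEquivOfLe inf_le_right).toEquiv]
      exact o1
    have hk : Nat.card ↥(f.ker ⊓ Nt) = 56 := by
      rw [← o2]
      refine Nat.card_congr
        { toFun := fun x => ⟨x.1.1, x.2.2.1, ?_⟩
          invFun := fun x => ⟨⟨x.1, LocalCount.centralizer_le_norm _ x.2.2⟩, ?_, ⟨x.2.1,
            LocalCount.centralizer_le_norm _ x.2.2⟩⟩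
          left_inv := fun _ => rfl
          right_inv := fun _ => rfl }
      · exact mem_subgroupOf.mp ((SetLike.ext_iff.mp S7.normalizerMonoidHom_ker x.1).mp x.2.1)
      · rw [show f.ker = (centralizer (S7 : Set G)).subgroupOf N from S7.normalizerMonoidHom_ker]
        exact x.2.2
    rw [hNtc, hk] at hs
    have h3' : Nat.card (Nt.map f) = 3 := by omega
    rw [← h3']
    exact Subgroup.card_dvd_of_le (map_le_range _ _)
  have h56 : 56 ∣ Nat.card (centralizer (S7 : Set G)) := o2 ▸ Subgroup.card_dvd_of_le inf_le_right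
  have hle := Nat.le_of_dvd (by norm_num) hdvd
  obtain ⟨c, hc⟩ := h3
  obtain ⟨d, hd⟩ := h56
  rw [hc, hd] at h
  rw [hd]
  rcases (show c = 1 ∨ c = 2 by have := Nat.card_pos (α := f.range); omega) with rfl | rfl <;> omega

theorem not_sq_dvd [IsSimpleGroup G] (hG : ¬ IsMulCommutative G) : ¬ 49 ∣ Nat.card G := by
  classical
  intro h49
  haveI : Fact (Nat.Prime 7) := ⟨by norm_num⟩
  obtain ⟨Q, hQ, hle⟩ := Sylow.exists_subgroup_card_pow_prime_le 7 (n := 1) (m := 2) h49 (zpowers S.s7)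
    (by rw [S.s7_card, pow_one]) (by norm_num)
  have hcomm : ∀ a b : ↥Q, a * b = b * a := IsPGroup.commutative_of_card_eq_prime_sq (p := 7) hQ
  have hQC : Q ≤ centralizer (zpowers S.s7 : Set G) := fun q hq => mem_centralizer_iff.mpr fun y hy =>
    congrArg Subtype.val (hcomm ⟨y, hle hy⟩ ⟨q, hq⟩)
  have hd := Subgroup.card_dvd_of_le hQC
  rw [hQ, T.centralizer_card hG] at hd
  norm_num at hd

/-- The structure of the centraliser. -/
theorem structure_seven [IsSimpleGroup G] (hG : ¬ IsMulCommutative G) :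
    ∃ I : Subgroup G, Cfsg.IsInternalDirectProduct (zpowers S.s7) I (centralizer (zpowers S.s7 : Set G)) ∧
      Nonempty (↥I ≃* Equiv.Perm (Fin 5)) := by
  classical
  haveI : Fact (Nat.Prime 7) := ⟨by norm_num⟩
  haveI : Fact (Nat.Prime 3) := ⟨Nat.prime_three⟩
  haveI : Fact (Nat.Prime 2) := ⟨Nat.prime_two⟩
  obtain ⟨o1, o2, o3, -⟩ := T.orders hG
  obtain ⟨-, hR84⟩ := T.counts hG
  have hC := T.centralizer_card hG
  set S7 := zpowers S.s7 with hS7
  set Cc := centralizer (S7 : Set G) with hCc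
  have hcomm : ∀ {x : G}, x ∈ Cc ↔ Commute x S.s7 := fun {x} => mem_centralizer_zpowers
  have hSC : S7 ≤ Cc := zpowers_le.mpr (hcomm.mpr (Commute.refl _))
  set Cs := (normalizer (C.V : Set G)).subgroupOf Cc with hCs
  have hCsc : Nat.card Cs = 168 := by
    rw [← o3]
    exact Nat.card_congr
      { toFun := fun x => ⟨x.1.1, x.2, x.1.2⟩
        invFun := fun x => ⟨⟨x.1, x.2.2⟩, x.2.1⟩
        left_inv := fun _ => rfl
        right_inv := fun _ => rfl }
  have hidx : Cs.index = 5 := by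
    have h := Cs.card_mul_index
    rw [hCsc, hC] at h
    omega
  let θ : ↥Cc →* Equiv.Perm (↥Cc ⧸ Cs) := MulAction.toPermHom _ _
  have hθ : θ.ker = Cs.normalCore := (Subgroup.normalCore_eq_ker Cs).symm
  set K0 := Cs.normalCore with hK0
  have hK0le : K0 ≤ Cs := Subgroup.normalCore_le Cs
  -- the members of the second class in the subgroup lie in the distinguished one
  have hgen : ∀ x : G, x ∈ normalizer (C.V : Set G) → x ∈ Cc → orderOf x = 2 → ¬ IsConj z x →
      x = T.t ∨ x = T.t' ∨ x = T.t'' := by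
    intro x hxN hxC h2 hc
    have hx2 : x * x = 1 := by rw [← pow_two, ← h2, pow_orderOf_eq_one]
    have hY : ({T.t, T.t', T.t''} : Set G).ncard = 3 := by
      rw [Set.ncard_insert_of_notMem (by simp [T.ne.2.2.2.1, T.ne.2.2.2.2.1]), Set.ncard_pair T.ne.2.2.2.2.2]
    obtain ⟨t1, t1', t1'', -⟩ := T.ne
    have hmap : ∀ w ∈ ({T.t, T.t', T.t''} : Set G), x * w * x⁻¹ ∈ ({T.t, T.t', T.t''} : Set G) := by
      intro w hw
      have hwV : w ∈ C.V ∧ Commute S.s7 w ∧ w ≠ 1 := by
        rcases hw with rfl | rfl | rfl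
        exacts [⟨T.mem.1, T.comm.1, t1⟩, ⟨T.mem.2.1, T.comm.2.1, t1'⟩, ⟨T.mem.2.2, T.comm.2.2, t1''⟩]
      have hxs := (hcomm.mp hxC).symm
      rcases T.all _ ((mem_normalizer_iff.mp hxN w).mp hwV.1) ((hxs.mul_right hwV.2.1).mul_right hxs.inv_right) with
        e | e | e | e
      · exact absurd (conj_eq_one_iff.mp e) hwV.2.2
      all_goals simp [e]
    obtain ⟨w, hw, hwx⟩ := LocalCount.exists_fixed_of_three hY (f := fun w => x * w * x⁻¹) hmap (fun w _ => by
      rw [inv_eq_of_mul_eq_one_right hx2, show x * (x * w * x) * x = (x * x) * w * (x * x) by group, hx2, one_mul,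
        mul_one])
    have hxw : Commute x w := mul_inv_eq_iff_eq_mul.mp hwx
    -- move the fixed one to the first
    obtain ⟨n, hnN, hnC, hn⟩ := T.trio_trans hw
    have hx' : n * x * n⁻¹ = T.t ∨ n * x * n⁻¹ = T.t' ∨ n * x * n⁻¹ = T.t'' := by
      have h2' : orderOf (n * x * n⁻¹) = 2 := by
        rw [show n * x * n⁻¹ = MulAut.conj n x from rfl, MulEquiv.orderOf_eq, h2]
      have hcc : Commute (n * x * n⁻¹) T.t := hn ▸ hxw.map (MulAut.conj n)
      have hnz : ¬ IsConj z (n * x * n⁻¹) := fun h => hc (h.trans (isConj_iff.mpr ⟨n⁻¹, by group⟩))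
      rcases T.invol_cases hG h2' (((hcomm.mp hnC).mul_left (hcomm.mp hxC)).mul_left (hcomm.mp hnC).inv_left) hcc with
        r | r | r | r | r
      exacts [Or.inl r, Or.inr (Or.inl r), Or.inr (Or.inr r), absurd (r ▸ S.σ7_z hG) hnz,
        absurd (r ▸ T.t_σ7_z hG) hnz]
    have hxV : x ∈ C.V := by
      have hV : n * x * n⁻¹ ∈ C.V := by
        rcases hx' with r | r | r <;> rw [r]
        exacts [T.mem.1, T.mem.2.1, T.mem.2.2]
      exact (mem_normalizer_iff.mp hnN x).mpr hV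
    rcases T.all x hxV (hcomm.mp hxC).symm with r | r
    · rw [r, orderOf_one] at h2; norm_num at h2
    · exact r
  -- the member of the second class and its class in the centraliser
  let tC : ↥Cc := ⟨T.t, hcomm.mpr T.comm.1.symm⟩
  have htnot : tC ∉ K0 := by
    intro h
    haveI : K0.Normal := Subgroup.normalCore_normal Cs
    letI : MulAction ↥Cc G := MulAction.compHom G ((ConjAct.toConjAct : G ≃* ConjAct G).toMonoidHom.comp Cc.subtype)
    have hst : Nat.card (MulAction.stabilizer ↥Cc T.t) = 56 := by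
      rw [← o2]
      refine Nat.card_congr
        { toFun := fun r => ⟨r.1.1, mem_inf.mpr ⟨mem_centralizer_singleton_iff.mpr
            (mul_inv_eq_iff_eq_mul.mp (MulAction.mem_stabilizer_iff.mp r.2)), r.1.2⟩⟩
          invFun := fun r => ⟨⟨r.1, r.2.2⟩, MulAction.mem_stabilizer_iff.mpr
            (mul_inv_eq_iff_eq_mul.mpr (mem_centralizer_singleton_iff.mp r.2.1))⟩
          left_inv := fun _ => rfl
          right_inv := fun _ => rfl }
    have hcard := (MulAction.stabilizer ↥Cc T.t).card_mul_index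
    rw [MulAction.index_stabilizer, hst, hC] at hcard
    have hsub : MulAction.orbit ↥Cc T.t ⊆ ({T.t, T.t', T.t''} : Set G) := by
      rintro _ ⟨c, rfl⟩
      have hm := hK0le (Normal.conj_mem (inferInstance : K0.Normal) tC h c)
      have h2 : orderOf ((c : G) * T.t * (c : G)⁻¹) = 2 := by
        rw [show (c : G) * T.t * (c : G)⁻¹ = MulAut.conj (c : G) T.t from rfl, MulEquiv.orderOf_eq, T.t_order]
      rcases hgen _ hm (mul_mem (mul_mem c.2 tC.2) (inv_mem c.2)) h2
        (fun e => T.cls.1 (e.trans (isConj_iff.mpr ⟨(c : G)⁻¹, by show (c : G)⁻¹ * ((c : G) * T.t * (c : G)⁻¹) * (c : G)⁻¹⁻¹ = T.t; group⟩))) with r | r | r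
      exacts [Or.inl r, Or.inr (Or.inl r), Or.inr (Or.inr r)]
    have hle := Set.ncard_le_ncard hsub (Set.toFinite _)
    rw [Set.ncard_insert_of_notMem (by simp [T.ne.2.2.2.1, T.ne.2.2.2.2.1]), Set.ncard_pair T.ne.2.2.2.2.2] at hle
    omega
  haveI hK0n : K0.Normal := Subgroup.normalCore_normal Cs
  have hcomK : ∀ (k : ↥Cc) (v : G) (hv : v ∈ C.V) (hvC : v ∈ Cc), k ∈ K0 →
      (k : G) * v * (k : G)⁻¹ * v⁻¹ ∈ C.V ∧ (k * ⟨v, hvC⟩ * k⁻¹ * ⟨v, hvC⟩⁻¹ : ↥Cc) ∈ K0 := by
    intro k v hv hvC hk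
    refine ⟨mul_mem ((mem_normalizer_iff.mp (hK0le hk : (k : G) ∈ normalizer (C.V : Set G)) v).mp hv) (inv_mem hv),
      ?_⟩
    rw [show k * ⟨v, hvC⟩ * k⁻¹ * ⟨v, hvC⟩⁻¹ = k * (⟨v, hvC⟩ * k⁻¹ * ⟨v, hvC⟩⁻¹) by group]
    exact mul_mem hk (Normal.conj_mem hK0n _ (inv_mem hk) _)
  have hwnot : ∀ y : ↥Cc, (y : G) ∈ ({T.t, T.t', T.t''} : Set G) → y ∉ K0 := by
    intro y hy h
    obtain ⟨n, -, hnC, hn⟩ := T.trio_trans hy
    have h' := Normal.conj_mem hK0n y h ⟨n, hnC⟩
    exact htnot (by rwa [show tC = ⟨n, hnC⟩ * y * (⟨n, hnC⟩ : ↥Cc)⁻¹ from Subtype.ext hn.symm])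
  have hVK : ∀ y : ↥Cc, y ∈ K0 → (y : G) ∈ C.V → y = 1 := fun y hy hv => by
    rcases T.all _ hv (hcomm.mp y.2).symm with r | r
    · exact Subtype.ext r
    · exact absurd hy (hwnot y (by simpa using r))
  have hodd : ∀ x ∈ K0, orderOf x ≠ 2 := by
    intro x hx h2
    rw [← Subgroup.orderOf_coe] at h2
    by_cases hc : IsConj z (x : G)
    · have hbad : ∀ w, w ∈ C.V → w ∈ Cc → Commute (x : G) w := by
        intro w hwV hwC
        obtain ⟨h1, h3⟩ := hcomK x w hwV hwC hx
        have h4 : (x : G) * w * (x : G)⁻¹ * w⁻¹ = 1 := congrArg Subtype.val (hVK _ h3 h1)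
        exact (mul_inv_eq_iff_eq_mul.mp (mul_inv_eq_one.mp h4) :)
      have hT' := hbad _ T.mem.2.1 (hcomm.mpr T.comm.2.1.symm)
      rcases T.invol_cases hG h2 (hcomm.mp x.2) (hbad _ T.mem.1 (hcomm.mpr T.comm.1.symm)) with r | r | r | r | r
      · exact T.cls.1 (r ▸ hc)
      · exact T.cls.2.1 (r ▸ hc)
      · exact T.cls.2.2 (r ▸ hc)
      · rw [r] at hT'
        exact T.ne.2.2.2.2.2 ((mul_inv_eq_iff_eq_mul.mpr hT'.eq).symm.trans T.σ7_conj.2.1)
      · rw [r] at hT'
        have h' : Commute S.σ7 T.t' := by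
          have := ((C.V_comm T.mem.1 T.mem.2.1).inv_left).mul_left hT'
          rwa [inv_mul_cancel_left] at this
        exact T.ne.2.2.2.2.2 ((mul_inv_eq_iff_eq_mul.mpr h'.eq).symm.trans T.σ7_conj.2.1)
    · exact hwnot x (by simpa using hgen _ (hK0le hx) x.2 h2 hc) hx
  have hK7 : Nat.card K0 = 7 := by
    have hd : Nat.card K0 ∣ 168 := hCsc ▸ Subgroup.card_dvd_of_le hK0le
    have h2 : ¬ 2 ∣ Nat.card K0 := fun h => by
      obtain ⟨x, hx⟩ := exists_prime_orderOf_dvd_card' 2 h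
      exact hodd x x.2 (by rw [Subgroup.orderOf_coe]; exact hx)
    have h3 : ¬ 3 ∣ Nat.card K0 := fun h => by
      obtain ⟨x, hx⟩ := exists_prime_orderOf_dvd_card' 3 h
      have hxt : Commute ((x : ↥Cc) : G) T.t := by
        obtain ⟨h1, h3⟩ := hcomK x T.t T.mem.1 tC.2 x.2
        by_contra hne
        refine hodd _ h3 ?_
        rw [← Subgroup.orderOf_coe]
        exact orderOf_eq_prime (by rw [pow_two]; exact C.V_sq h1)
          (fun e => hne (mul_inv_eq_iff_eq_mul.mp (mul_inv_eq_one.mp e)))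
      have := Subgroup.orderOf_dvd_natCard (s := centralizer ({T.t} : Set G) ⊓ Cc)
        (x := ((x : ↥Cc) : G)) (mem_inf.mpr ⟨mem_centralizer_singleton_iff.mpr hxt.eq, (x : ↥Cc).2⟩)
      rw [o2, Subgroup.orderOf_coe, Subgroup.orderOf_coe, hx] at this
      norm_num at this
    have hS : 7 ∣ Nat.card K0 := by
      have hle : S7.subgroupOf Cc ≤ K0 := by
        haveI : (S7.subgroupOf Cc).Normal := ⟨fun s hs c => by
          rw [mem_subgroupOf] at hs ⊢
          show (c : G) * s * (c : G)⁻¹ ∈ S7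
          rwa [← mem_centralizer_iff.mp c.2 _ hs, mul_inv_cancel_right]⟩
        refine (Subgroup.normal_le_normalCore).mpr fun s hs => ?_
        exact zpowers_le.mpr S.s7_mem_N (mem_subgroupOf.mp hs)
      have := Subgroup.card_dvd_of_le hle
      rwa [Nat.card_congr (subgroupOfEquivOfLe hSC).toEquiv, S.s7_card] at this
    have hle : Nat.card K0 ≤ 168 := Nat.le_of_dvd (by norm_num) hd
    obtain ⟨k, hk⟩ := hS
    rw [hk] at hd h2 h3 hle ⊢
    have hk24 : k ∣ 24 := Nat.dvd_of_mul_dvd_mul_left (show 0 < 7 by norm_num) hd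
    have hk' : k ≤ 24 := Nat.le_of_dvd (by norm_num) hk24
    interval_cases k <;> omega
  -- a complement
  obtain ⟨J, hJ⟩ := Subgroup.exists_right_complement'_of_coprime (N := K0) (by
    rw [hK7, show K0.index = 120 by
      have h := K0.card_mul_index
      rw [hK7, hC] at h
      omega]
    decide)
  have hK0S : K0.map Cc.subtype = S7 := by
    symm
    refine eq_of_le_of_card_ge ?_ (by rw [card_map_of_injective Cc.subtype_injective, hK7, S.s7_card])
    intro s hs
    refine ⟨⟨s, hSC hs⟩, ?_, rfl⟩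
    haveI : (S7.subgroupOf Cc).Normal := ⟨fun s hs c => by
      rw [mem_subgroupOf] at hs ⊢
      show (c : G) * s * (c : G)⁻¹ ∈ S7
      rwa [← mem_centralizer_iff.mp c.2 _ hs, mul_inv_cancel_right]⟩
    have hle : S7.subgroupOf Cc ≤ K0 :=
      (Subgroup.normal_le_normalCore).mpr fun s hs => zpowers_le.mpr S.s7_mem_N (mem_subgroupOf.mp hs)
    exact hle (mem_subgroupOf.mpr hs)
  have hJc : Nat.card J = 120 := by
    have h := hJ.card_mul
    rw [hK7, hC] at h
    omega
  refine ⟨J.map Cc.subtype, ⟨hSC, map_subtype_le J, ?_, ?_, ?_⟩, ?_⟩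
  · rintro a ha _ ⟨b, hb, rfl⟩
    exact mem_centralizer_iff.mp b.2 a ha
  · rw [← hK0S, ← map_inf _ _ _ Cc.subtype_injective, hJ.disjoint.eq_bot, Subgroup.map_bot]
  · rw [← hK0S, ← Subgroup.map_sup, hJ.sup_eq_top, ← MonoidHom.range_eq_map, range_subtype]
  · haveI : Finite (↥Cc ⧸ Cs) := Subgroup.finite_quotient_of_finiteIndex
    have hq : Nat.card (↥Cc ⧸ Cs) = 5 := hidx
    obtain ⟨e⟩ : Nonempty ((↥Cc ⧸ Cs) ≃ Fin 5) := ⟨(Finite.equivFin _).trans (finCongr hq)⟩
    let ψ : ↥J →* Equiv.Perm (Fin 5) := e.permCongrHom.toMonoidHom.comp (θ.comp J.subtype)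
    have hinj : Function.Injective ψ := by
      refine e.permCongrHom.injective.comp ?_
      rw [← MonoidHom.ker_eq_bot_iff, eq_bot_iff_forall]
      intro x hx
      have h1 : (x : ↥Cc) ∈ K0 := by rw [← hθ]; exact hx
      have h2 : (x : ↥Cc) ∈ K0 ⊓ J := ⟨h1, x.2⟩
      rw [hJ.disjoint.eq_bot, mem_bot] at h2
      exact Subtype.ext h2
    have hc : Nat.card (Equiv.Perm (Fin 5)) ≤ Nat.card J := by
      rw [hJc, Nat.card_perm, Nat.card_fin]; decide
    exact ⟨(J.equivMapOfInjective _ Cc.subtype_injective).symm.trans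
      (MulEquiv.ofBijective ψ (hinj.bijective_of_nat_card_le hc))⟩

end Trio

end Sec

end Ctx

end Cfsg.Lib.JankoFour
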