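import Mathlib.LinearAlgebra.Matrix.SpecialLinearGroup
import Mathlib.LinearAlgebra.FreeModule.Finite.Matrix
import Mathlib.LinearAlgebra.Matrix.ToLin
import Mathlib.LinearAlgebra.Dimension.Finite
import Mathlib.FieldTheory.Finite.Basic
import Mathlib.Algebra.Module.ZMod

/-!
Groups of order 168 acting faithfully on an elementary abelian group of order eight.
-/

set_option autoImplicit false
set_option linter.style.haveILetI false

namespace Cfsg.Lib.JankoFour.ElemEight

open Matrix

universe u v

theorem unit_two : ∀ r r' : ZMod 2, r * r' = 1 → r = 1 := by decide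

theorem exists_sl3_equiv {A : Type u} [Group A] [Finite A] (hcomm : ∀ a b : A, a * b = b * a) (h2 : ∀ a : A, a * a = 1)
    (h8 : Nat.card A = 8) {Γ : Type v} [Group Γ] [Finite Γ] (φ : Γ →* MulAut A) (hφ : Function.Injective φ)
    (hΓ : Nat.card Γ = 168) (hsl : Nat.card (SpecialLinearGroup (Fin 3) (ZMod 2)) = 168) :
    Nonempty (Γ ≃* SpecialLinearGroup (Fin 3) (ZMod 2)) := by
  classical
  letI : CommGroup A := { (inferInstance : Group A) with mul_comm := hcomm }
  haveI : Fact (Nat.Prime 2) := ⟨Nat.prime_two⟩
  letI : Module (ZMod 2) (Additive A) := AddCommGroup.zmodModule (n := 2) fun x => by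
    rw [two_nsmul]
    exact h2 x.toMul
  haveI : Module.Finite (ZMod 2) (Additive A) := Module.Finite.of_finite
  have hr : Module.finrank (ZMod 2) (Additive A) = 3 := by
    have h := Module.natCard_eq_pow_finrank (K := ZMod 2) (V := Additive A)
    rw [Nat.card_zmod, show Nat.card (Additive A) = 8 from (Nat.card_congr Additive.toMul).trans h8,
      show (8 : ℕ) = 2 ^ 3 from rfl] at h
    exact (Nat.pow_right_injective le_rfl h).symm
  let b := Module.finBasisOfFinrankEq (ZMod 2) (Additive A) hr
  let ρ : Γ →* Module.End (ZMod 2) (Additive A) :=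
    { toFun := fun g => (MonoidHom.toAdditive (φ g).toMonoidHom).toZModLinearMap 2
      map_one' := LinearMap.ext fun x => by
        show Additive.ofMul (φ 1 x.toMul) = x
        rw [map_one]; rfl
      map_mul' := fun g h => LinearMap.ext fun x => by
        show Additive.ofMul (φ (g * h) x.toMul) = Additive.ofMul (φ g (φ h x.toMul))
        rw [map_mul]; rfl }
  let μ : Γ →* Matrix (Fin 3) (Fin 3) (ZMod 2) :=
    (LinearMap.toMatrixAlgEquiv b).toAlgHom.toRingHom.toMonoidHom.comp ρ
  have hdet : ∀ g, (μ g).det = 1 := fun g => by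
    have h : (μ g).det * (μ g⁻¹).det = 1 := by rw [← det_mul, ← map_mul, mul_inv_cancel, map_one, det_one]
    exact unit_two _ _ h
  let F : Γ →* SpecialLinearGroup (Fin 3) (ZMod 2) :=
    { toFun := fun g => ⟨μ g, hdet g⟩
      map_one' := Subtype.ext (map_one μ)
      map_mul' := fun g h => Subtype.ext (map_mul μ g h) }
  have hinj : Function.Injective F := fun g h e => hφ (MulEquiv.ext fun a => by
    have h1 : ρ g = ρ h := (LinearMap.toMatrixAlgEquiv b).injective (congrArg Subtype.val e)
    exact congrArg (fun f : Module.End (ZMod 2) (Additive A) => (f (Additive.ofMul a)).toMul) h1)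
  exact ⟨MulEquiv.ofBijective F (hinj.bijective_of_nat_card_le (by rw [hΓ, hsl]))⟩

end Cfsg.Lib.JankoFour.ElemEight
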