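import Cfsg.Agent.JankoFour.FiveCount
import Cfsg.Agent.JankoFour.ElemEight
import Mathlib.GroupTheory.SchurZassenhaus

/-!
The structure of the centraliser and the normaliser of a subgroup of order five.
-/

set_option autoImplicit false
set_option maxRecDepth 100000
set_option maxHeartbeats 2000000
set_option linter.style.haveILetI false
set_option linter.unusedSectionVars false

namespace Cfsg.Lib.JankoFour

open Subgroup
open Data (fixB W0)

universe u

variable {G : Type u} [Group G] [Finite G]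

namespace Ctx

namespace Five

variable {z : G} {P : Subgroup G} {C : Ctx z P} (F : C.Five)

theorem span_facts : ∀ x ∈ span5, x ∈ fixB ∧ x < 4096 ∧ qB x = false ∧ (x = 0 ∨ x ∈ pW5) ∧
    ∀ y ∈ span5, pB x y = false := by decide +kernel

/-- The elementary abelian subgroup of order eight. -/
def X (_F : C.Five) : Subgroup G where
  carrier := C.liftsOf span5
  one_mem' := ⟨one_mem _, by rw [C.π_one]; decide⟩
  mul_mem' := fun {a b} ha hb => ⟨mul_mem ha.1 hb.1, by
    rw [C.π_mul a ha.1 b hb.1]; exact five_plane.2.2.2.2.2.1 _ ha.2 _ hb.2⟩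
  inv_mem' := fun {a} ha => ⟨inv_mem ha.1, by rw [C.π_inv ha.1]; exact ha.2⟩

include F

theorem mem_X {x : G} : x ∈ F.X ↔ x ∈ C.E ∧ C.π x ∈ span5 := Iff.rfl

theorem X_card : Nat.card F.X = 8 := by
  show Nat.card ↥(C.liftsOf span5) = 8
  rw [Nat.card_coe_set_eq, C.lifts_ncard five_lists.2.2.1 fun x hx => (span_facts x hx).2.1]
  rfl

theorem z_mem_X : z ∈ F.X := ⟨C.X.mem, by rw [(C.π_zero z C.X.mem).mpr (Or.inr rfl)]; decide⟩

theorem X_comm {x y : G} (hx : x ∈ F.X) (hy : y ∈ F.X) : Commute x y :=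
  (C.π_comm x hx.1 y hy.1).mpr ((span_facts _ hx.2).2.2.2.2 _ hy.2)

theorem X_sq {x : G} (hx : x ∈ F.X) : x * x = 1 := (C.π_sq x hx.1).mpr (span_facts _ hx.2).2.2.1

theorem X_cent {x : G} (hx : x ∈ F.X) : Commute x F.s := ((F.comm_E hx.1).mpr (span_facts _ hx.2).1).symm

theorem X_norm [IsSimpleGroup G] (hG : ¬ IsMulCommutative G) {n x : G}
    (hn : n ∈ normalizer (zpowers F.s : Set G)) (hx : x ∈ F.X) : n * x * n⁻¹ ∈ F.X := by
  have hcases : x = 1 ∨ x ∈ F.Zs := by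
    rw [(F.counts hG).2]
    rcases (span_facts _ hx.2).2.2.2.1 with h | h
    · rcases (C.π_zero x hx.1).mp h with e | e
      exacts [Or.inl e, Or.inr (Or.inl e)]
    · exact Or.inr (Or.inr ⟨hx.1, h⟩)
  rcases hcases with rfl | hZ
  · simp
  have hZ' : n * x * n⁻¹ ∈ F.Zs := ⟨by
      rw [show n * x * n⁻¹ = MulAut.conj n x from rfl, MulEquiv.orderOf_eq, hZ.1],
    F.norm_comm hn hZ.2.1, hZ.2.2.trans (isConj_iff.mpr ⟨n, rfl⟩)⟩
  rw [(F.counts hG).2] at hZ'
  rcases hZ' with h | h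
  · exact h ▸ F.z_mem_X
  · exact ⟨h.1, List.mem_cons_of_mem _ h.2⟩

theorem centralizer_card [IsSimpleGroup G] (hG : ¬ IsMulCommutative G) :
    Nat.card (centralizer (zpowers F.s : Set G)) = 6720 := by
  classical
  haveI : Fact (Nat.Prime 5) := ⟨by norm_num⟩
  set N := normalizer (zpowers F.s : Set G) with hNdef
  set Q := zpowers F.s with hQ
  have hcyc : IsCyclic ↥Q := isCyclic_of_prime_card F.card_s
  have haut : Nat.card (MulAut ↥Q) = 4 := by
    rw [Nat.card_congr (IsCyclic.mulAutMulEquiv ↥Q).toEquiv, F.card_s, Nat.card_eq_fintype_card,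
      ZMod.card_units_eq_totient, Nat.totient_prime (by norm_num)]
  let f : ↥N →* MulAut ↥Q := Q.normalizerMonoidHom
  have hk : f.ker = (centralizer (Q : Set G)).subgroupOf N := Q.normalizerMonoidHom_ker
  have hker : Nat.card f.ker = Nat.card (centralizer (Q : Set G)) := by
    rw [hk]
    exact Nat.card_congr (subgroupOfEquivOfLe (LocalCount.centralizer_le_norm _)).toEquiv
  have h := f.ker.card_mul_index
  rw [index_ker, hker, (F.counts hG).1] at h
  have hdvd : Nat.card f.range ∣ 4 := haut ▸ Subgroup.card_subgroup_dvd_card _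
  set HN := (centralizer ({z} : Set G) ⊓ N).subgroupOf N with hHN
  have hs := LocalCount.card_split f HN
  have h1 : Nat.card HN = 3840 := by
    rw [hHN, Nat.card_congr (subgroupOfEquivOfLe inf_le_right).toEquiv]
    exact F.cards.1
  have h2 : Nat.card ↥(f.ker ⊓ HN) = 960 := by
    rw [← F.cards.2]
    refine Nat.card_congr
      { toFun := fun x => ⟨x.1.1, x.2.2.1, mem_subgroupOf.mp ((SetLike.ext_iff.mp hk x.1).mp x.2.1)⟩
        invFun := fun x => ⟨⟨x.1, LocalCount.centralizer_le_norm _ x.2.2⟩,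
          (SetLike.ext_iff.mp hk _).mpr x.2.2, x.2.1, LocalCount.centralizer_le_norm _ x.2.2⟩
        left_inv := fun _ => rfl
        right_inv := fun _ => rfl }
  rw [h1, h2] at hs
  have h4 : Nat.card (HN.map f) = 4 := by omega
  have h4' : 4 ∣ Nat.card f.range := h4 ▸ Subgroup.card_dvd_of_le (map_le_range _ _)
  rw [Nat.dvd_antisymm hdvd h4'] at h
  omega

theorem not_sq_dvd [IsSimpleGroup G] (hG : ¬ IsMulCommutative G) : ¬ 25 ∣ Nat.card G := by
  classical
  intro h25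
  haveI : Fact (Nat.Prime 5) := ⟨by norm_num⟩
  obtain ⟨Q, hQ, hle⟩ := Sylow.exists_subgroup_card_pow_prime_le 5 (n := 1) (m := 2) h25 (zpowers F.s)
    (by rw [F.card_s, pow_one]) (by norm_num)
  have hcomm : ∀ a b : ↥Q, a * b = b * a := IsPGroup.commutative_of_card_eq_prime_sq (p := 5) hQ
  have hQC : Q ≤ centralizer (zpowers F.s : Set G) := fun q hq => mem_centralizer_iff.mpr fun y hy =>
    congrArg Subtype.val (hcomm ⟨y, hle hy⟩ ⟨q, hq⟩)
  have hd := Subgroup.card_dvd_of_le hQC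
  rw [hQ, F.centralizer_card hG] at hd
  norm_num at hd

theorem centralizer_X {x : G} (hxs : Commute x F.s) (hx : ∀ w ∈ F.X, Commute x w) :
    ∃ e ∈ F.X, ∃ i : ℕ, x = e * F.s ^ i := by
  have hxH : x ∈ centralizer ({z} : Set G) := mem_centralizer_singleton_iff.mpr (hx z F.z_mem_X).eq
  obtain ⟨e, he, k, hk, i, hi, j, hj, rfl⟩ := F.form hxH hxs
  have hfix : ∀ w ∈ pW5, mv (actFix k j) w = w := by
    intro w hw
    obtain ⟨q, hq, hqw⟩ := C.π_surj w (five_lists.2.2.2.1 w hw).2.1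
    have hqX : q ∈ F.X := ⟨hq, hqw ▸ List.mem_cons_of_mem _ hw⟩
    have h := F.form_fix he.1 (q := q) ⟨hq, hqw ▸ (five_lists.2.2.2.1 w hw).1⟩ hk hi hj
    rw [(hx q hqX).eq, mul_inv_cancel_right, hqw] at h
    exact h.symm
  obtain ⟨rfl, rfl⟩ := five_plane.2.2.2.2.2.2 k hk j hj hfix
  have hf : formFive F.s F.h C.p e 0 i 0 = e * F.s ^ i := by simp [formFive]
  refine ⟨e, ⟨he.1, five_plane.2.2.2.2.1 _ he.2 fun w hw => ?_⟩, i, hf⟩
  obtain ⟨q, hq, hqw⟩ := C.π_surj w (five_lists.2.2.2.1 w hw).2.1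
  have hqX : q ∈ F.X := ⟨hq, hqw ▸ List.mem_cons_of_mem _ hw⟩
  have h := (hx q hqX).mul_left ((F.X_cent hqX).symm.pow_left i).inv_left
  rw [hf, mul_inv_cancel_right] at h
  rw [← hqw]
  exact (C.π_comm e he.1 q hq).mp h

/-- The structure of the centraliser. -/
theorem structure_five [IsSimpleGroup G] (hG : ¬ IsMulCommutative G) :
    ∃ J : Subgroup G, Cfsg.IsInternalDirectProduct (zpowers F.s) J (centralizer (zpowers F.s : Set G)) ∧
      ∃ (E : Subgroup ↥J) (_ : E.Normal), Cfsg.IsElementaryAbelian 2 E ∧ Nat.card ↥E = 8 ∧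
        Nonempty (↥J ⧸ E ≃* Matrix.SpecialLinearGroup (Fin 3) (ZMod 2)) ∧
        ∀ K : Subgroup ↥J, ¬ E.IsComplement' K := by
  classical
  haveI : Fact (Nat.Prime 5) := ⟨by norm_num⟩
  set Q := zpowers F.s with hQ
  set Cc := centralizer (Q : Set G) with hCc
  have hC := F.centralizer_card hG
  have hcomm : ∀ {x : G}, x ∈ Cc ↔ Commute x F.s := fun {x} => mem_centralizer_zpowers
  have hQC : Q ≤ Cc := zpowers_le.mpr (hcomm.mpr (Commute.refl _))
  have hcen : ∀ c ∈ Cc, ∀ q ∈ Q, q * c = c * q := fun c hc q hq => mem_centralizer_iff.mp hc q hq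
  set Q' := Q.subgroupOf Cc with hQ'
  haveI : Q'.Normal := ⟨fun q hq c => by
    rw [hQ', mem_subgroupOf] at hq ⊢
    show (c : G) * q * (c : G)⁻¹ ∈ Q
    rwa [← hcen c c.2 q hq, mul_inv_cancel_right]⟩
  have hQc : Nat.card Q' = 5 := by rw [hQ', Nat.card_congr (subgroupOfEquivOfLe hQC).toEquiv, F.card_s]
  obtain ⟨J0, hJ0⟩ := Subgroup.exists_right_complement'_of_coprime (N := Q') (by
    rw [hQc, show Q'.index = 1344 by
      have h := Q'.card_mul_index
      rw [hQc, hC] at h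
      omega]
    decide)
  set J := J0.map Cc.subtype with hJ
  have hJC : J ≤ Cc := map_subtype_le J0
  have hJc : Nat.card J = 1344 := by
    rw [hJ, card_map_of_injective Cc.subtype_injective]
    have h := hJ0.card_mul
    rw [hQc, hC] at h
    omega
  have hQJ : ∀ {x : G}, x ∈ Q → x ∈ J → x = 1 := by
    rintro _ hx ⟨y, hy, rfl⟩
    have h : y ∈ Q' ⊓ J0 := ⟨mem_subgroupOf.mpr hx, hy⟩
    rw [hJ0.disjoint.eq_bot, mem_bot] at h
    simp [h]
  have hmemJ : ∀ {x : G}, x ∈ Cc → ∀ m : ℕ, ¬ 5 ∣ m → x ^ m = 1 → x ∈ J := by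
    intro x hx m hm hxm
    obtain ⟨⟨⟨q, hq⟩, ⟨j, hj⟩⟩, e⟩ := hJ0.2 ⟨x, hx⟩
    have hxqj : x = (q : G) * (j : G) := (congrArg Subtype.val e).symm
    have hjJ : (j : G) ∈ J := ⟨j, hj, rfl⟩
    have hqQ : (q : G) ∈ Q := mem_subgroupOf.mp hq
    have hc : Commute (q : G) (j : G) := hcen _ j.2 _ hqQ
    rw [hxqj, hc.mul_pow] at hxm
    have h1 : (q : G) ^ m = 1 := hQJ (pow_mem hqQ m) (by
      rw [eq_inv_of_mul_eq_one_left hxm]; exact inv_mem (pow_mem hjJ m))
    have ho : orderOf (q : G) ∣ Nat.gcd m 5 := Nat.dvd_gcd (orderOf_dvd_of_pow_eq_one h1)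
      (F.card_s ▸ Subgroup.orderOf_dvd_natCard Q hqQ)
    rw [Nat.Coprime.gcd_eq_one ((Nat.Prime.coprime_iff_not_dvd (by norm_num)).mpr hm).symm, Nat.dvd_one,
      orderOf_eq_one_iff] at ho
    rw [hxqj, ho, one_mul]
    exact hjJ
  have hXC : F.X ≤ Cc := fun x hx => hcomm.mpr (F.X_cent hx)
  have hXJ : F.X ≤ J := fun x hx => hmemJ (hXC hx) 2 (by norm_num) (by rw [pow_two]; exact F.X_sq hx)
  have hJN : ∀ {n : G}, n ∈ J → n ∈ normalizer (Q : Set G) := fun hn => LocalCount.centralizer_le_norm _ (hJC hn)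
  set E := F.X.subgroupOf J with hE
  haveI hEn : E.Normal := ⟨fun e he c => by
    rw [hE, mem_subgroupOf] at he ⊢
    exact F.X_norm hG (hJN c.2) he⟩
  have hJX : J ≤ normalizer (F.X : Set G) := fun n hn => mem_normalizer_fintype fun x hx => F.X_norm hG (hJN hn) hx
  have hEc : Nat.card E = 8 := by rw [hE, Nat.card_congr (subgroupOfEquivOfLe hXJ).toEquiv, F.X_card]
  refine ⟨J, ⟨hQC, hJC, fun a ha b hb => hcen b (hJC hb) a ha, ?_, ?_⟩, E, hEn, ⟨⟨⟨fun a b => ?_⟩⟩, ?_⟩, hEc, ?_, ?_⟩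
  · exact (eq_bot_iff_forall _).mpr fun x hx => hQJ hx.1 hx.2
  · rw [hJ, show Q = Q'.map Cc.subtype by rw [hQ', subgroupOf_map_subtype, inf_eq_left.mpr hQC],
      ← Subgroup.map_sup, hJ0.sup_eq_top, ← MonoidHom.range_eq_map, range_subtype]
  · exact Subtype.ext (Subtype.ext (F.X_comm a.2 b.2).eq)
  · intro a ha
    exact Subtype.ext (by rw [pow_two]; exact F.X_sq (mem_subgroupOf.mp ha))
  · -- the action on the subgroup of order eight
    let φ : ↥J →* MulAut ↥F.X := F.X.normalizerMonoidHom.comp (Subgroup.inclusion hJX)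
    have hker : φ.ker = E := by
      ext a
      rw [MonoidHom.mem_ker, hE, mem_subgroupOf]
      refine Iff.trans (MonoidHom.mem_ker (f := F.X.normalizerMonoidHom)).symm ?_
      rw [F.X.normalizerMonoidHom_ker, mem_subgroupOf]
      show (a : G) ∈ centralizer (F.X : Set G) ↔ _
      constructor
      · intro h
        obtain ⟨e, he, i, hae⟩ := F.centralizer_X (hcomm.mp (hJC a.2)) fun w hw =>
          (mem_centralizer_iff.mp h w hw).symm
        have hsi : F.s ^ i ∈ J := by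
          rw [show F.s ^ i = e⁻¹ * a by rw [hae, inv_mul_cancel_left]]
          exact mul_mem (inv_mem (hXJ he)) a.2
        rwa [hae, hQJ (pow_mem (mem_zpowers _) i) hsi, mul_one]
      · exact fun h => mem_centralizer_iff.mpr fun w hw => (F.X_comm hw h).eq
    let ψ : ↥J ⧸ E →* MulAut ↥F.X := QuotientGroup.lift E φ hker.ge
    have hψ : Function.Injective ψ := by
      rw [← MonoidHom.ker_eq_bot_iff, eq_bot_iff_forall]
      intro q hq
      obtain ⟨a, rfl⟩ := QuotientGroup.mk_surjective q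
      exact (QuotientGroup.eq_one_iff a).mpr (hker ▸ hq)
    haveI : Finite (↥J ⧸ E) := Subgroup.finite_quotient_of_finiteIndex
    refine ElemEight.exists_sl3_equiv (fun a b => Subtype.ext (F.X_comm a.2 b.2).eq)
      (fun a => Subtype.ext (F.X_sq a.2)) F.X_card ψ hψ ?_ (by rw [Nat.card_eq_fintype_card]; decide +kernel)
    have h := E.card_mul_index
    rw [hEc, hJc] at h
    show E.index = 168
    omega
  · intro K hK
    -- representatives in a complement
    have hdec : ∀ {g : G}, g ∈ J → ∃ x ∈ F.X, ∃ κ : ↥J, κ ∈ K ∧ g = x * κ := by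
      intro g hg
      obtain ⟨⟨⟨e, he⟩, ⟨κ, hκ⟩⟩, h⟩ := hK.2 ⟨g, hg⟩
      exact ⟨e, mem_subgroupOf.mp he, κ, hκ, (congrArg Subtype.val h).symm⟩
    have hbot : ∀ κ : ↥J, κ ∈ K → (κ : G) ∈ F.X → κ = 1 := fun κ hκ hx => by
      have h : κ ∈ E ⊓ K := ⟨mem_subgroupOf.mpr hx, hκ⟩
      rwa [hK.disjoint.eq_bot, mem_bot] at h
    have hzX : ∀ {y : G}, y = 1 ∨ y = z → y ∈ F.X := fun h => by
      rcases h with rfl | rfl
      exacts [one_mem _, F.z_mem_X]
    have hrep : ∀ r ∈ fixB, ∃ κ : ↥J, κ ∈ K ∧ (κ : G) ∈ C.E ∧ C.π (κ : G) ∈ span5.map (r ^^^ ·) := by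
      intro r hr
      obtain ⟨a, ha, e⟩ := C.π_surj r (five_fix_facts.2.2.1 r hr)
      have haC : a ∈ Cc := hcomm.mpr ((F.comm_E ha).mpr (e ▸ hr)).symm
      have h4 : a ^ 4 = 1 := by
        rw [show 4 = 2 * 2 from rfl, pow_mul]
        rcases C.sq_cases ha with h | h <;> rw [pow_two a, h]
        · exact one_pow 2
        · rw [pow_two, C.X.zz]
      obtain ⟨x, hx, κ, hκ, hxκ⟩ := hdec (hmemJ haC 4 (by norm_num) h4)
      have hκe : (κ : G) = x⁻¹ * a := by rw [hxκ, inv_mul_cancel_left]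
      refine ⟨κ, hκ, hκe ▸ mul_mem (inv_mem hx.1) ha, List.mem_map.mpr ⟨C.π x, hx.2, ?_⟩⟩
      rw [hκe, C.π_mul _ (inv_mem hx.1) a ha, C.π_inv hx.1, e, Nat.xor_comm]
    obtain ⟨κa, hκa, haE, haπ⟩ := hrep 1027 (by decide)
    obtain ⟨κb, hκb, hbE, hbπ⟩ := hrep 2049 (by decide)
    have hqa : qB (C.π (κa : G)) = false := (C.π_sq _ haE).mp
      (congrArg Subtype.val (hbot _ (mul_mem hκa hκa) (hzX (C.sq_cases haE))))
    have hqb : qB (C.π (κb : G)) = false := (C.π_sq _ hbE).mp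
      (congrArg Subtype.val (hbot _ (mul_mem hκb hκb) (hzX (C.sq_cases hbE))))
    have hab : pB (C.π (κa : G)) (C.π (κb : G)) = false := by
      refine (C.π_comm _ haE _ hbE).mp ?_
      have h := congrArg Subtype.val (hbot (κa * κb * κa⁻¹ * κb⁻¹)
        (mul_mem (mul_mem (mul_mem hκa hκb) (inv_mem hκa)) (inv_mem hκb)) (hzX (by
          show (κa : G) * κb * (κa : G)⁻¹ * (κb : G)⁻¹ = 1 ∨ (κa : G) * κb * (κa : G)⁻¹ * (κb : G)⁻¹ = z
          rw [C.conjB haE hbE]
          split <;> simp)))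
      have h' : (κa : G) * κb * (κa : G)⁻¹ * (κb : G)⁻¹ = 1 := h
      exact mul_inv_eq_iff_eq_mul.mp (mul_inv_eq_one.mp h')
    -- the outer element
    obtain ⟨-, -, hsq, -, -, -, -, -, -⟩ := five_word
    have hh2 : F.h * F.h ∈ C.E := by
      have h := C.rep_quot (mul_mem F.hH F.hH) (one_mem _) (hsq ▸ C.rep_mul F.hH F.rep_h F.rep_h) C.rep_one
      simpa using h
    obtain ⟨x, hx, κh, hκh, hxκ⟩ := hdec (hmemJ (hcomm.mpr F.hs) 8 (by norm_num) (by
      rw [show F.h ^ 8 = (F.h * F.h) * (F.h * F.h) * ((F.h * F.h) * (F.h * F.h)) by simp [pow_succ, mul_assoc]]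
      rcases C.sq_cases hh2 with h | h <;> rw [h]
      · rw [one_mul]
      · exact C.X.zz))
    have hκe : (κh : G) = x⁻¹ * F.h := by rw [hxκ, inv_mul_cancel_left]
    have hκH : (κh : G) ∈ centralizer ({z} : Set G) := hκe ▸ mul_mem (inv_mem (C.le hx.1)) F.hH
    have hmem : ∀ κ : ↥J, κ ∈ K → (κ : G) ∈ C.E →
        mv (actFix 0 1) (C.π (κ : G)) ∈ [0, C.π (κa : G), C.π (κb : G), C.π (κa : G) ^^^ C.π (κb : G)] := by
      intro κ hκ hκE
      have hκf : C.π (κ : G) ∈ fixB := (F.comm_E hκE).mp (hcomm.mp (hJC κ.2)).symm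
      set c := κh * κ * κh⁻¹ with hc
      have hcE : (c : G) ∈ C.E := C.conj_mem hκH hκE
      have hcπ : C.π (c : G) = mv (actFix 0 1) (C.π (κ : G)) := by
        have h := F.form_fix (one_mem C.E) (q := (κ : G)) ⟨hκE, hκf⟩ (by norm_num : 0 < 3) (by norm_num : 0 < 5)
          (by norm_num : 1 < 2)
        simp only [formFive, pow_zero, pow_one, one_mul, mul_one] at h
        rw [← h, show (c : G) = (κh : G) * κ * (κh : G)⁻¹ from rfl, hκe,
          show x⁻¹ * F.h * (κ : G) * (x⁻¹ * F.h)⁻¹ = x⁻¹ * (F.h * κ * F.h⁻¹) * x⁻¹⁻¹ by group,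
          C.rep_E (inv_mem hx.1) _ (C.conj_mem F.hH hκE), mv_idM (C.π_lt _)]
      obtain ⟨r, hr, hrs⟩ := five_split.1 (C.π (c : G))
        ((F.comm_E hcE).mp (hcomm.mp (hJC c.2)).symm)
      rw [← hcπ]
      obtain ⟨y, hy, hyE, hyr, hyl⟩ : ∃ y : ↥J, y ∈ K ∧ (y : G) ∈ C.E ∧ C.π (y : G) ^^^ r ∈ span5 ∧
          C.π (y : G) ∈ [0, C.π (κa : G), C.π (κb : G), C.π (κa : G) ^^^ C.π (κb : G)] := by
        obtain ⟨u, hu, eu⟩ := List.mem_map.mp haπ
        obtain ⟨v, hv, ev⟩ := List.mem_map.mp hbπ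
        simp only [List.mem_cons, List.not_mem_nil, or_false] at hr
        rcases hr with rfl | rfl | rfl | rfl
        · exact ⟨1, one_mem _, one_mem _, by simp [C.π_one, span5], by simp [C.π_one]⟩
        · refine ⟨κa, hκa, haE, ?_, by simp⟩
          rwa [← eu, Nat.xor_comm, ← Nat.xor_assoc, Nat.xor_self, Nat.zero_xor]
        · refine ⟨κb, hκb, hbE, ?_, by simp⟩
          rwa [← ev, Nat.xor_comm, ← Nat.xor_assoc, Nat.xor_self, Nat.zero_xor]
        · refine ⟨κa * κb, mul_mem hκa hκb, mul_mem haE hbE, ?_, ?_⟩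
          · rw [Subgroup.coe_mul, C.π_mul _ haE _ hbE, ← eu, ← ev]
            rw [show (1027 ^^^ u) ^^^ (2049 ^^^ v) ^^^ 3074 = (1027 ^^^ 2049 ^^^ 3074) ^^^ (u ^^^ v) by
              simp only [Nat.xor_assoc, Nat.xor_comm, Nat.xor_left_comm],
              show (1027 : ℕ) ^^^ 2049 ^^^ 3074 = 0 by decide, Nat.zero_xor]
            exact five_plane.2.2.2.2.2.1 _ hu _ hv
          · rw [Subgroup.coe_mul, C.π_mul _ haE _ hbE]; simp
      have h := congrArg Subtype.val (hbot (c * y) (mul_mem (mul_mem (mul_mem hκh hκ) (inv_mem hκh)) hy)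
        ⟨mul_mem hcE hyE, by
          rw [Subgroup.coe_mul, C.π_mul _ hcE _ hyE]
          have h := five_plane.2.2.2.2.2.1 _ hrs _ hyr
          rwa [Nat.xor_comm (C.π (y : G)), ← Nat.xor_assoc, Nat.xor_assoc (C.π (c : G)), Nat.xor_self, Nat.xor_zero] at h⟩)
      have h' : (c : G) * (y : G) = 1 := h
      rw [eq_inv_of_mul_eq_one_left h', C.π_inv hyE]
      exact hyl
    exact five_split.2 _ haπ _ hbπ hqa hqb hab ⟨hmem κa hκa haE, hmem κb hκb hbE⟩

end Five

end Ctx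

end Cfsg.Lib.JankoFour
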