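import Cfsg.Agent.JankoFour.DuadStab
import Cfsg.Agent.Golay.SevenPairs

/-!
Subgroups of order seven of the automorphism group of the Mathieu group on 22 points.
-/

set_option autoImplicit false
set_option maxRecDepth 100000
set_option linter.style.haveILetI false

namespace Cfsg.Lib.JankoFour

open Subgroup
open Cfsg.Lib.Golay
open scoped Pointwise

set_option linter.unusedSectionVars false

universe v

variable {Γ : Type v} [Group Γ] [Finite Γ]

/-- Normaliser and centraliser inside a subgroup. -/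
theorem card_local_subtype (P : Subgroup Γ) (R : Subgroup ↥P) :
    Nat.card (normalizer (R : Set ↥P)) = Nat.card ↥(P ⊓ normalizer ((R.map P.subtype : Subgroup Γ) : Set Γ)) ∧
    Nat.card (centralizer (R : Set ↥P)) = Nat.card ↥(P ⊓ centralizer ((R.map P.subtype : Subgroup Γ) : Set Γ)) := by
  have hn : ∀ x : ↥P, x ∈ normalizer (R : Set ↥P) ↔ (x : Γ) ∈ normalizer ((R.map P.subtype : Subgroup Γ) : Set Γ) := by
    intro x
    constructor
    · intro hx
      refine mem_normalizer_fintype ?_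
      rintro _ ⟨y, hy, rfl⟩
      exact ⟨x * y * x⁻¹, (mem_normalizer_iff.mp hx y).mp hy, rfl⟩
    · intro hx
      refine mem_normalizer_fintype fun y hy => ?_
      obtain ⟨w, hw, e⟩ := (mem_normalizer_iff.mp hx _).mp ⟨y, hy, rfl⟩
      have : w = x * y * x⁻¹ := Subtype.ext e
      exact this ▸ hw
  have hc : ∀ x : ↥P, x ∈ centralizer (R : Set ↥P) ↔ (x : Γ) ∈ centralizer ((R.map P.subtype : Subgroup Γ) : Set Γ) := by
    intro x
    constructor
    · intro hx
      refine mem_centralizer_iff.mpr ?_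
      rintro _ ⟨y, hy, rfl⟩
      exact congrArg Subtype.val (mem_centralizer_iff.mp hx y hy)
    · intro hx
      exact mem_centralizer_iff.mpr fun y hy => Subtype.ext (mem_centralizer_iff.mp hx _ ⟨y, hy, rfl⟩)
  exact ⟨Nat.card_congr ⟨fun x => ⟨x.1.1, x.1.2, (hn _).mp x.2⟩, fun x => ⟨⟨x.1, x.2.1⟩, (hn _).mpr x.2.2⟩,
    fun _ => rfl, fun _ => rfl⟩, Nat.card_congr ⟨fun x => ⟨x.1.1, x.1.2, (hc _).mp x.2⟩,
      fun x => ⟨⟨x.1, x.2.1⟩, (hc _).mpr x.2.2⟩, fun _ => rfl, fun _ => rfl⟩⟩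

/-- Normaliser and centraliser under an isomorphism. -/
theorem card_local_equiv {Δ : Type*} [Group Δ] (e : Γ ≃* Δ) (R : Subgroup Γ) :
    Nat.card (normalizer ((R.map e.toMonoidHom : Subgroup Δ) : Set Δ)) = Nat.card (normalizer (R : Set Γ)) ∧
    Nat.card (centralizer ((R.map e.toMonoidHom : Subgroup Δ) : Set Δ)) = Nat.card (centralizer (R : Set Γ)) := by
  constructor
  · rw [← map_equiv_normalizer_eq]
    exact card_map_of_injective e.injective
  · rw [show centralizer ((R.map e.toMonoidHom : Subgroup Δ) : Set Δ) =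
      (centralizer (R : Set Γ)).map e.toMonoidHom from SetLike.ext fun d => ?_]
    · exact card_map_of_injective e.injective
    · constructor
      · intro hd
        refine ⟨e.symm d, mem_centralizer_iff.mpr fun y hy => e.injective ?_, e.apply_symm_apply d⟩
        rw [map_mul, map_mul, e.apply_symm_apply]
        exact mem_centralizer_iff.mp hd _ ⟨y, hy, rfl⟩
      · rintro ⟨x, hx, rfl⟩
        refine mem_centralizer_iff.mpr ?_
        rintro _ ⟨y, hy, rfl⟩
        rw [← map_mul, ← map_mul, mem_centralizer_iff.mp hx y hy]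

/-- Orders of the normaliser and of the centraliser of a subgroup of order seven of the stabiliser of a pair. -/
theorem duad_seven {R : Subgroup (Equiv.Perm Cfsg.GolayPt)}
    (hR : R ≤ Cfsg.M24 ⊓ MulAction.stabilizer (Equiv.Perm Cfsg.GolayPt) ({none, some 0} : Set Cfsg.GolayPt))
    (h7 : Nat.card R = 7) :
    Nat.card ↥((Cfsg.M24 ⊓ MulAction.stabilizer (Equiv.Perm Cfsg.GolayPt) ({none, some 0} : Set Cfsg.GolayPt)) ⊓
      normalizer (R : Set (Equiv.Perm Cfsg.GolayPt))) = 42 ∧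
    Nat.card ↥((Cfsg.M24 ⊓ MulAction.stabilizer (Equiv.Perm Cfsg.GolayPt) ({none, some 0} : Set Cfsg.GolayPt)) ⊓
      centralizer (R : Set (Equiv.Perm Cfsg.GolayPt))) = 14 := by
  classical
  haveI : Fact (Nat.Prime 7) := ⟨by norm_num⟩
  have hle : R ≤ Cfsg.M24 := hR.trans inf_le_left
  have hx7 : zpowers xSeven ≤ Cfsg.M24 := zpowers_le.mpr xSeven_mem
  have hfac : (Nat.card Cfsg.M24).factorization 7 = 1 := by
    rw [Cfsg.Lib.Golay.card_M24]
    have h1 : (244823040 : ℕ) = 7 * 34974720 := rfl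
    rw [h1, Nat.factorization_mul (by norm_num) (by norm_num), Finsupp.add_apply,
      Nat.Prime.factorization_self (by norm_num), Nat.factorization_eq_zero_of_not_dvd (by norm_num)]
  let P1 : Sylow 7 ↥Cfsg.M24 := Sylow.ofCard ((zpowers xSeven).subgroupOf Cfsg.M24) (by
    rw [Nat.card_congr (subgroupOfEquivOfLe hx7).toEquiv, Nat.card_zpowers, orderOf_xSeven, hfac, pow_one])
  let P2 : Sylow 7 ↥Cfsg.M24 := Sylow.ofCard (R.subgroupOf Cfsg.M24) (by
    rw [Nat.card_congr (subgroupOfEquivOfLe hle).toEquiv, h7, hfac, pow_one])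
  obtain ⟨⟨g, hg⟩, hgP⟩ := MulAction.exists_smul_eq ↥Cfsg.M24 P1 P2
  have hgR : (zpowers xSeven).map (MulAut.conj g).toMonoidHom = R := by
    refine eq_of_le_of_card_ge ?_ (by
      rw [card_map_of_injective (MulAut.conj g).injective, Nat.card_zpowers, orderOf_xSeven, h7])
    rintro _ ⟨y, hy, rfl⟩
    have h1 : (⟨g, hg⟩ * ⟨y, hx7 hy⟩ * (⟨g, hg⟩ : ↥Cfsg.M24)⁻¹) ∈
        (((⟨g, hg⟩ : ↥Cfsg.M24) • P1 : Sylow 7 ↥Cfsg.M24) : Subgroup ↥Cfsg.M24) := by
      rw [Sylow.coe_subgroup_smul]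
      exact ⟨⟨y, hx7 hy⟩, hy, rfl⟩
    rw [hgP] at h1
    exact h1
  set Q : Set Cfsg.GolayPt := g⁻¹ • ({none, some 0} : Set Cfsg.GolayPt) with hQ
  have hxQ : xSeven • Q = Q := by
    have h1 : g * xSeven * g⁻¹ ∈ R := hgR ▸ ⟨xSeven, mem_zpowers _, rfl⟩
    have h2 := MulAction.mem_stabilizer_iff.mp (hR h1).2
    rw [hQ, eq_inv_smul_iff, smul_smul, smul_smul]
    exact h2
  obtain ⟨a, b, hab, hQab⟩ : ∃ a b, a ≠ b ∧ Q = {a, b} :=
    ⟨g⁻¹ none, g⁻¹ (some 0), fun h => by simpa using g⁻¹.injective h, by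
      rw [hQ, Set.smul_set_insert, Set.smul_set_singleton]; rfl⟩
  have hfixp : ∀ p ∈ Q, xSeven p = p := by
    intro p hp
    have h1 : ∀ q ∈ Q, xSeven q ∈ Q := fun q hq => hxQ ▸ Set.smul_mem_smul_set hq
    by_contra hne
    have h2 : xSeven (xSeven p) = p := by
      have hq := h1 p hp
      have hqq := h1 _ hq
      rw [hQab] at hp hq hqq
      rcases hp with rfl | rfl <;> rcases hq with e | e
      · exact absurd e hne
      · rcases hqq with e' | e'
        · exact e'
        · exact absurd (xSeven.injective (e'.trans e.symm)) hne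
      · rcases hqq with e' | e'
        · exact absurd (xSeven.injective (e'.trans e.symm)) hne
        · exact e'
      · exact absurd e hne
    have h7' : (xSeven ^ 7) p = xSeven p := by
      simp only [pow_succ, pow_zero, one_mul, Equiv.Perm.mul_apply, h2]
    rw [xSeven_pows.1] at h7'
    exact hne h7'.symm
  have hQmem : Q ∈ fixPairs := by
    rw [hQab]
    exact mem_fixPairs hab (hfixp a (hQab ▸ Set.mem_insert a _))
      (hfixp b (hQab ▸ Set.mem_insert_of_mem a rfl))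
  obtain ⟨hC, hN⟩ := seven_pair hQmem
  have hmap : ∀ (F : Subgroup (Equiv.Perm Cfsg.GolayPt) → Subgroup (Equiv.Perm Cfsg.GolayPt))
      (K : Subgroup (Equiv.Perm Cfsg.GolayPt)),
      (∀ d, d ∈ K ↔ d ∈ Cfsg.M24 ∧ g * d * g⁻¹ ∈ F R) →
      Nat.card ↥((Cfsg.M24 ⊓ MulAction.stabilizer (Equiv.Perm Cfsg.GolayPt)
        ({none, some 0} : Set Cfsg.GolayPt)) ⊓ F R) =
        Nat.card ↥(K ⊓ MulAction.stabilizer (Equiv.Perm Cfsg.GolayPt) Q) := by
    intro F K hK
    rw [← card_map_of_injective (f := (MulAut.conj g).toMonoidHom) (K := K ⊓ MulAction.stabilizer (Equiv.Perm Cfsg.GolayPt) Q) (MulAut.conj g).injective]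
    congr 1
    refine congrArg (fun A : Subgroup (Equiv.Perm Cfsg.GolayPt) => ↥A) (SetLike.ext fun x => ⟨?_, ?_⟩)
    · rintro ⟨⟨hx1, hx2⟩, hx3⟩
      refine ⟨g⁻¹ * x * g, ⟨(hK _).mpr ⟨mul_mem (mul_mem (inv_mem hg) hx1) hg, ?_⟩, ?_⟩, by simp [mul_assoc]⟩
      · rwa [show g * (g⁻¹ * x * g) * g⁻¹ = x by group]
      · refine MulAction.mem_stabilizer_iff.mpr ?_
        rw [hQ, smul_smul, show g⁻¹ * x * g * g⁻¹ = g⁻¹ * x by group, mul_smul, MulAction.mem_stabilizer_iff.mp hx2]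
    · rintro ⟨d, ⟨hd1, hd2⟩, rfl⟩
      obtain ⟨hdM, hdF⟩ := (hK d).mp hd1
      refine ⟨⟨(Cfsg.M24.mul_mem (Cfsg.M24.mul_mem hg hdM) (Cfsg.M24.inv_mem hg) :), MulAction.mem_stabilizer_iff.mpr ?_⟩, hdF⟩
      have h1 := MulAction.mem_stabilizer_iff.mp hd2
      rw [hQ, eq_inv_smul_iff, smul_smul, smul_smul] at h1
      exact h1
  refine ⟨(hmap (fun R => normalizer (R : Set (Equiv.Perm Cfsg.GolayPt))) cgSevenN.grp fun d => ?_).trans hN,
    (hmap (fun R => centralizer (R : Set (Equiv.Perm Cfsg.GolayPt))) cgSeven.grp fun d => ?_).trans hC⟩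
  · rw [← normalizer_seven, ← mem_normalizer_zpowers, ← hgR, ← map_equiv_normalizer_eq]
    exact and_congr_right fun _ => ⟨fun h => ⟨d, h, rfl⟩,
      fun ⟨y, hy, e⟩ => (MulAut.conj g).injective e ▸ hy⟩
  · rw [← centralizer_seven]
    refine and_congr_right fun _ => ⟨fun h => mem_centralizer_iff.mpr ?_, fun h => ?_⟩
    · rw [← hgR]
      rintro _ ⟨y, hy, rfl⟩
      obtain ⟨k, rfl⟩ := mem_zpowers_iff.mp hy
      show (MulAut.conj g) (xSeven ^ k) * (MulAut.conj g) d = (MulAut.conj g) d * (MulAut.conj g) (xSeven ^ k)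
      rw [← map_mul, ← map_mul, ((Commute.symm h).zpow_left k).eq]
    · have h1 := mem_centralizer_iff.mp h _ (hgR ▸ ⟨xSeven, mem_zpowers _, rfl⟩ : g * xSeven * g⁻¹ ∈ R)
      exact (MulAut.conj g).injective (by
        rw [map_mul, map_mul]; exact h1.symm)

/-- Orders of the normaliser and of the centraliser of a subgroup of order seven of the automorphism group. -/
theorem aut_seven (R : Subgroup (MulAut ↥Cfsg.Spor.M22)) (h7 : Nat.card R = 7) :
    Nat.card (normalizer (R : Set (MulAut ↥Cfsg.Spor.M22))) = 42 ∧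
      Nat.card (centralizer (R : Set (MulAut ↥Cfsg.Spor.M22))) = 14 := by
  obtain ⟨e⟩ := duadStab_aut
  set P := Cfsg.M24 ⊓ MulAction.stabilizer (Equiv.Perm Cfsg.GolayPt) ({none, some 0} : Set Cfsg.GolayPt)
  set R' : Subgroup ↥P := R.map e.symm.toMonoidHom with hR'
  have hR : R'.map e.toMonoidHom = R := by
    rw [hR', map_map, show e.toMonoidHom.comp e.symm.toMonoidHom = MonoidHom.id _ from
      MonoidHom.ext e.apply_symm_apply, map_id]
  obtain ⟨h1, h2⟩ := card_local_equiv e R'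
  obtain ⟨k1, k2⟩ := card_local_subtype P R'
  obtain ⟨m1, m2⟩ := duad_seven (R := R'.map P.subtype) (map_subtype_le R') (by
    rw [card_map_of_injective P.subtype_injective, hR', card_map_of_injective e.symm.injective, h7])
  rw [hR] at h1 h2
  exact ⟨h1.trans (k1.trans m1), h2.trans (k2.trans m2)⟩

end Cfsg.Lib.JankoFour
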