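import Mathlib.Data.Nat.Notation

/-!
Certificates for the splitting over the distinguished subgroup: conjugacy of the involutions of the table to three
representatives, and a complement.
-/

set_option autoImplicit false

namespace Cfsg.Lib.JankoFour.Data

/-- An involution, its representative and a word conjugating. -/
def invCls : List (ℕ × ℕ × List ℕ) := [
  (7, 7, []),
  (15, 7, [1, 0, 2, 0, 0, 0, 0, 0]),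
  (16, 7, [2, 1, 0, 2, 0, 2, 0]),
  (19, 7, [1, 1, 1]),
  (20, 7, [0, 1, 2, 2, 0, 0, 1, 0]),
  (24, 7, [0, 0, 0, 2, 2, 0, 0, 1, 0]),
  (25, 7, [1, 2, 0, 0, 2, 0, 1, 0]),
  (26, 7, [1, 2, 1, 0, 2, 0, 1]),
  (39, 7, [0, 0, 1, 1, 0, 2, 2, 0]),
  (52, 7, [1, 0, 2, 1, 0, 0]),
  (55, 7, [2, 1, 2]),
  (72, 7, [1, 0, 0, 1, 2, 1]),
  (102, 7, [2, 0, 0, 2, 0, 0, 1, 0, 2, 0]),
  (110, 7, [0, 0, 2, 2, 1, 1, 0]),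
  (111, 7, [2, 2, 2, 0, 0, 2, 0, 1, 0]),
  (113, 7, [1, 0, 0, 2, 2, 1, 0, 1]),
  (114, 7, [1, 1]),
  (118, 7, [1, 0, 0, 2, 2, 1, 0]),
  (119, 7, [0, 2, 1, 0, 1]),
  (129, 7, [0, 2, 0, 0, 0, 0]),
  (144, 7, [2, 0, 2, 0, 1, 1, 1]),
  (145, 7, [0, 0, 1, 0, 2, 2, 0, 1]),
  (160, 7, [2, 2, 0, 0, 2, 2, 1, 0]),
  (175, 7, [0, 0, 0, 2, 1, 2, 0]),
  (182, 7, [2, 1, 0, 1, 0]),
  (194, 7, [2, 0, 2, 0, 1]),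
  (195, 7, [2, 2, 0, 2, 2, 1, 1, 0]),
  (201, 7, [0, 0, 2, 1, 0, 2, 0]),
  (206, 7, [1, 0, 1, 0, 2, 0, 0, 0]),
  (208, 7, [0, 1, 1, 0, 2, 2, 0, 0, 0]),
  (224, 7, [0, 0, 2, 2, 1, 0, 1]),
  (227, 7, [1, 1, 0, 0, 2, 2, 1, 0]),
  (247, 7, [0, 0, 2, 2, 1, 0]),
  (249, 7, [1]),
  (255, 7, [1, 0, 2, 0, 1, 2]),
  (2, 191, [0, 2, 1, 1]),
  (4, 191, [0, 2, 0, 2, 0, 0, 0, 0]),
  (5, 191, [1, 0, 2, 1]),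
  (6, 191, [0, 0, 2, 0, 2, 0, 1]),
  (32, 191, [0, 0, 2, 0, 2, 0, 2, 0]),
  (63, 191, [1, 2, 1, 0, 2, 1, 0, 1, 0]),
  (66, 191, [1, 0, 0, 2, 1, 0, 2, 1]),
  (74, 191, [1, 0, 1, 0, 2]),
  (76, 191, [0, 0, 2, 0, 1, 2, 0, 1, 1]),
  (82, 191, [1, 2, 0, 2, 1, 0, 1, 0]),
  (162, 191, [1, 2, 0, 2, 0, 0, 2, 1, 0]),
  (164, 191, [2, 0, 2, 1, 0, 2, 1, 0]),
  (191, 191, []),
  (198, 191, [1, 2, 0, 2, 0, 0, 1, 0]),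
  (205, 191, [1, 2, 0, 2, 1, 0, 1, 1, 0]),
  (229, 191, [0, 2, 0, 1, 0, 2, 0, 0, 0, 0]),
  (232, 191, [0, 2, 1, 0, 1, 2, 0, 2, 0]),
  (237, 191, [2, 0, 2, 0, 1, 2, 0, 1]),
  (8, 35, [2, 1, 1, 0, 2, 1]),
  (13, 35, [0, 1, 1, 0, 2, 0, 0, 2, 2, 0]),
  (34, 35, [2, 1, 0, 2, 0, 2, 0]),
  (35, 35, []),
  (45, 35, [2, 2, 0, 2, 1, 2, 0, 0]),
  (57, 35, [1, 0, 2, 1, 2, 0, 0]),
  (58, 35, [0, 0, 2, 1, 0, 2, 1]),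
  (62, 35, [2, 0, 0, 2, 1, 1, 0, 0]),
  (75, 35, [1, 2, 2]),
  (125, 35, [0, 2, 2, 1, 0, 2, 1, 0, 0]),
  (127, 35, [0, 1, 1, 0, 2, 2, 0, 0, 0]),
  (133, 35, [1, 2, 1, 0, 2, 0, 2, 0, 1, 0]),
  (165, 35, [0, 2, 2]),
  (167, 35, [0, 2, 0, 2, 2, 0, 1, 2]),
  (172, 35, [0, 0, 0, 1, 2, 2, 0, 0]),
  (222, 35, [0, 0, 2, 2, 0, 0, 0, 0]),
  (233, 35, [1, 0, 2, 2, 0, 2, 2, 0]),
  (234, 35, [2, 0, 2, 0, 2, 0, 1, 0])]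

/-- A basis of the second maximal isotropic subspace. -/
def w1B : List ℕ := [84, 168, 279, 553, 1028, 2056]

/-- Generators of the complementary subgroup of order sixteen. -/
def yGen : List ℕ := [72, 119, 74]

/-- Two singular vectors from different classes. -/
def eTwo : List ℕ := [7, 71]

end Cfsg.Lib.JankoFour.Data
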