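import Cfsg.Agent.JankoFour.StabChecks
import Cfsg.Agent.JankoFour.SplitData

/-!
Finite checks for the elements of order seven: an element without fixed vectors, and the class of the lifts of the
involutions with eight fixed points in any totally singular complement of the distinguished space.
-/

set_option autoImplicit false
set_option maxRecDepth 100000

namespace Cfsg.Lib.JankoFour

open Data (W0)

/-- The word of an element of order seven. -/
def wSeven : List ℕ := [2, 0, 2, 1, 0]

/-- The map of the element of order seven. -/
def mSeven : List ℕ := wM [Data.A, Data.B, Data.C] wSeven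

theorem mSeven_facts : mpow mSeven 7 = idM ∧ mSeven ≠ idM ∧
    ((List.range 4096).all fun x => x == 0 || mv mSeven x != x) = true ∧
    mm mSeven Data.OM = mm Data.OM mSeven := by decide +kernel

/-- Vectors whose coset of the distinguished space gives an involution with eight fixed points. -/
def twoA (v : ℕ) : Bool := ((partW 1).filter fun w => !pB v w).length == 10

/-- The singular vectors of the second class in the coset of a vector. -/
def cosetTwo (a : ℕ) : List ℕ := (W0.map (a ^^^ ·)).filter fun x => !qB x && cls x == 1

/-- Either the lift is of the first class, or it is not one of the marked cosets. -/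
def okLift (v : ℕ) : Bool := twoA v && cls v == 0

theorem lift_cert :
    (([7, 143, 204, 9] : List ℕ).all (fun a => W0.all fun w => twoA (a ^^^ w)) &&
    (cosetTwo 7).all fun a => (cosetTwo 143).all fun b => pB a b || okLift (a ^^^ b) ||
      (cosetTwo 204).all fun c => pB a c || pB b c || okLift (a ^^^ c) || okLift (b ^^^ c) || okLift (a ^^^ b ^^^ c) ||
        (cosetTwo 9).all fun d => pB a d || pB b d || pB c d || okLift (a ^^^ d) || okLift (b ^^^ d) ||
          okLift (c ^^^ d) || okLift (a ^^^ b ^^^ d) || okLift (a ^^^ c ^^^ d) || okLift (b ^^^ c ^^^ d) ||
            okLift (a ^^^ b ^^^ c ^^^ d)) = true := by decide +kernel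

end Cfsg.Lib.JankoFour
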