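import Cfsg.Agent.JankoFour.Sylow
import Cfsg.Agent.JankoFour.SevenAut
import Cfsg.Agent.JankoFour.SevenChecks
import Cfsg.Agent.JankoFour.LocalCount

/-!
Subgroups of order seven of the centraliser of the involution.
-/

set_option autoImplicit false
set_option maxRecDepth 100000
set_option maxHeartbeats 1000000
set_option linter.style.haveILetI false
set_option linter.unusedSectionVars false

namespace Cfsg.Lib.JankoFour

open Subgroup

universe u

variable {G : Type u} [Group G] [Finite G]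

/-- Subgroups of order a prime dividing the order exactly once are conjugate. -/
theorem conj_of_prime_card {H Q R : Subgroup G} {q : ℕ} [Fact q.Prime] (hQH : Q ≤ H) (hRH : R ≤ H)
    (hQ : Nat.card Q = q) (hR : Nat.card R = q) (hfac : (Nat.card H).factorization q = 1) :
    ∃ h ∈ H, Q.map (MulAut.conj h).toMonoidHom = R := by
  let P1 : Sylow q ↥H := Sylow.ofCard (Q.subgroupOf H) (by
    rw [Nat.card_congr (subgroupOfEquivOfLe hQH).toEquiv, hQ, hfac, pow_one])
  let P2 : Sylow q ↥H := Sylow.ofCard (R.subgroupOf H) (by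
    rw [Nat.card_congr (subgroupOfEquivOfLe hRH).toEquiv, hR, hfac, pow_one])
  obtain ⟨⟨g, hg⟩, hgP⟩ := MulAction.exists_smul_eq ↥H P1 P2
  refine ⟨g, hg, eq_of_le_of_card_ge ?_ (by rw [card_map_of_injective (MulAut.conj g).injective, hQ, hR])⟩
  rintro _ ⟨y, hy, rfl⟩
  have h1 : (⟨g, hg⟩ * ⟨y, hQH hy⟩ * (⟨g, hg⟩ : ↥H)⁻¹) ∈ (((⟨g, hg⟩ : ↥H) • P1 : Sylow q ↥H) : Subgroup ↥H) := by
    rw [Sylow.coe_subgroup_smul]
    exact ⟨⟨y, hQH hy⟩, hy, rfl⟩
  rw [hgP] at h1
  exact h1

/-- Local subgroups under conjugation. -/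
theorem card_local_conj (g : G) (Q : Subgroup G) (A : Subgroup G) (hA : A.map (MulAut.conj g).toMonoidHom = A) :
    Nat.card ↥(A ⊓ normalizer ((Q.map (MulAut.conj g).toMonoidHom : Subgroup G) : Set G)) =
      Nat.card ↥(A ⊓ normalizer (Q : Set G)) ∧
    Nat.card ↥(A ⊓ centralizer ((Q.map (MulAut.conj g).toMonoidHom : Subgroup G) : Set G)) =
      Nat.card ↥(A ⊓ centralizer (Q : Set G)) := by
  have hcen : centralizer ((Q.map (MulAut.conj g).toMonoidHom : Subgroup G) : Set G) =
      (centralizer (Q : Set G)).map (MulAut.conj g).toMonoidHom := by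
    refine SetLike.ext fun x => ⟨fun hx => mem_map.mpr ⟨g⁻¹ * x * g, ?_, by simp [mul_assoc]⟩, ?_⟩
    · refine mem_centralizer_iff.mpr fun y hy => (MulAut.conj g).injective ?_
      have h := mem_centralizer_iff.mp hx _ ⟨y, hy, rfl⟩
      rw [map_mul (MulAut.conj g) y, map_mul (MulAut.conj g) _ y, show (MulAut.conj g) (g⁻¹ * x * g) = x by simp [mul_assoc]]
      exact h
    · rintro ⟨d, hd, rfl⟩
      refine mem_centralizer_iff.mpr ?_
      rintro _ ⟨y, hy, rfl⟩
      rw [← map_mul, ← map_mul, mem_centralizer_iff.mp hd y hy]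
  constructor
  · conv_lhs => rw [← hA, ← map_equiv_normalizer_eq, ← map_inf _ _ _ (MulAut.conj g).injective]
    exact card_map_of_injective (MulAut.conj g).injective
  · conv_lhs => rw [← hA, hcen, ← map_inf _ _ _ (MulAut.conj g).injective]
    exact card_map_of_injective (MulAut.conj g).injective

namespace Ctx

variable {z : G} {P : Subgroup G} (C : Ctx z P)

include C

/-- An element of order seven centralising the element of order three without fixed vectors. -/
theorem exists_model_seven : ∃ s ∈ centralizer ({z} : Set G), orderOf s = 7 ∧ Commute s C.p ∧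
    RepBy C.E C.π s mSeven := by
  obtain ⟨g, hg, hc, hr⟩ := C.exists_inner wSeven 0 (by decide)
  rw [show mm (mpow Data.OM 0) (wM [Data.A, Data.B, Data.C] wSeven) = mSeven by decide +kernel] at hr
  obtain ⟨h7, -, hfix, -⟩ := mSeven_facts
  have hg7 : g ^ 7 ∈ C.E := by
    have h := C.rep_quot (pow_mem hg 7) (one_mem _) (h7 ▸ C.rep_pow hg hr 7) C.rep_one
    simpa using h
  have hz2 : z * z = 1 := C.X.zz
  have h56 : (g ^ 8) ^ 7 = 1 := by
    have hcp : C.p * g ^ 7 * C.p⁻¹ = g ^ 7 := by
      rw [((hc.pow_left 7).symm).eq, mul_inv_cancel_right]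
    rw [← pow_mul, show 8 * 7 = 7 * 8 by norm_num, pow_mul]
    rcases C.fpf _ hg7 (Or.inl hcp) with e | e <;> rw [e]
    · exact one_pow 8
    · rw [show 8 = 2 * 4 by norm_num, pow_mul, pow_two, hz2, one_pow]
  have hrep : RepBy C.E C.π (g ^ 8) mSeven := by
    have h := C.rep_pow hg hr 8
    rwa [show mpow mSeven 8 = mSeven by decide +kernel] at h
  haveI : Fact (Nat.Prime 7) := ⟨by norm_num⟩
  refine ⟨g ^ 8, pow_mem hg 8, orderOf_eq_prime h56 fun e => ?_, hc.pow_left 8, hrep⟩
  have h1 := C.rep_unique (e ▸ hrep : RepBy C.E C.π 1 mSeven) C.rep_one 1 (by norm_num)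
  rw [mv_idM (by norm_num)] at h1
  simp only [List.all_eq_true, List.mem_range, Bool.or_eq_true, beq_iff_eq, bne_iff_ne] at hfix
  exact (hfix 1 (by norm_num)).elim (by norm_num) fun h => h h1

/-- The orders of the local subgroups of a subgroup of order seven in the centraliser. -/
theorem inner_seven {S : Subgroup G} (hSH : S ≤ centralizer ({z} : Set G)) (hS : Nat.card S = 7) :
    Nat.card ↥(centralizer ({z} : Set G) ⊓ normalizer (S : Set G)) = 252 ∧
      Nat.card ↥(centralizer ({z} : Set G) ⊓ centralizer (S : Set G)) = 84 := by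
  classical
  haveI : Fact (Nat.Prime 7) := ⟨by norm_num⟩
  set H := centralizer ({z} : Set G) with hH
  obtain ⟨s, hs, hso, hsp, hrep⟩ := C.exists_model_seven
  have hfac : (Nat.card H).factorization 7 = 1 := by
    rw [hH, C.cardH, show (8192 : ℕ) * 2661120 = 7 * 3114270720 from rfl,
      Nat.factorization_mul (by norm_num) (by norm_num), Finsupp.add_apply,
      Nat.Prime.factorization_self (by norm_num), Nat.factorization_eq_zero_of_not_dvd (by norm_num)]
  have hS0 : zpowers s ≤ H := zpowers_le.mpr hs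
  have hS0c : Nat.card (zpowers s) = 7 := by rw [Nat.card_zpowers, hso]
  obtain ⟨h, hh, hconj⟩ := conj_of_prime_card hS0 hSH hS0c hS hfac
  have hHh : H.map (MulAut.conj h).toMonoidHom = H := by
    refine eq_of_le_of_card_ge ?_ (le_of_eq (card_map_of_injective (MulAut.conj h).injective).symm)
    rintro _ ⟨y, hy, rfl⟩
    exact mul_mem (mul_mem hh hy) (inv_mem hh)
  obtain ⟨e1, e2⟩ := card_local_conj h (zpowers s) H hHh
  rw [hconj] at e1 e2
  rw [e1, e2]
  obtain ⟨k1, k2⟩ := card_local_subtype H ((zpowers s).subgroupOf H)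
  rw [subgroupOf_map_subtype, inf_eq_left.mpr hS0] at k1 k2
  rw [← k1, ← k2]
  set Q := (zpowers s).subgroupOf H
  have hQc : Nat.card Q = 7 := by rw [Nat.card_congr (subgroupOfEquivOfLe hS0).toEquiv, hS0c]
  have hker : Nat.card ↥(C.ψ.ker ⊓ centralizer (Q : Set ↥H)) = 6 := by
    have hz : z ∈ H := C.le C.X.mem
    have hp3 : C.p ^ 3 = 1 := C.ord ▸ pow_orderOf_eq_one C.p
    have hmem : ∀ x : ↥H, x ∈ C.ψ.ker ⊓ centralizer (Q : Set ↥H) ↔
        ∃ e ∈ C.E, (e = 1 ∨ e = z) ∧ ∃ k : ℕ, (x : G) = e * C.p ^ k := by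
      intro x
      rw [mem_inf, MonoidHom.mem_ker, C.ψ_ker]
      constructor
      · rintro ⟨⟨e, he, k, hk⟩, hc⟩
        refine ⟨e, he, ?_, k, hk⟩
        have hxs : Commute (x : G) s :=
          (congrArg Subtype.val (mem_centralizer_iff.mp hc ⟨s, hs⟩ (mem_zpowers s)) :).symm
        have hes : Commute s e := by
          have h := hxs.symm.mul_right (hsp.pow_right k).inv_right
          rwa [hk, mul_inv_cancel_right] at h
        obtain ⟨-, -, hfix, -⟩ := mSeven_facts
        simp only [List.all_eq_true, List.mem_range, Bool.or_eq_true, beq_iff_eq, bne_iff_ne] at hfix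
        refine (C.π_zero e he).mp ((hfix _ (C.π_lt e)).resolve_right fun h => h ?_)
        rw [← hrep e he, hes.eq, mul_inv_cancel_right]
      · rintro ⟨e, he, hez, k, hk⟩
        refine ⟨⟨e, he, k, hk⟩, mem_centralizer_iff.mpr fun y hy => ?_⟩
        obtain ⟨n, hn⟩ := mem_zpowers_iff.mp (mem_subgroupOf.mp hy)
        refine Subtype.ext ?_
        show (y : G) * x = x * y
        rw [← hn, hk]
        have hes : Commute s e := by
          rcases hez with rfl | rfl
          · exact Commute.one_right s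
          · exact mem_centralizer_singleton_iff.mp hs
        exact ((hes.mul_right (hsp.pow_right k)).zpow_left n).eq
    have hb : ∀ b : Bool, (if b then z else 1) ∈ C.E ∧ ((if b then z else 1) = 1 ∨ (if b then z else 1) = z) :=
      fun b => by cases b; exacts [⟨one_mem _, Or.inl rfl⟩, ⟨C.X.mem, Or.inr rfl⟩]
    let f : Bool × Fin 3 → ↥(C.ψ.ker ⊓ centralizer (Q : Set ↥H)) := fun t =>
      ⟨⟨(if t.1 then z else 1) * C.p ^ (t.2 : ℕ), mul_mem (C.le (hb _).1) (pow_mem C.pH _)⟩,
        (hmem _).mpr ⟨_, (hb _).1, (hb _).2, t.2, rfl⟩⟩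
    have hf : Function.Bijective f := by
      constructor
      · rintro ⟨b, i⟩ ⟨b', j⟩ e
        have e' : (if b then z else 1) * C.p ^ (i : ℕ) = (if b' then z else 1) * C.p ^ (j : ℕ) :=
          congrArg (fun x : ↥(C.ψ.ker ⊓ centralizer (Q : Set ↥H)) => ((x : ↥H) : G)) e
        have hzp : ∀ n : ℕ, C.p ^ n ≠ z := fun n hn => by
          have h2 : orderOf (C.p ^ n) ∣ 3 := C.ord ▸ orderOf_pow_dvd n
          rw [hn, C.hz] at h2
          norm_num at h2
        have hij : ∀ {a b : ℕ}, a < 3 → b < 3 → C.p ^ a = C.p ^ b → a = b := fun {a b} ha hb h =>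
          pow_injOn_Iio_orderOf (x := C.p) (by simpa [C.ord] using ha) (by simpa [C.ord] using hb) h
        cases b <;> cases b' <;> simp at e'
        · exact Prod.ext rfl (Fin.ext (hij i.2 j.2 e'))
        · refine absurd ?_ (hzp (i + 2 * j))
          rw [pow_add, e', mul_assoc, ← pow_add, show (j : ℕ) + 2 * j = 3 * j by ring, pow_mul, hp3, one_pow,
            mul_one]
        · refine absurd ?_ (hzp (j + 2 * i))
          rw [pow_add, ← e', mul_assoc, ← pow_add, show (i : ℕ) + 2 * i = 3 * i by ring, pow_mul, hp3, one_pow,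
            mul_one]
        · exact Prod.ext rfl (Fin.ext (hij i.2 j.2 e'))
      · rintro ⟨⟨x, hx⟩, hx'⟩
        obtain ⟨e, -, hez, k, hk⟩ := (hmem _).mp hx'
        have hk3 : C.p ^ k = C.p ^ (k % 3) := by rw [← C.ord, pow_mod_orderOf]
        rcases hez with rfl | rfl
        · exact ⟨(false, ⟨k % 3, Nat.mod_lt _ (by norm_num)⟩), Subtype.ext (Subtype.ext (by simp [f, ← hk3]; simpa using hk.symm))⟩
        · exact ⟨(true, ⟨k % 3, Nat.mod_lt _ (by norm_num)⟩), Subtype.ext (Subtype.ext (by simp [f, ← hk3]; exact hk.symm))⟩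
    rw [← Nat.card_congr (Equiv.ofBijective f hf), Nat.card_prod, Nat.card_eq_fintype_card (α := Bool),
      Fintype.card_bool, Nat.card_fin]
  haveI : Finite (MulAut Spor.M22) := Finite.of_surjective C.ψ C.ψ_surj
  have hk : ¬ 7 ∣ Nat.card C.ψ.ker := by
    have h := C.ψ.ker.card_mul_index
    rw [index_ker, MonoidHom.range_eq_top.mpr C.ψ_surj, card_top, Cfsg.Lib.JankoFour.card_aut_M22.1, C.cardH] at h
    intro hd
    obtain ⟨c, hc⟩ := hd
    rw [hc] at h
    omega
  obtain ⟨h1, h2, h3⟩ := LocalCount.local_cards C.ψ C.ψ_surj Q (by norm_num : Nat.Prime 7) hQc hk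
  obtain ⟨a1, a2⟩ := aut_seven _ h1
  rw [h2, h3, hker, a1, a2]
  exact ⟨rfl, rfl⟩

end Ctx

end Cfsg.Lib.JankoFour
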