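import Cfsg.Agent.JankoFour.Elementary

/-!
Existence and uniqueness of the elementary abelian subgroup of order two to the eleventh.
-/

set_option autoImplicit false
set_option maxRecDepth 100000
set_option maxHeartbeats 1000000
set_option linter.style.haveILetI false
set_option linter.unusedSectionVars false

namespace Cfsg.Lib.JankoFour

open Subgroup
open Data (W0 w0B X0 liftX nor)

universe u

variable {G : Type u} [Group G] [Finite G]

theorem elt_zero : elt 0 = idM := by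
  have h := table_check
  simp only [Bool.and_eq_true, beq_iff_eq] at h
  exact h.1.2

theorem W0_spec {x : ℕ} (hx : x ∈ W0) : x < 4096 ∧ qB x = false ∧ mv Data.OM x ∈ W0 := by
  have h := List.all_eq_true.mp W0_facts.2.2.2.2.1 x hx
  simp only [Bool.and_eq_true, decide_eq_true_eq, Bool.not_eq_true', List.contains_iff_mem] at h
  exact ⟨h.1.1.1, h.1.1.2, h.1.2⟩

theorem W0_xor {a b : ℕ} (ha : a ∈ W0) (hb : b ∈ W0) : a ^^^ b ∈ W0 := by
  have h := W0_facts.1
  simp only [kerCert, Bool.and_eq_true, List.all_eq_true, List.contains_iff_mem] at h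
  exact h.2 a ha b hb

theorem W0_zero : (0 : ℕ) ∈ W0 := by decide +kernel

theorem W0_perp {x y : ℕ} (hx : x ∈ W0) (hy : y ∈ W0) : pB x y = false := by
  have h : (W0.all fun x => W0.all fun y => !pB x y) = true := by decide +kernel
  simp only [List.all_eq_true, Bool.not_eq_true'] at h
  exact h x hx y hy

theorem OM_sum {x : ℕ} (hx : x < 4096) : mv Data.OM (mv Data.OM x) ^^^ mv Data.OM x = x :=
  lin_ext (f := fun x => mv Data.OM (mv Data.OM x) ^^^ mv Data.OM x) (g := id) (· ^^^ ·) 12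
    (fun a b => by simp only [mv_xor]; simp [Nat.xor_assoc, Nat.xor_left_comm]) (fun a b => rfl)
    (by simp [mv_zero]) (by decide +kernel) x hx

/-- The fifteen indices. -/
def xi (k : ℕ) : ℕ := (liftX.getD k (0, 0, [])).1

theorem xi_facts : (∀ k < 15, xi k < 256 ∧ xi k ∈ spanL X0.2 ∧ xi k ≠ 0) ∧
    (∀ i < 256, i ∈ spanL X0.2 → i = 0 ∨ ∃ k < 15, xi k = i) ∧
    (∀ k < 15, ∀ l < 15, mul8 (xi k) (xi l) ∈ spanL X0.2 ∧ (mul8 (xi k) (xi l) = 0 ↔ k = l)) := by
  have h : ((List.range 15).all fun k => decide (xi k < 256) && (spanL X0.2).contains (xi k) && xi k != 0 &&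
      (List.range 15).all fun l => (spanL X0.2).contains (mul8 (xi k) (xi l)) &&
        decide (mul8 (xi k) (xi l) = 0 ↔ k = l)) = true ∧
    ((spanL X0.2).all fun i => i == 0 || (List.range 15).any fun k => xi k == i) = true := by decide +kernel
  obtain ⟨h1, h2⟩ := h
  simp only [List.all_eq_true, List.mem_range, Bool.and_eq_true, decide_eq_true_eq, List.contains_iff_mem,
    bne_iff_ne] at h1
  simp only [List.all_eq_true, Bool.or_eq_true, beq_iff_eq, List.any_eq_true, List.mem_range] at h2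
  exact ⟨fun k hk => ⟨(h1 k hk).1.1.1, (h1 k hk).1.1.2, (h1 k hk).1.2⟩, fun i _ hi => h2 i hi,
    fun k hk l hl => (h1 k hk).2 l hl⟩

namespace Ctx

variable {z : G} {P : Subgroup G} (C : Ctx z P)

include C

theorem quot_central {g h : G} (hg : g ∈ centralizer ({z} : Set G)) (hh : h ∈ centralizer ({z} : Set G)) {M : List ℕ}
    (hM : RepBy C.E C.π g M) (hN : RepBy C.E C.π h M) (cg : Commute g C.p) (ch : Commute h C.p) :
    g = h ∨ g = h * z := by
  have he := C.rep_quot hg hh hM hN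
  have hc : Commute (h⁻¹ * g) C.p := ch.inv_left.mul_left cg
  rcases C.fpf _ he (Or.inl (by rw [← hc.eq, mul_inv_cancel_right])) with e | e
  · exact Or.inl (inv_mul_eq_one.mp e).symm
  · exact Or.inr (inv_mul_eq_iff_eq_mul.mp e)

theorem z_comm {h : G} (hh : h ∈ centralizer ({z} : Set G)) : Commute h z := mem_centralizer_singleton_iff.mp hh

theorem exists_lifts : ∃ x : ℕ → G, ∀ k < 15, x k ∈ centralizer ({z} : Set G) ∧ Commute (x k) C.p ∧
    RepBy C.E C.π (x k) (elt (xi k)) := by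
  have h : ∀ k, ∃ g : G, k < 15 → g ∈ centralizer ({z} : Set G) ∧ Commute g C.p ∧ RepBy C.E C.π g (elt (xi k)) := by
    intro k
    by_cases hk : k < 15
    · obtain ⟨hl, hlen, -⟩ := liftX_check
      simp only [List.all_eq_true, Bool.and_eq_true, decide_eq_true_eq, beq_iff_eq] at hl
      have hkl : k < liftX.length := by omega
      obtain ⟨⟨-, hw⟩, he⟩ := hl _ (List.getElem_mem hkl)
      obtain ⟨g, hg, hc, hr⟩ := C.exists_inner (liftX[k]).2.2 (liftX[k]).2.1 hw
      refine ⟨g, fun _ => ⟨hg, hc, ?_⟩⟩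
      rw [xi, List.getD_eq_getElem _ _ hkl, ← he]
      exact hr
    · exact ⟨1, fun h => absurd h hk⟩
  choose x hx using h
  exact ⟨x, hx⟩

theorem lifts_square {x : ℕ → G} (hx : ∀ k < 15, x k ∈ centralizer ({z} : Set G) ∧ Commute (x k) C.p ∧
    RepBy C.E C.π (x k) (elt (xi k))) : ∀ k < 15, x k * x k = 1 := by
  obtain ⟨hxi, hspan, hprod⟩ := xi_facts
  -- squares are central
  have hsq : ∀ k < 15, x k * x k = 1 ∨ x k * x k = z := by
    intro k hk
    obtain ⟨h1, h2, h3⟩ := hx k hk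
    have hr := C.Sset_mul (hxi k hk).1 (hxi k hk).1 h1 h3 h3
    rw [(hprod k hk k hk).2.mpr rfl, elt_zero] at hr
    rcases C.quot_central (mul_mem h1 h1) (one_mem _) hr C.rep_one (h2.mul_left h2) (Commute.one_left _) with e | e
    · exact Or.inl e
    · exact Or.inr (by rw [e, one_mul])
  have hshift : ∀ (g : G) (k : ℕ), k < 15 → (g = x k ∨ g = x k * z) → g * g = x k * x k := by
    intro g k hk hg
    rcases hg with rfl | rfl
    · rfl
    · have hz := C.z_comm (hx k hk).1
      calc x k * z * (x k * z) = x k * (z * x k) * z := by group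
        _ = x k * (x k * z) * z := by rw [hz.eq]
        _ = x k * x k * (z * z) := by group
        _ = x k * x k := by rw [C.X.zz, mul_one]
  -- constant along the orbit
  have hstep : ∀ t ∈ nor, ∀ k < 15, t.2.getD k 0 < 15 ∧ x (t.2.getD k 0) * x (t.2.getD k 0) = x k * x k := by
    intro t ht k hk
    have h := nor_check.1
    simp only [List.all_eq_true, Bool.and_eq_true, decide_eq_true_eq, beq_iff_eq, List.mem_range] at h
    obtain ⟨hw, hk'⟩ := h t ht
    obtain ⟨hlt, hM⟩ := hk' k hk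
    refine ⟨hlt, ?_⟩
    obtain ⟨n, hn, hnc, hnr⟩ := C.exists_inner t.1 0 hw
    have hnr' : RepBy C.E C.π n (wM [Data.A, Data.B, Data.C] t.1) := fun q hq => by
      rw [hnr q hq, mv_mm, mpow, mv_idM]
      refine mv_lt (n := 12) (M := wM [Data.A, Data.B, Data.C] t.1) ?_ _
      have hlt : (nor.all fun t => (wM [Data.A, Data.B, Data.C] t.1).all fun m => decide (m < 4096)) = true := by decide +kernel
      exact list_lt (List.all_eq_true.mp hlt t ht)
    obtain ⟨h1, h2, h3⟩ := hx k hk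
    obtain ⟨g1, g2, g3⟩ := hx _ hlt
    have r1 : RepBy C.E C.π (n * x k) (mm (elt (xi (t.2.getD k 0))) (wM [Data.A, Data.B, Data.C] t.1)) := by
      rw [show mm (elt (xi (t.2.getD k 0))) (wM [Data.A, Data.B, Data.C] t.1) =
        mm (wM [Data.A, Data.B, Data.C] t.1) (elt (xi k)) from hM]
      exact C.rep_mul h1 hnr' h3
    have r2 : RepBy C.E C.π (x (t.2.getD k 0) * n) (mm (elt (xi (t.2.getD k 0))) (wM [Data.A, Data.B, Data.C] t.1)) :=
      C.rep_mul hn g3 hnr'
    have hcase : n * x k * n⁻¹ = x (t.2.getD k 0) ∨ n * x k * n⁻¹ = x (t.2.getD k 0) * z := by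
      rcases C.quot_central (mul_mem hn h1) (mul_mem g1 hn) r1 r2 (hnc.mul_left h2) (g2.mul_left hnc) with e | e
      · exact Or.inl (by rw [e, mul_inv_cancel_right])
      · refine Or.inr ?_
        rw [e, show x (t.2.getD k 0) * n * z * n⁻¹ = x (t.2.getD k 0) * (n * z) * n⁻¹ by group, (C.z_comm hn).eq]
        group
    rw [← hshift _ _ hlt hcase]
    have : n * x k * n⁻¹ * (n * x k * n⁻¹) = n * (x k * x k) * n⁻¹ := by group
    rw [this]
    rcases hsq k hk with e | e <;> rw [e]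
    · group
    · rw [(C.z_comm hn).eq, mul_inv_cancel_right]
  have horb : ∀ n, ∀ k ∈ norOrbit n, k < 15 ∧ x k * x k = x 0 * x 0 := by
    intro n
    induction n with
    | zero => intro k hk; simp [norOrbit] at hk; exact ⟨by omega, by rw [hk]⟩
    | succ n ih =>
      intro k hk
      simp only [norOrbit, List.mem_dedup, List.mem_append, List.mem_flatMap, List.mem_map] at hk
      rcases hk with hk | ⟨t, ht, a, ha, rfl⟩
      · exact ih k hk
      · obtain ⟨h1, h2⟩ := hstep t ht a (ih a ha).1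
        exact ⟨h1, h2.trans (ih a ha).2⟩
  have hall : ∀ k < 15, x k * x k = x 0 * x 0 := fun k hk =>
    (horb 8 k (List.contains_iff_mem.mp (List.all_eq_true.mp nor_check.2 k (List.mem_range.mpr hk)))).2
  rcases hsq 0 (by norm_num) with e0 | e0
  · exact fun k hk => (hall k hk).trans e0
  exfalso
  have hz : ∀ k < 15, x k * x k = z := fun k hk => (hall k hk).trans e0
  -- products of distinct lifts anticommute
  have hanti : ∀ k < 15, ∀ l < 15, k ≠ l → (∃ m < 15, mul8 (xi k) (xi l) = xi m ∧ (x k * x l = x m ∨ x k * x l = x m * z)) ∧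
      x k * x l = z * (x l * x k) := by
    intro k hk l hl hkl
    obtain ⟨k1, k2, k3⟩ := hx k hk
    obtain ⟨l1, l2, l3⟩ := hx l hl
    obtain ⟨hmem, hne⟩ := hprod k hk l hl
    rcases hspan _ (mul8_lt _ _) hmem with h0 | ⟨m, hm, hm'⟩
    · exact absurd (hne.mp h0) hkl
    obtain ⟨m1, m2, m3⟩ := hx m hm
    have r := C.Sset_mul (hxi k hk).1 (hxi l hl).1 l1 k3 l3
    rw [← hm'] at r
    have hc := C.quot_central (mul_mem k1 l1) m1 r m3 (k2.mul_left l2) m2
    refine ⟨⟨m, hm, hm'.symm, hc⟩, ?_⟩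
    have e := (hshift _ m hm hc).trans (hz m hm)
    have hzl : Commute (x l) z := C.z_comm l1
    have hzk : Commute (x k) z := C.z_comm k1
    calc x k * x l = x k * x l * (x k * x l) * ((x l)⁻¹ * (x k)⁻¹) := by group
      _ = z * ((x l)⁻¹ * (x k)⁻¹) := by rw [e]
      _ = z * (x l * x k) := by
        have ek : (x k)⁻¹ = x k * z := inv_eq_of_mul_eq_one_right (by rw [← mul_assoc, hz k hk, C.X.zz])
        have el : (x l)⁻¹ = x l * z := inv_eq_of_mul_eq_one_right (by rw [← mul_assoc, hz l hl, C.X.zz])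
        rw [ek, el, show x l * z * (x k * z) = x l * (z * x k) * z by group, ← hzk.eq,
          show x l * (x k * z) * z = x l * x k * (z * z) by group, C.X.zz, mul_one]
  obtain ⟨j, hj, hj0, l, hl, hl0, hlj, m, hm, hprodm, hm0⟩ :
      ∃ j < 15, j ≠ 0 ∧ ∃ l < 15, l ≠ 0 ∧ l ≠ j ∧ ∃ m < 15, mul8 (xi j) (xi l) = xi m ∧ m ≠ 0 := by decide +kernel
  obtain ⟨⟨m', hm', hmm, hc⟩, -⟩ := hanti j hj l hl (Ne.symm hlj)
  have hmeq : m' = m := by
    have h : ∀ a < 15, ∀ b < 15, xi a = xi b → a = b := by decide +kernel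
    exact h m' hm' m hm (hmm.symm.trans hprodm)
  subst hmeq
  have a1 := (hanti 0 (by norm_num) j hj (Ne.symm hj0)).2
  have a2 := (hanti 0 (by norm_num) l hl (Ne.symm hl0)).2
  have a3 := (hanti 0 (by norm_num) m' hm (Ne.symm hm0)).2
  have h0H := (hx 0 (by norm_num)).1
  have hz0 : Commute (x 0) z := C.z_comm h0H
  have hzj : Commute (x j) z := C.z_comm (hx j hj).1
  have hcomm : x 0 * (x j * x l) = x j * x l * x 0 := by
    calc x 0 * (x j * x l) = x 0 * x j * x l := by group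
      _ = z * (x j * x 0) * x l := by rw [a1]
      _ = z * x j * (x 0 * x l) := by group
      _ = z * x j * (z * (x l * x 0)) := by rw [a2]
      _ = z * (x j * z) * (x l * x 0) := by group
      _ = z * (z * x j) * (x l * x 0) := by rw [hzj.eq]
      _ = (z * z) * (x j * x l * x 0) := by group
      _ = _ := by rw [C.X.zz, one_mul]
  have hzm : Commute (x m') z := C.z_comm (hx m' hm).1
  have hbad : x 0 * x m' = x m' * x 0 := by
    rcases hc with e | e
    · rw [← e]; exact hcomm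
    · rw [e] at hcomm
      calc x 0 * x m' = x 0 * (x m' * z) * z := by
            rw [mul_assoc (x 0), mul_assoc (x m'), C.X.zz, mul_one]
        _ = x m' * z * x 0 * z := by rw [hcomm]
        _ = x m' * (z * x 0) * z := by group
        _ = x m' * (x 0 * z) * z := by rw [hz0.eq]
        _ = x m' * x 0 * (z * z) := by group
        _ = x m' * x 0 := by rw [C.X.zz, mul_one]
  rw [hbad] at a3
  exact C.X.ne (mul_eq_right.mp a3.symm)

theorem V_spec : Cfsg.IsElementaryAbelian 2 C.V ∧ Nat.card ↥C.V = 2 ^ 11 ∧ C.V ≤ C.S := by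
  classical
  obtain ⟨x, hx⟩ := C.exists_lifts
  obtain ⟨hxi, hspan, hprod⟩ := xi_facts
  have hsq := C.lifts_square hx
  have hfixW : ∀ i ∈ spanL X0.2, i < 256 → ∀ w ∈ W0, mv (elt i) w = w := by
    have h : ((spanL X0.2).all fun i => W0.all fun w => mv (elt i) w == w) = true := by decide +kernel
    simp only [List.all_eq_true, beq_iff_eq] at h
    exact fun i hi _ w hw => h i hi w hw
  have hsqW : ∀ w ∈ C.Wt, w * w = 1 := fun w hw => (C.π_sq w hw.1).mpr (W0_spec hw.2).2.1
  -- lifts centralise the fixed space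
  have hcent : ∀ k < 15, ∀ w ∈ C.Wt, Commute (x k) w := by
    intro k hk w hw
    obtain ⟨h1, h2, h3⟩ := hx k hk
    have hδ : ∀ u ∈ C.Wt, x k * u * (x k)⁻¹ = u ∨ x k * u * (x k)⁻¹ = z * u := by
      intro u hu
      have he := C.conj_mem h1 hu.1
      have hπ : C.π (x k * u * (x k)⁻¹) = C.π u := by
        rw [h3 u hu.1, hfixW _ (hxi k hk).2.1 (hxi k hk).1 _ hu.2]
      have hm : x k * u * (x k)⁻¹ * u⁻¹ ∈ C.E := mul_mem he (inv_mem hu.1)
      have h0 : C.π (x k * u * (x k)⁻¹ * u⁻¹) = 0 := by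
        have e := C.π_mul _ hm u hu.1
        rw [inv_mul_cancel_right, hπ] at e
        calc C.π (x k * u * (x k)⁻¹ * u⁻¹) = C.π (x k * u * (x k)⁻¹ * u⁻¹) ^^^ C.π u ^^^ C.π u := by
              rw [Nat.xor_assoc, Nat.xor_self, Nat.xor_zero]
          _ = 0 := by rw [← e, Nat.xor_self]
      rcases (C.π_zero _ hm).mp h0 with e | e
      · exact Or.inl (mul_inv_eq_one.mp e)
      · exact Or.inr (mul_inv_eq_iff_eq_mul.mp e)
    obtain ⟨hwl, -, hwO⟩ := W0_spec hw.2
    obtain ⟨u, hu, hπu⟩ := C.π_surj _ (W0_spec hwO).1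
    have huW : u ∈ C.Wt := ⟨hu, hπu ▸ hwO⟩
    have hpuE := C.conj_mem C.pH hu
    have hpuW : C.p * u * C.p⁻¹ ∈ C.Wt :=
      ⟨hpuE, by rw [C.rep_p u hu, hπu]; exact (W0_spec hwO).2.2⟩
    set y := u * (C.p * u * C.p⁻¹) with hy
    have hconj : x k * y * (x k)⁻¹ = y := by
      have hpp : x k * (C.p * u * C.p⁻¹) * (x k)⁻¹ = C.p * (x k * u * (x k)⁻¹) * C.p⁻¹ := by
        rw [show x k * (C.p * u * C.p⁻¹) * (x k)⁻¹ = (x k * C.p) * u * (x k * C.p)⁻¹ by group, h2.eq]; group
      rw [hy, show x k * (u * (C.p * u * C.p⁻¹)) * (x k)⁻¹ =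
        (x k * u * (x k)⁻¹) * (x k * (C.p * u * C.p⁻¹) * (x k)⁻¹) by group, hpp]
      rcases hδ u huW with e | e <;> rw [e]
      have hpz : Commute C.p z := C.z_comm C.pH
      rw [show C.p * (z * u) * C.p⁻¹ = (C.p * z) * u * C.p⁻¹ by group, hpz.eq,
        show z * C.p * u * C.p⁻¹ = z * (C.p * u * C.p⁻¹) by group,
        show z * u * (z * (C.p * u * C.p⁻¹)) = z * (u * z) * (C.p * u * C.p⁻¹) by group,
        C.X.central u hu, ← mul_assoc z z, C.X.zz, one_mul, mul_assoc]
    have hyW : C.π y = C.π w := by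
      rw [hy, C.π_mul u hu _ hpuE, C.rep_p u hu, hπu, Nat.xor_comm]
      exact OM_sum hwl
    have hm : w * y⁻¹ ∈ C.E := mul_mem hw.1 (inv_mem (mul_mem hu hpuE))
    have h0 : C.π (w * y⁻¹) = 0 := by
      have e := C.π_mul _ hm y (mul_mem hu hpuE)
      rw [inv_mul_cancel_right, hyW] at e
      calc C.π (w * y⁻¹) = C.π (w * y⁻¹) ^^^ C.π w ^^^ C.π w := by rw [Nat.xor_assoc, Nat.xor_self, Nat.xor_zero]
        _ = 0 := by rw [← e, Nat.xor_self]
    rw [← inv_mul_cancel_right w y]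
    refine Commute.mul_right ?_ (mul_inv_eq_iff_eq_mul.mp hconj)
    rcases (C.π_zero _ hm).mp h0 with e | e <;> rw [e]
    · exact Commute.one_right _
    · exact C.z_comm h1
  have hxV : ∀ k < 15, x k ∈ C.V := fun k hk =>
    ⟨⟨(hx k hk).1, xi k, (hxi k hk).1, (hxi k hk).2.1, (hx k hk).2.2⟩, hcent k hk⟩
  have hWV : ∀ w ∈ C.Wt, w ∈ C.V := fun w hw =>
    ⟨⟨C.le hw.1, 0, by norm_num, by decide +kernel, by rw [elt_zero]; exact C.rep_E hw.1⟩,
      fun v hv => (C.π_comm w hw.1 v hv.1).mpr (W0_perp hw.2 hv.2)⟩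
  have hdec : ∀ h ∈ C.V, h ∈ C.Wt ∨ ∃ k < 15, ∃ w ∈ C.Wt, h = x k * w := by
    rintro h ⟨⟨hh, i, hi, hiX, hr⟩, hc⟩
    rcases hspan i hi hiX with rfl | ⟨k, hk, rfl⟩
    · rw [elt_zero] at hr
      have hE : h ∈ C.E := by simpa using C.rep_quot hh (one_mem _) hr C.rep_one
      exact Or.inl ⟨hE, C.perp_W0 hE hc⟩
    · refine Or.inr ⟨k, hk, (x k)⁻¹ * h, ⟨C.rep_quot hh (hx k hk).1 hr (hx k hk).2.2, ?_⟩, by group⟩
      exact C.perp_W0 (C.rep_quot hh (hx k hk).1 hr (hx k hk).2.2) fun w hw => (hcent k hk w hw).inv_left.mul_left (hc w hw)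
  have hexp : ∀ h ∈ C.V, h * h = 1 := by
    intro h hh
    rcases hdec h hh with hw | ⟨k, hk, w, hw, rfl⟩
    · exact hsqW h hw
    · calc x k * w * (x k * w) = x k * (w * x k) * w := by group
        _ = x k * (x k * w) * w := by rw [(hcent k hk w hw).eq]
        _ = x k * x k * (w * w) := by group
        _ = 1 := by rw [hsq k hk, hsqW w hw, one_mul]
  refine ⟨⟨⟨⟨fun a b => ?_⟩⟩, fun a ha => by rw [pow_two]; exact hexp a ha⟩, le_antisymm C.card_V_le ?_,
    fun h hh => C.mem_S.mpr ⟨hh.1.1, hh.1.2.choose, hh.1.2.choose_spec.1, hh.1.2.choose_spec.2.2⟩⟩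
  · have e1 := hexp _ a.2
    have e2 := hexp _ b.2
    have e3 := hexp _ (mul_mem a.2 b.2)
    refine Subtype.ext ?_
    show (a : G) * b = b * a
    calc (a : G) * b = ((a : G) * b)⁻¹ := (inv_eq_of_mul_eq_one_right e3).symm
      _ = (b : G)⁻¹ * (a : G)⁻¹ := mul_inv_rev _ _
      _ = b * a := by rw [inv_eq_of_mul_eq_one_right e1, inv_eq_of_mul_eq_one_right e2]
  · choose sec hsecE hsec using fun v : ↥(W0.toFinset) => C.π_surj v.1 (W0_spec (List.mem_toFinset.mp v.2)).1
    have hW : ∀ (v : ↥(W0.toFinset)) (b : Bool), (if b then z else 1) * sec v ∈ C.Wt := by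
      intro v b
      have hb : (if b then z else 1) ∈ C.E := by cases b <;> simp [C.X.mem, one_mem]
      refine ⟨mul_mem hb (hsecE v), ?_⟩
      rw [C.π_mul _ hb _ (hsecE v), (C.π_zero _ hb).mpr (by cases b <;> simp), Nat.zero_xor, hsec]
      exact List.mem_toFinset.mp v.2
    let x' : Fin 16 → G := fun i => if i.val < 15 then x i.val else 1
    let xi' : Fin 16 → ℕ := fun i => if i.val < 15 then xi i.val else 0
    have hx' : ∀ i, x' i ∈ C.V ∧ x' i ∈ centralizer ({z} : Set G) ∧ RepBy C.E C.π (x' i) (elt (xi' i)) ∧ xi' i < 256 := by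
      intro i
      simp only [x', xi']
      split
      · next hi => exact ⟨hxV _ hi, (hx _ hi).1, (hx _ hi).2.2, (hxi _ hi).1⟩
      · exact ⟨one_mem _, one_mem _, elt_zero ▸ C.rep_one, by norm_num⟩
    have hxi' : Function.Injective xi' := by
      intro a b e
      have h : ∀ a < 16, ∀ b < 16, (if a < 15 then xi a else 0) = (if b < 15 then xi b else 0) → a = b := by
        decide +kernel
      exact Fin.ext (h a.val a.2 b.val b.2 e)
    let g : Fin 16 × ↥(W0.toFinset) × Bool → ↥C.V := fun t =>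
      ⟨x' t.1 * ((if t.2.2 then z else 1) * sec t.2.1), mul_mem (hx' t.1).1 (hWV _ (hW t.2.1 t.2.2))⟩
    have hg : Function.Injective g := by
      rintro ⟨i, v, b⟩ ⟨i', v', b'⟩ e
      have e' : x' i * ((if b then z else 1) * sec v) = x' i' * ((if b' then z else 1) * sec v') :=
        congrArg Subtype.val e
      have hrep : ∀ (i : Fin 16) (w : G), w ∈ C.E → RepBy C.E C.π (x' i * w) (elt (xi' i)) := fun i w hw q hq => by
        rw [C.rep_mul (C.le hw) (hx' i).2.2.1 (C.rep_E hw) q hq, mv_mm, mv_idM (C.π_lt q)]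
      have hi : i = i' := hxi' (elt_inj (hx' i).2.2.2 (hx' i').2.2.2
        (C.rep_unique (hrep i _ (hW v b).1) (e' ▸ hrep i' _ (hW v' b').1)))
      subst hi
      have e2 := mul_left_cancel e'
      have hπ : ∀ (v : ↥(W0.toFinset)) (b : Bool), C.π ((if b then z else 1) * sec v) = v.1 := fun v b => by
        have hb : (if b then z else 1) ∈ C.E := by cases b <;> simp [C.X.mem, one_mem]
        rw [C.π_mul _ hb _ (hsecE v), (C.π_zero _ hb).mpr (by cases b <;> simp), Nat.zero_xor, hsec]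
      have hv : v = v' := Subtype.ext (by rw [← hπ v b, ← hπ v' b', e2])
      subst hv
      have e3 := mul_right_cancel e2
      have hb : b = b' := by
        cases b <;> cases b' <;> simp_all [C.X.ne, Ne.symm C.X.ne]
      rw [hb]
    refine le_trans (le_of_eq ?_) (Nat.card_le_card_of_injective g hg)
    rw [Nat.card_prod, Nat.card_prod, Nat.card_eq_fintype_card (α := ↥(W0.toFinset)), Fintype.card_coe,
      List.toFinset_card_of_nodup W0_facts.2.1, W0_facts.2.2.1]
    simp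

theorem unique (T : Sylow 2 G) :
    ∃! V : Subgroup G, V ≤ (T : Subgroup G) ∧ Cfsg.IsElementaryAbelian 2 V ∧ Nat.card ↥V = 2 ^ 11 := by
  obtain ⟨T₀, hT₀⟩ := C.sylow
  haveI : Fact (Nat.Prime 2) := ⟨Nat.prime_two⟩
  obtain ⟨g, hg⟩ := MulAction.exists_smul_eq G T₀ T
  have hTS : (T : Subgroup G) = C.S.map (MulAut.conj g).toMonoidHom := by
    rw [← hg, Sylow.coe_subgroup_smul, ← hT₀]
    rfl
  obtain ⟨hel, hcard, hVS⟩ := C.V_spec
  have helmap : ∀ (W : Subgroup G) (a : G), Cfsg.IsElementaryAbelian 2 W →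
      Cfsg.IsElementaryAbelian 2 (W.map (MulAut.conj a).toMonoidHom) := by
    intro W a hW
    refine ⟨⟨⟨?_⟩⟩, ?_⟩
    · rintro ⟨_, u, hu, rfl⟩ ⟨_, v, hv, rfl⟩
      refine Subtype.ext ?_
      show (MulAut.conj a).toMonoidHom u * (MulAut.conj a).toMonoidHom v =
        (MulAut.conj a).toMonoidHom v * (MulAut.conj a).toMonoidHom u
      rw [← map_mul, ← map_mul]
      exact congrArg _ (congrArg Subtype.val (hW.1.is_comm.comm ⟨u, hu⟩ ⟨v, hv⟩))
    · rintro _ ⟨u, hu, rfl⟩
      rw [← map_pow, hW.2 u hu, map_one]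
  refine ⟨C.V.map (MulAut.conj g).toMonoidHom, ⟨hTS ▸ map_mono hVS, helmap _ g hel,
    (card_map_of_injective (MulAut.conj g).injective).trans hcard⟩, ?_⟩
  rintro W ⟨hWT, hWe, hWc⟩
  have hWS : W.map (MulAut.conj g⁻¹).toMonoidHom ≤ C.S := by
    rintro _ ⟨u, hu, rfl⟩
    obtain ⟨s, hs, hse⟩ := hTS ▸ hWT hu
    rw [← hse]
    simpa [mul_assoc] using hs
  have hle := C.le_V (helmap W g⁻¹ hWe) hWS ((card_map_of_injective (MulAut.conj g⁻¹).injective).trans hWc)
  have heq : W.map (MulAut.conj g⁻¹).toMonoidHom = C.V := eq_of_le_of_card_ge hle (by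
    rw [hcard, card_map_of_injective (MulAut.conj g⁻¹).injective, hWc])
  rw [← heq]
  ext y
  constructor
  · intro hy
    exact ⟨_, ⟨y, hy, rfl⟩, by simp [mul_assoc]⟩
  · rintro ⟨_, ⟨u, hu, rfl⟩, rfl⟩
    simpa [mul_assoc] using hu

end Ctx

end Cfsg.Lib.JankoFour
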