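import Cfsg.Agent.JankoFour.StabChecks
import Cfsg.Agent.JankoFour.Existence

/-!
Finite checks on the singular vectors fixed by an outer element of the distinguished subgroup.
-/

set_option autoImplicit false
set_option maxRecDepth 100000

namespace Cfsg.Lib.JankoFour

open Data (W0)

/-- A basis of the distinguished space inside its second part. -/
def partB : List ℕ := [1027, 1084, 1354, 1375, 1688, 2049]

/-- The singular vectors of the second class fixed by the first outer index. -/
def fixS : List ℕ :=
  (List.range 4096).filter fun v => v != 0 && !qB v && mv (elt (xi 0)) v == v && cls v == 1

/-- The number of members not orthogonal to a vector. -/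
def offDeg (v : ℕ) : ℕ := (fixS.filter fun u => pB u v).length

theorem fix_split : (fixS.all fun v => (partW 1).contains v == (offDeg v != 32)) = true ∧
    ((partW 1).all fixS.contains) = true := by decide +kernel

theorem partB_ok : (partB.all (partW 1).contains) = true ∧ (W0.all (spanX partB).contains) = true := by decide +kernel

theorem cls_one_count : ((List.range 4096).filter fun v => v != 0 && !qB v && cls v == 1).length = 1386 := by
  decide +kernel

theorem part_nonempty : (partW 0).getD 0 0 ∈ partW 0 ∧ (partW 1).getD 0 0 ∈ partW 1 := by decide +kernel

end Cfsg.Lib.JankoFour
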