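import Cfsg.Agent.JankoFour.Split
import Cfsg.Agent.JankoFour.OuterChecks
import Cfsg.Agent.LargeFischer.DuadCentralizer

/-!
The centraliser of an involution of the second class normalises the distinguished subgroup.
-/

set_option autoImplicit false
set_option maxRecDepth 100000
set_option maxHeartbeats 1000000
set_option linter.style.haveILetI false
set_option linter.unusedSectionVars false

namespace Cfsg.Lib.JankoFour

open Subgroup
open Data (W0)

universe u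

variable {G : Type u} [Group G] [Finite G]

theorem mem_fixS {v : ℕ} :
    v ∈ fixS ↔ v < 4096 ∧ v ≠ 0 ∧ qB v = false ∧ mv (elt (xi 0)) v = v ∧ cls v = 1 := by
  simp [fixS, List.mem_filter, and_assoc]

/-- An orbit and a stabiliser of a subgroup acting by conjugation. -/
theorem orbit_card (K : Subgroup G) (t : G) :
    {x | ∃ k ∈ K, k * t * k⁻¹ = x}.ncard * Nat.card ↥(K ⊓ centralizer ({t} : Set G)) = Nat.card ↥K := by
  letI : MulAction ↥K G := MulAction.compHom G ((ConjAct.toConjAct : G ≃* ConjAct G).toMonoidHom.comp K.subtype)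
  have horb : MulAction.orbit ↥K t = {x | ∃ k ∈ K, k * t * k⁻¹ = x} := by
    ext x
    exact ⟨fun ⟨k, e⟩ => ⟨k, k.2, e⟩, fun ⟨k, hk, e⟩ => ⟨⟨k, hk⟩, e⟩⟩
  have hst : MulAction.stabilizer ↥K t = (K ⊓ centralizer ({t} : Set G)).subgroupOf K := by
    ext k
    rw [MulAction.mem_stabilizer_iff, mem_subgroupOf, mem_inf, mem_centralizer_singleton_iff]
    show (k : G) * t * (k : G)⁻¹ = t ↔ _
    rw [mul_inv_eq_iff_eq_mul]
    exact ⟨fun h => ⟨k.2, h⟩, fun h => h.2⟩
  have h := (MulAction.stabilizer ↥K t).card_mul_index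
  rw [MulAction.index_stabilizer, horb, hst, Nat.card_congr (subgroupOfEquivOfLe inf_le_left).toEquiv] at h
  rw [← h, mul_comm]

namespace Ctx

variable {z : G} {P : Subgroup G} (C : Ctx z P)

include C

theorem conj_cls_H {a b : G} (ha : a ∈ C.E) (hb : b ∈ C.E) (ha0 : C.π a ≠ 0) (hb0 : C.π b ≠ 0)
    (hqa : qB (C.π a) = false) (hqb : qB (C.π b) = false) (hc : cls (C.π a) = cls (C.π b)) :
    ∃ h ∈ centralizer ({z} : Set G), h * a * h⁻¹ = b := by
  obtain ⟨g, hg, hga⟩ := C.to_rep _ _ rfl (C.π_lt a) ha0 hqa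
  obtain ⟨k, hk, hkb⟩ := C.to_rep _ _ rfl (C.π_lt b) hb0 hqb
  have e := hga a ha rfl
  rw [hc, ← hkb b hb rfl] at e
  rcases C.π_eq (C.conj_mem hg ha) (C.conj_mem hk hb) e with r | r
  · refine ⟨k⁻¹ * g, mul_mem (inv_mem hk) hg, ?_⟩
    rw [show k⁻¹ * g * a * (k⁻¹ * g)⁻¹ = k⁻¹ * (g * a * g⁻¹) * k by group, r]; group
  · obtain ⟨q, hq, eq⟩ := C.X.exists_swap hb fun hx => hb0 (by
      rcases (Cfsg.Lib.LargeExtra.mem_zpowers_two C.X.zz).mp hx with e | e
      · rw [e, C.π_one]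
      · rw [e, (C.π_zero z C.X.mem).mpr (Or.inr rfl)])
    refine ⟨q * (k⁻¹ * g), mul_mem (C.le hq) (mul_mem (inv_mem hk) hg), ?_⟩
    have hzk : k⁻¹ * z * k = z := by rw [(C.z_comm (inv_mem hk)).eq]; group
    have hqz : q * z * q⁻¹ = z := by rw [(C.z_comm (C.le hq)).eq, mul_inv_cancel_right]
    calc q * (k⁻¹ * g) * a * (q * (k⁻¹ * g))⁻¹ = q * (k⁻¹ * (g * a * g⁻¹) * k) * q⁻¹ := by group
      _ = q * ((k⁻¹ * z * k) * b) * q⁻¹ := by rw [r]; group
      _ = (q * z * q⁻¹) * (q * b * q⁻¹) := by rw [hzk]; group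
      _ = z * (z * b) := by rw [hqz, eq]
      _ = b := by rw [← mul_assoc, C.X.zz, one_mul]

theorem inner_centralizer [IsSimpleGroup G] (hG : ¬ IsMulCommutative G) {t : G} (ht : t ∈ (C.sextet hG).T)
    (ht0 : t ∈ C.E) : centralizer ({z} : Set G) ⊓ centralizer ({t} : Set G) ≤ C.M := by
  classical
  obtain ⟨h36, hz0, -⟩ := C.inner_card hG
  have htV : t ∈ C.V := ht.1
  have htp : t ∈ C.liftsOf (partW 1) := by
    rcases C.A0_cases ⟨htV, ht0⟩ with r | r | r | r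
    exacts [absurd r ht.2.1, absurd (r ▸ IsConj.refl z) ht.2.2, absurd (hz0 t r) ht.2.2, r]
  obtain ⟨h1, h2, h3⟩ := mem_partW.mp htp.2
  have hM : C.M ⊓ centralizer ({t} : Set G) ≤ centralizer ({z} : Set G) ⊓ centralizer ({t} : Set G) :=
    fun m hm => ⟨hm.1.1, hm.2⟩
  refine le_trans ?_ (inf_le_left : C.M ⊓ centralizer ({t} : Set G) ≤ C.M)
  refine (eq_of_le_of_card_ge hM ?_).ge
  have hsmall : {x | ∃ m ∈ C.M, m * t * m⁻¹ = x}.ncard ≤ 36 := by
    refine le_trans (Set.ncard_le_ncard ?_ (Set.toFinite _)) h36.le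
    rintro _ ⟨m, hm, rfl⟩
    obtain ⟨hn, hz⟩ := C.M_normalizes hm
    exact ⟨C.inv0 hn hz ⟨htV, ht0⟩, fun e => ht.2.1 (conj_eq_one_iff.mp e),
      fun e => ht.2.2 (e.trans (isConj_iff.mpr ⟨m, rfl⟩ : IsConj t (m * t * m⁻¹)).symm)⟩
  have hbig : 2772 ≤ {x | ∃ h ∈ centralizer ({z} : Set G), h * t * h⁻¹ = x}.ncard := by
    set l := (List.range 4096).filter fun v => v != 0 && !qB v && cls v == 1 with hl
    have hmem : ∀ v ∈ l, v < 4096 ∧ v ≠ 0 ∧ qB v = false ∧ cls v = 1 := fun v hv => by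
      simpa [hl, and_assoc] using hv
    rw [show 2772 = 2 * l.length by rw [hl, cls_one_count],
      ← C.lifts_ncard (l := l) (List.nodup_range.filter _) fun v hv => (hmem v hv).1]
    refine Set.ncard_le_ncard ?_ (Set.toFinite _)
    rintro a ⟨haE, hal⟩
    obtain ⟨-, k2, k3, k4⟩ := hmem _ hal
    exact C.conj_cls_H ht0 haE h2 k2 (W0_spec h1).2.1 k3 (h3.trans k4.symm)
  have e1 := orbit_card C.M t
  have e2 := orbit_card (centralizer ({z} : Set G)) t
  rw [C.M_card.1] at e1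
  rw [C.cardH] at e2
  have i1 := Nat.mul_le_mul_right (Nat.card ↥(C.M ⊓ centralizer ({t} : Set G))) hsmall
  have i2 := Nat.mul_le_mul_right (Nat.card ↥(centralizer ({z} : Set G) ⊓ centralizer ({t} : Set G))) hbig
  rw [e1] at i1
  rw [e2] at i2
  omega

theorem conj_fixS [IsSimpleGroup G] (hG : ¬ IsMulCommutative G) {t h : G} (htE : t ∈ centralizer ({z} : Set G))
    (hr : RepBy C.E C.π t (elt (xi 0))) (hh : h ∈ centralizer ({z} : Set G)) (hht : Commute h t) {q : G}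
    (hq : q ∈ C.E) (hS : C.π q ∈ fixS) : C.π (h * q * h⁻¹) ∈ fixS := by
  obtain ⟨-, h2, h3, h4, h5⟩ := mem_fixS.mp hS
  have hq' := C.conj_mem hh hq
  obtain ⟨-, hz0, hn1⟩ := C.inner_card hG
  have hne : C.π (h * q * h⁻¹) ≠ 0 := fun e => by
    rcases (C.π_zero _ hq').mp e with e | e
    · exact h2 (by rw [conj_eq_one_iff.mp e, C.π_one])
    · have hqz : q = z := by
        rw [show q = h⁻¹ * (h * q * h⁻¹) * h by group, e, (C.z_comm (inv_mem hh)).eq]; group
      exact h2 (by rw [hqz]; exact (C.π_zero z C.X.mem).mpr (Or.inr rfl))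
  have hsq : qB (C.π (h * q * h⁻¹)) = false := by
    rw [← C.π_sq _ hq', show h * q * h⁻¹ * (h * q * h⁻¹) = h * (q * q) * h⁻¹ by group, (C.π_sq q hq).mpr h3]
    group
  refine mem_fixS.mpr ⟨C.π_lt _, hne, hsq, ?_, ?_⟩
  · rw [← hr _ hq', show t * (h * q * h⁻¹) * t⁻¹ = (t * h) * q * (t * h)⁻¹ by group, ← hht.eq,
      show h * t * q * (h * t)⁻¹ = h * (t * q * t⁻¹) * h⁻¹ by group]
    rcases C.π_eq (C.conj_mem htE hq) hq ((hr q hq).trans h4) with e | e
    · rw [e]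
    · rw [e, show h * (z * q) * h⁻¹ = (h * z) * q * h⁻¹ by group, (C.z_comm hh).eq,
        show z * h * q * h⁻¹ = z * (h * q * h⁻¹) by group, C.π_z_mul hq']
  · by_contra hc
    have hc0 : cls (C.π (h * q * h⁻¹)) = 0 := (cls_two _).resolve_right hc
    obtain ⟨p0, p1⟩ := part_nonempty
    obtain ⟨a, haE, ha⟩ := C.π_surj _ (W0_spec (mem_partW.mp p0).1).1
    obtain ⟨b, hbE, hb⟩ := C.π_surj _ (W0_spec (mem_partW.mp p1).1).1
    have hza : IsConj z (h * q * h⁻¹) := (hz0 a ⟨haE, ha ▸ p0⟩).trans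
      (C.conj_cls haE hq' (ha ▸ (mem_partW.mp p0).2.1) hne (ha ▸ (W0_spec (mem_partW.mp p0).1).2.1) hsq
        (by rw [ha, (mem_partW.mp p0).2.2, hc0]))
    refine hn1 b ⟨hbE, hb ▸ p1⟩ ((hza.trans (isConj_iff.mpr ⟨h, rfl⟩ : IsConj q (h * q * h⁻¹)).symm).trans
      (C.conj_cls hq hbE h2 (hb ▸ (mem_partW.mp p1).2.1) h3 (hb ▸ (W0_spec (mem_partW.mp p1).1).2.1) ?_))
    rw [h5, hb, (mem_partW.mp p1).2.2]

theorem offDeg_le [IsSimpleGroup G] (hG : ¬ IsMulCommutative G) {t h : G} (htE : t ∈ centralizer ({z} : Set G))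
    (hr : RepBy C.E C.π t (elt (xi 0))) (hh : h ∈ centralizer ({z} : Set G)) (hht : Commute h t) {q : G}
    (hq : q ∈ C.E) : offDeg (C.π q) ≤ offDeg (C.π (h * q * h⁻¹)) := by
  classical
  have hnd : fixS.Nodup := List.nodup_range.filter _
  rw [offDeg, offDeg, ← List.toFinset_card_of_nodup (hnd.filter _), ← List.toFinset_card_of_nodup (hnd.filter _)]
  choose sec hsecE hsec using fun v : {v // v ∈ (fixS.filter fun u => pB u (C.π q)).toFinset} =>
    C.π_surj v.1 (mem_fixS.mp (List.mem_filter.mp (List.mem_toFinset.mp v.2)).1).1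
  have hout : ∀ v, C.π (h * sec v * h⁻¹) ∈ (fixS.filter fun u => pB u (C.π (h * q * h⁻¹))).toFinset := by
    intro v
    have hv := List.mem_filter.mp (List.mem_toFinset.mp v.2)
    refine List.mem_toFinset.mpr (List.mem_filter.mpr ⟨C.conj_fixS hG htE hr hh hht (hsecE v) (by rw [hsec]; exact hv.1), ?_⟩)
    by_contra hb
    rw [Bool.not_eq_true] at hb
    have hc := ((C.π_comm _ (C.conj_mem hh (hsecE v)) _ (C.conj_mem hh hq)).mpr hb).map (MulAut.conj h⁻¹)
    have hc' : Commute (sec v) q := by simpa [mul_assoc] using hc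
    have := (C.π_comm _ (hsecE v) _ hq).mp hc'
    rw [hsec, hv.2] at this
    exact Bool.noConfusion this
  rw [← Fintype.card_coe, ← Fintype.card_coe (s := (fixS.filter fun u => pB u (C.π (h * q * h⁻¹))).toFinset)]
  refine Fintype.card_le_of_injective (fun v => ⟨_, hout v⟩) fun v w e => Subtype.ext ?_
  have e' : C.π (h * sec v * h⁻¹) = C.π (h * sec w * h⁻¹) := congrArg Subtype.val e
  rw [← hsec v, ← hsec w]
  rcases C.π_eq (C.conj_mem hh (hsecE v)) (C.conj_mem hh (hsecE w)) e' with r | r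
  · rw [mul_left_cancel (mul_right_cancel r)]
  · have hz : sec v = z * sec w := by
      rw [show sec v = h⁻¹ * (h * sec v * h⁻¹) * h by group, r,
        show h⁻¹ * (z * (h * sec w * h⁻¹)) * h = h⁻¹ * z * h * sec w by group, (C.z_comm (inv_mem hh)).eq]
      group
    rw [hz, C.π_z_mul (hsecE w)]

theorem outer_centralizer [IsSimpleGroup G] (hG : ¬ IsMulCommutative G) {t : G}
    (htE : t ∈ centralizer ({z} : Set G)) (hr : RepBy C.E C.π t (elt (xi 0))) :
    centralizer ({z} : Set G) ⊓ centralizer ({t} : Set G) ≤ C.M := by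
  intro h hmem
  obtain ⟨hh, ht⟩ := Subgroup.mem_inf.mp hmem
  have hht : Commute h t := mem_centralizer_singleton_iff.mp ht
  obtain ⟨hsplit, hsub⟩ := fix_split
  simp only [List.all_eq_true, beq_iff_eq] at hsplit
  simp only [List.all_eq_true, List.contains_iff_mem] at hsub
  have hpart : ∀ q ∈ C.E, C.π q ∈ partW 1 → C.π (h * q * h⁻¹) ∈ W0 := by
    intro q hq hp
    have hS := hsub _ hp
    have hS' := C.conj_fixS hG htE hr hh hht hq hS
    have h1 := C.offDeg_le hG htE hr hh hht hq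
    have h2 := C.offDeg_le hG htE hr (inv_mem hh) hht.inv_left (C.conj_mem hh hq)
    rw [show h⁻¹ * (h * q * h⁻¹) * h⁻¹⁻¹ = q by group] at h2
    have e := hsplit _ hS'
    rw [← le_antisymm h1 h2, ← hsplit _ hS] at e
    have hc : (partW 1).contains (C.π (h * q * h⁻¹)) = true := by
      rw [e]; exact List.contains_iff_mem.mpr hp
    exact (mem_partW.mp (List.contains_iff_mem.mp hc)).1
  obtain ⟨hB, hgen⟩ := partB_ok
  simp only [List.all_eq_true, List.contains_iff_mem] at hB hgen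
  let p : ℕ → Prop := fun x => x ∈ W0 ∧ ∀ q ∈ C.E, C.π q = x → C.π (h * q * h⁻¹) ∈ W0
  have hp : ∀ x ∈ spanX partB, p x := by
    refine spanX_ind (p := p) ⟨W0_zero, ?_⟩ partB fun b hb x hx => ⟨W0_xor (mem_partW.mp (hB b hb)).1 hx.1, ?_⟩
    · intro q hq e
      rcases (C.π_zero q hq).mp e with r | r
      · rw [r, mul_one, mul_inv_cancel, C.π_one]; exact W0_zero
      · rw [r, (C.z_comm hh).eq, mul_inv_cancel_right, (C.π_zero z C.X.mem).mpr (Or.inr rfl)]; exact W0_zero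
    · intro q hq e
      obtain ⟨qb, hqb, eb⟩ := C.π_surj b (W0_spec (mem_partW.mp (hB b hb)).1).1
      have hq2 : qb⁻¹ * q ∈ C.E := mul_mem (inv_mem hqb) hq
      have e2 : C.π (qb⁻¹ * q) = x := by
        rw [C.π_mul _ (inv_mem hqb) q hq, C.π_inv hqb, eb, e, ← Nat.xor_assoc, Nat.xor_self, Nat.zero_xor]
      rw [show h * q * h⁻¹ = h * qb * h⁻¹ * (h * (qb⁻¹ * q) * h⁻¹) by group,
        C.π_mul _ (C.conj_mem hh hqb) _ (C.conj_mem hh hq2)]
      exact W0_xor (hpart qb hqb (eb ▸ hB b hb)) (hx.2 _ hq2 e2)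
  exact ⟨hh, fun q hq => ⟨C.conj_mem hh hq.1, (hp _ (hgen _ hq.2)).2 q hq.1 rfl⟩⟩

theorem centralizer_pair [IsSimpleGroup G] (hG : ¬ IsMulCommutative G) {t : G} (ht : t ∈ (C.sextet hG).T) {h : G}
    (hhz : h * z = z * h) (hht : h * t = t * h) : h ∈ normalizer (C.V : Set G) := by
  refine (C.M_normalizes ?_).1
  have hmem : h ∈ centralizer ({z} : Set G) ⊓ centralizer ({t} : Set G) :=
    ⟨mem_centralizer_singleton_iff.mpr hhz, mem_centralizer_singleton_iff.mpr hht⟩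
  by_cases ht0 : t ∈ C.E
  · exact C.inner_centralizer hG ht ht0 hmem
  obtain ⟨y, hy⟩ := C.exists_lift (xi_facts.1 0 (by norm_num)).1
  have hyV := C.x_in_V (by norm_num) hy
  have hyE : y ∉ C.E := fun e => by
    have h0 := elt_inj hy.2.1 (by norm_num) (C.rep_unique hy.2.2 (elt_zero ▸ C.rep_E e))
    exact (xi_facts.1 0 (by norm_num)).2.2 h0
  obtain ⟨m, hm, he⟩ := C.coset ht.1 ht0 hyV hyE
  set t' := m * t * m⁻¹ with ht'
  have ht'H : t' ∈ centralizer ({z} : Set G) := mul_mem (mul_mem hm.1 (C.V_le_H ht.1)) (inv_mem hm.1)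
  have hr : RepBy C.E C.π t' (elt (xi 0)) := fun q hq => by
    rw [show t' = y * (t'⁻¹ * y)⁻¹ by group,
      C.rep_mul (C.le (inv_mem he)) hy.2.2 (C.rep_E (inv_mem he)) q hq, mv_mm, mv_idM (C.π_lt q)]
  have h' : m * h * m⁻¹ ∈ centralizer ({z} : Set G) ⊓ centralizer ({t'} : Set G) := by
    refine mem_inf.mpr ⟨mul_mem (mul_mem hm.1 (mem_centralizer_singleton_iff.mpr hhz : h ∈ centralizer ({z} : Set G))) (inv_mem hm.1), mem_centralizer_singleton_iff.mpr ?_⟩
    rw [ht', show m * h * m⁻¹ * (m * t * m⁻¹) = m * (h * t) * m⁻¹ by group, hht]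
    group
  have := mul_mem (mul_mem (inv_mem hm) (C.outer_centralizer hG ht'H hr h')) hm
  rwa [show m⁻¹ * (m * h * m⁻¹) * m = h by group] at this

theorem unique_normalizer {g : G} (hg : ∀ a ∈ C.V, g * a * g⁻¹ ∈ normalizer (C.V : Set G)) :
    g ∈ normalizer (C.V : Set G) := by
  haveI : Fact (Nat.Prime 2) := ⟨Nat.prime_two⟩
  let W : Subgroup G := C.V.map (MulAut.conj g).toMonoidHom
  have hWN : W ≤ normalizer (C.V : Set G) := by
    rintro _ ⟨a, ha, rfl⟩
    exact hg a ha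
  have hV : IsPGroup 2 ↥C.V := IsPGroup.of_card C.V_spec.2.1
  obtain ⟨T, hT⟩ := (IsPGroup.to_sup_of_normal_right' (hV.map _ : IsPGroup 2 ↥W) hV hWN).exists_le_sylow
  have hWe : Cfsg.IsElementaryAbelian 2 W := by
    refine ⟨⟨⟨fun a b => Subtype.ext ?_⟩⟩, ?_⟩
    · obtain ⟨x, hx, ex⟩ := a.2
      obtain ⟨y, hy, ey⟩ := b.2
      show (a : G) * b = b * a
      rw [← ex, ← ey, ← map_mul, ← map_mul, (C.V_comm hx hy).eq]
    · rintro _ ⟨x, hx, rfl⟩
      rw [← map_pow, pow_two, C.V_sq hx, map_one]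
  have hWV : W = C.V := (C.unique T).unique
    ⟨le_sup_left.trans hT, hWe, (card_map_of_injective (MulAut.conj g).injective).trans C.V_spec.2.1⟩
    ⟨le_sup_right.trans hT, C.V_spec.1, C.V_spec.2.1⟩
  exact Subgroup.mem_normalizer_fintype fun a ha => hWV ▸ (⟨a, ha, rfl⟩ : g * a * g⁻¹ ∈ W)

theorem centralizer_T [IsSimpleGroup G] (hG : ¬ IsMulCommutative G) {t : G} (ht : t ∈ (C.sextet hG).T) :
    centralizer ({t} : Set G) ≤ normalizer (C.V : Set G) :=
  (C.sextet hG).centralizer_le (fun _ hg => C.unique_normalizer hg)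
    (fun _ hu _ h1 h2 => C.centralizer_pair hG hu h1 h2) ht

end Ctx

end Cfsg.Lib.JankoFour
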