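import Cfsg.Agent.JankoFour.Checks
import Cfsg.Agent.JankoFour.SylowData

/-!
Finite checks on the Sylow 2-subgroup of the quotient of the centraliser by the extraspecial subgroup: its table, its
elementary abelian subgroups and their fixed spaces.
-/

set_option autoImplicit false
set_option maxRecDepth 100000

namespace Cfsg.Lib.JankoFour

open Data

/-- A product from the table. -/
def mul8 (i j : ℕ) : ℕ := (mtR.getD i 0 >>> (8 * j)) % 256

/-- An entry of a column for a generator. -/
def col8 (k i : ℕ) : ℕ := (tblC.getD k 0 >>> (8 * i)) % 256

/-- The coded element with given index. -/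
def elt (i : ℕ) : List ℕ := els.getD i idM

/-- The map of a generator of the Sylow subgroup. -/
def sgen (k : ℕ) : List ℕ := mm (mpow OM (sw.getD k (0, [])).1) (wM [A, B, C, T] (sw.getD k (0, [])).2)

/-- The span of a list of indices. -/
def spanL (g : List ℕ) : List ℕ := g.foldl (fun l x => l ++ l.map fun a => mul8 a x) [0]

/-- The mask of a list of indices. -/
def maskL (l : List ℕ) : ℕ := l.foldl (fun m x => m ||| 2 ^ x) 0

/-- Elements commute. -/
def comm8 (i j : ℕ) : Bool := mul8 i j == mul8 j i

/-- A level is closed under adding one commuting involution outside. -/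
def nextOK (cur nxt : List (ℕ × List ℕ)) : Bool :=
  cur.all fun A => invS.all fun x =>
    A.1.testBit x || !(A.2.all fun y => comm8 x y) ||
      (fun m => nxt.any fun A' => A'.1 == m) (maskL (spanL (A.2 ++ [x])))

/-- The masks of a level are those of the spans. -/
def levelMask (k : ℕ) (l : List (ℕ × List ℕ)) : Bool :=
  l.all fun A => A.2.length == k && A.2.all (fun y => A.1.testBit y) &&
    (fun s => maskL s == A.1 && s.length == 2 ^ k && decide s.Nodup) (spanL A.2)

/-- Apply the maps of a list of indices, less the identity, in blocks of twelve bits. -/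
def stackL : List ℕ → ℕ → ℕ
  | [], _ => 0
  | i :: r, x => (mv (elt i) x ^^^ x) ^^^ (stackL r x <<< 12)

/-- A certificate that the kernel of a map lies in a closed list. -/
def kerCert (f : ℕ → ℕ) (c : List ℕ × List ℕ) (l : List ℕ) : Bool :=
  (idM.all fun x => mv c.1 (f x) ^^^ mv c.2 x == x) && c.2.all (fun p => l.contains p) && l.contains 0 &&
    l.all fun a => l.all fun b => l.contains (a ^^^ b)

/-- The pairing with a list of codes. -/
def pairL : List ℕ → ℕ → ℕ
  | [], _ => 0
  | w :: r, x => (if pB x w then 1 else 0) ^^^ (pairL r x <<< 1)

theorem table_check : (els.length == 256 && mtR.length == 256 && sw.length == 6 && tblC.length == 6 && elt 0 == idM &&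
    ((List.range 256).all fun i => mul8 i 0 == i &&
      (List.range 255).all fun j' =>
        (fun j => (parP >>> (8 * j)) % 256) (j' + 1) < j' + 1 && (parK >>> (8 * (j' + 1))) % 256 < 6 &&
        mul8 i (j' + 1) == col8 ((parK >>> (8 * (j' + 1))) % 256) (mul8 i ((parP >>> (8 * (j' + 1))) % 256)))) = true := by
  decide +kernel

theorem gen_check : ((List.range 256).all fun i => (List.range 6).all fun k =>
    mm (elt i) (sgen k) == elt (col8 k i)) = true := by decide +kernel

theorem els_lt : (els.all fun M => M.all (fun m => decide (m < 4096))) = true ∧ els.Nodup := by decide +kernel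

theorem els_faithful : (els.all fun M => M.length == 12) = true := by decide +kernel

theorem inv_complete : ((List.range 256).all fun i => i == 0 || !(mul8 i i == 0) || invS.contains i) = true := by
  decide +kernel

theorem level_one : (invS.all fun x => (fun m => ab1.any fun A' => A'.1 == m) (maskL (spanL [x]))) = true := by
  decide +kernel

theorem level_two : nextOK ab1 ab2 = true := by decide +kernel
theorem level_three : nextOK ab2 ab3 = true := by decide +kernel
theorem level_four : nextOK ab3 ab4 = true := by decide +kernel
theorem level_five : nextOK ab4 ab5 = true := by decide +kernel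
theorem level_six : nextOK ab5 [] = true := by decide +kernel

theorem masks_ok : levelMask 1 ab1 = true ∧ levelMask 2 ab2 = true ∧ levelMask 3 ab3 = true ∧ levelMask 4 ab4 = true ∧
    levelMask 5 ab5 = true := by decide +kernel

theorem fix_four : (fixC4.length == ab4.length && (List.range ab4.length).all fun i =>
    (fun A c => kerCert (stackL A.2) (c.1, c.2.1) c.2.2 && ((decide (A = X0) && decide (c.2.2 = W0)) || decide (c.2.2.length ≤ 8)))
      (ab4.getD i (0, [])) (fixC4.getD i ([], [], []))) = true := by decide +kernel

theorem fix_five : (fixC5.length == ab5.length && (List.range ab5.length).all fun i =>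
    (fun A c => kerCert (stackL A.2) (c.1, c.2.1) c.2.2 && decide (c.2.2.length ≤ 2))
      (ab5.getD i (0, [])) (fixC5.getD i ([], [], []))) = true := by decide +kernel

theorem W0_facts : kerCert (pairL w0B) perpC W0 = true ∧ W0.Nodup ∧ W0.length = 64 ∧ w0B.all (W0.contains ·) = true ∧
    (W0.all fun x => decide (x < 4096) && !qB x && W0.contains (mv OM x) &&
      ((mv OM (mv OM x)) ^^^ mv OM (mv OM (mv OM x)) == mv OM (mv OM x) ^^^ x)) = true ∧
    (w0B.all fun x => w0B.all fun y => !pB x y) = true ∧
    (X0.2.all fun i => W0.all fun x => mv (elt i) x == x) = true := by decide +kernel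

theorem liftX_check : (liftX.all fun t => decide (t.1 < 256) && X0.1.testBit t.1 && decide (∀ i ∈ t.2.2, i < 3) &&
    mm (mpow OM t.2.1) (wM [A, B, C] t.2.2) == elt t.1) = true ∧ liftX.length = 15 ∧
    ((List.range 256).all fun i => i == 0 || !X0.1.testBit i || liftX.any fun t => t.1 == i) = true ∧
    X0 ∈ ab4 ∧ X0.1.testBit 0 = true := by decide +kernel

/-- The orbit of the first element of the distinguished subgroup. -/
def norOrbit : ℕ → List ℕ
  | 0 => [0]
  | n + 1 => (fun l => (l ++ nor.flatMap fun t => l.map fun a => t.2.getD a 0).dedup) (norOrbit n)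

theorem nor_check : (nor.all fun t => decide (∀ i ∈ t.1, i < 3) &&
      (List.range 15).all fun k => decide (t.2.getD k 0 < 15) &&
        (fun M => mm (elt (liftX.getD (t.2.getD k 0) (0, 0, [])).1) M == mm M (elt (liftX.getD k (0, 0, [])).1))
          (wM [A, B, C] t.1)) = true ∧
    ((List.range 15).all fun k => (norOrbit 8).contains k) = true := by decide +kernel

end Cfsg.Lib.JankoFour
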