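import Cfsg.Agent.JankoFour.StabChecks
import Cfsg.Agent.JankoFour.SplitData
import Cfsg.Agent.JankoFour.SylowChecks

/-!
Finite checks on the two involution classes outside the distinguished subgroup.
-/

set_option autoImplicit false
set_option maxRecDepth 100000

namespace Cfsg.Lib.JankoFour

open Data (W0 X0 eTwo)

theorem span_commute : ((spanL X0.2).all fun i => mm (elt i) Data.OM == mm Data.OM (elt i)) = true := by
  decide +kernel

theorem fixed_counts : ((W0.filter fun w => !pB (eTwo.getD 0 0) w).length = 32 ∧
    (W0.filter fun w => !pB (eTwo.getD 1 0) w).length = 32) ∧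
    ((partW 1).filter fun w => !pB (eTwo.getD 0 0) w).length = 10 := by decide +kernel

end Cfsg.Lib.JankoFour
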