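import Cfsg.Agent.JankoFour.CentralT
import Cfsg.Agent.JankoFour.InvolutionChecks
import Cfsg.Agent.LargeFischer.DuadInvolution

/-!
Every involution is conjugate into the distinguished subgroup.
-/

set_option autoImplicit false
set_option maxRecDepth 100000
set_option maxHeartbeats 1000000
set_option linter.style.haveILetI false
set_option linter.unusedSectionVars false

namespace Cfsg.Lib.JankoFour

open Subgroup
open Data (W0 X0 eTwo)

universe u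

variable {G : Type u} [Group G] [Finite G]

namespace Ctx

variable {z : G} {P : Subgroup G} (C : Ctx z P)

include C

theorem exists_index_lift {n : ℕ} (hn : n < 256) (hs : n ∈ spanL X0.2) :
    ∃ x ∈ C.V, RepBy C.E C.π x (elt n) := by
  rcases xi_facts.2.1 n hn hs with rfl | ⟨k, hk, rfl⟩
  · exact ⟨1, one_mem _, elt_zero ▸ C.rep_one⟩
  · obtain ⟨y, hy⟩ := C.exists_lift hn
    exact ⟨y, C.x_in_V hk hy, hy.2.2⟩

theorem p_normalizes : C.p ∈ normalizer (C.V : Set G) :=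
  (C.M_normalizes (C.mem_M_of_rep C.pH C.rep_p fun _ hb => (W0_spec (w0B_mem hb)).2.2)).1

theorem p_comm_V {v : G} (hv : v ∈ C.V) : C.p * v * C.p⁻¹ * v⁻¹ ∈ C.E := by
  obtain ⟨⟨hH, i, hi, hs, hr⟩, -⟩ := C.mem_V.mp hv
  have h : C.In v := (C.in_index hH hr).mpr (beq_iff_eq.mp (List.all_eq_true.mp span_commute i hs))
  have := inv_mem h
  rwa [show (v * C.p * v⁻¹ * C.p⁻¹)⁻¹ = C.p * v * C.p⁻¹ * v⁻¹ by group] at this

/-- A complement meets the product of the extraspecial and the distinguished subgroup inside the former. -/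
theorem complement_E {K : Subgroup G} (hKN : K ≤ normalizer (C.V : Set G)) (hKV : K ⊓ C.V = ⊥)
    (hsup : K ⊔ C.V = normalizer (C.V : Set G)) {κ : G} (hκ : κ ∈ K) {f : G} (hf : f ∈ C.E) (hfκ : f⁻¹ * κ ∈ C.V) :
    κ ∈ C.E := by
  have hdec : ∀ g ∈ normalizer (C.V : Set G), ∃ v ∈ C.V, ∃ k ∈ K, g = v * k := by
    intro g hg
    rw [← hsup, sup_comm] at hg
    have hg' : g ∈ ((C.V ⊔ K : Subgroup G) : Set G) := hg
    rw [coe_mul_of_right_le_normalizer_left C.V K hKN] at hg'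
    obtain ⟨v, hv, k, hk, rfl⟩ := Set.mem_mul.mp hg'
    exact ⟨v, hv, k, hk, rfl⟩
  have hone : ∀ {x}, x ∈ K → x ∈ C.V → x = 1 := fun {x} h1 h2 =>
    mem_bot.mp (hKV ▸ (mem_inf.mpr ⟨h1, h2⟩ : x ∈ K ⊓ C.V))
  obtain ⟨v, hv, k, hk, hpvk⟩ := hdec _ C.p_normalizes
  have hvi : v⁻¹ = v := inv_eq_of_mul_eq_one_right (C.V_sq hv)
  have hkv : k = v * C.p := by rw [hpvk, ← mul_assoc, C.V_sq hv, one_mul]
  have hp3 : C.p * C.p * C.p = 1 := by
    rw [← pow_two, ← pow_succ, show 2 + 1 = 3 from rfl]; exact C.ord ▸ pow_orderOf_eq_one C.p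
  have hd := C.p_comm_V hv
  have hvd := C.conj_mem C.pH hd
  -- the part of the distinguished subgroup in the element of order three is inner
  have hvE : v ∈ C.E := by
    have hk3 : k * k * k ∈ C.V := by
      have hn := fun {x : G} (hx : x ∈ C.V) => (mem_normalizer_iff.mp C.p_normalizes x).mp hx
      have e : k * k * k = v * (C.p * v * C.p⁻¹) * (C.p * (C.p * v * C.p⁻¹) * C.p⁻¹) := by
        calc k * k * k = v * C.p * (v * C.p) * (v * C.p) := by rw [hkv]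
          _ = v * (C.p * v * C.p⁻¹) * (C.p * (C.p * v * C.p⁻¹) * C.p⁻¹) * (C.p * C.p * C.p) := by group
          _ = _ := by rw [hp3, mul_one]
      rw [e]
      exact mul_mem (mul_mem hv (hn hv)) (hn (hn hv))
    have h1 := hone (mul_mem (mul_mem hk hk) hk) hk3
    set d := C.p * v * C.p⁻¹ * v⁻¹ with hddef
    have e : k * k * k = (v * d * v⁻¹) * (v * v) * (C.p * d * C.p⁻¹) * (C.p * v * C.p⁻¹ * v⁻¹) * v := by
      calc k * k * k = v * C.p * (v * C.p) * (v * C.p) := by rw [hkv]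
        _ = (v * d * v⁻¹) * (v * v) * (C.p * d * C.p⁻¹) * (C.p * v * C.p⁻¹ * v⁻¹) * v * (C.p * C.p * C.p) := by
          rw [hddef]; group
        _ = _ := by rw [hp3, mul_one]
    have h2 : (v * d * v⁻¹) * (v * v) * (C.p * d * C.p⁻¹) * (C.p * v * C.p⁻¹ * v⁻¹) ∈ C.E := by
      rw [C.V_sq hv, mul_one]
      exact mul_mem (mul_mem (C.conj_mem (C.V_le_H hv) hd) hvd) hd
    have h3 := inv_mem h2
    rwa [show ((v * d * v⁻¹) * (v * v) * (C.p * d * C.p⁻¹) * (C.p * v * C.p⁻¹ * v⁻¹))⁻¹ = v * (k * k * k)⁻¹ by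
      rw [e]; group, h1, inv_one, mul_one] at h3
  have hkH : k ∈ centralizer ({z} : Set G) := hkv ▸ mul_mem (C.V_le_H hv) C.pH
  -- every element of the extraspecial group lies in the product with the part of the complement
  obtain ⟨q, hq, hπq⟩ := C.π_surj (mv Data.OM (C.π f)) (mv_lt (n := 12) (by decide +kernel) _)
  obtain ⟨ve, hve, κe, hκe, hqe⟩ := hdec q (C.M_normalizes (C.E_le_M hq)).1
  set c := k * q * k⁻¹ * q⁻¹ with hc
  have hcE : c ∈ C.E := mul_mem (C.conj_mem hkH hq) (inv_mem hq)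
  have hcπ : C.π c = C.π f := by
    rw [hc, C.π_mul _ (C.conj_mem hkH hq) _ (inv_mem hq), C.π_inv hq, hkv,
      C.rep_mul C.pH (C.rep_E hvE) C.rep_p q hq, mv_mm, mv_idM (mv_lt (n := 12) (by decide +kernel) _), hπq]
    exact OM_sum (C.π_lt f)
  obtain ⟨a, ha, hfa⟩ : ∃ a ∈ C.V ⊓ C.E, f = c * a := by
    rcases C.π_eq hf hcE hcπ.symm with e | e
    · exact ⟨1, one_mem _, by rw [e, mul_one]⟩
    · exact ⟨z, C.mem_Wt_iff.mpr C.z_mem_Wt, by rw [e, C.X.central c hcE]⟩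
  have hvc : k * ve * k⁻¹ * ve⁻¹ ∈ C.V ⊓ C.E := by
    refine mem_inf.mpr ⟨mul_mem ((mem_normalizer_iff.mp (hKN hk) ve).mp hve) (inv_mem hve), ?_⟩
    rw [show k * ve * k⁻¹ * ve⁻¹ = v * (C.p * ve * C.p⁻¹ * ve⁻¹) * v⁻¹ * (v * ve * v⁻¹ * ve⁻¹) by rw [hkv]; group]
    refine mul_mem (C.conj_mem (C.V_le_H hv) (C.p_comm_V hve)) ?_
    rw [(C.V_comm hv hve).eq]
    simp
  set d := k * κe * k⁻¹ * κe⁻¹ with hddef
  have hdK : d ∈ K := mul_mem (mul_mem (mul_mem hk hκe) (inv_mem hk)) (inv_mem hκe)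
  have hdE : d ∈ C.E ∧ ∃ a ∈ C.V ⊓ C.E, c = d * a := by
    have hde : d = ve⁻¹ * ((k * ve * k⁻¹ * ve⁻¹)⁻¹ * c) * ve⁻¹⁻¹ := by
      rw [hddef, hc, hqe]; group
    have hdE : d ∈ C.E := hde ▸ C.conj_mem (inv_mem (C.V_le_H hve)) (mul_mem (inv_mem (mem_inf.mp hvc).2) hcE)
    refine ⟨hdE, d⁻¹ * c, mem_inf.mpr ⟨?_, mul_mem (inv_mem hdE) hcE⟩, (mul_inv_cancel_left d c).symm⟩
    have hcc : d⁻¹ * c = (d⁻¹ * (k * ve * k⁻¹ * ve⁻¹) * d⁻¹⁻¹) * (d⁻¹ * ve * d⁻¹⁻¹ * ve⁻¹) := by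
      rw [hddef, hc, hqe]; group
    rw [hcc]
    have hn := fun {x : G} (hx : x ∈ C.V) => (mem_normalizer_iff.mp (inv_mem (hKN hdK)) x).mp hx
    exact mul_mem (hn (mem_inf.mp hvc).1) (mul_mem (hn hve) (inv_mem hve))
  obtain ⟨hdE, a', ha', hca⟩ := hdE
  have h : d⁻¹ * κ ∈ C.V := by
    rw [show d⁻¹ * κ = a' * a * (f⁻¹ * κ) by rw [hfa, hca]; group]
    exact mul_mem (mul_mem (mem_inf.mp ha').1 (mem_inf.mp ha).1) hfκ
  have e := hone (mul_mem (inv_mem hdK) hκ) h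
  rw [inv_mul_eq_one] at e
  exact e ▸ hdE

theorem E_to_V {f : G} (hf : f ∈ C.E) (hf2 : f * f = 1) : ∃ v ∈ C.V, IsConj f v := by
  by_cases h0 : C.π f = 0
  · rcases (C.π_zero f hf).mp h0 with e | e
    · exact ⟨1, one_mem _, e ▸ IsConj.refl _⟩
    · exact ⟨z, C.Wt_le_V C.z_mem_Wt, e ▸ IsConj.refl _⟩
  obtain ⟨c, hc, hp⟩ : ∃ c, cls (C.π f) = c ∧ (partW c).getD 0 0 ∈ partW c := by
    rcases cls_two (C.π f) with e | e
    exacts [⟨0, e, part_nonempty.1⟩, ⟨1, e, part_nonempty.2⟩]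
  obtain ⟨h1, h2, h3⟩ := mem_partW.mp hp
  obtain ⟨b, hb, hπb⟩ := C.π_surj _ (W0_spec h1).1
  exact ⟨b, C.Wt_le_V ⟨hb, hπb ▸ h1⟩,
    C.conj_cls hf hb h0 (hπb ▸ h2) ((C.π_sq f hf).mp hf2) (hπb ▸ (W0_spec h1).2.1) (by rw [hc, hπb, h3])⟩

theorem fix_mem {κ : G} (hκ : κ ∈ centralizer ({z} : Set G)) (hN : κ ∈ normalizer (C.V : Set G))
    (hfix : ∀ t ∈ C.liftsOf (partW 1), κ * t * κ⁻¹ * t = 1 ∨ κ * t * κ⁻¹ * t = z) :
    ∃ e ∈ C.E, e⁻¹ * κ ∈ C.V := by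
  have hM : κ ∈ C.M := by rw [C.M_eq]; exact ⟨hN, hκ⟩
  obtain ⟨hB, hgen⟩ := partB_ok
  simp only [List.all_eq_true, List.contains_iff_mem] at hB hgen
  let p : ℕ → Prop := fun x => x < 4096 ∧ ∀ q ∈ C.E, C.π q = x → C.π (κ * q * κ⁻¹) = x
  have hp : ∀ x ∈ spanX partB, p x := by
    refine spanX_ind (p := p) ⟨by norm_num, ?_⟩ partB fun b hb x hx => ⟨?_, ?_⟩
    · intro q hq e
      rcases (C.π_zero q hq).mp e with r | r
      · rw [r, mul_one, mul_inv_cancel, C.π_one]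
      · rw [r, (C.z_comm hκ).eq, mul_inv_cancel_right, (C.π_zero z C.X.mem).mpr (Or.inr rfl)]
    · exact Nat.xor_lt_two_pow (n := 12) (W0_spec (mem_partW.mp (hB b hb)).1).1 hx.1
    intro q hq e
    obtain ⟨qb, hqb, eb⟩ := C.π_surj b (W0_spec (mem_partW.mp (hB b hb)).1).1
    have hq2 : qb⁻¹ * q ∈ C.E := mul_mem (inv_mem hqb) hq
    have e2 : C.π (qb⁻¹ * q) = x := by
      rw [C.π_mul _ (inv_mem hqb) q hq, C.π_inv hqb, eb, e, ← Nat.xor_assoc, Nat.xor_self, Nat.zero_xor]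
    have hqbl : qb ∈ C.liftsOf (partW 1) := ⟨hqb, eb ▸ hB b hb⟩
    have hqb2 : qb⁻¹ = qb := inv_eq_of_mul_eq_one_right (C.V_sq (C.lifts_A0 hqbl).1.1)
    have hb' : C.π (κ * qb * κ⁻¹) = b := by
      rcases hfix qb hqbl with r | r
      · rw [eq_inv_of_mul_eq_one_left r, hqb2, eb]
      · rw [eq_mul_inv_of_mul_eq r, hqb2, C.π_z_mul hqb, eb]
    rw [show κ * q * κ⁻¹ = κ * qb * κ⁻¹ * (κ * (qb⁻¹ * q) * κ⁻¹) by group,
      C.π_mul _ (C.conj_mem hκ hqb) _ (C.conj_mem hκ hq2), hb', hx.2 _ hq2 e2]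
  obtain ⟨n, hn, hs, hr⟩ := C.M_card.2 κ hM fun q hq => (hp _ (hgen _ hq.2)).2 q hq.1 rfl
  obtain ⟨x, hx, hxr⟩ := C.exists_index_lift hn hs
  refine ⟨κ * x⁻¹, ?_, by rw [show (κ * x⁻¹)⁻¹ * κ = x by group]; exact hx⟩
  have h := C.rep_quot hκ (C.V_le_H hx) hr hxr
  have := C.conj_mem (C.V_le_H hx) h
  rwa [show x * (x⁻¹ * κ) * x⁻¹ = κ * x⁻¹ by group] at this

theorem to_V [IsSimpleGroup G] (hG : ¬ IsMulCommutative G) {g : G} (hg2 : g * g = 1) :
    ∃ v ∈ C.V, IsConj g v := by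
  classical
  haveI : Fact (Nat.Prime 2) := ⟨Nat.prime_two⟩
  obtain ⟨T, hT⟩ := C.sylow
  obtain ⟨Q, hQ⟩ : ∃ Q : Sylow 2 G, g ∈ (Q : Subgroup G) := by
    obtain ⟨Q, hQ⟩ := (IsPGroup.of_card (p := 2) (n := if g = 1 then 0 else 1)
      (show Nat.card ↥(zpowers g) = _ by
        rw [Nat.card_zpowers]
        split
        · next e => rw [e, orderOf_one, pow_zero]
        · next e => rw [pow_one]; exact orderOf_eq_prime (by rw [pow_two, hg2]) e)).exists_le_sylow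
    exact ⟨Q, hQ (mem_zpowers g)⟩
  obtain ⟨x, hx⟩ := MulAction.exists_smul_eq G Q T
  have hgS : x * g * x⁻¹ ∈ C.S := by
    rw [← hT, ← hx, Sylow.coe_subgroup_smul]
    exact ⟨g, hQ, rfl⟩
  set g₁ := x * g * x⁻¹ with hg₁
  have hc₁ : IsConj g g₁ := isConj_iff.mpr ⟨x, rfl⟩
  have hg₁2 : g₁ * g₁ = 1 := by rw [hg₁, conj_mul, hg2]; group
  by_cases hV : g₁ ∈ C.V
  · exact ⟨g₁, hV, hc₁⟩
  obtain ⟨k, hk, n, hn, e, he, hπ, hev⟩ := C.two_classes hG (C.S_le_normalizer hgS) hV (by rw [hg₁2]; exact one_mem _)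
  obtain ⟨K, hKN, hKV, hsup, -⟩ := C.exists_complement hG
  have he2 : e * e = 1 := (C.π_sq e he).mpr (by
    rw [hπ, List.getD_eq_getElem _ _ (show n < eTwo.length by simpa [eTwo] using hn)]
    have h : ∀ y ∈ eTwo, qB y = false := by decide +kernel
    exact h _ (List.getElem_mem _))
  have heN := (C.M_normalizes (C.E_le_M he)).1
  obtain ⟨v0, hv0, κ, hκ, hdec⟩ : ∃ v ∈ C.V, ∃ κ ∈ K, e = v * κ := by
    have he' : e ∈ ((C.V ⊔ K : Subgroup G) : Set G) := by rw [sup_comm, hsup]; exact heN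
    rw [coe_mul_of_right_le_normalizer_left C.V K hKN] at he'
    obtain ⟨v, hv, κ, hκ, e'⟩ := Set.mem_mul.mp he'
    exact ⟨v, hv, κ, hκ, e'.symm⟩
  have hκN := hKN hκ
  have hκE : κ ∈ C.E := C.complement_E hKN hKV hsup hκ he (by
    rw [hdec, show (v0 * κ)⁻¹ * κ = κ⁻¹ * v0⁻¹ * κ⁻¹⁻¹ by group]
    exact (mem_normalizer_iff.mp (inv_mem hκN) _).mp (inv_mem hv0))
  have hκv : κ = v0 * e := by rw [hdec, ← mul_assoc, C.V_sq hv0, one_mul]
  have hκ2 : κ * κ = 1 := by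
    refine mem_bot.mp (hKV ▸ mem_inf.mpr ⟨mul_mem hκ hκ, ?_⟩)
    rw [show κ * κ = v0 * (e * v0 * e⁻¹) * (e * e) by rw [hκv]; group, he2, mul_one]
    exact mul_mem hv0 ((mem_normalizer_iff.mp heN v0).mp hv0)
  have hconjV : ∀ u ∈ C.V, κ * u * κ⁻¹ = e * u * e⁻¹ := fun u hu => by
    rw [hκv, show v0 * e * u * (v0 * e)⁻¹ = v0 * (e * u * e⁻¹) * v0⁻¹ by group,
      (C.V_comm hv0 ((mem_normalizer_iff.mp heN u).mp hu)).eq, mul_inv_cancel_right]
  set g₂ := k * g₁ * k⁻¹ with hg₂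
  have hc₂ : IsConj g g₂ := hc₁.trans (isConj_iff.mpr ⟨k, rfl⟩)
  obtain ⟨v, hv, hgv⟩ : ∃ v ∈ C.V, g₂ = κ * v := by
    refine ⟨κ⁻¹ * g₂, ?_, (mul_inv_cancel_left κ g₂).symm⟩
    rw [show κ⁻¹ * g₂ = (κ⁻¹ * v0 * κ⁻¹⁻¹) * (e⁻¹ * g₂) by rw [hdec]; group]
    exact mul_mem ((mem_normalizer_iff.mp (inv_mem hκN) v0).mp hv0) hev
  have hκi : κ⁻¹ = κ := inv_eq_of_mul_eq_one_right hκ2
  have hκfix : κ * v * κ⁻¹ = v := by
    have h2 : κ * v * (κ * v) = 1 := by rw [← hgv, hg₂, conj_mul, hg₁2]; group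
    calc κ * v * κ⁻¹ = κ * v * κ := by rw [hκi]
      _ = (κ * v * (κ * v)) * v⁻¹ := by group
      _ = v := by rw [h2, one_mul, inv_eq_of_mul_eq_one_right (C.V_sq hv)]
  have hfromE : ∀ f ∈ C.E, f * f = 1 → IsConj g f → ∃ v ∈ C.V, IsConj g v := fun f hf hf2 hc => by
    obtain ⟨w, hw, hfw⟩ := C.E_to_V hf hf2
    exact ⟨w, hw, hc.trans hfw⟩
  have hg₂2 : g₂ * g₂ = 1 := by rw [hg₂, conj_mul, hg₁2]; group
  obtain ⟨hfc, hT10⟩ := fixed_counts
  have hW : C.π e ∉ W0 := by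
    have h := e_two
    simp only [Bool.and_eq_true, List.all_eq_true, decide_eq_true_eq, Bool.not_eq_true', beq_iff_eq,
      List.contains_eq_mem, decide_eq_false_iff_not] at h
    rw [hπ, List.getD_eq_getElem _ _ (show n < eTwo.length by simpa [eTwo] using hn)]
    exact (h.1.1.1 _ (List.getElem_mem _)).2
  set I := {x : G | ∃ u ∈ C.V, κ * u * κ⁻¹ * u = x} with hI
  have hIc : I.ncard = 2 * ((spanL X0.2).map fun i => xm (elt i) (eTwo.getD n 0)).dedup.length := by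
    have hlt : ∀ x ∈ (spanL X0.2).map fun i => xm (elt i) (C.π e), x < 4096 := by
      intro x hx
      obtain ⟨i, -, rfl⟩ := List.mem_map.mp hx
      exact Nat.xor_lt_two_pow (n := 12) (mv_lt (n := 12) (elt_lt i) _) (C.π_lt e)
    have hset : I = C.liftsOf ((spanL X0.2).map fun i => xm (elt i) (C.π e)) := by
      rw [← C.image_commutator he hW]
      ext x
      exact exists_congr fun u => and_congr_right fun hu => by rw [hconjV u hu]
    rw [hset, show C.liftsOf ((spanL X0.2).map fun i => xm (elt i) (C.π e)) =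
        C.liftsOf ((spanL X0.2).map fun i => xm (elt i) (C.π e)).dedup by ext; simp [liftsOf],
      C.lifts_ncard (List.nodup_dedup _) fun x hx => hlt x (List.mem_dedup.mp hx), hπ]
  have hfixlift : ∀ u ∈ C.liftsOf (W0.filter fun w => !pB (eTwo.getD n 0) w), u ∈ C.V ∧ κ * u * κ⁻¹ = u := by
    rintro u ⟨hu, hul⟩
    obtain ⟨hW0, hb⟩ := List.mem_filter.mp hul
    refine ⟨C.Wt_le_V ⟨hu, hW0⟩, ?_⟩
    rw [hconjV u (C.Wt_le_V ⟨hu, hW0⟩), C.conjB he hu, hπ]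
    simp only [Bool.not_eq_true'] at hb
    rw [hb, if_neg Bool.false_ne_true, one_mul]
  rcases (show n = 0 ∨ n = 1 by omega) with rfl | rfl
  · -- the class with fixed points
    have hI16 : I.ncard = 16 := by
      have h := e_two
      simp only [Bool.and_eq_true, beq_iff_eq] at h
      rw [hIc, h.1.1.2]
    have hT12 : 12 < {t : G | t ∈ (C.sextet hG).T ∧ κ * t * κ⁻¹ = t}.ncard := by
      have hsub : C.liftsOf ((partW 1).filter fun w => !pB (eTwo.getD 0 0) w) ⊆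
          {t : G | t ∈ (C.sextet hG).T ∧ κ * t * κ⁻¹ = t} := by
        rintro t ⟨ht, htl⟩
        obtain ⟨hp1, hb⟩ := List.mem_filter.mp htl
        have hm : t ∈ C.liftsOf (partW 1) := ⟨ht, hp1⟩
        exact ⟨⟨(C.lifts_A0 hm).1.1, (C.lifts_A0 hm).2.1, (C.inner_card hG).2.2 t hm⟩,
          (hfixlift t ⟨ht, List.mem_filter.mpr ⟨(mem_partW.mp hp1).1, hb⟩⟩).2⟩
      have := Set.ncard_le_ncard hsub (Set.toFinite _)
      rw [C.lifts_ncard ((partW_nodup 1).filter _)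
        (fun x hx => (W0_spec (mem_partW.mp (List.mem_filter.mp hx).1).1).1), hT10] at this
      omega
    have hκV : κ ∉ C.V := fun h => hW (by
      have : e ∈ C.V := by rw [hdec]; exact mul_mem hv0 h
      exact (C.mem_Wt_iff.mp ⟨this, he⟩).2)
    obtain ⟨w, hwZ, u, hu, hκw, hκP, hv1⟩ :=
      (C.sextet hG).fixed_cover hκN hκ2 hκV hI16 hT12 hv hκfix
    set v1 := κ * u * κ⁻¹ * u * v with hv1def
    have hc₃ : IsConj g (κ * v1) := hc₂.trans (isConj_iff.mpr ⟨u, by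
      rw [hgv, hv1def, inv_eq_of_mul_eq_one_right (C.V_sq hu)]
      have e1 : v * u = u * v := (C.V_comm hv hu).eq
      calc u * (κ * v) * u = u * κ * (v * u) := by group
        _ = u * κ * (u * v) := by rw [e1]
        _ = (κ * κ) * (u * κ * (u * v)) := by rw [hκ2, one_mul]
        _ = κ * (κ * u * κ⁻¹ * u * v) := by rw [hκi]; group⟩)
    obtain ⟨m, hm, hmw⟩ := C.fuse hwZ.1 hwZ.2
    let K' : Subgroup G := K.map (MulAut.conj m⁻¹).toMonoidHom
    have hmV : C.V.map (MulAut.conj m⁻¹).toMonoidHom = C.V :=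
      eq_of_le_of_card_ge (by
        rintro _ ⟨y, hy, rfl⟩
        exact (mem_normalizer_iff.mp (inv_mem hm) y).mp hy)
        (by rw [card_map_of_injective (MulAut.conj m⁻¹).injective])
    have hN' : (normalizer (C.V : Set G)).map (MulAut.conj m⁻¹).toMonoidHom = normalizer (C.V : Set G) := by
      rw [Subgroup.map_equiv_normalizer_eq, hmV]
    have hK'N : K' ≤ normalizer (C.V : Set G) := hN' ▸ map_mono hKN
    have hK'V : K' ⊓ C.V = ⊥ := by
      conv_lhs => rw [← hmV]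
      rw [← Subgroup.map_inf _ _ _ (MulAut.conj m⁻¹).injective, hKV, Subgroup.map_bot]
    have hsup' : K' ⊔ C.V = normalizer (C.V : Set G) := by
      conv_lhs => rw [← hmV]
      rw [← Subgroup.map_sup, hsup, hN']
    set κ' := m⁻¹ * κ * m⁻¹⁻¹ with hκ'
    have hκ'K : κ' ∈ K' := ⟨κ, hκ, rfl⟩
    have hκ'z : κ' ∈ centralizer ({z} : Set G) := by
      refine mem_centralizer_singleton_iff.mpr ?_
      have h := mul_inv_eq_iff_eq_mul.mp hκw
      rw [← hmw] at h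
      calc κ' * z = m⁻¹ * (κ * (m * z * m⁻¹)) * m := by rw [hκ']; group
        _ = m⁻¹ * (m * z * m⁻¹ * κ) * m := by rw [h]
        _ = z * κ' := by rw [hκ']; group
    have hfix' : ∀ t ∈ C.liftsOf (partW 1), κ' * t * κ'⁻¹ * t = 1 ∨ κ' * t * κ'⁻¹ * t = z := by
      intro t ht
      have htT : t ∈ (C.sextet hG).T := ⟨(C.lifts_A0 ht).1.1, (C.lifts_A0 ht).2.1, (C.inner_card hG).2.2 t ht⟩
      have hP : m * t * m⁻¹ ∈ (C.sextet hG).P w := by
        refine ⟨(C.sextet hG).conj_T hm htT, ?_⟩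
        have := (C.sextet hG).conj_T hm ((C.sextet hG).inner_translate htT (C.lifts_A0 ht).1)
        rwa [← hmw, show m * t * m⁻¹ * (m * z * m⁻¹) = m * (t * z) * m⁻¹ by group]
      have e1 : κ' * t * κ'⁻¹ * t = m⁻¹ * (κ * (m * t * m⁻¹) * κ⁻¹ * (m * t * m⁻¹)) * m := by rw [hκ']; group
      rcases hκP _ hP with r | r <;> rw [e1, r]
      · exact Or.inl (by group)
      · refine Or.inr ?_
        rw [← hmw]; group
    obtain ⟨f, hf, hfκ⟩ := C.fix_mem hκ'z (hK'N hκ'K) hfix'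
    have hκ'E := C.complement_E hK'N hK'V hsup' hκ'K hf hfκ
    have hv1E : m⁻¹ * v1 * m⁻¹⁻¹ ∈ C.E := by
      rcases hv1 with r | r
      · rw [r]; simp [one_mem]
      · have h1 := (C.sextet hG).conj_T (inv_mem hm) r.1
        have h2 := (C.sextet hG).conj_T (inv_mem hm) r.2
        rw [show m⁻¹ * (v1 * w) * m⁻¹⁻¹ = m⁻¹ * v1 * m⁻¹⁻¹ * z by rw [← hmw]; group] at h2
        exact (mem_inf.mp (((C.sextet hG).mem_P_z h1).mp h2)).2
    have hg₃ : IsConj g (κ' * (m⁻¹ * v1 * m⁻¹⁻¹)) :=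
      hc₃.trans (isConj_iff.mpr ⟨m⁻¹, by rw [hκ']; group⟩)
    refine hfromE _ (mul_mem hκ'E hv1E) ?_ hg₃
    obtain ⟨y, hy⟩ := isConj_iff.mp hg₃
    rw [← hy, conj_mul, hg2]; group
  · -- the class without
    have hI32 : I.ncard = 32 := by
      have h := e_two
      simp only [Bool.and_eq_true, beq_iff_eq] at h
      rw [hIc, h.1.2]
    let φ : ↥C.V →* ↥C.V :=
      { toFun := fun u => ⟨κ * u * κ⁻¹ * u, mul_mem ((mem_normalizer_iff.mp hκN _).mp u.2) u.2⟩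
        map_one' := Subtype.ext (by simp)
        map_mul' := fun a b => Subtype.ext (by
          show κ * ((a : G) * b) * κ⁻¹ * ((a : G) * b) = κ * a * κ⁻¹ * a * (κ * b * κ⁻¹ * b)
          rw [show κ * ((a : G) * b) * κ⁻¹ * ((a : G) * b) = κ * a * κ⁻¹ * ((κ * b * κ⁻¹) * a) * b by group,
            (C.V_comm ((mem_normalizer_iff.mp hκN _).mp b.2) a.2).eq]
          group) }
    have hr : Nat.card ↥φ.range = 32 := by
      rw [← hI32, ← Subgroup.card_map_of_injective (K := φ.range) C.V.subtype_injective, ← Nat.card_coe_set_eq]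
      refine Nat.card_congr (Equiv.subtypeEquivRight fun x => ?_)
      exact ⟨by rintro ⟨_, ⟨u, rfl⟩, rfl⟩; exact ⟨u, u.2, rfl⟩, fun ⟨u, hu, e⟩ => ⟨_, ⟨⟨u, hu⟩, rfl⟩, e⟩⟩
    have hk := φ.ker.card_mul_index
    rw [index_ker, hr, C.V_spec.2.1] at hk
    set L := C.liftsOf (W0.filter fun w => !pB (eTwo.getD 1 0) w) with hL
    have hLc : L.ncard = 64 := by
      rw [hL, C.lifts_ncard (W0_facts.2.1.filter _) (fun x hx => (W0_spec (List.mem_filter.mp hx).1).1), hfc.2]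
    have hker : ∀ y : ↥C.V, y ∈ φ.ker ↔ κ * (y : G) * κ⁻¹ = y := fun y => by
      rw [MonoidHom.mem_ker]
      constructor
      · intro h
        have h' : κ * (y : G) * κ⁻¹ * y = 1 := congrArg Subtype.val h
        rw [eq_inv_of_mul_eq_one_left h', inv_eq_of_mul_eq_one_right (C.V_sq y.2)]
      · intro h
        exact Subtype.ext (by show κ * (y : G) * κ⁻¹ * y = 1; rw [h, C.V_sq y.2])
    have hsub : L ⊆ (φ.ker.map C.V.subtype : Subgroup G) := fun y hy =>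
      ⟨⟨y, (hfixlift y hy).1⟩, (hker _).mpr (hfixlift y hy).2, rfl⟩
    have he64 : L = (φ.ker.map C.V.subtype : Subgroup G) := by
      refine Set.eq_of_subset_of_ncard_le hsub ?_ (Set.toFinite _)
      rw [hLc, ← Nat.card_coe_set_eq, SetLike.coe_sort_coe, card_map_of_injective C.V.subtype_injective]
      omega
    have hvL : v ∈ L := he64 ▸ ⟨⟨v, hv⟩, (hker _).mpr hκfix, rfl⟩
    exact hfromE _ (mul_mem hκE hvL.1) (hgv ▸ hg₂2) (hgv ▸ hc₂)

end Ctx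

end Cfsg.Lib.JankoFour
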