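import Cfsg.Agent.JankoFour.SylowThree

/-!
There is one class of elements of order three.
-/

set_option autoImplicit false
set_option maxRecDepth 100000
set_option linter.style.haveILetI false
set_option linter.unusedSectionVars false

namespace Cfsg.Lib.JankoFour

open Subgroup

open Cfsg.Lib.Golay.M22Mult in
theorem cxv_all : ∀ v : V3, v ≠ 0 → ∃ k : Fin 72, cxv k = v := by decide +kernel

open Cfsg.Lib.Golay.M22Mult in
theorem psi_transitive {s : QM} (hs : s ∈ psi.range) (h1 : s ≠ 1) :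
    IsConj (psi (Multiplicative.ofAdd ((1, 0) : V3))) s := by
  obtain ⟨v, rfl⟩ := hs
  obtain ⟨k, hk⟩ := cxv_all v.toAdd fun e => h1 (by rw [show v = 1 from e, map_one])
  refine isConj_iff.mpr ⟨(stQ k)⁻¹, ?_⟩
  rw [inv_inv, mul_assoc, (stQ_conj k).1, inv_mul_cancel_left, hk, ofAdd_toAdd]

theorem sylow_three_class {M : Type*} [Group M] [Finite M] (e : Cfsg.Lib.Golay.M22Mult.QM ≃* M) {a b : M}
    (ha : a ^ 3 = 1) (ha1 : a ≠ 1) (hb : b ^ 3 = 1) (hb1 : b ≠ 1) : IsConj a b := by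
  haveI : Fact (Nat.Prime 3) := ⟨Nat.prime_three⟩
  have hM : (Nat.card M).factorization 3 = 2 := by
    rw [← Nat.card_congr e.toEquiv, Cfsg.Lib.Golay.M22Mult.card_QM, show (443520 : ℕ) = 3 ^ 2 * 49280 by norm_num,
      Nat.factorization_mul (by norm_num) (by norm_num), Finsupp.add_apply,
      Nat.factorization_eq_zero_of_not_dvd (by norm_num : ¬ 3 ∣ 49280),
      Nat.prime_three.factorization_pow, Finsupp.single_eq_same, add_zero]
  let S : Sylow 3 M := Sylow.ofCard (Cfsg.Lib.Golay.M22Mult.psi.range.map e.toMonoidHom)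
    (by rw [Subgroup.card_map_of_injective e.injective, card_psi, hM]; rfl)
  suffices hkey : ∀ a : M, a ^ 3 = 1 → a ≠ 1 →
      IsConj (e (Cfsg.Lib.Golay.M22Mult.psi (Multiplicative.ofAdd ((1, 0) : Cfsg.Lib.Golay.M22Mult.V3)))) a by
    exact (hkey a ha ha1).symm.trans (hkey b hb hb1)
  intro a ha ha1
  obtain ⟨T, hT⟩ := IsPGroup.exists_le_sylow (p := 3) (P := zpowers a)
    (IsPGroup.of_card (n := 1) (by rw [Nat.card_zpowers, pow_one, orderOf_eq_prime ha ha1]))
  obtain ⟨g, hg⟩ := MulAction.exists_smul_eq M S T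
  have haT : a ∈ (T : Subgroup M) := hT (mem_zpowers a)
  rw [← hg] at haT
  obtain ⟨_, ⟨s, hs, rfl⟩, hsa⟩ := haT
  have hconj : IsConj (e s) a := isConj_iff.mpr ⟨g, hsa⟩
  have hs1 : s ≠ 1 := fun h => ha1 (by rw [h, map_one] at hconj; exact (isConj_one_right.mp hconj))
  exact (MonoidHom.map_isConj e.toMonoidHom (psi_transitive hs hs1)).trans hconj

theorem M22_three_class {a b : ↥Cfsg.Spor.M22} (ha : a ^ 3 = 1) (ha1 : a ≠ 1) (hb : b ^ 3 = 1) (hb1 : b ≠ 1) :
    IsConj a b :=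
  sylow_three_class (MulEquiv.subgroupCongr Cfsg.Lib.Golay.M22_eq.symm) ha ha1 hb hb1

universe u

variable {G : Type u} [Group G] [Finite G]

namespace Ctx

variable {z : G} {P : Subgroup G} (C : Ctx z P)

include C

theorem one_class_three [IsSimpleGroup G] (hG : ¬ IsMulCommutative G)
    (hP : P ≤ ⁅centralizer ({z} : Set G) ⊓ centralizer (P : Set G), centralizer ({z} : Set G) ⊓ centralizer (P : Set G)⁆)
    (x : G) (hx : orderOf x = 3) : IsConj C.p x := by
  classical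
  haveI : Fact (Nat.Prime 3) := ⟨Nat.prime_three⟩
  obtain ⟨R, hPR, hRK, hR27, ⟨a, ha, b, hb, hab⟩, hexp, hcR, hNH, hN⟩ := C.exists_sylow_three hG hP
  obtain ⟨φ, hsurj, hk6, hsmall⟩ : ∃ φ : ↥(centralizer ({z} : Set G) ⊓ centralizer (P : Set G)) →* Spor.M22,
      Function.Surjective φ ∧ Nat.card ↥φ.ker = 6 ∧ ∀ x ∈ φ.ker, ∃ k : ℕ, (x : G) = C.p ^ k ∨ (x : G) = z * C.p ^ k := by
    obtain ⟨φ, h1, -, h2, h3⟩ := C.exists_hom_K
    exact ⟨φ, h1, h2, h3⟩
  have hp3 : C.p ^ 3 = 1 := C.ord ▸ pow_orderOf_eq_one C.p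
  have hpp : C.p ≠ 1 := fun e => by
    have := C.ord
    rw [e, orderOf_one] at this
    norm_num at this
  have hzodd : ∀ k : ℕ, (z * C.p ^ k) ^ 3 ≠ 1 := fun k e => by
    rw [((C.z_comm C.pH).symm.pow_right k).mul_pow, ← pow_mul, mul_comm k, pow_mul, hp3, one_pow, mul_one,
      pow_succ, pow_two, C.X.zz, one_mul] at e
    exact C.X.ne e
  have hRker : ∀ y (hy : y ∈ R), φ ⟨y, hRK hy⟩ = 1 → y ∈ P := fun y hy h => by
    obtain ⟨k, e | e⟩ := hsmall _ (MonoidHom.mem_ker.mpr h)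
    · exact (show y = C.p ^ k from e) ▸ pow_mem C.p_mem k
    · exact absurd (by rw [← show y = z * C.p ^ k from e]; exact hexp y hy) (hzodd k)
  -- one class outside the centre
  have hout : ∀ y ∈ R, y ∉ P → ∀ y' ∈ R, y' ∉ P → IsConj y y' := by
    intro y hy hyP y' hy' hy'P
    have h3 : ∀ w (hw : w ∈ R), φ ⟨w, hRK hw⟩ ^ 3 = 1 := fun w hw => by
      rw [← map_pow, show (⟨w, hRK hw⟩ : ↥(centralizer ({z} : Set G) ⊓ centralizer (P : Set G))) ^ 3 = 1 from
        Subtype.ext (by rw [Subgroup.coe_pow]; exact hexp w hw), map_one]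
    obtain ⟨m, hm⟩ := isConj_iff.mp (M22_three_class (h3 y hy) (fun e => hyP (hRker y hy e)) (h3 y' hy')
      (fun e => hy'P (hRker y' hy' e)))
    obtain ⟨g, rfl⟩ := hsurj m
    have hk : φ ((⟨y', hRK hy'⟩)⁻¹ * (g * ⟨y, hRK hy⟩ * g⁻¹)) = 1 := by
      rw [map_mul, map_inv, map_mul, map_mul, map_inv, hm, inv_mul_cancel]
    obtain ⟨j, hj⟩ : ∃ j : ℕ, (g : G) * y * (g : G)⁻¹ = y' * C.p ^ j := by
      obtain ⟨j, e | e⟩ := hsmall _ (MonoidHom.mem_ker.mpr hk)
      · exact ⟨j, inv_mul_eq_iff_eq_mul.mp e⟩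
      · exfalso
        refine hzodd j ?_
        have e' : (g : G) * y * (g : G)⁻¹ = y' * (z * C.p ^ j) := inv_mul_eq_iff_eq_mul.mp e
        have hc : Commute y' (z * C.p ^ j) :=
          (C.z_comm (C.mem_K.mp (hRK hy')).1).mul_right ((C.mem_K.mp (hRK hy')).2.pow_right j)
        have h := conj_pow (i := 3) (a := (g : G)) (b := y)
        rw [e', hc.mul_pow, hexp y' hy', hexp y hy, one_mul, mul_one, mul_inv_cancel] at h
        exact h
    -- a commutator generates the centre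
    obtain ⟨w, hw, hwy⟩ : ∃ w ∈ R, w * y' ≠ y' * w := by
      by_contra! hno
      exact hy'P (hcR y' hy' hno)
    set c := y'⁻¹ * (w * y' * w⁻¹) with hc
    have hcP : c ∈ P := by
      have hφ : φ ⟨w, hRK hw⟩ * φ ⟨y', hRK hy'⟩ = φ ⟨y', hRK hy'⟩ * φ ⟨w, hRK hw⟩ := by
        let f := φ.comp (Subgroup.inclusion hRK)
        have hab9 : IsMulCommutative ↥f.range := by
          have hcard : Nat.card ↥f.range ∣ 27 ∧ Nat.card ↥f.range ≠ 27 := by
            have h := (card_eq_card_quotient_mul_card_subgroup f.ker)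
            rw [Nat.card_congr (QuotientGroup.quotientKerEquivRange f).toEquiv, hR27] at h
            refine ⟨Dvd.intro _ h.symm, fun e => ?_⟩
            rw [e] at h
            have h1 : Nat.card ↥f.ker = 1 := by omega
            have hpf : (⟨C.p, hPR C.p_mem⟩ : ↥R) ∈ f.ker := by
              refine MonoidHom.mem_ker.mpr (M22_center fun m => ?_)
              obtain ⟨q, rfl⟩ := hsurj m
              show φ _ * φ q = φ q * φ _
              rw [← map_mul, ← map_mul]
              exact congrArg φ (Subtype.ext (C.mem_K.mp q.2).2.eq.symm)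
            rw [Subgroup.card_eq_one] at h1
            rw [h1, mem_bot] at hpf
            exact hpp (congrArg Subtype.val hpf)
          obtain ⟨i, hi, e⟩ := (Nat.dvd_prime_pow Nat.prime_three).mp
            ((show (3 : ℕ) ^ 3 = 27 by norm_num) ▸ hcard.1)
          have hi2 : i ≤ 2 := by
            rcases Nat.lt_or_ge i 3 with h | h
            · omega
            · exact absurd (by rw [e, show i = 3 by omega]; norm_num) hcard.2
          interval_cases i
          · haveI := (Nat.card_eq_one_iff_unique.mp (by rw [e]; norm_num : Nat.card ↥f.range = 1)).1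
            exact ⟨⟨fun a b => Subsingleton.elim _ _⟩⟩
          · haveI := isCyclic_of_prime_card (α := ↥f.range) (p := 3) (by rw [e]; norm_num)
            exact ⟨⟨fun a b => IsCyclic.commGroup.mul_comm a b⟩⟩
          · exact IsPGroup.isMulCommutative_of_card_eq_prime_sq e
        exact congrArg Subtype.val (hab9.is_comm.comm (⟨_, ⟨w, hw⟩, rfl⟩ : ↥f.range) ⟨_, ⟨y', hy'⟩, rfl⟩)
      refine hRker c (mul_mem (inv_mem hy') (mul_mem (mul_mem hw hy') (inv_mem hw))) ?_
      show φ ((⟨y', hRK hy'⟩)⁻¹ * (⟨w, hRK hw⟩ * ⟨y', hRK hy'⟩ * (⟨w, hRK hw⟩)⁻¹)) = 1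
      rw [map_mul, map_inv, map_mul, map_mul, map_inv, hφ]
      group
    have hc1 : c ≠ 1 := fun e => hwy (by
      rw [hc, inv_mul_eq_one, eq_mul_inv_iff_mul_eq] at e
      exact e.symm)
    have hcw : Commute c w := (mem_centralizer_iff.mp (mem_inf.mp (hRK hw)).2 c hcP)
    have hpow : ∀ i : ℕ, w ^ i * y' * (w ^ i)⁻¹ = y' * c ^ i := by
      intro i
      induction i with
      | zero => group
      | succ i ih =>
        calc w ^ (i + 1) * y' * (w ^ (i + 1))⁻¹ = w * (w ^ i * y' * (w ^ i)⁻¹) * w⁻¹ := by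
              rw [pow_succ']; group
          _ = w * y' * w⁻¹ * (w * c ^ i * w⁻¹) := by rw [ih]; group
          _ = y' * c * c ^ i := by rw [(hcw.symm.pow_right i).eq, mul_inv_cancel_right, hc, mul_inv_cancel_left]
          _ = y' * c ^ (i + 1) := by rw [pow_succ', mul_assoc]
    have hcz : ∃ i : ℕ, c ^ i = C.p ^ j := by
      have hgen : zpowers c = zpowers C.p := by
        refine Subgroup.eq_of_le_of_card_ge (zpowers_le.mpr (C.mem_zp hcP)) ?_
        rw [Nat.card_zpowers, Nat.card_zpowers]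
        rcases (Nat.dvd_prime Nat.prime_three).mp (C.ord ▸ orderOf_dvd_of_mem_zpowers (C.mem_zp hcP)) with h | h
        · exact absurd (orderOf_eq_one_iff.mp h) hc1
        · rw [h, C.ord]
      have hmem : C.p ^ j ∈ zpowers c := hgen.symm ▸ pow_mem (mem_zpowers _) j
      exact (isOfFinOrder_of_finite c).mem_powers_iff_mem_zpowers.mpr hmem
    obtain ⟨i, hi⟩ := hcz
    refine (isConj_iff.mpr ⟨(g : G), hj⟩ : IsConj y (y' * C.p ^ j)).trans (IsConj.symm ?_)
    exact isConj_iff.mpr ⟨w ^ i, by rw [hpow, hi]⟩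
  -- the Sylow subgroup
  have h81 : ¬ 3 ^ (3 + 1) ∣ Nat.card G := fun h => by
    have := Sylow.prime_pow_dvd_card_normalizer h (H := R) (by rw [hR27]; norm_num)
    rw [hN] at this
    norm_num at this
  have hRS : IsPGroup 3 ↥R := IsPGroup.of_card (n := 3) (by rw [hR27]; norm_num)
  obtain ⟨S, hS⟩ := hRS.exists_le_sylow
  have hSR : (S : Subgroup G) = R := (Subgroup.eq_of_le_of_card_ge hS (by
    obtain ⟨n, hn⟩ := IsPGroup.iff_card.mp S.isPGroup'
    rw [hn, hR27, show (27 : ℕ) = 3 ^ 3 by norm_num]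
    refine Nat.pow_le_pow_right (by norm_num) ?_
    by_contra hlt
    exact h81 (dvd_trans (pow_dvd_pow 3 (by omega : 3 + 1 ≤ n)) (hn ▸ card_subgroup_dvd_card _)))).symm
  have hintoR : ∀ (y : G), orderOf y = 3 → ∃ y' ∈ R, IsConj y y' := by
    intro y hy
    obtain ⟨T, hT⟩ := IsPGroup.exists_le_sylow (p := 3) (P := zpowers y)
      (IsPGroup.of_card (n := 1) (by rw [Nat.card_zpowers, hy, pow_one]))
    obtain ⟨g, hg⟩ := MulAction.exists_smul_eq G T S
    refine ⟨g * y * g⁻¹, ?_, isConj_iff.mpr ⟨g, rfl⟩⟩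
    rw [← hSR, ← hg]
    exact ⟨y, hT (mem_zpowers y), rfl⟩
  have hinH : ∀ y ∈ centralizer ({z} : Set G), orderOf y = 3 →
      ∃ h ∈ centralizer ({z} : Set G), h * y * h⁻¹ ∈ R := by
    intro y hyH hy
    set H := centralizer ({z} : Set G)
    have hRH : R ≤ H := le_trans hRK inf_le_left
    obtain ⟨T, hT⟩ := IsPGroup.exists_le_sylow (p := 3) (P := zpowers (⟨y, hyH⟩ : ↥H))
      (IsPGroup.of_card (n := 1) (by rw [Nat.card_zpowers, ← Subgroup.orderOf_coe, hy, pow_one]))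
    obtain ⟨g, hg⟩ := MulAction.exists_smul_eq ↥H T (S.subtype (le_trans hSR.le hRH))
    refine ⟨g, g.2, ?_⟩
    have h : g * ⟨y, hyH⟩ * g⁻¹ ∈ (S.subtype (le_trans hSR.le hRH) : Subgroup ↥H) := by
      rw [← hg]
      exact ⟨⟨y, hyH⟩, hT (mem_zpowers _), rfl⟩
    exact hSR.le (mem_subgroupOf.mp h)
  have hPcases : ∀ y ∈ P, y ≠ 1 → y = C.p ∨ y = C.p⁻¹ := by
    intro y hy hy1
    obtain ⟨i, rfl⟩ := mem_zpowers_iff.mp (C.mem_zp hy)
    have e3 : C.p ^ (3 : ℤ) = 1 := by rw [show (3 : ℤ) = ((3 : ℕ) : ℤ) from rfl, zpow_natCast]; exact hp3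
    have hi : C.p ^ i = C.p ^ (i % 3) := by
      conv_lhs => rw [← Int.emod_add_mul_ediv i 3, zpow_add, zpow_mul, e3, one_zpow, mul_one]
    have h0 := Int.emod_nonneg i (by norm_num : (3 : ℤ) ≠ 0)
    have h1 := Int.emod_lt_of_pos i (by norm_num : (0 : ℤ) < 3)
    rw [hi] at hy1 ⊢
    interval_cases h : i % 3
    · exact absurd (zpow_zero _) hy1
    · exact Or.inl (zpow_one _)
    · refine Or.inr (eq_inv_of_mul_eq_one_left ?_)
      rw [← zpow_add_one]
      exact e3
  have hpinv : IsConj C.p C.p⁻¹ := isConj_iff.mpr ⟨C.gt, C.comm_p.2.2.2⟩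
  -- fusion of the centre
  obtain ⟨y₀, hy₀R, hy₀P, hy₀c⟩ : ∃ y ∈ R, y ∉ P ∧ IsConj C.p y := by
    obtain ⟨-, t2, -, t4, t5, t6⟩ := C.tl_spec hG 0
    obtain ⟨g, hg⟩ := isConj_iff.mp (C.tz_conj hG 0)
    set v := C.tl hG 0 * z with hv
    have hvp : Commute v C.p := t2.mul_left (C.z_comm C.pH).symm
    have hyH : g⁻¹ * C.p * g ∈ centralizer ({z} : Set G) := by
      refine mem_centralizer_singleton_iff.mpr ?_
      calc g⁻¹ * C.p * g * z = g⁻¹ * (C.p * (g * z * g⁻¹)) * g := by group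
        _ = g⁻¹ * (g * z * g⁻¹ * C.p) * g := by rw [hg, hvp.eq]
        _ = z * (g⁻¹ * C.p * g) := by group
    have hyo : orderOf (g⁻¹ * C.p * g) = 3 := by
      have h := MulEquiv.orderOf_eq (MulAut.conj g⁻¹) C.p
      rw [MulAut.conj_apply, inv_inv] at h
      rw [h, C.ord]
    obtain ⟨h, hhH, hhR⟩ := hinH _ hyH hyo
    refine ⟨_, hhR, fun hhP => ?_, isConj_iff.mpr ⟨h * g⁻¹, by group⟩⟩
    set k := h * g⁻¹ with hk
    have hkp : k * C.p * k⁻¹ = C.p ∨ k * C.p * k⁻¹ = C.p⁻¹ := by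
      have e : k * C.p * k⁻¹ = h * (g⁻¹ * C.p * g) * h⁻¹ := by rw [hk]; group
      rw [e]
      exact hPcases _ hhP fun h1 => hpp (by
        have : k * C.p * k⁻¹ = 1 := e.trans h1
        exact conj_eq_one_iff.mp this)
    have hkN : k ∈ normalizer (P : Set G) := by
      have hmap : P.map (MulAut.conj k).toMonoidHom ≤ P := by
        rintro _ ⟨w, hw, rfl⟩
        obtain ⟨i, rfl⟩ := mem_zpowers_iff.mp (C.mem_zp hw)
        show MulAut.conj k (C.p ^ i) ∈ P
        rw [map_zpow, MulAut.conj_apply]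
        rcases hkp with e | e <;> rw [e]
        exacts [zpow_mem C.p_mem i, zpow_mem (inv_mem C.p_mem) i]
      have heq := Subgroup.eq_of_le_of_card_ge hmap
        (le_of_eq (Subgroup.card_map_of_injective (MulAut.conj k).injective).symm)
      refine mem_normalizer_iff.mpr fun w => ⟨fun hw => ?_, fun hw => ?_⟩
      · rw [← heq]; exact ⟨w, hw, rfl⟩
      · rw [← heq] at hw
        obtain ⟨u, hu, e⟩ := hw
        rwa [← (MulAut.conj k).injective e]
    have hgH : g ∈ centralizer ({z} : Set G) := by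
      have := inv_mem (mul_mem (inv_mem hhH) (C.normalizer_P_le hG hkN))
      rwa [hk, inv_mul_cancel_left, inv_inv] at this
    rw [(C.z_comm hgH).eq, mul_inv_cancel_right, hv] at hg
    refine t5 ?_
    rw [right_eq_mul.mp hg]
    exact one_mem _
  obtain ⟨y, hyR, hxy⟩ := hintoR x hx
  refine IsConj.trans ?_ hxy.symm
  by_cases hyP : y ∈ P
  · have hy1 : y ≠ 1 := fun e => by
      obtain ⟨g, hg⟩ := isConj_iff.mp hxy
      rw [e, conj_eq_one_iff] at hg
      rw [hg, orderOf_one] at hx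
      norm_num at hx
    rcases hPcases y hyP hy1 with e | e <;> rw [e]
    exact hpinv
  · exact hy₀c.trans (hout y₀ hy₀R hy₀P y hyR hyP)

end Ctx

end Cfsg.Lib.JankoFour
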