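import Cfsg.Agent.JankoFour.MathieuGens
import Cfsg.Agent.S5599

/-!
The stabiliser of a pair of points in the largest Mathieu group is the automorphism group of the two-point group.
-/

set_option autoImplicit false
set_option maxRecDepth 100000
set_option maxHeartbeats 1000000
set_option linter.style.haveILetI false

namespace Cfsg.Lib.JankoFour

open Cfsg.Lib.Golay
open scoped Pointwise

theorem duadStab_aut :
    Nonempty (↥(Cfsg.M24 ⊓ MulAction.stabilizer (Equiv.Perm Cfsg.GolayPt) ({none, some 0} : Set Cfsg.GolayPt)) ≃*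
      MulAut ↥Cfsg.Spor.M22) := by
  classical
  set a : Cfsg.GolayPt := none with ha
  set b : Cfsg.GolayPt := some 0 with hb
  have hab : a ≠ b := by simp [ha, hb]
  set P := Cfsg.M24 ⊓ MulAction.stabilizer (Equiv.Perm Cfsg.GolayPt) ({a, b} : Set Cfsg.GolayPt) with hP
  have m22 : ∀ x, x ∈ Cfsg.Spor.M22 ↔ x ∈ Cfsg.M24 ∧ x a = a ∧ x b = b := by
    intro x
    simp only [Cfsg.Spor.M22, Cfsg.Spor.M23, Subgroup.mem_inf]
    exact ⟨fun ⟨⟨h1, h2⟩, h3⟩ => ⟨h1, h2, h3⟩, fun ⟨h1, h2, h3⟩ => ⟨⟨h1, h2⟩, h3⟩⟩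
  have hpair : ∀ x ∈ P, (x a = a ∧ x b = b) ∨ (x a = b ∧ x b = a) := by
    intro x hx
    have hs : x • ({a, b} : Set Cfsg.GolayPt) = {a, b} := MulAction.mem_stabilizer_iff.mp (Subgroup.mem_inf.mp hx).2
    have hxa : x a ∈ ({a, b} : Set Cfsg.GolayPt) := hs ▸ ⟨a, Or.inl rfl, rfl⟩
    have hxb : x b ∈ ({a, b} : Set Cfsg.GolayPt) := hs ▸ ⟨b, Or.inr rfl, rfl⟩
    rcases hxa with e | e <;> rcases hxb with f | f
    · exact absurd (x.injective (e.trans f.symm)) hab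
    · exact Or.inl ⟨e, f⟩
    · exact Or.inr ⟨e, f⟩
    · exact absurd (x.injective (e.trans f.symm)) hab
  have hmem : ∀ x ∈ Cfsg.M24, x a = b → x b = a → x ∈ P := fun x hx e f => Subgroup.mem_inf.mpr ⟨hx, by
    rw [MulAction.mem_stabilizer_iff, Set.smul_set_insert, Set.smul_set_singleton, Equiv.Perm.smul_def,
      Equiv.Perm.smul_def, e, f, Set.pair_comm]⟩
  obtain ⟨g, hg⟩ : ∃ g : ↥Cfsg.M24, (g : Equiv.Perm Cfsg.GolayPt) a = b ∧ (g : Equiv.Perm Cfsg.GolayPt) b = a := by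
    haveI := Cfsg.Lib.Golay.le_five 2 (by norm_num)
    exact MulAction.is_two_pretransitive_iff.mp inferInstance hab hab.symm
  have hgP : (g : Equiv.Perm Cfsg.GolayPt) ∈ P := hmem _ g.2 hg.1 hg.2
  obtain ⟨-, hnorm, hout⟩ := Cfsg.Agent.S5599.result g g.2 hg.1 hg.2
  have hPn : ∀ x ∈ P, ∀ y ∈ Cfsg.Spor.M22, x * y * x⁻¹ ∈ Cfsg.Spor.M22 := by
    intro x hx y hy
    rcases hpair x hx with ⟨e, f⟩ | ⟨e, f⟩
    · have hx' : x ∈ Cfsg.Spor.M22 := (m22 x).mpr ⟨(Subgroup.mem_inf.mp hx).1, e, f⟩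
      exact mul_mem (mul_mem hx' hy) (inv_mem hx')
    · have hx' : x * g ∈ Cfsg.Spor.M22 := (m22 _).mpr ⟨mul_mem (Subgroup.mem_inf.mp hx).1 g.2,
        by rw [Equiv.Perm.mul_apply, hg.1, f], by rw [Equiv.Perm.mul_apply, hg.2, e]⟩
      have h := hnorm _ (mul_mem (mul_mem (inv_mem hx') hy) hx')
      have h2 := mul_mem (mul_mem hx' hy) (inv_mem hx')
      have hinv : x⁻¹ a = b ∧ x⁻¹ b = a :=
        ⟨by rw [Equiv.Perm.inv_eq_iff_eq]; exact f.symm, by rw [Equiv.Perm.inv_eq_iff_eq]; exact e.symm⟩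
      have hy' := (m22 y).mp hy
      refine (m22 _).mpr ⟨mul_mem (mul_mem (Subgroup.mem_inf.mp hx).1 hy'.1) (inv_mem (Subgroup.mem_inf.mp hx).1), ?_, ?_⟩
      · rw [Equiv.Perm.mul_apply, Equiv.Perm.mul_apply, hinv.1, hy'.2.2, f]
      · rw [Equiv.Perm.mul_apply, Equiv.Perm.mul_apply, hinv.2, hy'.2.1, e]
  let conjF : ↥P → ↥Cfsg.Spor.M22 ≃* ↥Cfsg.Spor.M22 := fun x =>
    { toFun := fun y => ⟨x * y * (x : Equiv.Perm Cfsg.GolayPt)⁻¹, hPn x x.2 y y.2⟩
      invFun := fun y => ⟨(x : Equiv.Perm Cfsg.GolayPt)⁻¹ * y * x, by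
        have := hPn _ (inv_mem x.2) y y.2
        rwa [inv_inv] at this⟩
      left_inv := fun y => Subtype.ext (by simp [mul_assoc])
      right_inv := fun y => Subtype.ext (by simp [mul_assoc])
      map_mul' := fun y y' => Subtype.ext (by simp [mul_assoc]) }
  let ρ : ↥P →* MulAut ↥Cfsg.Spor.M22 :=
    { toFun := conjF
      map_one' := MulEquiv.ext fun y => Subtype.ext (by
        show ((1 : ↥P) : Equiv.Perm Cfsg.GolayPt) * y * ((1 : ↥P) : Equiv.Perm Cfsg.GolayPt)⁻¹ = y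
        simp)
      map_mul' := fun x x' => MulEquiv.ext fun y => Subtype.ext (by
        show ((x * x' : ↥P) : Equiv.Perm Cfsg.GolayPt) * y * ((x * x' : ↥P) : Equiv.Perm Cfsg.GolayPt)⁻¹ =
          (x : Equiv.Perm Cfsg.GolayPt) * ((x' : Equiv.Perm Cfsg.GolayPt) * y * (x' : Equiv.Perm Cfsg.GolayPt)⁻¹) *
            (x : Equiv.Perm Cfsg.GolayPt)⁻¹
        rw [Subgroup.coe_mul]; group) }
  have hinj : Function.Injective ρ := by
    rw [← MonoidHom.ker_eq_bot_iff, Subgroup.eq_bot_iff_forall]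
    intro x hx
    have hc : ∀ y ∈ Cfsg.Spor.M22, (x : Equiv.Perm Cfsg.GolayPt) * y * (x : Equiv.Perm Cfsg.GolayPt)⁻¹ = y := fun y hy =>
      congrArg Subtype.val (DFunLike.congr_fun (MonoidHom.mem_ker.mp hx) ⟨y, hy⟩)
    rcases hpair x x.2 with ⟨e, f⟩ | ⟨e, f⟩
    · have hx' : (x : Equiv.Perm Cfsg.GolayPt) ∈ Cfsg.Spor.M22 := (m22 _).mpr ⟨(Subgroup.mem_inf.mp x.2).1, e, f⟩
      refine Subtype.ext ?_
      haveI := Cfsg.Lib.Golay.isSimple_M22
      have hcen : (⟨x.1, hx'⟩ : ↥Cfsg.Spor.M22) ∈ Subgroup.center ↥Cfsg.Spor.M22 :=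
        Subgroup.mem_center_iff.mpr fun y => Subtype.ext (mul_inv_eq_iff_eq_mul.mp (hc y y.2)).symm
      rcases IsSimpleGroup.eq_bot_or_eq_top_of_normal (Subgroup.center ↥Cfsg.Spor.M22) inferInstance with h | h
      · rw [h, Subgroup.mem_bot] at hcen
        simpa using congrArg Subtype.val hcen
      · exfalso
        haveI : IsMulCommutative ↥Cfsg.Spor.M22 :=
          ⟨⟨fun p q => (Subgroup.mem_center_iff.mp (h ▸ Subgroup.mem_top q) p)⟩⟩
        have hp := (Group.is_simple_iff_prime_card (α := ↥Cfsg.Spor.M22)).mp inferInstance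
        rw [Cfsg.Lib.Golay.card_M22] at hp
        exact absurd hp (by norm_num)
    · exfalso
      have hm : (g : Equiv.Perm Cfsg.GolayPt) * x ∈ Cfsg.Spor.M22 := (m22 _).mpr ⟨mul_mem g.2 (Subgroup.mem_inf.mp x.2).1,
        by rw [Equiv.Perm.mul_apply, e, hg.2], by rw [Equiv.Perm.mul_apply, f, hg.1]⟩
      refine hout ⟨_, hm, fun y hy => ?_⟩
      conv_lhs => rw [← hc y hy]
      group
  have hcard : Nat.card (MulAut ↥Cfsg.Spor.M22) ≤ Nat.card ↥P := by
    rw [card_aut_M22.1]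
    have hle : Cfsg.Spor.M22 ≤ P := fun x hx => by
      obtain ⟨h1, h2, h3⟩ := (m22 x).mp hx
      exact Subgroup.mem_inf.mpr ⟨h1, by
        rw [MulAction.mem_stabilizer_iff, Set.smul_set_insert, Set.smul_set_singleton, Equiv.Perm.smul_def,
          Equiv.Perm.smul_def, h2, h3]⟩
    let f : ↥Cfsg.Spor.M22 × Bool → ↥P := fun t =>
      if t.2 then ⟨g * t.1, mul_mem hgP (hle t.1.2)⟩ else ⟨t.1, hle t.1.2⟩
    have hf : Function.Injective f := by
      rintro ⟨p, u⟩ ⟨q, v⟩ e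
      have e' := congrArg Subtype.val e
      cases u <;> cases v <;> simp [f] at e'
      · exact Prod.ext e' rfl
      · exact absurd (by
          have := congrArg (fun s : Equiv.Perm Cfsg.GolayPt => s a) e'
          simpa [((m22 _).mp p.2).2.1, ((m22 _).mp q.2).2.1, hg.1] using this) hab
      · exact absurd (by
          have := congrArg (fun s : Equiv.Perm Cfsg.GolayPt => s a) e'
          simpa [((m22 _).mp p.2).2.1, ((m22 _).mp q.2).2.1, hg.1] using this) hab.symm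
      · exact Prod.ext (by simpa using e') rfl
    have h := Nat.card_le_card_of_injective f hf
    rw [Nat.card_prod, Cfsg.Lib.Golay.card_M22, Nat.card_eq_fintype_card (α := Bool), Fintype.card_bool] at h
    exact h
  haveI : Finite (MulAut ↥Cfsg.Spor.M22) := Nat.finite_of_card_ne_zero (by rw [card_aut_M22.1]; norm_num)
  exact ⟨MulEquiv.ofBijective ρ (hinj.bijective_of_nat_card_le hcard)⟩

end Cfsg.Lib.JankoFour
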