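import Cfsg.Agent.JankoFour.Involutions
import Cfsg.Agent.LargeFischer.DuadLines
import Cfsg.Agent.Golay.M22Block
import Cfsg.Agent.InvolCalc.ZStarApps
import Cfsg.Agent.S0215

/-!
The centraliser and the normaliser of the subgroup of order three.
-/

set_option autoImplicit false
set_option maxRecDepth 100000
set_option maxHeartbeats 1000000
set_option linter.style.haveILetI false
set_option linter.unusedSectionVars false

namespace Cfsg.Lib.JankoFour

open Subgroup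
open Data (W0 X0)
open scoped commutatorElement

universe u

variable {G : Type u} [Group G] [Finite G]

theorem isSimple_M22' : IsSimpleGroup ↥Cfsg.Spor.M22 := Cfsg.Lib.Golay.isSimple_M22

theorem M22_perfect : commutator ↥Cfsg.Spor.M22 = ⊤ := by
  haveI := isSimple_M22'
  refine (IsSimpleGroup.eq_bot_or_eq_top_of_normal (commutator ↥Cfsg.Spor.M22) inferInstance).resolve_left fun h => ?_
  haveI : IsMulCommutative ↥Cfsg.Spor.M22 := ⟨⟨fun a b => by
    have : ⁅a, b⁆ ∈ commutator ↥Cfsg.Spor.M22 := Subgroup.commutator_mem_commutator (mem_top a) (mem_top b)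
    rw [h, mem_bot] at this
    exact commutatorElement_eq_one_iff_mul_comm.mp this⟩⟩
  have hp := (Group.is_simple_iff_prime_card (α := ↥Cfsg.Spor.M22)).mp inferInstance
  rw [Cfsg.Lib.Golay.card_M22] at hp
  exact absurd hp (by norm_num)

theorem conjM22_injective : Function.Injective (MulAut.conj : Spor.M22 →* MulAut Spor.M22) := by
  haveI := isSimple_M22'
  rw [← MonoidHom.ker_eq_bot_iff]
  refine (IsSimpleGroup.eq_bot_or_eq_top_of_normal _ inferInstance).resolve_right fun h => ?_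
  haveI : IsMulCommutative ↥Cfsg.Spor.M22 := ⟨⟨fun a b => by
    have e := DFunLike.congr_fun (MonoidHom.mem_ker.mp (h ▸ mem_top a)) b
    exact mul_inv_eq_iff_eq_mul.mp e⟩⟩
  have hp := (Group.is_simple_iff_prime_card (α := ↥Cfsg.Spor.M22)).mp inferInstance
  rw [Cfsg.Lib.Golay.card_M22] at hp
  exact absurd hp (by norm_num)

theorem M22_center {m : ↥Cfsg.Spor.M22} (h : ∀ y, m * y = y * m) : m = 1 :=
  conjM22_injective (by
    rw [map_one]
    exact MulEquiv.ext fun y => show m * y * m⁻¹ = y by rw [h y, mul_inv_cancel_right])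

/-- An element of odd order whose square lies in a subgroup lies in it. -/
theorem mem_of_sq {H : Subgroup G} {n : G} (hn : Odd (orderOf n)) (h : n * n ∈ H) : n ∈ H := by
  obtain ⟨k, hk⟩ := hn
  have h1 := pow_mem h (k + 1)
  rwa [← pow_two, ← pow_mul, show 2 * (k + 1) = orderOf n + 1 by omega, pow_succ, pow_orderOf_eq_one, one_mul] at h1

namespace Ctx

variable {z : G} {P : Subgroup G} (C : Ctx z P)

include C

theorem p_mem : C.p ∈ P := C.hp.le (mem_zpowers C.p)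

theorem mem_zp {x : G} (hx : x ∈ P) : x ∈ zpowers C.p := C.hp.ge hx

theorem mem_CP {h : G} : h ∈ centralizer (P : Set G) ↔ Commute h C.p := by
  rw [mem_centralizer_iff]
  constructor
  · exact fun hc => (hc C.p C.p_mem).symm
  · intro hc x hx
    obtain ⟨k, rfl⟩ := mem_zpowers_iff.mp (C.mem_zp hx)
    exact (hc.zpow_right k).eq.symm

theorem mem_K {h : G} : h ∈ centralizer ({z} : Set G) ⊓ centralizer (P : Set G) ↔
    h ∈ centralizer ({z} : Set G) ∧ Commute h C.p := by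
  rw [mem_inf, C.mem_CP]

theorem psi_inn {h : ↥(centralizer ({z} : Set G))} (hc : Commute (h : G) C.p) : ∃ m, C.ψ h = MulAut.conj m := by
  by_contra hno
  obtain ⟨h', hinv, he⟩ := C.N_img (C.ψ h) fun ⟨m, hm⟩ => hno ⟨m, hm.symm⟩
  obtain ⟨e, hE, k, hek⟩ := (C.ψ_ker (h⁻¹ * h')).mp (by rw [map_mul, map_inv, he, inv_mul_cancel])
  have hh' : (h' : G) = h * (e * C.p ^ k) := by
    rw [← hek]; simp
  have h1 : e * C.p * e⁻¹ = C.p⁻¹ := by
    have h2 := hinv
    rw [hh', show (h : G) * (e * C.p ^ k) * C.p * ((h : G) * (e * C.p ^ k))⁻¹ =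
      h * (e * (C.p ^ k * C.p * (C.p ^ k)⁻¹) * e⁻¹) * (h : G)⁻¹ by group,
      (Commute.pow_self C.p k).eq, mul_inv_cancel_right] at h2
    have h3 : e * C.p * e⁻¹ = (h : G)⁻¹ * C.p⁻¹ * h := by rw [← h2]; group
    rw [h3, mul_assoc, hc.inv_right.symm.eq, inv_mul_cancel_left]
  have h4 : C.p = C.p⁻¹ := by
    rcases C.np_E hE ⟨C.le hE, Or.inr h1⟩ with rfl | r
    · simpa using h1
    · rw [r, ← (C.z_comm C.pH).eq, mul_inv_cancel_right] at h1
      exact h1
  have h5 : orderOf C.p ∣ 2 := orderOf_dvd_of_pow_eq_one (by rw [pow_two]; nth_rw 2 [h4]; exact mul_inv_cancel _)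
  rw [C.ord] at h5
  norm_num at h5

theorem psi_one {h : ↥(centralizer ({z} : Set G))} (hc : Commute (h : G) C.p) (h1 : C.ψ h = 1) :
    ∃ k : ℕ, (h : G) = C.p ^ k ∨ (h : G) = z * C.p ^ k := by
  obtain ⟨e, hE, k, hek⟩ := (C.ψ_ker h).mp h1
  have hce : Commute e C.p := by
    have e' : e = (h : G) * (C.p ^ k)⁻¹ := by rw [hek]; group
    exact e' ▸ hc.mul_left ((Commute.refl C.p).pow_left k).inv_left
  rcases C.np_E hE ⟨C.le hE, Or.inl hce⟩ with r | r
  · exact ⟨k, Or.inl (by rw [hek, r, one_mul])⟩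
  · exact ⟨k, Or.inr (by rw [hek, r])⟩

theorem psi_surj_K (m : Spor.M22) : ∃ h : ↥(centralizer ({z} : Set G)),
    (h : G) ∈ centralizer ({z} : Set G) ⊓ centralizer (P : Set G) ∧ C.ψ h = MulAut.conj m := by
  obtain ⟨h, hc, e⟩ := C.L_img m
  exact ⟨h, C.mem_K.mpr ⟨h.2, hc⟩, e⟩

/-- The image of the derived group. -/
theorem psi_derived (m : Spor.M22) : ∃ h : ↥(centralizer ({z} : Set G)),
    (h : G) ∈ ⁅centralizer ({z} : Set G) ⊓ centralizer (P : Set G), centralizer ({z} : Set G) ⊓ centralizer (P : Set G)⁆ ∧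
      C.ψ h = MulAut.conj m := by
  set K := centralizer ({z} : Set G) ⊓ centralizer (P : Set G) with hK
  set S : Subgroup Spor.M22 :=
    ((⁅K, K⁆.subgroupOf (centralizer ({z} : Set G))).map C.ψ).comap MulAut.conj with hS
  have hle : commutator ↥Cfsg.Spor.M22 ≤ S := by
    rw [commutator_def, Subgroup.commutator_le]
    intro a _ b _
    obtain ⟨x, hx, ex⟩ := C.psi_surj_K a
    obtain ⟨y, hy, ey⟩ := C.psi_surj_K b
    refine ⟨⁅x, y⁆, mem_subgroupOf.mpr ?_, by rw [map_commutatorElement, map_commutatorElement, ex, ey]⟩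
    show ((⁅x, y⁆ : ↥(centralizer ({z} : Set G))) : G) ∈ _
    simp only [commutatorElement_def, Subgroup.coe_mul, Subgroup.coe_inv]
    exact Subgroup.commutator_mem_commutator hx hy
  rw [M22_perfect] at hle
  obtain ⟨h, hh, e⟩ := hle (mem_top m)
  exact ⟨h, mem_subgroupOf.mp hh, e⟩

theorem exists_T_lift [IsSimpleGroup G] (hG : ¬ IsMulCommutative G) (k : Fin 15) :
    ∃ t ∈ (C.sextet hG).T, Commute t C.p ∧ RepBy C.E C.π t (elt (xi k)) := by
  classical
  haveI : Fact (Nat.Prime 3) := ⟨Nat.prime_three⟩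
  set D := C.sextet hG with hD
  obtain ⟨a, ha⟩ := C.exists_lift (xi_facts.1 k k.2).1
  have haV := C.x_in_V k.2 ha
  have ha0 : a ∉ D.A0 := fun h => (xi_facts.1 k k.2).2.2
    (elt_inj ha.2.1 (by norm_num) (C.rep_unique ha.2.2 (elt_zero ▸ C.rep_E (mem_inf.mp h).2)))
  have h16 := D.counts.2.2 a haV ha0
  have hpz : C.p * z = z * C.p := mem_centralizer_singleton_iff.mp C.pH
  have hstab : ∀ y ∈ D.fib a, C.p * y * C.p⁻¹ ∈ D.fib a := by
    rintro y ⟨hy, hay⟩
    refine ⟨D.conj_T C.p_normalizes hy, ?_⟩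
    have h1 : C.p * a * C.p⁻¹ * a⁻¹ ∈ C.V ⊓ C.E :=
      mem_inf.mpr ⟨mul_mem ((mem_normalizer_iff.mp C.p_normalizes a).mp haV) (inv_mem haV), C.p_comm_V haV⟩
    have h2 := D.inv0 C.p C.p_normalizes hpz _ hay
    have h3 := mul_mem (inv_mem h1) h2
    rwa [show (C.p * a * C.p⁻¹ * a⁻¹)⁻¹ * (C.p * (a * y) * C.p⁻¹) = a * (C.p * y * C.p⁻¹) by group] at h3
  have hp3 : C.p ^ 3 = 1 := C.ord ▸ pow_orderOf_eq_one C.p
  haveI : Fintype ↥(D.fib a) := Fintype.ofFinite _
  let f : ↥(D.fib a) → ↥(D.fib a) := fun y => ⟨C.p * y * C.p⁻¹, hstab y y.2⟩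
  have hf3 : ∀ y, f (f (f y)) = y := fun y => Subtype.ext (by
    show C.p * (C.p * (C.p * (y : G) * C.p⁻¹) * C.p⁻¹) * C.p⁻¹ = y
    rw [show C.p * (C.p * (C.p * (y : G) * C.p⁻¹) * C.p⁻¹) * C.p⁻¹ = C.p ^ 3 * y * (C.p ^ 3)⁻¹ by
      simp [pow_succ, mul_assoc], hp3]
    group)
  let σ : Equiv.Perm ↥(D.fib a) := ⟨f, fun y => f (f y), fun y => hf3 y, fun y => hf3 y⟩
  obtain ⟨y, hy⟩ : ∃ y, σ y = y := by
    by_contra! hne
    have h := Equiv.Perm.card_fixedPoints_modEq (f := (f : Function.End ↥(D.fib a))) (p := 3) (n := 1)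
      (funext fun y => hf3 y)
    have h0 : Fintype.card (Function.fixedPoints f) = 0 :=
      Fintype.card_eq_zero_iff.mpr ⟨fun y => hne y.1 y.2⟩
    rw [h0, ← Nat.card_eq_fintype_card, Nat.card_coe_set_eq, h16] at h
    exact absurd h (by decide)
  obtain ⟨hyT, hay⟩ := y.2
  refine ⟨y, hyT, (mul_inv_eq_iff_eq_mul.mp (congrArg Subtype.val hy : C.p * (y : G) * C.p⁻¹ = y)).symm, fun q hq => ?_⟩
  have hE : a * y ∈ C.E := (mem_inf.mp hay).2
  rw [show (y : G) = a * (a * y) by rw [← mul_assoc, D.sq a haV, one_mul],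
    C.rep_mul (C.le hE) ha.2.2 (C.rep_E hE) q hq, mv_mm, mv_idM (C.π_lt q)]

/-- The fixed member of the second class over an index. -/
noncomputable def tl [IsSimpleGroup G] (hG : ¬ IsMulCommutative G) (k : Fin 15) : G := (C.exists_T_lift hG k).choose

theorem tl_spec [IsSimpleGroup G] (hG : ¬ IsMulCommutative G) (k : Fin 15) :
    C.tl hG k ∈ (C.sextet hG).T ∧ Commute (C.tl hG k) C.p ∧ RepBy C.E C.π (C.tl hG k) (elt (xi k)) ∧
      C.tl hG k ∈ C.V ∧ C.tl hG k ∉ C.E ∧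
      C.tl hG k ∈ centralizer ({z} : Set G) ⊓ centralizer (P : Set G) := by
  obtain ⟨h1, h2, h3⟩ := (C.exists_T_lift hG k).choose_spec
  refine ⟨h1, h2, h3, h1.1, fun h => ?_, C.mem_K.mpr ⟨C.V_le_H h1.1, h2⟩⟩
  exact (xi_facts.1 k k.2).2.2 (elt_inj (xi_facts.1 k k.2).1 (by norm_num) (C.rep_unique h3 (elt_zero ▸ C.rep_E h)))

theorem tz_not [IsSimpleGroup G] (hG : ¬ IsMulCommutative G) (k : Fin 15) : C.tl hG k * z ∉ (C.sextet hG).T :=
  fun h => (C.tl_spec hG k).2.2.2.2.1 (mem_inf.mp (((C.sextet hG).mem_P_z (C.tl_spec hG k).1).mp h)).2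

theorem tz_conj [IsSimpleGroup G] (hG : ¬ IsMulCommutative G) (k : Fin 15) : IsConj z (C.tl hG k * z) := by
  by_contra h
  obtain ⟨-, -, -, hV, hE, -⟩ := C.tl_spec hG k
  exact C.tz_not hG k ⟨mul_mem hV (C.Wt_le_V C.z_mem_Wt), fun e => hE (by
    rw [mul_eq_one_iff_eq_inv.mp e]; exact inv_mem C.X.mem), h⟩

theorem W_cases [IsSimpleGroup G] (hG : ¬ IsMulCommutative G) {w : G} (hw : w ∈ C.V) (hc : Commute w C.p) :
    w = 1 ∨ w = z ∨ ∃ k, w = C.tl hG k ∨ w = C.tl hG k * z := by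
  by_cases hE : w ∈ C.E
  · rcases C.np_E hE ⟨C.le hE, Or.inl hc⟩ with r | r
    exacts [Or.inl r, Or.inr (Or.inl r)]
  obtain ⟨k, hk, hr⟩ := C.V_index hw hE
  obtain ⟨-, h2, h3, h4, -, -⟩ := C.tl_spec hG ⟨k, hk⟩
  exact Or.inr (Or.inr ⟨⟨k, hk⟩, C.quot_central (C.V_le_H hw) (C.V_le_H h4) hr h3 hc h2⟩)

theorem tl_inj [IsSimpleGroup G] (hG : ¬ IsMulCommutative G) : Function.Injective (C.tl hG) := by
  intro k l e
  have h := elt_inj (xi_facts.1 k k.2).1 (xi_facts.1 l l.2).1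
    (C.rep_unique (C.tl_spec hG k).2.2.1 (e ▸ (C.tl_spec hG l).2.2.1))
  have h2 := (xi_facts.2.2 k k.2 l l.2).2
  rw [h] at h2
  exact Fin.ext (h2.mp ((xi_facts.2.2 l l.2 l l.2).2.mpr rfl))

theorem tl_ne_z [IsSimpleGroup G] (hG : ¬ IsMulCommutative G) (k l : Fin 15) : C.tl hG k ≠ C.tl hG l * z := fun e =>
  C.tz_not hG l (e ▸ (C.tl_spec hG k).1)

theorem tl_mul [IsSimpleGroup G] (hG : ¬ IsMulCommutative G) {k l : Fin 15} (hkl : k ≠ l) :
    ∃ m, m ≠ k ∧ m ≠ l ∧ (C.tl hG k * C.tl hG l = C.tl hG m ∨ C.tl hG k * C.tl hG l = C.tl hG m * z) := by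
  obtain ⟨-, a2, -, a4, a5, -⟩ := C.tl_spec hG k
  obtain ⟨-, b2, -, b4, b5, -⟩ := C.tl_spec hG l
  have hne : C.tl hG k * C.tl hG l ≠ 1 := fun e => hkl (C.tl_inj hG (by
    rw [mul_eq_one_iff_eq_inv.mp e, inv_eq_of_mul_eq_one_right (C.V_sq b4)]))
  have hnz : C.tl hG k * C.tl hG l ≠ z := fun e => C.tl_ne_z hG k l (by
    calc C.tl hG k = C.tl hG k * C.tl hG l * C.tl hG l := by rw [mul_assoc, C.V_sq b4, mul_one]
      _ = z * C.tl hG l := congrArg (· * C.tl hG l) e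
      _ = C.tl hG l * z := (C.V_comm (C.Wt_le_V C.z_mem_Wt) b4).eq)
  rcases C.W_cases hG (mul_mem a4 b4) (a2.mul_left b2) with r | r | ⟨m, r⟩
  · exact absurd r hne
  · exact absurd r hnz
  refine ⟨m, ?_, ?_, r⟩
  · rintro rfl
    refine b5 ?_
    rw [show C.tl hG l = C.tl hG m * (C.tl hG m * C.tl hG l) by rw [← mul_assoc, C.V_sq a4, one_mul]]
    rcases r with e | e <;> rw [e]
    · rw [C.V_sq a4]; exact one_mem _
    · rw [← mul_assoc, C.V_sq a4, one_mul]; exact C.X.mem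
  · rintro rfl
    refine a5 ?_
    rw [show C.tl hG k = C.tl hG k * C.tl hG m * C.tl hG m by rw [mul_assoc, C.V_sq b4, mul_one]]
    rcases r with e | e <;> rw [e]
    · rw [C.V_sq b4]; exact one_mem _
    · rw [mul_assoc, (C.V_comm (C.Wt_le_V C.z_mem_Wt) b4).eq, ← mul_assoc, C.V_sq b4, one_mul]
      exact C.X.mem

theorem exists_far [IsSimpleGroup G] (hG : ¬ IsMulCommutative G) (k : Fin 15) :
    ∃ l, l ≠ k ∧ C.tl hG k * C.tl hG l ∉ (C.sextet hG).T := by
  classical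
  set D := C.sextet hG with hD
  by_contra! hall
  obtain ⟨l, -, hl⟩ := Finset.exists_mem_notMem_of_card_lt_card (s := ({k} : Finset (Fin 15))) (t := Finset.univ)
    (by simp)
  rw [Finset.mem_singleton] at hl
  obtain ⟨q, hqk, hql, hq⟩ := C.tl_mul hG (Ne.symm hl)
  have hq' : C.tl hG k * C.tl hG l = C.tl hG q := hq.resolve_right fun e => C.tz_not hG q (e ▸ hall l hl)
  obtain ⟨m, -, hm⟩ := Finset.exists_mem_notMem_of_card_lt_card (s := ({k, l, q} : Finset (Fin 15))) (t := Finset.univ)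
    (lt_of_le_of_lt Finset.card_le_three (by simp))
  simp only [Finset.mem_insert, Finset.mem_singleton, not_or] at hm
  obtain ⟨hmk, hml, hmq⟩ := hm
  obtain ⟨n, -, -, hn⟩ := C.tl_mul hG (Ne.symm hml)
  have hnk : n ≠ k := fun e => by
    subst e
    have hl4 := (C.tl_spec hG l).2.2.2.1
    rcases hn with e | e
    · refine hmq (C.tl_inj hG ?_)
      rw [← hq', ← e, (C.V_comm (mul_mem hl4 (C.tl_spec hG m).2.2.2.1) hl4).eq, ← mul_assoc, C.V_sq hl4, one_mul]
    · refine C.tl_ne_z hG m q ?_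
      have e' : C.tl hG n = C.tl hG l * C.tl hG m * z := by rw [e, mul_assoc, C.X.zz, mul_one]
      rw [← hq', e', (C.V_comm (mul_mem (mul_mem hl4 (C.tl_spec hG m).2.2.2.1) (C.Wt_le_V C.z_mem_Wt)) hl4).eq,
        ← mul_assoc, ← mul_assoc, C.V_sq hl4, one_mul, mul_assoc, C.X.zz, mul_one]
  have hT := fun j => (C.tl_spec hG j).1
  rcases D.neighbour_pair (hT k) (hT l) (hall l hl) (hT m) (hall m hmk) (fun e => hml (C.tl_inj hG e))
      (fun e => hmq (C.tl_inj hG (e.trans hq'))) with ⟨h1, h2⟩ | ⟨h1, h2⟩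
  · rcases hn with e | e <;> rw [e] at h1 h2
    · exact (hall n hnk).2.2 h2
    · exact C.tz_not hG n h1
  · rcases hn with e | e <;> rw [e] at h1 h2
    · exact (hT n).2.2 h2
    · rw [← mul_assoc] at h1
      obtain ⟨r, -, -, hr⟩ := C.tl_mul hG (Ne.symm hnk)
      rcases hr with e' | e'
      · exact C.tz_not hG r (e' ▸ h1)
      · exact C.tz_not hG r (e' ▸ hall n hnk)

theorem exists_near [IsSimpleGroup G] (hG : ¬ IsMulCommutative G) :
    ∃ k l m, k ≠ l ∧ C.tl hG k * C.tl hG l = C.tl hG m := by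
  obtain ⟨k, l, hkl, h⟩ : ∃ k l, k ≠ l ∧ C.tl hG k * C.tl hG l ∈ (C.sextet hG).T := by
    by_contra! hno
    have := (C.sextet hG).disjoint_le (C.tl hG) (fun i => (C.tl_spec hG i).1) (C.tl_inj hG) hno
    simp at this
  obtain ⟨m, -, -, hm⟩ := C.tl_mul hG hkl
  exact ⟨k, l, m, hkl, hm.resolve_right fun e => C.tz_not hG m (e ▸ h)⟩

theorem z_derived [IsSimpleGroup G] (hG : ¬ IsMulCommutative G)
    (hP : P ≤ ⁅centralizer ({z} : Set G) ⊓ centralizer (P : Set G), centralizer ({z} : Set G) ⊓ centralizer (P : Set G)⁆) :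
    z ∈ ⁅centralizer ({z} : Set G) ⊓ centralizer (P : Set G), centralizer ({z} : Set G) ⊓ centralizer (P : Set G)⁆ := by
  classical
  set K := centralizer ({z} : Set G) ⊓ centralizer (P : Set G) with hK
  set L := ⁅K, K⁆ with hL
  by_contra hzL
  have hpL : ∀ j : ℕ, C.p ^ j ∈ L := fun j => pow_mem (hP C.p_mem) j
  have hcases : ∀ x ∈ K, x ∈ L ∨ x * z ∈ L := by
    intro x hx
    obtain ⟨hxH, hxc⟩ := C.mem_K.mp hx
    obtain ⟨m, hm⟩ := C.psi_inn (h := ⟨x, hxH⟩) hxc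
    obtain ⟨l, hl, hle⟩ := C.psi_derived m
    have hlK : (l : G) ∈ K := (Subgroup.commutator_le.mpr fun a ha b hb => by
      rw [commutatorElement_def]; exact mul_mem (mul_mem (mul_mem ha hb) (inv_mem ha)) (inv_mem hb)) hl
    obtain ⟨j, hj⟩ := C.psi_one (h := l⁻¹ * ⟨x, hxH⟩)
      (by simp only [Subgroup.coe_mul, Subgroup.coe_inv]; exact (C.mem_K.mp hlK).2.inv_left.mul_left hxc)
      (by rw [map_mul, map_inv, hle, hm, inv_mul_cancel])
    simp only [Subgroup.coe_mul, Subgroup.coe_inv] at hj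
    rcases hj with e | e <;> rw [inv_mul_eq_iff_eq_mul] at e
    · exact Or.inl (e ▸ mul_mem hl (hpL j))
    · refine Or.inr ?_
      rw [e, mul_assoc, mul_assoc, ((C.z_comm C.pH).pow_left j).eq, ← mul_assoc z z, C.X.zz, one_mul]
      exact mul_mem hl (hpL j)
  -- transitivity on the indices
  have hmove : ∀ t ∈ Data.nor, ∀ j : Fin 15, ∃ h : t.2.getD j.val 0 < 15,
      C.tl hG j ∈ L ↔ C.tl hG ⟨t.2.getD j.val 0, h⟩ ∈ L := by
    intro t ht j
    have hchk := nor_check.1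
    simp only [List.all_eq_true, Bool.and_eq_true, decide_eq_true_eq, beq_iff_eq, List.mem_range] at hchk
    obtain ⟨hw, hk'⟩ := hchk t ht
    obtain ⟨hlt, hM⟩ := hk' j.val j.2
    refine ⟨hlt, ?_⟩
    obtain ⟨g, hg, hgc, hgr⟩ := C.exists_inner t.1 0 hw
    have hgr' : RepBy C.E C.π g (wM [Data.A, Data.B, Data.C] t.1) := fun q hq => by
      rw [hgr q hq, mv_mm, mpow, mv_idM]
      refine mv_lt (n := 12) (M := wM [Data.A, Data.B, Data.C] t.1) ?_ _
      have hlt : (Data.nor.all fun t => (wM [Data.A, Data.B, Data.C] t.1).all fun m => decide (m < 4096)) = true := by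
        decide +kernel
      exact list_lt (List.all_eq_true.mp hlt t ht)
    have hgM : g ∈ C.M := by
      have hst := List.all_eq_true.mp nor_stab t ht
      simp only [List.all_eq_true, List.contains_iff_mem] at hst
      exact C.mem_M_of_rep hg hgr' hst
    obtain ⟨a1, a2, a3, a4, -, a6⟩ := C.tl_spec hG j
    set j' : Fin 15 := ⟨t.2.getD j.val 0, hlt⟩
    obtain ⟨b1, b2, b3, b4, -, b6⟩ := C.tl_spec hG j'
    set y := g * C.tl hG j * g⁻¹ with hy
    have hyV : y ∈ C.V := C.M_conj_V hgM a4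
    have hyc : Commute y C.p := (hgc.mul_left a2).mul_left hgc.inv_left
    have hr : RepBy C.E C.π (g * C.tl hG j) (mm (elt (xi j')) (wM [Data.A, Data.B, Data.C] t.1)) := by
      rw [show mm (elt (xi j')) (wM [Data.A, Data.B, Data.C] t.1) =
        mm (wM [Data.A, Data.B, Data.C] t.1) (elt (xi j)) from hM]
      exact C.rep_mul (C.V_le_H a4) hgr' a3
    have hyr : RepBy C.E C.π y (elt (xi j')) := by
      intro q hq
      have hq' := C.conj_mem (inv_mem hg) hq
      have h := hr _ hq'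
      rw [show g * C.tl hG j * (g⁻¹ * q * g⁻¹⁻¹) * (g * C.tl hG j)⁻¹ = y * q * y⁻¹ by rw [hy]; group, mv_mm,
        ← hgr' _ hq', show g * (g⁻¹ * q * g⁻¹⁻¹) * g⁻¹ = q by group] at h
      exact h
    have hyT : y ∈ (C.sextet hG).T := (C.sextet hG).conj_T (C.M_normalizes hgM).1 a1
    have hye : y = C.tl hG j' := (C.quot_central (C.V_le_H hyV) (C.V_le_H b4) hyr b3 hyc b2).resolve_right
      fun e => C.tz_not hG j' (e ▸ hyT)
    rw [← hye]
    have hgK : g ∈ K := C.mem_K.mpr ⟨hg, hgc⟩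
    have hnorm : K ≤ normalizer (L : Set G) := Subgroup.normalizer_commutator_ge_left K K
    exact mem_normalizer_iff.mp (hnorm hgK) _
  have horb : ∀ n, ∀ k ∈ norOrbit n, ∃ h : k < 15, C.tl hG 0 ∈ L ↔ C.tl hG ⟨k, h⟩ ∈ L := by
    intro n
    induction n with
    | zero =>
      intro k hk
      simp [norOrbit] at hk
      subst hk
      exact ⟨by norm_num, Iff.rfl⟩
    | succ n ih =>
      intro k hk
      simp only [norOrbit, List.mem_dedup, List.mem_append, List.mem_flatMap, List.mem_map] at hk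
      rcases hk with hk | ⟨t, ht, j, hj, rfl⟩
      · exact ih k hk
      · obtain ⟨hj15, hrel⟩ := ih j hj
        obtain ⟨hlt, hiff⟩ := hmove t ht ⟨j, hj15⟩
        exact ⟨hlt, hrel.trans hiff⟩
  have hall : ∀ k : Fin 15, C.tl hG 0 ∈ L ↔ C.tl hG k ∈ L := fun k =>
    (horb 8 k.val (List.contains_iff_mem.mp (List.all_eq_true.mp nor_check.2 k.val (List.mem_range.mpr k.2)))).2
  by_cases h0 : C.tl hG 0 ∈ L
  · obtain ⟨l, hl, hfar⟩ := C.exists_far hG 0
    obtain ⟨m, -, -, hm⟩ := C.tl_mul hG (Ne.symm hl)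
    rcases hm with e | e
    · exact hfar (e ▸ (C.tl_spec hG m).1)
    · refine hzL ?_
      have h1 := mul_mem h0 ((hall l).mp h0)
      rw [e] at h1
      exact (Subgroup.mul_mem_cancel_left _ ((hall m).mp h0)).mp h1
  · have hz' : ∀ k, C.tl hG k * z ∈ L := fun k =>
      (hcases _ (C.tl_spec hG k).2.2.2.2.2).resolve_left fun h => h0 ((hall k).mpr h)
    obtain ⟨k, l, m, -, hm⟩ := C.exists_near hG
    refine h0 ((hall m).mpr ?_)
    have h1 := mul_mem (hz' k) (hz' l)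
    rwa [show C.tl hG k * z * (C.tl hG l * z) = C.tl hG k * (z * C.tl hG l) * z by group,
      (C.V_comm (C.Wt_le_V C.z_mem_Wt) (C.tl_spec hG l).2.2.2.1).eq, ← mul_assoc, mul_assoc _ z z, C.X.zz,
      mul_one, hm] at h1

theorem K_perfect [IsSimpleGroup G] (hG : ¬ IsMulCommutative G)
    (hP : P ≤ ⁅centralizer ({z} : Set G) ⊓ centralizer (P : Set G), centralizer ({z} : Set G) ⊓ centralizer (P : Set G)⁆) :
    ⁅centralizer ({z} : Set G) ⊓ centralizer (P : Set G), centralizer ({z} : Set G) ⊓ centralizer (P : Set G)⁆ =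
      centralizer ({z} : Set G) ⊓ centralizer (P : Set G) := by
  set K := centralizer ({z} : Set G) ⊓ centralizer (P : Set G) with hK
  have hle : ⁅K, K⁆ ≤ K := Subgroup.commutator_le.mpr fun a ha b hb => by
    rw [commutatorElement_def]; exact mul_mem (mul_mem (mul_mem ha hb) (inv_mem ha)) (inv_mem hb)
  refine le_antisymm hle fun x hx => ?_
  obtain ⟨hxH, hxc⟩ := C.mem_K.mp hx
  obtain ⟨m, hm⟩ := C.psi_inn (h := ⟨x, hxH⟩) hxc
  obtain ⟨l, hl, hle'⟩ := C.psi_derived m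
  obtain ⟨j, hj⟩ := C.psi_one (h := l⁻¹ * ⟨x, hxH⟩)
    (by simp only [Subgroup.coe_mul, Subgroup.coe_inv]; exact (C.mem_K.mp (hle hl)).2.inv_left.mul_left hxc)
    (by rw [map_mul, map_inv, hle', hm, inv_mul_cancel])
  simp only [Subgroup.coe_mul, Subgroup.coe_inv] at hj
  have hpj : C.p ^ j ∈ ⁅K, K⁆ := pow_mem (hP C.p_mem) j
  rcases hj with e | e <;> rw [inv_mul_eq_iff_eq_mul] at e <;> rw [e]
  · exact mul_mem hl hpj
  · exact mul_mem hl (mul_mem (C.z_derived hG hP) hpj)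

theorem normalizer_fix [IsSimpleGroup G] (hG : ¬ IsMulCommutative G) {m : G}
    (hm : m ∈ normalizer (C.V : Set G)) (hmP : m * C.p * m⁻¹ = C.p ∨ m * C.p * m⁻¹ = C.p⁻¹) :
    m * z * m⁻¹ = z := by
  set D := C.sextet hG with hD
  have hback : ∀ {y}, Commute y C.p → Commute (m * y * m⁻¹) C.p := fun {y} hy => by
    have h := Commute.map hy (MulAut.conj m)
    simp only [MulAut.conj_apply] at h
    rcases hmP with e | e <;> rw [e] at h
    exacts [h, inv_inv C.p ▸ h.inv_right]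
  have hminv : m⁻¹ * C.p * m⁻¹⁻¹ = C.p ∨ m⁻¹ * C.p * m⁻¹⁻¹ = C.p⁻¹ := by
    rcases hmP with e | e
    · left; conv_lhs => rw [← e]
      group
    · right
      refine (MulAut.conj m).injective ?_
      simp only [MulAut.conj_apply]
      calc m * (m⁻¹ * C.p * m⁻¹⁻¹) * m⁻¹ = C.p := by group
        _ = (m * C.p * m⁻¹)⁻¹ := by rw [e, inv_inv]
        _ = m * C.p⁻¹ * m⁻¹ := by group
  have hback' : ∀ {y}, Commute y C.p → Commute (m⁻¹ * y * m⁻¹⁻¹) C.p := fun {y} hy => by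
    have h := Commute.map hy (MulAut.conj m⁻¹)
    simp only [MulAut.conj_apply] at h
    rcases hminv with e | e <;> rw [e] at h
    exacts [h, inv_inv C.p ▸ h.inv_right]
  set x := m * z * m⁻¹ with hx
  have hxV : x ∈ C.V := (mem_normalizer_iff.mp hm z).mp (C.Wt_le_V C.z_mem_Wt)
  have hzx : IsConj z x := isConj_iff.mpr ⟨m, rfl⟩
  rcases C.W_cases hG hxV (hback (C.z_comm C.pH).symm) with r | r | ⟨k, r | r⟩
  · exact absurd (conj_eq_one_iff.mp r) C.X.ne
  · exact r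
  · exact absurd (r ▸ hzx) (C.tl_spec hG k).1.2.2
  exfalso
  obtain ⟨l, hlk, hfar⟩ := C.exists_far hG k
  obtain ⟨q, -, -, hq⟩ := C.tl_mul hG (Ne.symm hlk)
  have hq' : C.tl hG k * C.tl hG l = C.tl hG q * z := hq.resolve_left fun e => hfar (e ▸ (C.tl_spec hG q).1)
  obtain ⟨l1, l2, -, l4, -, -⟩ := C.tl_spec hG l
  have hxl : x * C.tl hG l = C.tl hG q := by
    rw [r, mul_assoc, (C.V_comm (C.Wt_le_V C.z_mem_Wt) l4).eq, ← mul_assoc, hq', mul_assoc, C.X.zz, mul_one]
  set y := m⁻¹ * C.tl hG l * m⁻¹⁻¹ with hy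
  have hyT : y ∈ D.T := D.conj_T (inv_mem hm) l1
  have hzy : IsConj z (z * y) := by
    rcases C.W_cases hG hyT.1 (hback' l2) with r | r | ⟨j, r | r⟩
    · exact absurd r hyT.2.1
    · exact absurd (r ▸ IsConj.refl z) hyT.2.2
    · rw [r, (C.V_comm (C.Wt_le_V C.z_mem_Wt) (C.tl_spec hG j).2.2.2.1).eq]
      exact C.tz_conj hG j
    · exact absurd (r ▸ hyT) (C.tz_not hG j)
  refine (C.tl_spec hG q).1.2.2 ?_
  rw [← hxl, show x * C.tl hG l = m * (z * y) * m⁻¹ by rw [hx, hy]; group]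
  exact hzy.trans (isConj_iff.mpr ⟨m, rfl⟩)

theorem central_involution {c : G} (hc : c * c = 1) (h : ∃ k : ℕ, c = C.p ^ k ∨ c = z * C.p ^ k) : c = 1 ∨ c = z := by
  obtain ⟨k, e | e⟩ := h
  · left
    have h1 : (C.p ^ k) ^ 2 = 1 := by rw [pow_two, ← e, hc]
    rw [← pow_mul] at h1
    have h3 : C.p ^ 3 = 1 := C.ord ▸ pow_orderOf_eq_one C.p
    rw [mul_comm] at h1
    rw [e, pow_cancel h3 (by norm_num) h1]
  · right
    have hpz : Commute (C.p ^ k) z := (C.z_comm C.pH).pow_left k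
    have h1 : (C.p ^ k) ^ 2 = 1 := by
      rw [e, show z * C.p ^ k * (z * C.p ^ k) = z * (C.p ^ k * z) * C.p ^ k by group, hpz.eq, ← mul_assoc, C.X.zz,
        one_mul, ← pow_two] at hc
      exact hc
    rw [← pow_mul, mul_comm] at h1
    have h3 : C.p ^ 3 = 1 := C.ord ▸ pow_orderOf_eq_one C.p
    rw [e, pow_cancel h3 (by norm_num) h1, mul_one]

theorem isolated [IsSimpleGroup G] (hG : ¬ IsMulCommutative G) {y : G} (hy : Commute y C.p)
    (hc : Commute z (y * z * y⁻¹)) : y * z * y⁻¹ = z := by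
  classical
  by_contra hne
  set v := y * z * y⁻¹ with hv
  have hzp : Commute z C.p := (C.z_comm C.pH).symm
  have hvH : v ∈ centralizer ({z} : Set G) := mem_centralizer_singleton_iff.mpr hc.eq.symm
  have hvp : Commute v C.p := (hy.mul_left hzp).mul_left hy.inv_left
  have hv2 : v * v = 1 := by rw [hv, conj_mul, C.X.zz]; group
  have hv1 : v ≠ 1 := fun e => C.X.ne (conj_eq_one_iff.mp e)
  obtain ⟨mv', hmv⟩ := C.psi_inn (h := ⟨v, hvH⟩) hvp
  obtain ⟨t1, t2, -, t4, t5, t6⟩ := C.tl_spec hG 0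
  set t := C.tl hG 0 with ht
  obtain ⟨mt, hmt⟩ := C.psi_inn (h := ⟨t, C.V_le_H t4⟩) t2
  have hord : ∀ (w : G) (hw : w ∈ centralizer ({z} : Set G)) (m : Spor.M22), C.ψ ⟨w, hw⟩ = MulAut.conj m → Commute w C.p →
      w * w = 1 → w ≠ 1 → w ≠ z → orderOf (m : Equiv.Perm Cfsg.GolayPt) = 2 := by
    intro w hw m hm hwp hw2 hw1 hwz
    rw [Subgroup.orderOf_coe]
    refine orderOf_eq_prime ?_ fun e => ?_
    · refine conjM22_injective ?_
      rw [map_pow, ← hm, ← map_pow, map_one, ← map_one C.ψ]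
      exact congrArg C.ψ (Subtype.ext (by rw [pow_two]; exact hw2))
    · obtain ⟨j, hj⟩ := C.psi_one (h := ⟨w, hw⟩) hwp (by rw [hm, e, map_one])
      exact (C.central_involution hw2 ⟨j, hj⟩).elim hw1 hwz
  obtain ⟨h1, hh1, e1⟩ := Cfsg.Lib.Golay.M22Block.exists_conj_zEl mv'.2 (hord v hvH mv' hmv hvp hv2 hv1 hne)
  obtain ⟨h2, hh2, e2⟩ := Cfsg.Lib.Golay.M22Block.exists_conj_zEl mt.2
    (hord t _ mt hmt t2 (C.V_sq t4) t1.2.1 fun e => t5 (Eq.subst (motive := fun a => a ∈ C.E) e.symm C.X.mem))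
  let m : Spor.M22 := (⟨h2, hh2⟩ : Spor.M22)⁻¹ * ⟨h1, hh1⟩
  have hm : m * mv' * m⁻¹ = mt := Subtype.ext (by
    simp only [m, Subgroup.coe_mul, Subgroup.coe_inv, mul_inv_rev, inv_inv]
    rw [show h2⁻¹ * h1 * (mv' : Equiv.Perm Cfsg.GolayPt) * (h1⁻¹ * h2) = h2⁻¹ * (h1 * mv' * h1⁻¹) * h2 by group, e1,
      ← e2]
    group)
  obtain ⟨k, hk, hkm⟩ := C.psi_surj_K m
  obtain ⟨hkH, hkp⟩ := C.mem_K.mp hk
  set x := (k : G) * v * (k : G)⁻¹ with hx
  have hxp : Commute x C.p := (hkp.mul_left hvp).mul_left hkp.inv_left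
  have hxH : x ∈ centralizer ({z} : Set G) := mul_mem (mul_mem hkH hvH) (inv_mem hkH)
  have hx2 : x * x = 1 := by rw [hx, conj_mul, hv2]; group
  have hψx : C.ψ ⟨x, hxH⟩ = C.ψ ⟨t, C.V_le_H t4⟩ := by
    rw [show (⟨x, hxH⟩ : ↥(centralizer ({z} : Set G))) = k * ⟨v, hvH⟩ * k⁻¹ from Subtype.ext (by simp [hx]),
      map_mul, map_mul, map_inv, hkm, hmv, hmt, ← map_mul, ← map_inv, ← map_mul, hm]
  have htx : Commute t x := by
    obtain ⟨j, hj⟩ := C.psi_one (h := ⟨t, C.V_le_H t4⟩⁻¹ * ⟨x, hxH⟩)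
      (by simp only [Subgroup.coe_mul, Subgroup.coe_inv]; exact t2.inv_left.mul_left hxp)
      (by rw [map_mul, map_inv, hψx, inv_mul_cancel])
    simp only [Subgroup.coe_mul, Subgroup.coe_inv] at hj
    rcases hj with e | e <;> rw [inv_mul_eq_iff_eq_mul] at e <;> rw [e]
    · exact (Commute.refl t).mul_right (t2.pow_right j)
    · exact (Commute.refl t).mul_right ((C.z_comm (C.V_le_H t4)).mul_right (t2.pow_right j))
  obtain ⟨j, hj⟩ := C.psi_one (h := ⟨t, C.V_le_H t4⟩⁻¹ * ⟨x, hxH⟩)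
    (by simp only [Subgroup.coe_mul, Subgroup.coe_inv]; exact t2.inv_left.mul_left hxp)
    (by rw [map_mul, map_inv, hψx, inv_mul_cancel])
  simp only [Subgroup.coe_mul, Subgroup.coe_inv] at hj
  have hzx : IsConj z x := (isConj_iff.mpr ⟨y, rfl⟩ : IsConj z v).trans (isConj_iff.mpr ⟨k, rfl⟩)
  have hxe : x = t * z := by
    have hc2 : t⁻¹ * x * (t⁻¹ * x) = 1 := by
      have hti : t⁻¹ = t := inv_eq_of_mul_eq_one_right (C.V_sq t4)
      rw [hti, show t * x * (t * x) = t * (x * t) * x by group, ← htx.eq, ← mul_assoc t t x, C.V_sq t4, one_mul, hx2]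
    rcases C.central_involution hc2 ⟨j, hj⟩ with e | e <;> rw [inv_mul_eq_iff_eq_mul] at e
    · exact absurd (by rw [e, mul_one] at hzx; exact hzx) t1.2.2
    · exact e
  have hxV : x ∈ C.V := hxe ▸ mul_mem t4 (C.Wt_le_V C.z_mem_Wt)
  obtain ⟨m₀, hm₀, hmx⟩ := C.fuse hxV hzx
  set y' := (k : G) * y with hy'
  have hy'p : Commute y' C.p := hkp.mul_left hy
  have hy'x : y' * z * y'⁻¹ = x := by rw [hx, hv, hy']; group
  set q := y'⁻¹ * m₀ with hq
  have hqH : q ∈ centralizer ({z} : Set G) := by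
    refine mem_centralizer_singleton_iff.mpr (mul_inv_eq_iff_eq_mul.mp ?_)
    rw [show q * z * q⁻¹ = y'⁻¹ * (m₀ * z * m₀⁻¹) * y' by rw [hq]; group, hmx, ← hy'x]
    group
  obtain ⟨e, he, n, hn, hqn⟩ := C.NE _ (inv_mem hqH)
  have hnH : n ∈ centralizer ({z} : Set G) := by simpa [hqn] using mul_mem (inv_mem (C.le he)) (inv_mem hqH)
  have hme : m₀ * e ∈ normalizer (C.V : Set G) := mul_mem hm₀ (C.M_normalizes (C.E_le_M he)).1
  have hm0q : m₀ * e = y' * n⁻¹ := by
    rw [show m₀ = y' * q by rw [hq]; group, show q = n⁻¹ * e⁻¹ by rw [← mul_inv_rev, ← hqn, inv_inv]]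
    group
  have hconjP : m₀ * e * C.p * (m₀ * e)⁻¹ = C.p ∨ m₀ * e * C.p * (m₀ * e)⁻¹ = C.p⁻¹ := by
    rw [hm0q, show y' * n⁻¹ * C.p * (y' * n⁻¹)⁻¹ = y' * (n⁻¹ * C.p * n⁻¹⁻¹) * y'⁻¹ by group]
    rcases C.deg n⁻¹ (inv_mem hnH) (inv_mem hn) with r | r <;> rw [r]
    · left; rw [hy'p.eq, mul_inv_cancel_right]
    · right; rw [hy'p.inv_right.eq, mul_inv_cancel_right]
  have hfix := C.normalizer_fix hG hme hconjP
  rw [show m₀ * e * z * (m₀ * e)⁻¹ = m₀ * (e * z * e⁻¹) * m₀⁻¹ by group, (C.z_comm (C.le he)).eq,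
    mul_inv_cancel_right, hmx] at hfix
  rw [hfix] at hxe
  exact t1.2.1 (mul_eq_right.mp hxe.symm)

theorem odd_fixed [IsSimpleGroup G] (hG : ¬ IsMulCommutative G) {n : G} (hn : Commute n C.p) {t : G}
    (ht : t ∈ (C.sextet hG).T) (hc : Commute n t) : n ∈ centralizer ({z} : Set G) := by
  refine mem_centralizer_singleton_iff.mpr (mul_inv_eq_iff_eq_mul.mp ?_)
  exact C.normalizer_fix hG (C.centralizer_T hG ht (mem_centralizer_singleton_iff.mpr hc.eq))
    (Or.inl (by rw [hn.eq, mul_inv_cancel_right]))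

theorem centralizer_P_le [IsSimpleGroup G] (hG : ¬ IsMulCommutative G) :
    centralizer (P : Set G) ≤ centralizer ({z} : Set G) := by
  classical
  set Y := centralizer (P : Set G) with hY
  have hzY : z ∈ Y := C.mem_CP.mpr (C.z_comm C.pH).symm
  let z' : ↥Y := ⟨z, hzY⟩
  have hiso : Cfsg.IsIsolatedInvolution z' := by
    refine ⟨by rw [← Subgroup.orderOf_coe]; exact C.hz, fun g hg => Subtype.ext ?_⟩
    exact C.isolated hG (C.mem_CP.mp g.2) (congrArg Subtype.val hg.eq)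
  have hodd : Odd (Nat.card ↥(Cfsg.pPrimeCore 2 ↥Y)) :=
    Nat.coprime_two_right.1 (Cfsg.Lib.Components.coprime_card_pPrimeCore 2)
  set N := Cfsg.pPrimeCore 2 ↥Y with hN
  have hcomm : ∀ g : ↥Y, z' * g * z'⁻¹ * g⁻¹ ∈ N := Cfsg.Lib.ZStarApps.zstarProp hiso
  have hordodd : ∀ n ∈ N, Odd (orderOf n) := fun n hn =>
    hodd.of_dvd_nat (by rw [← Subgroup.orderOf_mk n hn]; exact orderOf_dvd_natCard _)
  -- the fixed part is the subgroup of order three
  have hfixP : ∀ n ∈ N, (n : G) ∈ centralizer ({z} : Set G) → (n : G) ∈ P := by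
    intro n hn hnH
    have hnp : Commute (n : G) C.p := C.mem_CP.mp n.2
    let S : Subgroup Spor.M22 :=
      ((((centralizer ({z} : Set G) ⊓ Y).subgroupOf (centralizer ({z} : Set G))) ⊓
        (N.map Y.subtype).subgroupOf (centralizer ({z} : Set G))).map C.ψ).comap MulAut.conj
    have hSn : S.Normal := by
      refine ⟨fun a ha b => ?_⟩
      obtain ⟨w, hw, hwe⟩ := ha
      obtain ⟨hw1, hw2⟩ := mem_inf.mp hw
      obtain ⟨wN, hwN, hwe'⟩ := mem_subgroupOf.mp hw2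
      obtain ⟨k, hk, hke⟩ := C.psi_surj_K b
      refine ⟨k * w * k⁻¹, mem_inf.mpr ⟨mem_subgroupOf.mpr ?_, mem_subgroupOf.mpr ?_⟩, ?_⟩
      · simp only [Subgroup.coe_mul, Subgroup.coe_inv]
        exact mul_mem (mul_mem hk (mem_subgroupOf.mp hw1)) (inv_mem hk)
      · refine ⟨⟨k, (mem_inf.mp hk).2⟩ * wN * ⟨k, (mem_inf.mp hk).2⟩⁻¹, (inferInstance : N.Normal).conj_mem _ hwN _, ?_⟩
        simp only [Subgroup.coe_mul, Subgroup.coe_inv, Subgroup.coe_subtype]
        rw [show (wN : G) = w from hwe']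
      · rw [map_mul, map_mul, map_inv, hke, hwe, ← map_inv, ← map_mul, ← map_mul]
    have hSodd : ∀ a ∈ S, Odd (orderOf a) := by
      intro a ha
      obtain ⟨w, hw, hwe⟩ := ha
      obtain ⟨wN, hwN, hwe'⟩ := mem_subgroupOf.mp (mem_inf.mp hw).2
      rw [← orderOf_injective _ conjM22_injective a, ← hwe]
      refine Odd.of_dvd_nat ?_ (orderOf_map_dvd C.ψ w)
      rw [← Subgroup.orderOf_coe, ← show (wN : G) = (w : G) from hwe', Subgroup.orderOf_coe]
      exact hordodd wN hwN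
    haveI := isSimple_M22'
    rcases IsSimpleGroup.eq_bot_or_eq_top_of_normal S hSn with h | h
    · obtain ⟨m, hm⟩ := C.psi_inn (h := ⟨n, hnH⟩) hnp
      have hmS : m ∈ S := ⟨⟨n, hnH⟩, mem_inf.mpr ⟨mem_subgroupOf.mpr (mem_inf.mpr ⟨hnH, n.2⟩),
        mem_subgroupOf.mpr ⟨n, hn, rfl⟩⟩, hm⟩
      rw [h, mem_bot] at hmS
      obtain ⟨j, e | e⟩ := C.psi_one (h := ⟨n, hnH⟩) hnp (by rw [hm, hmS, map_one])
      · rw [show (n : G) = C.p ^ j from e]; exact pow_mem C.p_mem j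
      · exfalso
        have h2 := hordodd n hn
        rw [← Subgroup.orderOf_coe, show (n : G) = z * C.p ^ j from e] at h2
        have hpz : Commute z (C.p ^ j) := ((C.z_comm C.pH).pow_left j).symm
        have h3 : (z * C.p ^ j) ^ orderOf (z * C.p ^ j) = 1 := pow_orderOf_eq_one _
        rw [hpz.mul_pow, ← pow_mul] at h3
        obtain ⟨i, hi⟩ := h2
        rw [hi, pow_succ, pow_mul, pow_two, C.X.zz, one_pow, one_mul] at h3
        have h4 : z ∈ zpowers C.p := by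
          exact Eq.subst (motive := fun a => a ∈ zpowers C.p) (eq_inv_of_mul_eq_one_left h3).symm
            (inv_mem (pow_mem (mem_zpowers _) _))
        have h5 := orderOf_dvd_of_mem_zpowers h4
        rw [C.hz, C.ord] at h5
        norm_num at h5
    · exfalso
      haveI : Fact (Nat.Prime 2) := ⟨Nat.prime_two⟩
      obtain ⟨x, hx⟩ := exists_prime_orderOf_dvd_card' (G := ↥Cfsg.Spor.M22) 2
        (by rw [Cfsg.Lib.Golay.card_M22]; norm_num)
      have := hSodd x (h ▸ mem_top x)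
      rw [hx] at this
      exact absurd this (by decide)
  -- inversion by the second class
  have hinv : ∀ k, ∀ n ∈ N, ∃ a ∈ P, C.tl hG k * (n : G) * C.tl hG k = a * (n : G)⁻¹ := by
    intro k
    obtain ⟨t1, t2, -, t4, -, -⟩ := C.tl_spec hG k
    set t : ↥Y := ⟨C.tl hG k, C.mem_CP.mpr t2⟩ with htdef
    have ht2 : t * t = 1 := Subtype.ext (C.V_sq t4)
    have hti : t⁻¹ = t := inv_eq_of_mul_eq_one_right ht2
    have htN : ∀ n ∈ N, t * n * t ∈ N := fun n hn => by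
      have := (inferInstance : N.Normal).conj_mem n hn t
      rwa [hti] at this
    have hfix : ∀ c ∈ N, t * c * t = c → (c : G) ∈ P := fun c hc e => by
      refine hfixP c hc (C.odd_fixed hG (C.mem_CP.mp c.2) t1 ?_)
      have e' : C.tl hG k * (c : G) * C.tl hG k = c := congrArg Subtype.val e
      show (c : G) * C.tl hG k = C.tl hG k * c
      conv_lhs => rw [← e']
      rw [mul_assoc, C.V_sq t4, mul_one]
    have hcenP : ∀ c : ↥Y, (c : G) ∈ P → ∀ d : ↥Y, c * d = d * c := fun c hc d => Subtype.ext (by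
      show (c : G) * d = d * c
      exact mem_centralizer_iff.mp d.2 c hc)
    let Z₀ : Subgroup ↥N := (P.subgroupOf Y).subgroupOf N
    haveI : Z₀.Normal := ⟨fun a ha b => by
      rwa [show b * a * b⁻¹ = a from Subtype.ext (by
        show (b : ↥Y) * a * (b : ↥Y)⁻¹ = a
        rw [← hcenP a ha b, mul_inv_cancel_right])]⟩
    let f : ↥N →* ↥N :=
      { toFun := fun x => ⟨t * x * t, htN x x.2⟩
        map_one' := Subtype.ext (by
          show t * ((1 : ↥N) : ↥Y) * t = 1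
          rw [OneMemClass.coe_one, mul_one, ht2])
        map_mul' := fun x y => Subtype.ext (by
          show t * ((x : ↥Y) * y) * t = t * x * t * (t * y * t)
          rw [show t * (x : ↥Y) * t * (t * y * t) = t * x * (t * t) * y * t by group, ht2]
          group) }
    have hff : ∀ x, f (f x) = x := fun x => Subtype.ext (by
      show t * (t * (x : ↥Y) * t) * t = x
      rw [show t * (t * (x : ↥Y) * t) * t = (t * t) * x * (t * t) by group, ht2]
      group)
    have hfa : ∀ a ∈ Z₀, f a = a := fun a ha => Subtype.ext (by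
      show t * (a : ↥Y) * t = a
      rw [← hcenP a ha t, mul_assoc, ht2, mul_one])
    let φ : ↥N ⧸ Z₀ →* ↥N ⧸ Z₀ := QuotientGroup.map Z₀ Z₀ f fun a ha => by
      rw [Subgroup.mem_comap, hfa a ha]; exact ha
    have hfpf : MonoidHom.FixedPointFree φ := by
      intro g hg
      induction g using QuotientGroup.induction_on with
      | H x =>
        rw [QuotientGroup.map_mk, QuotientGroup.eq] at hg
        obtain ⟨c, hcm, hxc⟩ : ∃ c ∈ Z₀, x = f x * c := ⟨_, hg, (mul_inv_cancel_left _ _).symm⟩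
        have hcen : ∀ w : ↥N, w * c = c * w := fun w => Subtype.ext (hcenP c hcm w).symm
        have h2 : f x = x * c := by
          conv_lhs => rw [hxc, map_mul, hff, hfa c hcm]
        have hc2 : c * c = 1 := by
          rw [h2, mul_assoc] at hxc
          exact left_eq_mul.mp hxc
        have hc1 : (c : ↥Y) = 1 := mem_bot.mp (mem_of_sq (hordodd _ c.2) (by
          rw [← Subgroup.coe_mul, hc2, OneMemClass.coe_one]; exact one_mem _))
        rw [Subtype.ext (a2 := (1 : ↥N)) hc1, mul_one] at h2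
        exact (QuotientGroup.eq_one_iff x).mpr (hfix x x.2 (congrArg Subtype.val h2))
    have hinvol : Function.Involutive φ := fun g => by
      induction g using QuotientGroup.induction_on with
      | H x => rw [QuotientGroup.map_mk, QuotientGroup.map_mk, hff]
    intro n hn
    have h := congrFun (hfpf.coe_eq_inv_of_involutive hinvol) (QuotientGroup.mk ⟨n, hn⟩)
    rw [QuotientGroup.map_mk, ← QuotientGroup.mk_inv, eq_comm, QuotientGroup.eq] at h
    refine ⟨_, (h : _ ∈ P), ?_⟩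
    have hc := hcenP _ h n⁻¹
    have e : t * n * t = (n⁻¹)⁻¹ * (t * n * t) * n⁻¹ := by
      have h' : ((n⁻¹)⁻¹ * (t * n * t)) * n⁻¹ = n⁻¹ * ((n⁻¹)⁻¹ * (t * n * t)) := hc
      rw [h']; group
    exact congrArg Subtype.val e
  have hNP : ∀ n ∈ N, (n : G) ∈ P := by
    intro n hn
    refine mem_of_sq (by rw [Subgroup.orderOf_coe]; exact hordodd n hn) ?_
    obtain ⟨k, l, m, -, hklm⟩ := C.exists_near hG
    obtain ⟨a, ha, e1⟩ := hinv l n hn
    obtain ⟨b, hb, e2⟩ := hinv k n⁻¹ (inv_mem hn)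
    obtain ⟨c, hc, e3⟩ := hinv m n hn
    have hcen : ∀ x ∈ P, ∀ g : G, Commute g C.p → g * x = x * g := fun x hx g hg =>
      ((mem_centralizer_iff.mp (C.mem_CP.mpr hg : g ∈ centralizer (P : Set G))) x hx).symm
    have hkp := (C.tl_spec hG k).2.1
    have hk2 := C.V_sq (C.tl_spec hG k).2.2.2.1
    rw [Subgroup.coe_inv, inv_inv] at e2
    have e4 : C.tl hG m * (n : G) * C.tl hG m = a * b * n := by
      have hc' : C.tl hG l * C.tl hG k = C.tl hG k * C.tl hG l :=
        (C.V_comm (C.tl_spec hG l).2.2.2.1 (C.tl_spec hG k).2.2.2.1).eq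
      calc C.tl hG m * (n : G) * C.tl hG m = C.tl hG k * C.tl hG l * n * (C.tl hG l * C.tl hG k) := by
            rw [← hklm, hc']
        _ = C.tl hG k * (C.tl hG l * n * C.tl hG l) * C.tl hG k := by group
        _ = C.tl hG k * a * (n : G)⁻¹ * C.tl hG k := by rw [e1]; group
        _ = a * (C.tl hG k * (n : G)⁻¹ * C.tl hG k) := by rw [hcen a ha _ hkp]; group
        _ = a * b * n := by rw [e2]; group
    rw [e3] at e4
    have e5 : (n : G) * n = (a * b)⁻¹ * c := by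
      have hnp : Commute (n : G) C.p := C.mem_CP.mp n.2
      have h6 : (n : G) = (a * b)⁻¹ * (c * (n : G)⁻¹) := by rw [e4]; group
      nth_rw 1 [h6]
      group
    rw [e5]
    exact mul_mem (inv_mem (mul_mem ha hb)) hc
  intro g hg
  have ha := hNP _ (hcomm ⟨g, hg⟩)
  have e : ((z' * ⟨g, hg⟩ * z'⁻¹ * (⟨g, hg⟩ : ↥Y)⁻¹ : ↥Y) : G) = z * g * z⁻¹ * g⁻¹ := by simp [z']
  rw [e] at ha
  set a := z * g * z⁻¹ * g⁻¹ with hadef
  have hzi : z⁻¹ = z := inv_eq_of_mul_eq_one_right C.X.zz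
  have hza : z * a = a * z := by
    obtain ⟨j, hj⟩ := mem_zpowers_iff.mp (C.mem_zp ha)
    rw [← hj]
    exact (((C.z_comm C.pH).symm).zpow_right j).eq
  have haa : a * a = 1 := by
    have h1 : z * a * z = a⁻¹ := by
      rw [hadef, hzi]
      calc z * (z * g * z * g⁻¹) * z = (z * z) * g * z * g⁻¹ * z := by group
        _ = g * z * g⁻¹ * z := by rw [C.X.zz, one_mul]
        _ = _ := by simp [mul_assoc, hzi]
    rw [hza, mul_assoc, C.X.zz, mul_one] at h1
    nth_rw 2 [h1]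
    exact mul_inv_cancel a
  have ha1 : a = 1 := by
    have hd := orderOf_dvd_of_mem_zpowers (C.mem_zp ha)
    rw [C.ord] at hd
    have h2 : orderOf a ∣ 2 := orderOf_dvd_of_pow_eq_one (by rw [pow_two, haa])
    exact orderOf_eq_one_iff.mp (Nat.eq_one_of_dvd_coprimes (by norm_num : Nat.Coprime 3 2) hd h2)
  refine mem_centralizer_singleton_iff.mpr ?_
  have h := mul_inv_eq_one.mp ha1
  rw [mul_inv_eq_iff_eq_mul] at h
  exact h.symm

theorem normalizer_P_le [IsSimpleGroup G] (hG : ¬ IsMulCommutative G) :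
    normalizer (P : Set G) ≤ centralizer ({z} : Set G) := by
  intro g hg
  have hcl : ∀ {g}, g ∈ normalizer (P : Set G) → ∀ y ∈ centralizer (P : Set G), g * y * g⁻¹ ∈ centralizer (P : Set G) := by
    intro g hg y hy
    refine mem_centralizer_iff.mpr fun x hx => ?_
    have hx' : g⁻¹ * x * g ∈ P := by
      have := (mem_normalizer_iff.mp (inv_mem hg) x).mp hx
      rwa [inv_inv] at this
    have h := mem_centralizer_iff.mp hy _ hx'
    calc x * (g * y * g⁻¹) = g * (g⁻¹ * x * g * y) * g⁻¹ := by group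
      _ = g * (y * (g⁻¹ * x * g)) * g⁻¹ := by rw [h]
      _ = g * y * g⁻¹ * x := by group
  set w := g * z * g⁻¹ with hw
  have hwY : w ∈ centralizer (P : Set G) := hcl hg z (C.mem_CP.mpr (C.z_comm C.pH).symm)
  have hwH := C.centralizer_P_le hG hwY
  have hwp := C.mem_CP.mp hwY
  have hw2 : w * w = 1 := by rw [hw, conj_mul, C.X.zz]; group
  have hcen : C.ψ ⟨w, hwH⟩ = 1 := by
    obtain ⟨m, hm⟩ := C.psi_inn (h := ⟨w, hwH⟩) hwp
    have : m = 1 := by
      refine M22_center fun y => ?_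
      obtain ⟨k, hk, hke⟩ := C.psi_surj_K y
      have hk' := C.centralizer_P_le hG (hcl (inv_mem hg) k (mem_inf.mp hk).2)
      have hcom : w * (k : G) = k * w := by
        have h := mem_centralizer_singleton_iff.mp hk'
        rw [inv_inv] at h
        calc w * (k : G) = g * (z * (g⁻¹ * k * g)) * g⁻¹ := by rw [hw]; group
          _ = g * (g⁻¹ * k * g * z) * g⁻¹ := by rw [h]
          _ = k * w := by rw [hw]; group
      refine conjM22_injective ?_
      rw [map_mul, map_mul, ← hm, ← hke, ← map_mul, ← map_mul]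
      exact congrArg C.ψ (Subtype.ext hcom)
    rw [hm, this, map_one]
  rcases C.central_involution hw2 (C.psi_one (h := ⟨w, hwH⟩) hwp hcen) with e | e
  · exact absurd (conj_eq_one_iff.mp e) C.X.ne
  · exact mem_centralizer_singleton_iff.mpr (mul_inv_eq_iff_eq_mul.mp e)

end Ctx

end Cfsg.Lib.JankoFour
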