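import Cfsg.Agent.JankoFour.Code
import Cfsg.Agent.JankoFour.Data
import Cfsg.Agent.JankoFour.PolyData

/-!
Finite checks for the module of dimension twelve: polynomial identities, candidates for the element of order four,
invariant forms and the semilinear map.
-/

set_option autoImplicit false
set_option maxRecDepth 100000

namespace Cfsg.Lib.JankoFour

open Data

/-- Multiplication of a coded polynomial by the scalar. -/
def sW : List ℕ := (List.range 22).map fun k => if k % 2 = 0 then 2 ^ (k + 1) else 2 ^ (k - 1) ^^^ 2 ^ k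

/-- Multiplication of a coded polynomial by the variable. -/
def sA : List ℕ := (List.range 22).map fun k => 2 ^ ((k + 2) % 22)

/-- The substitution of the fourth power of the variable. -/
def sF : List ℕ := (List.range 22).map fun k => 2 ^ (2 * (4 * (k / 2) % 11) + k % 2)

/-- Conjugation of the coefficients. -/
def sJ : List ℕ := (List.range 22).map fun k => if k % 2 = 0 then 2 ^ k else 2 ^ (k - 1) ^^^ 2 ^ k

/-- The multiples of a polynomial by the monomials. -/
def pl : ℕ → ℕ → List ℕ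
  | 0, _ => []
  | n + 1, y => y :: mv sW y :: pl n (mv sA y)

/-- The product of coded polynomials. -/
def pmul (x y : ℕ) : ℕ := mv (pl 11 y) x

/-- The sum of all powers of the variable. -/
def sumP : ℕ := ((List.range 11).map fun i => 2 ^ (2 * i)).foldr (· ^^^ ·) 0

/-- A power of the variable. -/
def monP (i : ℕ) : ℕ := 2 ^ (2 * (i % 11))

theorem shapes : sW.length = 22 ∧ sA.length = 22 ∧ sF.length = 22 ∧ sJ.length = 22 ∧
    (∀ m ∈ sW, m < 2 ^ 22) ∧ (∀ m ∈ sA, m < 2 ^ 22) ∧ (∀ m ∈ sF, m < 2 ^ 22) ∧ (∀ m ∈ sJ, m < 2 ^ 22) ∧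
    (∀ m ∈ redP, m < 1024) ∧ gP < 2 ^ 22 ∧ uP < 2 ^ 22 ∧ bez.1 < 2 ^ 22 ∧ bez.2 < 2 ^ 22 := by decide +kernel

theorem poly_ids : pmul gP gQ = sumP ∧ pmul gQ gP = sumP ∧ mv sJ gP = gQ ∧ gQ < 2 ^ 22 ∧
    pmul uP (mv sF gP) = gP ∧ pmul bez.1 gP ^^^ pmul bez.2 gQ = 1 ∧
    pmul sumP sumP = sumP ∧ pmul 4 sumP = sumP ∧ pmul gP sumP = sumP ∧ sumP < 2 ^ 22 := by decide +kernel

theorem red_ids : ∀ k < 22, pmul (redQ.getD k 0) gP ^^^ redP.getD k 0 = 2 ^ k ∧ redQ.getD k 0 < 2 ^ 22 := by
  decide +kernel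

theorem red_low : ∀ k < 10, redP.getD k 0 = 2 ^ k := by decide +kernel

theorem inv_ids : (invP.length == 1023) = true ∧ ((List.range 1023).all fun i => decide ((invP.getD i (0, 0)).1 < 2 ^ 22) &&
    decide ((invP.getD i (0, 0)).2 < 2 ^ 22) &&
    (pmul (invP.getD i (0, 0)).1 (i + 1) ^^^ pmul (invP.getD i (0, 0)).2 gP == 1)) = true := by decide +kernel

theorem twist_ids : ∀ i < 5, ((List.range 11).map fun j =>
    pmul (monP (11 - j)) (monP (4 ^ i * j))).foldr (· ^^^ ·) 0 = if i = 0 then 1 else sumP := by decide +kernel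

theorem basis_A : ∀ k < 10, mv redP (mv sA (2 ^ k)) = mv A (2 ^ k) := by decide +kernel
theorem basis_OM : ∀ k < 10, mv redP (mv sW (2 ^ k)) = mv OM (2 ^ k) := by decide +kernel
theorem basis_B : ∀ k < 10, mv redP (mv sF (2 ^ k)) = mv B (2 ^ k) := by decide +kernel

theorem basis_top : mv A 1024 = 1024 ∧ mv A 2048 = 2048 ∧ mv B 1024 = 1024 ∧ mv B 2048 = 2048 ∧
    mv OM 1024 = 2048 ∧ mv OM 2048 = 3072 := by decide +kernel

theorem mats_lt : (∀ m ∈ A, m < 4096) ∧ (∀ m ∈ B, m < 4096) ∧ (∀ m ∈ C, m < 4096) ∧ (∀ m ∈ OM, m < 4096) ∧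
    (∀ m ∈ T, m < 4096) ∧ (∀ m ∈ Dm, m < 4096) ∧ (∀ m ∈ WA, m < 4096) ∧ (∀ m ∈ WB, m < 4096) ∧
    (∀ m ∈ WC, m < 4096) := by decide +kernel

/-- The fixed points of the element of order five have four coordinates. -/
def fixCoord (x : ℕ) : ℕ := (x &&& 3) ^^^ ((x >>> 8) &&& 12)

/-- The restriction of a candidate to the fixed points. -/
def rFix (c1 c2 x : ℕ) : ℕ := mv [c1, mv OM c1, c2, mv OM c2] (fixCoord x)

/-- The restriction of a candidate to an eigenspace. -/
def rEig (W : List ℕ) (c x : ℕ) : ℕ := mv [c, mv OM c, mv B (mv B c), mv OM (mv B (mv B c))] (W.idxOf x)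

/-- The possible images of the basis of the fixed points. -/
def pairsF : List (ℕ × ℕ) :=
  (fixB.product fixB).filter fun p => [1, 1024].all fun f => rFix p.1 p.2 (rFix p.1 p.2 (rFix p.1 p.2 (rFix p.1 p.2 f))) == f

/-- The possible images of generators of the eigenspaces. -/
def pairsW : List (ℕ × ℕ) :=
  (W2.product W1).filter fun p =>
    rEig W2 p.2 (rEig W1 p.1 (rEig W2 p.2 p.1)) == L1.getD 0 0 && rEig W1 p.1 (rEig W2 p.2 (rEig W1 p.1 p.2)) == L2.getD 0 0

/-- The candidate with given images. -/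
def cand (p q : ℕ × ℕ) : List ℕ :=
  mm [p.1, mv OM p.1, p.2, mv OM p.2, q.1, mv OM q.1, mv B (mv B q.1), mv OM (mv B (mv B q.1)),
    q.2, mv OM q.2, mv B (mv B q.2), mv OM (mv B (mv B q.2))] Qi

/-- The three solutions. -/
def sols : List (List ℕ) := [C, mm (mm Dm C) (mm Dm Dm), mm (mm (mm Dm Dm) C) Dm]

/-- The relation of the product with the element of order eleven. -/
def relOK (X : List ℕ) : Bool :=
  [0, 1, 2].any fun k => idM.all fun x =>
    (fun f => f (f (f (f (f x))))) (fun y => mv A (mv X y)) == (fun f : ℕ → ℕ => f^[k] x) (mv OM)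

theorem eig_ids : mv B 1 = 1 ∧ (∀ u < 16, fixB.getD u 0 = mv [1, 2, 1024, 2048] u ∧ fixCoord (fixB.getD u 0) = u ∧
    W1.getD u 0 = mv L1 u ∧ W1.idxOf (W1.getD u 0) = u ∧ W2.getD u 0 = mv L2 u ∧ W2.idxOf (W2.getD u 0) = u) ∧
    mv OM (L1.getD 0 0) = L1.getD 1 0 ∧ mv B (L1.getD 0 0) = L1.getD 2 0 ∧ mv OM (L1.getD 2 0) = L1.getD 3 0 ∧
    mv OM (L2.getD 0 0) = L2.getD 1 0 ∧ mv B (L2.getD 0 0) = L2.getD 2 0 ∧ mv OM (L2.getD 2 0) = L2.getD 3 0 ∧
    L1.length = 4 ∧ L2.length = 4 := by decide +kernel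

/-- Quadratic factor on the first eigenspace. -/
def q1 (w : ℕ → ℕ) (X : ℕ → ℕ) (x : ℕ) : ℕ := X (X x) ^^^ w (X x) ^^^ x

theorem eig_kill : q1 (mv OM) (mv B) (L1.getD 0 0) = 0 ∧ q1 (mv OM2) (mv B) (L2.getD 0 0) = 0 := by decide +kernel

theorem eig_scan : ((List.range 4096).all fun x => (fun b2 => (fun b4 =>
    (!(b2 == x) || fixB.contains x) && (!(b4 ^^^ mv OM b2 ^^^ x == 0) || W2.contains x) &&
    (!(b4 ^^^ mv OM (mv OM b2) ^^^ x == 0) || W1.contains x)) (mv B (mv B b2))) (mv B (mv B x))) = true := by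
  decide +kernel

theorem cand_check : (pairsF.all fun p => pairsW.all fun q => (fun X => !relOK X || sols.contains X) (cand p q)) = true := by
  decide +kernel

theorem basis_Q : ∀ j < 12, mv Q (mv Qi (2 ^ j)) = 2 ^ j := by decide +kernel

theorem Q_eq : Q = [1, 2, 1024, 2048] ++ L1 ++ L2 := by decide +kernel

theorem dm_ids : ∀ x ∈ idM, mv Dm (mv A x) = mv A (mv Dm x) ∧ mv Dm (mv B x) = mv B (mv Dm x) ∧
    mv Dm (mv OM x) = mv OM (mv Dm x) ∧ mv Dm (mv Dm (mv Dm x)) = x ∧
    mv (sols.getD 1 idM) (mv Dm x) = mv Dm (mv C x) ∧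
    mv (sols.getD 2 idM) (mv Dm (mv Dm x)) = mv Dm (mv Dm (mv C x)) := by decide +kernel

/-- The alternating form. -/
def pB (x y : ℕ) : Bool := parity (mv RF x &&& y)

/-- The quadratic form. -/
def qB (x : ℕ) : Bool := pB x (mv OM x)

/-- The rows of the invariant form with given first functional and last bit. -/
def fRows (c : ℕ) (t : Bool) : List ℕ :=
  let mk : (ℕ → ℕ) → ℕ := fun g => ((List.range 12).map fun y => if parity (c &&& g (2 ^ y)) then 2 ^ y else 0).foldr (· ^^^ ·) 0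
  let rows : List ℕ := (List.range 10).map fun k =>
    mk fun y => (fun f : ℕ → ℕ => if k % 2 = 1 then f (mv OM (mv OM y)) else f y) (mv A)^[(11 - k / 2) % 11]
  let col : ℕ → ℕ := fun l => ((List.range 10).map fun k => if (rows.getD k 0).testBit l then 2 ^ k else 0).foldr (· ^^^ ·) 0
  rows ++ [col 10 ^^^ (if t then 2048 else 0), col 11 ^^^ (if t then 1024 else 0)]

theorem form_check : ((List.range 4096).all fun c => c % 2 == 1 ||
    !(idM.all fun x => parity (c &&& mv B x) == parity (c &&& x)) ||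
    [false, true].all fun t => (fun R => (R.all (· == 0)) || R == RF ||
      !([A, B, C, OM].all fun M => idM.all fun x => idM.all fun y =>
        parity (mv R (mv M x) &&& mv M y) == parity (mv R x &&& y))) (fRows c t)) = true := by
  decide +kernel

theorem form_ok : ([A, B, C, OM, T].all fun M => idM.all fun x => idM.all fun y =>
    pB (mv M x) (mv M y) == pB x y) = true ∧
    (idM.all fun x => idM.all fun y => pB x y == pB y x) = true ∧ (idM.all fun x => !pB x x) = true := by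
  decide +kernel

/-- The semilinear map with given images of two vectors. -/
def tMat (u v : ℕ) : List ℕ :=
  ((List.range 5).flatMap fun i => [(mv WA)^[i] u, mv OM (mv OM ((mv WA)^[i] u))]) ++ [v, mv OM (mv OM v)]

theorem t_scan : ((List.range 4096).all fun x => (fun w => (!(w == x) || fixWB.contains x) &&
    (!(w == x && mv WA x == x) || fixAB.contains x)) (mv WB x)) = true := by decide +kernel

theorem t_check : (fixWB.all fun u => fixAB.all fun v => (fun M =>
    !(idM.all fun x => mv M (mv C x) == mv WC (mv M x)) ||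
      (M.all (· == 0)) || M == T || M == mm T OM || M == mm T OM2) (tMat u v)) = true := by decide +kernel

theorem tw_ids : WA = mm (mpow OM WAw.2) (wM [A, B, C] WAw.1) ∧ WB = mm (mpow OM WBw.2) (wM [A, B, C] WBw.1) ∧
    WC = mm (mpow OM WCw.2) (wM [A, B, C] WCw.1) := by decide +kernel

end Cfsg.Lib.JankoFour
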