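import Mathlib

/-!
Linear maps of the space of dimension twelve over the field with two elements on coded vectors: a map is the list of
the codes of the images of the basis.
-/

set_option autoImplicit false

namespace Cfsg.Lib.JankoFour

/-- Evaluation of a coded map. -/
def mv : List ℕ → ℕ → ℕ
  | [], _ => 0
  | m :: r, x => (if x % 2 == 1 then m else 0) ^^^ mv r (x / 2)

/-- Composition of coded maps. -/
def mm (M N : List ℕ) : List ℕ := N.map (mv M)

/-- The identity map. -/
def idM : List ℕ := [1, 2, 4, 8, 16, 32, 64, 128, 256, 512, 1024, 2048]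

/-- A power of a coded map. -/
def mpow (M : List ℕ) : ℕ → List ℕ
  | 0 => idM
  | k + 1 => mm (mpow M k) M

/-- The product of the maps named by a word. -/
def wM (gs : List (List ℕ)) : List ℕ → List ℕ
  | [] => idM
  | i :: w => mm (gs.getD i idM) (wM gs w)

/-- The parity of a code below two to the sixteenth. -/
def parity (x : ℕ) : Bool :=
  ((fun a => a ^^^ (a >>> 1)) ((fun a => a ^^^ (a >>> 2)) ((fun a => a ^^^ (a >>> 4)) (x ^^^ (x >>> 8))))).testBit 0

theorem mv_xor (M : List ℕ) : ∀ x y : ℕ, mv M (x ^^^ y) = mv M x ^^^ mv M y := by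
  induction M with
  | nil => intro x y; simp [mv]
  | cons m r ih =>
    intro x y
    have h0 : (x ^^^ y) % 2 == 1 ↔ ¬ ((x % 2 == 1) ↔ (y % 2 == 1)) := by
      have h : (x ^^^ y).testBit 0 = (x.testBit 0 ^^ y.testBit 0) := Nat.testBit_xor x y 0
      rw [Nat.testBit_zero, Nat.testBit_zero, Nat.testBit_zero] at h
      rcases Nat.mod_two_eq_zero_or_one x with hx | hx <;> rcases Nat.mod_two_eq_zero_or_one y with hy | hy <;>
        simp [hx, hy] at h ⊢ <;> omega
    have h1 : (x ^^^ y) / 2 = x / 2 ^^^ y / 2 := by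
      refine Nat.eq_of_testBit_eq fun i => ?_
      simp only [Nat.testBit_div_two, Nat.testBit_xor]
    simp only [mv, h1, ih]
    by_cases hx : x % 2 == 1 <;> by_cases hy : y % 2 == 1 <;>
      simp only [hx, hy, h0, iff_self, not_true_eq_false, if_true, if_false] <;>
      simp [Nat.xor_comm, Nat.xor_left_comm, ← Nat.xor_assoc]

theorem mv_zero : ∀ M : List ℕ, mv M 0 = 0
  | [] => rfl
  | m :: r => by simp [mv, mv_zero r]

theorem mv_map {f : ℕ → ℕ} (hf : ∀ a b, f (a ^^^ b) = f a ^^^ f b) (h0 : f 0 = 0) :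
    ∀ (N : List ℕ) (x : ℕ), mv (N.map f) x = f (mv N x) := by
  intro N
  induction N with
  | nil => intro x; simp [mv, h0]
  | cons m r ih =>
    intro x
    simp only [List.map_cons, mv, ih, hf]
    split <;> simp [h0]

theorem mv_mm (M N : List ℕ) (x : ℕ) : mv (mm M N) x = mv M (mv N x) := mv_map (mv_xor M) (mv_zero M) N x

theorem mv_lt {n : ℕ} : ∀ {M : List ℕ}, (∀ m ∈ M, m < 2 ^ n) → ∀ x, mv M x < 2 ^ n
  | [], _, _ => Nat.two_pow_pos n
  | m :: r, h, x => by
    refine Nat.xor_lt_two_pow ?_ (mv_lt (fun m hm => h m (List.mem_cons_of_mem _ hm)) _)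
    split
    · exact h m List.mem_cons_self
    · exact Nat.two_pow_pos n

/-- Additive maps on codes agreeing on the basis agree. -/
theorem lin_ext {α : Type*} (op : α → α → α) (n : ℕ) {f g : ℕ → α} (hf : ∀ a b, f (a ^^^ b) = op (f a) (f b))
    (hg : ∀ a b, g (a ^^^ b) = op (g a) (g b)) (h0 : f 0 = g 0) (h : ∀ j < n, f (2 ^ j) = g (2 ^ j)) :
    ∀ x < 2 ^ n, f x = g x := by
  induction n with
  | zero => intro x hx; rw [show x = 0 by simpa using hx, h0]
  | succ n ih =>
    intro x hx
    by_cases hn : x.testBit n = true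
    · have hy : x ^^^ 2 ^ n < 2 ^ n := by
        refine Nat.lt_pow_two_of_testBit _ fun i hi => ?_
        rw [Nat.testBit_xor, Nat.testBit_two_pow]
        rcases hi.eq_or_lt with rfl | hlt
        · simp [hn]
        · have : n ≠ i := hlt.ne
          simp [this, Nat.testBit_lt_two_pow (lt_of_lt_of_le hx (Nat.pow_le_pow_right two_pos hlt))]
      have he : x = x ^^^ 2 ^ n ^^^ 2 ^ n := by rw [Nat.xor_assoc, Nat.xor_self, Nat.xor_zero]
      rw [he, hf, hg, ih (fun j hj => h j (hj.trans (Nat.lt_succ_self n))) _ hy, h n (Nat.lt_succ_self n)]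
    · refine ih (fun j hj => h j (hj.trans (Nat.lt_succ_self n))) _ (Nat.lt_pow_two_of_testBit _ fun i hi => ?_)
      rcases hi.eq_or_lt with rfl | hlt
      · simpa using hn
      · exact Nat.testBit_lt_two_pow (lt_of_lt_of_le hx (Nat.pow_le_pow_right two_pos hlt))

theorem mv_idM {x : ℕ} (hx : x < 4096) : mv idM x = x := by
  refine lin_ext (g := id) (· ^^^ ·) 12 (mv_xor idM) (fun a b => rfl) ?_ ?_ x hx
  · exact mv_zero idM
  decide +kernel

theorem parity_xor (x y : ℕ) : parity (x ^^^ y) = (parity x ^^ parity y) := by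
  have h : ∀ (k a b : ℕ), (a ^^^ b) ^^^ (a ^^^ b) >>> k = (a ^^^ a >>> k) ^^^ (b ^^^ b >>> k) := fun k a b => by
    rw [Nat.shiftRight_xor_distrib]
    simp [Nat.xor_assoc, Nat.xor_left_comm]
  simp only [parity, h, Nat.testBit_xor]

/-- The list of coded maps agrees on the whole space when it agrees on the basis. -/
theorem mv_ext {f : ℕ → ℕ} (hf : ∀ a b, f (a ^^^ b) = f a ^^^ f b) {M : List ℕ} (h0 : f 0 = 0)
    (h : ∀ j < 12, f (2 ^ j) = mv M (2 ^ j)) : ∀ x < 4096, f x = mv M x :=
  lin_ext (· ^^^ ·) 12 hf (mv_xor M) (by rw [h0, mv_zero]) h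

end Cfsg.Lib.JankoFour
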