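import Cfsg.Agent.JankoFour.ModuleBasis

/-!
Coordinates with all three generators standard; the invariant form and the semilinear extension in these coordinates.
-/

set_option autoImplicit false
set_option maxRecDepth 100000
set_option maxHeartbeats 1000000

namespace Cfsg.Lib.JankoFour

open Data

variable {V : Type*} [AddCommGroup V]

theorem idM_two_pow {j : ℕ} (hj : j < 12) : 2 ^ j ∈ idM := by
  have h : ∀ j < 12, 2 ^ j ∈ idM := by decide +kernel
  exact h j hj

theorem dm_mv {x : ℕ} (hx : x < 4096) : mv Dm (mv A x) = mv A (mv Dm x) ∧ mv Dm (mv B x) = mv B (mv Dm x) ∧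
    mv Dm (mv OM x) = mv OM (mv Dm x) ∧ mv Dm (mv Dm (mv Dm x)) = x ∧
    mv (sols.getD 1 idM) (mv Dm x) = mv Dm (mv C x) ∧
    mv (sols.getD 2 idM) (mv Dm (mv Dm x)) = mv Dm (mv Dm (mv C x)) := by
  refine ⟨?_, ?_, ?_, ?_, ?_, ?_⟩
  · exact lin_ext (f := fun x => mv Dm (mv A x)) (g := fun x => mv A (mv Dm x)) (· ^^^ ·) 12 (fun a b => by simp only [mv_xor])
      (fun a b => by simp only [mv_xor]) (by simp only [mv_zero]) (fun j hj => (dm_ids _ (idM_two_pow hj)).1) x hx
  · exact lin_ext (f := fun x => mv Dm (mv B x)) (g := fun x => mv B (mv Dm x)) (· ^^^ ·) 12 (fun a b => by simp only [mv_xor])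
      (fun a b => by simp only [mv_xor]) (by simp only [mv_zero]) (fun j hj => (dm_ids _ (idM_two_pow hj)).2.1) x hx
  · exact lin_ext (f := fun x => mv Dm (mv OM x)) (g := fun x => mv OM (mv Dm x)) (· ^^^ ·) 12 (fun a b => by simp only [mv_xor])
      (fun a b => by simp only [mv_xor]) (by simp only [mv_zero]) (fun j hj => (dm_ids _ (idM_two_pow hj)).2.2.1) x hx
  · exact lin_ext (f := fun x => mv Dm (mv Dm (mv Dm x))) (g := fun x => x) (· ^^^ ·) 12 (fun a b => by simp only [mv_xor])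
      (fun a b => by simp only [mv_xor]) (by simp only [mv_zero]) (fun j hj => (dm_ids _ (idM_two_pow hj)).2.2.2.1) x hx
  · exact lin_ext (f := fun x => mv (sols.getD 1 idM) (mv Dm x)) (g := fun x => mv Dm (mv C x)) (· ^^^ ·) 12 (fun a b => by simp only [mv_xor])
      (fun a b => by simp only [mv_xor]) (by simp only [mv_zero]) (fun j hj => (dm_ids _ (idM_two_pow hj)).2.2.2.2.1) x hx
  · exact lin_ext (f := fun x => mv (sols.getD 2 idM) (mv Dm (mv Dm x))) (g := fun x => mv Dm (mv Dm (mv C x))) (· ^^^ ·) 12 (fun a b => by simp only [mv_xor])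
      (fun a b => by simp only [mv_xor]) (by simp only [mv_zero]) (fun j hj => (dm_ids _ (idM_two_pow hj)).2.2.2.2.2) x hx

namespace Raw

variable {w a b c : AddMonoid.End V} (R : Raw w a b c)

include R

/-- Coordinates with the first two generators and the scalar standard. -/
theorem exists_basis {v0 : V} (h0 : Φ w a gP v0 = 0) (hne : v0 ≠ 0) :
    ∃ f : ℕ → V, (∀ x y, f (x ^^^ y) = f x + f y) ∧ (∀ x < 4096, ∀ y < 4096, f x = f y → x = y) ∧
      (∀ v, ∃ x < 4096, f x = v) ∧ (∀ x < 4096, f (mv A x) = a (f x)) ∧ (∀ x < 4096, f (mv B x) = b (f x)) ∧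
      (∀ x < 4096, f (mv OM x) = w (f x)) := by
  obtain ⟨e, he0, hep, heb⟩ := R.exists_fixed h0 hne
  obtain ⟨u, hu0, hua, hub⟩ := R.exists_fixed_a h0 hne
  let L : List V := ((List.range 10).map fun k => Φ w a (2 ^ k) e) ++ [u, w u]
  have hwa : ∀ v, a (w v) = w (a v) := fun v => congrArg (fun F : AddMonoid.End V => F v) R.aw
  have hwb : ∀ v, b (w v) = w (b v) := fun v => congrArg (fun F : AddMonoid.End V => F v) R.bw
  have hLlen : L.length = 12 := by simp [L]
  have hL : ∀ k < 10, L.getD k 0 = Φ w a (2 ^ k) e := fun k hk => by simp [L, List.getD, List.getElem?_append, hk]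
  have hlow : ∀ y < 1024, ev L y = Φ w a y e := by
    refine ev_ext (n := 10) (ev_xor R.two L) (fun x y => R.Φ_add_v x y e) fun k hk => ?_
    rw [ev_two_pow, hL k hk]
  have h10 : ev L 1024 = u := by rw [show (1024 : ℕ) = 2 ^ 10 from rfl, ev_two_pow]; simp [L, List.getD]
  have h11 : ev L 2048 = w u := by rw [show (2048 : ℕ) = 2 ^ 11 from rfl, ev_two_pow]; simp [L, List.getD]
  have h1110 : ev L 3072 = u + w u := by
    rw [show (3072 : ℕ) = 1024 ^^^ 2048 from rfl, ev_xor R.two, h10, h11]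
  have hw2 : w (w u) = u + w u := (congrArg (fun F : AddMonoid.End V => F u) R.w_sq).trans (add_comm _ _)
  have step : ∀ (M : List ℕ) (F : AddMonoid.End V) (s : List ℕ),
      (∀ k < 10, mv redP (mv s (2 ^ k)) = mv M (2 ^ k)) → (∀ k < 22, mv s (2 ^ k) < 2 ^ 22) →
      (∀ k < 10, F (Φ w a (2 ^ k) e) = Φ w a (mv s (2 ^ k)) e) → ev L (mv M 1024) = F u → ev L (mv M 2048) = F (w u) →
      ∀ x < 4096, ev L (mv M x) = F (ev L x) := by
    intro M F s hb hlt hF ht0 ht1
    refine ev_ext (n := 12) (fun x y => by rw [mv_xor, ev_xor R.two]) (fun x y => by rw [ev_xor R.two, map_add]) ?_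
    intro k hk
    by_cases hk10 : k < 10
    · rw [← hb k hk10, hlow _ (mv_lt (n := 10) shapes.2.2.2.2.2.2.2.2.1 _),
        ← R.Φ_red e hep _ (hlt k (by omega)), ← hF k hk10, ev_two_pow, hL k hk10]
    · rcases (show k = 10 ∨ k = 11 by omega) with rfl | rfl
      · rw [show (2 : ℕ) ^ 10 = 1024 from rfl, ht0, h10]
      · rw [show (2 : ℕ) ^ 11 = 2048 from rfl, ht1, h11]
  have hlt22 : ∀ k < 22, (2 : ℕ) ^ k < 2 ^ 22 := fun k hk => Nat.pow_lt_pow_right (by norm_num) hk
  obtain ⟨tA, tA', tB, tB', tW, tW'⟩ := basis_top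
  have hA := step A a sA basis_A (fun k hk => mv_lt shapes.2.2.2.2.2.1 _)
    (fun k hk => by rw [R.sA_spec _ (hlt22 k (by omega))]; rfl) (by rw [tA, h10, hua]) (by rw [tA', h11, hwa, hua])
  have hB := step B b sF basis_B (fun k hk => mv_lt shapes.2.2.2.2.2.2.1 _)
    (fun k hk => by
      have := congrArg (fun F : AddMonoid.End V => F e) (R.sF_spec _ (hlt22 k (by omega)))
      simpa [heb] using this) (by rw [tB, h10, hub]) (by rw [tB', h11, hwb, hub])
  have hW := step OM w sW basis_OM (fun k hk => mv_lt shapes.2.2.2.2.1 _)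
    (fun k hk => by rw [R.sW_spec _ (hlt22 k (by omega))]; rfl) (by rw [tW, h11]) (by rw [tW', h1110, hw2])
  haveI : Finite V := Nat.finite_of_card_ne_zero (by rw [R.card]; norm_num)
  have hker : ∀ x < 4096, ev L x = 0 → x = 0 := by
    intro x hx h
    have he : x = (x % 1024) ^^^ (2 ^ 10 * (x / 1024)) := by
      refine Nat.eq_of_testBit_eq fun i => ?_
      rw [Nat.testBit_xor, show (1024 : ℕ) = 2 ^ 10 from rfl, Nat.testBit_mod_two_pow, Nat.testBit_two_pow_mul,
        Nat.testBit_div_two_pow]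
      by_cases hi : i < 10
      · simp [hi, show ¬ 10 ≤ i by omega]
      · simp [hi, show 10 ≤ i by omega, Nat.sub_add_cancel (show 10 ≤ i by omega)]
    have hsum : ∀ y < 1024, Φ w a sumP (ev L y) = 0 := fun y hy => by
      rw [hlow y hy]
      show (Φ w a sumP * Φ w a y) e = 0
      rw [(R.Φ_comm _ _).eq, AddMonoid.End.coe_mul, Function.comp_apply, ← poly_ids.2.1,
        R.Φ_mul _ _ shapes.2.2.2.2.2.2.2.2.2.1, AddMonoid.End.coe_mul, Function.comp_apply, hep, map_zero, map_zero]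
    have hfix : ∀ v, a v = v → Φ w a sumP v = v := fun v hv => by
      have hpow : ∀ i, (a ^ i) v = v := fun i => by
        induction i with
        | zero => simp
        | succ i ih => rw [pow_succ, AddMonoid.End.coe_mul, Function.comp_apply, hv, ih]
      have hterm : ∀ i < 11, Φ w a (2 ^ (2 * i)) v = v := fun i hi => by
        rw [Φ_pow (by omega), show 2 * i % 2 = 0 by omega, show 2 * i / 2 = i by omega, pow_zero, one_mul, hpow]
      have es : sumP = 2 ^ 0 ^^^ (2 ^ 2 ^^^ (2 ^ 4 ^^^ (2 ^ 6 ^^^ (2 ^ 8 ^^^ (2 ^ 10 ^^^ (2 ^ 12 ^^^ (2 ^ 14 ^^^ (2 ^ 16 ^^^ (2 ^ 18 ^^^ 2 ^ 20))))))))) := by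
        decide +kernel
      rw [es]
      simp only [R.Φ_add_v, hterm 0 (by norm_num), hterm 1 (by norm_num), hterm 2 (by norm_num), hterm 3 (by norm_num),
        hterm 4 (by norm_num), hterm 5 (by norm_num), hterm 6 (by norm_num), hterm 7 (by norm_num), hterm 8 (by norm_num),
        hterm 9 (by norm_num), hterm 10 (by norm_num), R.two, add_zero]
    have hq : x / 1024 = 0 := by
      have h4 : x / 1024 < 4 := by omega
      rw [he, ev_xor R.two] at h
      have hz := congrArg (Φ w a sumP) h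
      rw [map_add, hsum _ (Nat.mod_lt _ (by norm_num)), zero_add, map_zero] at hz
      have hwu : a (w u) = w u := by rw [hwa, hua]
      rcases (show x / 1024 = 0 ∨ x / 1024 = 1 ∨ x / 1024 = 2 ∨ x / 1024 = 3 by omega) with q | q | q | q
      · exact q
      · rw [q, show 2 ^ 10 * 1 = 1024 from rfl, h10, hfix u hua] at hz; exact absurd hz hu0
      · rw [q, show 2 ^ 10 * 2 = 2048 from rfl, h11, hfix _ hwu] at hz
        have := R.ww u; rw [hz, map_zero, zero_add, zero_add] at this; exact absurd this hu0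
      · rw [q, show 2 ^ 10 * 3 = 3072 from rfl, h1110, hfix _ (by rw [map_add, hua, hwu])] at hz
        have h2 := hw2; rw [hz] at h2
        have h3 : w u = 0 := by
          have := R.ww u; rw [h2, zero_add] at this
          have e2 : w u = u := (eq_neg_of_add_eq_zero_left this).trans (eq_neg_of_add_eq_zero_left (R.two u)).symm
          rw [e2] at h2; exact h2
        rw [h3, add_zero] at hz; exact absurd hz hu0
    rw [hq, mul_zero, Nat.xor_zero] at he
    rw [hlow x (by omega)] at h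
    exact R.Φ_inj hep he0 (by omega) h
  have hinj : ∀ x < 4096, ∀ y < 4096, ev L x = ev L y → x = y := fun x hx y hy h =>
    Nat.xor_eq_zero_iff.mp (hker _ (Nat.xor_lt_two_pow (n := 12) hx hy) (by rw [ev_xor R.two, h, R.two]))
  refine ⟨ev L, ev_xor R.two L, hinj, ?_, hA, hB, hW⟩
  haveI : Fintype V := Fintype.ofFinite V
  intro v
  have hbij : Function.Bijective fun x : Fin 4096 => ev L x.val :=
    (Fintype.bijective_iff_injective_and_card _).mpr ⟨fun x y h => Fin.ext (hinj _ x.2 _ y.2 h), by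
      rw [Fintype.card_fin, ← Nat.card_eq_fintype_card, R.card]⟩
  obtain ⟨x, hx⟩ := hbij.2 v
  exact ⟨x.val, x.2, hx⟩

/-- Coordinates with all generators standard. -/
theorem exists_frame {v0 : V} (h0 : Φ w a gP v0 = 0) (hne : v0 ≠ 0) : ∃ f : ℕ → V, Frame w a b c f := by
  obtain ⟨f, hadd, hinj, hsurj, hA, hB, hW⟩ := R.exists_basis h0 hne
  have hf0 : f 0 = 0 := by simpa using hadd 0 0 |>.trans (R.two _)
  choose g hgl hg using hsurj
  let X : List ℕ := (List.range 12).map fun k => g (c (f (2 ^ k)))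
  have hXl : ∀ m ∈ X, m < 2 ^ 12 := fun m hm => by
    obtain ⟨k, -, rfl⟩ := List.mem_map.mp hm; exact hgl _
  have hXk : ∀ k < 12, mv X (2 ^ k) = g (c (f (2 ^ k))) := by
    have h : ∀ (L : List ℕ) (k : ℕ), mv L (2 ^ k) = L.getD k 0 := by
      intro L
      induction L with
      | nil => intro k; simp [mv]
      | cons m r ih =>
        intro k
        cases k with
        | zero => simp [mv, mv_zero]
        | succ k =>
          have h1 : 2 ^ (k + 1) % 2 = 0 := by rw [pow_succ]; simp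
          have h2 : 2 ^ (k + 1) / 2 = 2 ^ k := by rw [pow_succ]; simp
          simp [mv, h1, h2, ih]
    intro k hk
    rw [h]; simp [X, List.getD, hk]
  have hX : ∀ x < 4096, f (mv X x) = c (f x) :=
    ev_ext (n := 12) (fun x y => by rw [mv_xor, hadd]) (fun x y => by rw [hadd, map_add]) fun k hk => by rw [hXk k hk, hg]
  have lt : ∀ {M : List ℕ}, (∀ m ∈ M, m < 4096) → ∀ x, mv M x < 4096 := fun {M} h x => mv_lt (n := 12) h x
  have ltB := lt mats_lt.2.1
  have ltA := lt mats_lt.1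
  have ltO := lt mats_lt.2.2.2.1
  have ltX : ∀ x, mv X x < 4096 := fun x => mv_lt (n := 12) hXl x
  have cwv : ∀ v, c (w v) = w (c v) := fun v => congrArg (fun F : AddMonoid.End V => F v) R.cw
  have cbv : ∀ v, c (b v) = b (b (c v)) := fun v => by
    have := congrArg (fun F : AddMonoid.End V => F v) R.cb
    simpa [pow_two] using this
  have xO : ∀ x < 4096, mv X (mv OM x) = mv OM (mv X x) := fun x hx =>
    hinj _ (ltX _) _ (ltO _) (by rw [hX _ (ltO _), hW x hx, hW _ (ltX _), hX x hx, cwv])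
  have xB : ∀ x < 4096, mv X (mv B x) = mv B (mv B (mv X x)) := fun x hx =>
    hinj _ (ltX _) _ (ltB _) (by rw [hX _ (ltB _), hB x hx, hB _ (ltB _), hB _ (ltX _), hX x hx, cbv])
  have x4 : ∀ x < 4096, mv X (mv X (mv X (mv X x))) = x := fun x hx => by
    refine hinj _ (ltX _) _ hx ?_
    rw [hX _ (ltX _), hX _ (ltX _), hX _ (ltX _), hX x hx]
    have := congrArg (fun F : AddMonoid.End V => F (f x)) R.c4
    simpa [pow_succ] using this
  obtain ⟨k, hk⟩ := R.ac
  have hk3 : (a * c) ^ 5 = w ^ (k % 3) := by rw [hk, ← Nat.mod_add_div k 3, pow_add, pow_mul, R.w3, one_pow, mul_one]; simp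
  have hit : ∀ x < 4096, ∀ j, f ((mv OM)^[j] x) = (w ^ j) (f x) ∧ (mv OM)^[j] x < 4096 := by
    intro x hx j
    induction j with
    | zero => exact ⟨by simp, by simpa using hx⟩
    | succ j ih =>
      rw [Function.iterate_succ_apply']
      exact ⟨by rw [hW _ ih.2, ih.1, pow_succ']; rfl, ltO _⟩
  have hrel : relOK X = true := by
    refine List.any_eq_true.mpr ⟨k % 3, by have := Nat.mod_lt k (show 3 > 0 by norm_num); simp; omega, ?_⟩
    refine List.all_eq_true.mpr fun x hx => ?_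
    have hx' : x < 4096 := by
      have h : ∀ x ∈ idM, x < 4096 := by decide +kernel
      exact h x hx
    refine beq_iff_eq.mpr (hinj _ ?_ _ (hit x hx' _).2 ?_)
    · exact ltA _
    · rw [(hit x hx' _).1, ← hk3]
      simp only [hA _ (ltX _), hX _ (ltA _), hX x hx', pow_succ, pow_zero, one_mul, AddMonoid.End.coe_mul, Function.comp_apply]
  -- the candidate
  obtain ⟨hB1, hidx, l10, l12, l13, m10, m12, m13, hl1, hl2⟩ := eig_ids
  have scan : ∀ x < 4096, (mv B (mv B x) = x → x ∈ fixB) ∧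
      (mv B (mv B (mv B (mv B x))) ^^^ mv OM (mv B (mv B x)) ^^^ x = 0 → x ∈ W2) ∧
      (mv B (mv B (mv B (mv B x))) ^^^ mv OM (mv OM (mv B (mv B x))) ^^^ x = 0 → x ∈ W1) := by
    intro x hx
    have h := List.all_eq_true.mp eig_scan x (List.mem_range.mpr hx)
    simp only [Bool.and_eq_true, Bool.or_eq_true, Bool.not_eq_true', beq_eq_false_iff_ne, List.contains_iff_mem] at h
    exact ⟨fun e => h.1.1.resolve_left (absurd e), fun e => h.1.2.resolve_left (absurd e),
      fun e => h.2.resolve_left (absurd e)⟩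
  have h1024 : mv B 1024 = 1024 := basis_top.2.2.1
  set p : ℕ × ℕ := (mv X 1, mv X 1024) with hp
  set w1 := L1.getD 0 0 with hw1
  set w2 := L2.getD 0 0 with hw2
  set q : ℕ × ℕ := (mv X w1, mv X w2) with hq
  have hw1l : w1 < 4096 ∧ w2 < 4096 := by rw [hw1, hw2]; decide +kernel
  have m1 : p.1 ∈ fixB := (scan _ (ltX _)).1 (by rw [← xB 1 (by norm_num), hB1])
  have m2 : p.2 ∈ fixB := (scan _ (ltX _)).1 (by rw [← xB 1024 (by norm_num), h1024])
  have m3 : q.1 ∈ W2 := by
    refine (scan _ (ltX _)).2.1 ?_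
    rw [← xB w1 hw1l.1, ← xB _ (ltB _), ← xO _ (ltB _), ← mv_xor, ← mv_xor]
    have := eig_kill.1
    unfold q1 at this
    rw [hw1, this, mv_zero]
  have m4 : q.2 ∈ W1 := by
    refine (scan _ (ltX _)).2.2 ?_
    rw [← xB w2 hw1l.2, ← xB _ (ltB _), ← xO _ (ltB _), ← xO _ (ltO _), ← mv_xor, ← mv_xor]
    have := eig_kill.2
    unfold q1 at this
    have h2 : ∀ y < 4096, mv OM (mv OM y) = mv OM2 y :=
      mv_ext (fun a b => by simp only [mv_xor]) (by simp [mv_zero]) (by decide +kernel)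
    rw [h2 _ (ltB _), hw2, this, mv_zero]
  have hfix : ∀ x ∈ fixB, rFix p.1 p.2 x = mv X x := by
    intro x hx
    obtain ⟨u, hu, rfl⟩ := List.getElem_of_mem hx
    have hu16 : u < 16 := by have : fixB.length = 16 := by decide +kernel
                             omega
    obtain ⟨e1, e2, -⟩ := hidx u hu16
    rw [show fixB[u] = fixB.getD u 0 from (List.getD_eq_getElem _ _ hu).symm]
    rw [rFix, e2, e1]
    have : [p.1, mv OM p.1, p.2, mv OM p.2] = [1, 2, 1024, 2048].map (mv X) := by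
      simp only [List.map_cons, List.map_nil, hp]
      rw [← xO 1 (by norm_num), ← xO 1024 (by norm_num), basis_top.2.2.2.2.1,
        show mv OM 1 = 2 from by decide +kernel]
    rw [this, mv_map (mv_xor X) (mv_zero X)]
  have hcls : ∀ x ∈ fixB, mv X x ∈ fixB := fun x hx => by
    have h : ∀ x ∈ fixB, x < 4096 ∧ mv B x = x := by decide +kernel
    exact (scan _ (ltX _)).1 (by rw [← xB x (h x hx).1, (h x hx).2])
  have heig : ∀ (W L : List ℕ) (w0 c0 : ℕ), c0 = mv X w0 → w0 < 4096 → (∀ u < 16, W.getD u 0 = mv L u ∧ W.idxOf (W.getD u 0) = u) →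
      L = [w0, mv OM w0, mv B w0, mv OM (mv B w0)] → W.length = 16 → ∀ x ∈ W, rEig W c0 x = mv X x := by
    intro W L w0 c0 hc hw0 hWu hL hWl x hx
    obtain ⟨u, hu, rfl⟩ := List.getElem_of_mem hx
    obtain ⟨e1, e2⟩ := hWu u (by omega)
    rw [show W[u] = W.getD u 0 from (List.getD_eq_getElem _ _ hu).symm, rEig, e2, e1]
    have : [c0, mv OM c0, mv B (mv B c0), mv OM (mv B (mv B c0))] = L.map (mv X) := by
      simp only [hL, List.map_cons, List.map_nil, hc]
      rw [← xB w0 hw0, ← xO w0 hw0, ← xO _ (ltB _)]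
    rw [this, mv_map (mv_xor X) (mv_zero X)]
  have hLL : L1 = [w1, mv OM w1, mv B w1, mv OM (mv B w1)] ∧ L2 = [w2, mv OM w2, mv B w2, mv OM (mv B w2)] ∧
      W1.length = 16 ∧ W2.length = 16 := by rw [hw1, hw2]; decide +kernel
  have he1 := heig W1 L1 w1 q.1 rfl hw1l.1 (fun u hu => ⟨(hidx u hu).2.2.1, (hidx u hu).2.2.2.1⟩) hLL.1 hLL.2.2.1
  have he2 := heig W2 L2 w2 q.2 rfl hw1l.2 (fun u hu => ⟨(hidx u hu).2.2.2.2.1, (hidx u hu).2.2.2.2.2⟩) hLL.2.1 hLL.2.2.2
  have hWlt : (∀ x ∈ W1, x < 4096 ∧ mv B (mv B x) ^^^ mv OM (mv B x) ^^^ x = 0) ∧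
      (∀ x ∈ W2, x < 4096 ∧ mv B (mv B x) ^^^ mv OM (mv OM (mv B x)) ^^^ x = 0) := by decide +kernel
  have hcl1 : ∀ x ∈ W1, mv X x ∈ W2 := fun x hx => by
    refine (scan _ (ltX _)).2.1 ?_
    rw [← xB x (hWlt.1 x hx).1, ← xB _ (ltB _), ← xO _ (ltB _), ← mv_xor, ← mv_xor, (hWlt.1 x hx).2, mv_zero]
  have hcl2 : ∀ x ∈ W2, mv X x ∈ W1 := fun x hx => by
    refine (scan _ (ltX _)).2.2 ?_
    rw [← xB x (hWlt.2 x hx).1, ← xB _ (ltB _), ← xO _ (ltB _), ← xO _ (ltO _), ← mv_xor, ← mv_xor, (hWlt.2 x hx).2,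
      mv_zero]
  have hw1m : w1 ∈ W1 ∧ w2 ∈ W2 ∧ (1 : ℕ) ∈ fixB ∧ 1024 ∈ fixB := by rw [hw1, hw2]; decide +kernel
  have hpF : p ∈ pairsF := by
    refine List.mem_filter.mpr ⟨List.pair_mem_product.mpr ⟨m1, m2⟩, ?_⟩
    simp only [List.all_cons, List.all_nil, Bool.and_true, Bool.and_eq_true, beq_iff_eq]
    constructor
    · rw [hfix _ hw1m.2.2.1, hfix _ (hcls _ hw1m.2.2.1), hfix _ (hcls _ (hcls _ hw1m.2.2.1)),
        hfix _ (hcls _ (hcls _ (hcls _ hw1m.2.2.1))), x4 1 (by norm_num)]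
    · rw [hfix _ hw1m.2.2.2, hfix _ (hcls _ hw1m.2.2.2), hfix _ (hcls _ (hcls _ hw1m.2.2.2)),
        hfix _ (hcls _ (hcls _ (hcls _ hw1m.2.2.2))), x4 1024 (by norm_num)]
  have hqW : q ∈ pairsW := by
    refine List.mem_filter.mpr ⟨List.pair_mem_product.mpr ⟨m3, m4⟩, ?_⟩
    simp only [Bool.and_eq_true, beq_iff_eq]
    constructor
    · rw [he2 _ m3, he1 _ (hcl2 _ m3), he2 _ (hcl1 _ (hcl2 _ m3)), x4 w1 hw1l.1]
    · rw [he1 _ m4, he2 _ (hcl1 _ m4), he1 _ (hcl2 _ (hcl1 _ m4)), x4 w2 hw1l.2]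
  have hcand : ∀ x < 4096, mv X x = mv (cand p q) x := by
    intro x hx
    have hl : [p.1, mv OM p.1, p.2, mv OM p.2, q.1, mv OM q.1, mv B (mv B q.1), mv OM (mv B (mv B q.1)),
        q.2, mv OM q.2, mv B (mv B q.2), mv OM (mv B (mv B q.2))] = Q.map (mv X) := by
      rw [Q_eq, hLL.1, hLL.2.1]
      simp only [List.cons_append, List.nil_append, List.map_cons, List.map_nil, hp, hq]
      rw [← xB w1 hw1l.1, ← xB w2 hw1l.2, ← xO w1 hw1l.1, ← xO w2 hw1l.2, ← xO _ (ltB _), ← xO _ (ltB _),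
        ← xO 1 (by norm_num), ← xO 1024 (by norm_num), basis_top.2.2.2.2.1,
        show mv OM 1 = 2 from by decide +kernel]
    rw [cand, hl, mv_mm, mv_map (mv_xor X) (mv_zero X),
      lin_ext (g := id) (· ^^^ ·) 12 (f := fun y => mv Q (mv Qi y)) (fun a b => by simp only [mv_xor]) (fun a b => rfl)
        (by simp [mv_zero]) basis_Q x hx]
    rfl
  have hmem := List.all_eq_true.mp (List.all_eq_true.mp cand_check p hpF) q hqW
  have hrel' : relOK (cand p q) = true := by
    rw [← hrel]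
    unfold relOK
    congr 1
    funext j
    refine Bool.eq_iff_iff.mpr ?_
    simp only [List.all_eq_true]
    have h : ∀ x ∈ idM, x < 4096 := by decide +kernel
    refine forall₂_congr fun x hx => ?_
    simp only [← hcand _ (h x hx), ← hcand _ (ltA _)]
  simp only [hrel', Bool.not_true, Bool.false_or, List.contains_iff_mem, sols, List.mem_cons, List.not_mem_nil,
    or_false] at hmem
  have dmlt := lt mats_lt.2.2.2.2.2.1
  have ltC := lt mats_lt.2.2.1
  have hd3 : ∀ x < 4096, mv Dm (mv Dm (mv Dm x)) = x := fun x hx => (dm_mv hx).2.2.2.1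
  rcases hmem with e | e | e
  · exact ⟨f, hadd, hinj, fun v => ⟨g v, hgl v, hg v⟩, hA, hB,
      fun x hx => by rw [← hX x hx, hcand x hx, e], hW⟩
  · refine ⟨fun x => f (mv Dm x), fun x y => by simp only [mv_xor, hadd],
      fun x hx y hy h => ?_, fun v => ⟨mv Dm (mv Dm (g v)), dmlt _, by rw [hd3 _ (hgl v), hg]⟩, ?_, ?_, ?_, ?_⟩
    · have := congrArg (fun t => mv Dm (mv Dm t)) (hinj _ (dmlt _) _ (dmlt _) h)
      simpa [hd3 x hx, hd3 y hy] using this
    · intro x hx; rw [(dm_mv hx).1, hA _ (dmlt _)]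
    · intro x hx; rw [(dm_mv hx).2.1, hB _ (dmlt _)]
    · intro x hx; rw [← hX _ (dmlt _), hcand _ (dmlt _), e, ← (dm_mv hx).2.2.2.2.1]; rfl
    · intro x hx; rw [(dm_mv hx).2.2.1, hW _ (dmlt _)]
  · refine ⟨fun x => f (mv Dm (mv Dm x)), fun x y => by simp only [mv_xor, hadd],
      fun x hx y hy h => ?_, fun v => ⟨mv Dm (g v), dmlt _, by rw [hd3 _ (hgl v), hg]⟩, ?_, ?_, ?_, ?_⟩
    · have := congrArg (mv Dm) (hinj _ (dmlt _) _ (dmlt _) h)
      simpa [hd3 x hx, hd3 y hy] using this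
    · intro x hx; rw [(dm_mv hx).1, (dm_mv (dmlt x)).1, hA _ (dmlt _)]
    · intro x hx; rw [(dm_mv hx).2.1, (dm_mv (dmlt x)).2.1, hB _ (dmlt _)]
    · intro x hx; rw [← hX _ (dmlt _), hcand _ (dmlt _), e, ← (dm_mv hx).2.2.2.2.2]; rfl
    · intro x hx; rw [(dm_mv hx).2.2.1, (dm_mv (dmlt x)).2.2.1, hW _ (dmlt _)]

end Raw

end Cfsg.Lib.JankoFour
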