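import Cfsg.Agent.JankoFour.Sylow

/-!
The elementary abelian subgroups of order two to the eleventh in the Sylow 2-subgroup of a group of Janko-four type.
-/

set_option autoImplicit false
set_option maxRecDepth 100000
set_option maxHeartbeats 1000000
set_option linter.style.haveILetI false
set_option linter.unusedSectionVars false

namespace Cfsg.Lib.JankoFour

open Subgroup
open Data (ab1 ab2 ab3 ab4 ab5 invS W0 w0B X0)

universe u

variable {G : Type u} [Group G] [Finite G]

/-- The inverse of the matrix of the form. -/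
def RFinv : List ℕ := [112, 224, 288, 784, 937, 599, 35, 18, 28, 56, 2048, 1024]

theorem RFinv_ok : ∀ j < 12, mv RFinv (mv Data.RF (2 ^ j)) = 2 ^ j := by decide +kernel

theorem pB_nondeg : ∀ x < 4096, x ≠ 0 → ∃ y < 4096, pB x y = true := by
  intro x hx hx0
  by_contra! hno
  have hR : mv Data.RF x = 0 := by
    have hlt : mv Data.RF x < 4096 := mv_lt (n := 12) (by decide +kernel) x
    refine Nat.eq_of_testBit_eq fun j => ?_
    rw [Nat.zero_testBit]
    by_cases hj : j < 12
    · have h := hno (2 ^ j) (Nat.pow_lt_pow_right (a := 2) (by norm_num) hj)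
      rw [pB] at h
      have hand : ∀ a, a &&& 2 ^ j = if a.testBit j then 2 ^ j else 0 := fun a => by
        refine Nat.eq_of_testBit_eq fun k => ?_
        rw [Nat.testBit_and, Nat.testBit_two_pow]
        by_cases e : j = k
        · subst e; cases hb : a.testBit j <;> simp [hb]
        · cases hb : a.testBit j <;> simp [e, Nat.testBit_two_pow]
      rw [hand] at h
      cases hb : (mv Data.RF x).testBit j
      · rfl
      · rw [hb] at h
        have hp : ∀ j < 12, parity (2 ^ j) = true := by decide +kernel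
        simp [hp j hj] at h
    · exact Nat.testBit_lt_two_pow (lt_of_lt_of_le hlt (Nat.pow_le_pow_right two_pos (not_lt.mp hj)))
  -- the rows are independent
  have hinv : ∃ L : List ℕ, ∀ j < 12, mv L (mv Data.RF (2 ^ j)) = 2 ^ j := ⟨RFinv, RFinv_ok⟩
  obtain ⟨L, hL⟩ := hinv
  refine hx0 ?_
  exact (lin_ext (f := fun x => mv L (mv Data.RF x)) (g := id) (· ^^^ ·) 12 (fun a b => by simp only [mv_xor])
    (fun a b => rfl) (by simp only [mv_zero]; rfl) hL x hx).symm.trans (by rw [hR, mv_zero])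

/-- The pairing sign. -/
def sgn (x d : ℕ) : ℤ := if pB x d then -1 else 1

/-- An isotropic closed set has at most 64 elements. -/
theorem isotropic_card {D : Finset ℕ} (hlt : ∀ d ∈ D, d < 4096) (h0 : (0 : ℕ) ∈ D)
    (hx : ∀ a ∈ D, ∀ b ∈ D, a ^^^ b ∈ D) (hiso : ∀ a ∈ D, ∀ b ∈ D, pB a b = false) : D.card ≤ 64 := by
  classical
  set U := Finset.range 4096 with hU
  have hs : ∀ a b c : ℕ, sgn (a ^^^ b) c = sgn a c * sgn b c := fun a b c => by
    simp only [sgn, pB_xor_left]; cases pB a c <;> cases pB b c <;> simp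
  have hs' : ∀ a b c : ℕ, sgn a (b ^^^ c) = sgn a b * sgn a c := fun a b c => by
    simp only [sgn, pB_xor_right]; cases pB a b <;> cases pB a c <;> simp
  have h1 : ∑ x ∈ U, ∑ d ∈ D, sgn x d = 4096 := by
    rw [Finset.sum_comm, Finset.sum_eq_single 0]
    · simp [sgn, pB_zero, hU]
    · intro d hd hd0
      obtain ⟨y, hy, hyd⟩ := pB_nondeg d (hlt d hd) hd0
      have e : ∑ x ∈ U, sgn x d = ∑ x ∈ U, sgn (x ^^^ y) d := by
        refine Finset.sum_nbij' (fun x => x ^^^ y) (fun x => x ^^^ y) ?_ ?_ ?_ ?_ ?_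
        · intro x hx; exact Finset.mem_range.mpr (Nat.xor_lt_two_pow (n := 12) (Finset.mem_range.mp hx) hy)
        · intro x hx; exact Finset.mem_range.mpr (Nat.xor_lt_two_pow (n := 12) (Finset.mem_range.mp hx) hy)
        · intro x _; simp [Nat.xor_assoc]
        · intro x _; simp [Nat.xor_assoc]
        · intro x _; simp [Nat.xor_assoc]
      have hsy : sgn y d = -1 := by rw [sgn, pB_symm y hy d (hlt d hd), hyd]; rfl
      simp only [hs, hsy, mul_neg, mul_one, Finset.sum_neg_distrib] at e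
      omega
    · exact fun h => absurd h0 h
  have h2 : ∀ x, (0 : ℤ) ≤ ∑ d ∈ D, sgn x d := by
    intro x
    by_cases hall : ∀ d ∈ D, pB x d = false
    · refine Finset.sum_nonneg fun d hd => ?_
      simp [sgn, hall d hd]
    push Not at hall
    obtain ⟨d₀, hd₀, hp⟩ := hall
    have e : ∑ d ∈ D, sgn x d = ∑ d ∈ D, sgn x (d ^^^ d₀) := by
      refine Finset.sum_nbij' (fun d => d ^^^ d₀) (fun d => d ^^^ d₀) ?_ ?_ ?_ ?_ ?_
      · intro d hd; exact hx d hd d₀ hd₀
      · intro d hd; exact hx d hd d₀ hd₀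
      · intro d _; simp [Nat.xor_assoc]
      · intro d _; simp [Nat.xor_assoc]
      · intro d _; simp [Nat.xor_assoc]
    have hsy : sgn x d₀ = -1 := by
      rw [sgn]; cases hb : pB x d₀
      · simp [hb] at hp
      · rfl
    simp only [hs', hsy, mul_neg, mul_one, Finset.sum_neg_distrib] at e
    omega
  have h3 : (D.card : ℤ) * D.card ≤ 4096 := by
    rw [← h1]
    calc (D.card : ℤ) * D.card = ∑ x ∈ D, ∑ d ∈ D, sgn x d := by
          rw [Finset.sum_congr rfl fun x hx => Finset.sum_congr rfl fun d hd => show sgn x d = 1 by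
            simp [sgn, hiso x hx d hd]]
          simp
      _ ≤ ∑ x ∈ U, ∑ d ∈ D, sgn x d :=
          Finset.sum_le_sum_of_subset_of_nonneg (fun d hd => Finset.mem_range.mpr (hlt d hd)) fun x _ _ => h2 x
  by_contra hc
  have : (65 : ℤ) * 65 ≤ (D.card : ℤ) * D.card := by
    have h65 : (65 : ℤ) ≤ D.card := by omega
    exact mul_le_mul h65 h65 (by norm_num) (by omega)
  omega

theorem maskL_testBit (l : List ℕ) (i : ℕ) : (maskL l).testBit i = true ↔ i ∈ l := by
  have h : ∀ (l : List ℕ) (m : ℕ), (l.foldl (fun m x => m ||| 2 ^ x) m).testBit i = true ↔ m.testBit i = true ∨ i ∈ l := by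
    intro l
    induction l with
    | nil => simp
    | cons x r ih =>
      intro m
      rw [List.foldl_cons, ih, Nat.testBit_or, Bool.or_eq_true, Nat.testBit_two_pow, decide_eq_true_eq, List.mem_cons]
      constructor
      · rintro ((h | rfl) | h)
        · exact Or.inl h
        · exact Or.inr (Or.inl rfl)
        · exact Or.inr (Or.inr h)
      · rintro (h | rfl | h)
        · exact Or.inl (Or.inl h)
        · exact Or.inl (Or.inr rfl)
        · exact Or.inr h
  simpa [maskL] using h l 0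

theorem spanL_mem {I : Set ℕ} (h0 : 0 ∈ I) (hI : ∀ a ∈ I, ∀ b ∈ I, mul8 a b ∈ I) :
    ∀ g : List ℕ, (∀ x ∈ g, x ∈ I) → ∀ a ∈ spanL g, a ∈ I := by
  have h : ∀ (g l : List ℕ), (∀ x ∈ g, x ∈ I) → (∀ a ∈ l, a ∈ I) →
      ∀ a ∈ g.foldl (fun l x => l ++ l.map fun a => mul8 a x) l, a ∈ I := by
    intro g
    induction g with
    | nil => intro l _ hl a ha; exact hl a ha
    | cons x r ih =>
      intro l hg hl a ha
      refine ih _ (fun y hy => hg y (List.mem_cons_of_mem _ hy)) (fun b hb => ?_) a ha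
      rcases List.mem_append.mp hb with hb | hb
      · exact hl b hb
      · obtain ⟨c, hc, rfl⟩ := List.mem_map.mp hb
        exact hI c (hl c hc) x (hg x List.mem_cons_self)
  intro g hg
  exact h g [0] hg fun a ha => by simpa using List.mem_singleton.mp ha ▸ h0

theorem kerCert_sound {f : ℕ → ℕ} (hf : ∀ a b, f (a ^^^ b) = f a ^^^ f b) {c : List ℕ × List ℕ} {l : List ℕ}
    (h : kerCert f c l = true) : ∀ x < 4096, f x = 0 → x ∈ l := by
  simp only [kerCert, Bool.and_eq_true, List.all_eq_true, beq_iff_eq, List.contains_iff_mem] at h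
  obtain ⟨⟨⟨h1, h2⟩, h0⟩, hl⟩ := h
  intro x hx hfx
  have hf0 : f 0 = 0 := by simpa using hf 0 0
  have he := lin_ext (f := fun x => mv c.1 (f x) ^^^ mv c.2 x) (g := id) (· ^^^ ·) 12
    (fun a b => by simp only [hf, mv_xor]; simp [Nat.xor_assoc, Nat.xor_left_comm])
    (fun a b => rfl) (by simp [hf0, mv_zero]) (fun j hj => h1 _ (idM_two_pow hj)) x hx
  simp only [hfx, mv_zero, Nat.zero_xor, id_eq] at he
  rw [← he]
  have hmem : ∀ (M : List ℕ), (∀ p ∈ M, p ∈ l) → ∀ y, mv M y ∈ l := by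
    intro M
    induction M with
    | nil => intro _ y; exact h0
    | cons m r ih =>
      intro hM y
      refine hl _ ?_ _ (ih (fun p hp => hM p (List.mem_cons_of_mem _ hp)) _)
      split
      · exact hM m List.mem_cons_self
      · exact h0
  exact hmem _ h2 x

theorem stackL_xor : ∀ (g : List ℕ) (a b : ℕ), stackL g (a ^^^ b) = stackL g a ^^^ stackL g b := by
  intro g
  induction g with
  | nil => intro a b; simp [stackL]
  | cons i r ih =>
    intro a b
    simp only [stackL, mv_xor, ih, Nat.shiftLeft_xor_distrib]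
    simp [Nat.xor_assoc, Nat.xor_left_comm]

theorem stackL_fix : ∀ (g : List ℕ) (x : ℕ), (∀ i ∈ g, mv (elt i) x = x) → stackL g x = 0 := by
  intro g
  induction g with
  | nil => intro x _; rfl
  | cons i r ih =>
    intro x h
    simp [stackL, h i List.mem_cons_self, ih x fun j hj => h j (List.mem_cons_of_mem _ hj)]

theorem pairL_xor : ∀ (g : List ℕ) (a b : ℕ), pairL g (a ^^^ b) = pairL g a ^^^ pairL g b := by
  intro g
  induction g with
  | nil => intro a b; simp [pairL]
  | cons i r ih =>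
    intro a b
    simp only [pairL, pB_xor_left, ih, Nat.shiftLeft_xor_distrib]
    cases pB a i <;> cases pB b i <;> simp [Nat.xor_left_comm, Nat.xor_comm, ← Nat.xor_assoc]

theorem pairL_perp : ∀ (g : List ℕ) (x : ℕ), (∀ w ∈ g, pB x w = false) → pairL g x = 0 := by
  intro g
  induction g with
  | nil => intro x _; rfl
  | cons i r ih =>
    intro x h
    simp [pairL, h i List.mem_cons_self, ih x fun j hj => h j (List.mem_cons_of_mem _ hj)]

/-- A level entry inside a set. -/
def InI (l : List (ℕ × List ℕ)) (I : Finset ℕ) : Prop := ∃ A ∈ l, ∀ y ∈ A.2, y ∈ I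

theorem levelMask_spec {k : ℕ} {l : List (ℕ × List ℕ)} (h : levelMask k l = true) {A : ℕ × List ℕ} (hA : A ∈ l) :
    maskL (spanL A.2) = A.1 ∧ (∀ y ∈ A.2, y ∈ spanL A.2) ∧ (spanL A.2).toFinset.card = 2 ^ k := by
  simp only [levelMask, List.all_eq_true, Bool.and_eq_true, beq_iff_eq, decide_eq_true_eq] at h
  obtain ⟨⟨-, hb⟩, ⟨hm, hlen⟩, hnd⟩ := h A hA
  refine ⟨hm, fun y hy => (maskL_testBit _ y).mp (by rw [hm]; exact hb y hy), ?_⟩
  rw [List.toFinset_card_of_nodup hnd, hlen]

/-- Climbing one level. -/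
theorem next_step {k : ℕ} {cur nxt : List (ℕ × List ℕ)} (hn : nextOK cur nxt = true) (hm : levelMask k cur = true)
    (hm' : levelMask (k + 1) nxt = true) {I : Finset ℕ} (h0 : 0 ∈ I) (hI : ∀ a ∈ I, ∀ b ∈ I, mul8 a b ∈ I)
    (hcomm : ∀ a ∈ I, ∀ b ∈ I, mul8 a b = mul8 b a) (hinv : ∀ a ∈ I, a ≠ 0 → a ∈ invS) (hin : InI cur I)
    (hcard : 2 ^ k < I.card) : InI nxt I := by
  obtain ⟨A, hA, hAI⟩ := hin
  obtain ⟨hm1, hm2, hm3⟩ := levelMask_spec hm hA
  obtain ⟨x, hxI, hxS⟩ : ∃ x ∈ I, x ∉ spanL A.2 := by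
    by_contra! hsub
    have := Finset.card_le_card (show I ⊆ (spanL A.2).toFinset from fun x hx => List.mem_toFinset.mpr (hsub x hx))
    omega
  have hx0 : x ≠ 0 := by
    rintro rfl
    refine hxS ?_
    have h : ∀ (g l : List ℕ), (0 : ℕ) ∈ l → (0 : ℕ) ∈ g.foldl (fun l x => l ++ l.map fun a => mul8 a x) l := by
      intro g
      induction g with
      | nil => intro l hl; exact hl
      | cons y r ih => intro l hl; exact ih _ (List.mem_append_left _ hl)
    exact h _ _ List.mem_cons_self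
  simp only [nextOK, List.all_eq_true, Bool.or_eq_true, List.any_eq_true, beq_iff_eq] at hn
  rcases hn A hA x (hinv x hxI hx0) with (h | h) | h
  · exact absurd ((maskL_testBit _ x).mp (by rw [hm1]; exact h)) hxS
  · simp only [Bool.not_eq_true', List.all_eq_false] at h
    obtain ⟨y, hy, hc⟩ := h
    exact absurd (beq_iff_eq.mpr (hcomm x hxI y (hAI y hy))) hc
  · obtain ⟨A', hA', he⟩ := h
    refine ⟨A', hA', fun y hy => ?_⟩
    obtain ⟨hm1', hm2', -⟩ := levelMask_spec hm' hA'
    have hy' : y ∈ spanL (A.2 ++ [x]) := by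
      have h1 := (maskL_testBit _ y).mpr (hm2' y hy)
      rw [hm1', he] at h1
      exact (maskL_testBit _ y).mp h1
    exact spanL_mem (I := (I : Set ℕ)) h0 hI _ (fun u hu => by
      rcases List.mem_append.mp hu with hu | hu
      · exact hAI u hu
      · rw [List.mem_singleton.mp hu]; exact hxI) y hy'

theorem next_empty {I : Finset ℕ} (h : InI [] I) : False := by
  obtain ⟨A, hA, -⟩ := h
  simp at hA

namespace Ctx

variable {z : G} {P : Subgroup G} (C : Ctx z P)

include C

theorem card_inf_le {A : Subgroup G} (D : Finset ℕ) (hD : ∀ a ∈ A ⊓ C.E, C.π a ∈ D) :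
    Nat.card ↥(A ⊓ C.E) ≤ 2 * D.card := by
  classical
  choose sec hsecE hsec using fun x : ↥(D.filter fun x => ∃ a ∈ A ⊓ C.E, C.π a = x) => (Finset.mem_filter.mp x.2).2
  let f : ↥(A ⊓ C.E) → ↥(D.filter fun x => ∃ a ∈ A ⊓ C.E, C.π a = x) × Bool := fun a =>
    (⟨C.π a, Finset.mem_filter.mpr ⟨hD a a.2, a, a.2, rfl⟩⟩,
      decide ((a : G) = sec ⟨C.π a, Finset.mem_filter.mpr ⟨hD a a.2, a, a.2, rfl⟩⟩))
  have hf : Function.Injective f := by
    intro a b e
    simp only [f, Prod.mk.injEq, Subtype.mk.injEq] at e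
    obtain ⟨e1, e2⟩ := e
    have hs : sec ⟨C.π a, Finset.mem_filter.mpr ⟨hD a a.2, a, a.2, rfl⟩⟩ =
        sec ⟨C.π b, Finset.mem_filter.mpr ⟨hD b b.2, b, b.2, rfl⟩⟩ := by simp only [e1]
    set s := sec ⟨C.π b, Finset.mem_filter.mpr ⟨hD b b.2, b, b.2, rfl⟩⟩ with hsdef
    have hsE : s ∈ C.E := (hsecE _).2
    have hsv : C.π s = C.π (b : G) := hsec _
    have key : ∀ u : ↥(A ⊓ C.E), C.π u = C.π s → (u : G) = s ∨ (u : G) = z * s := by
      intro u hu
      have hm : (u : G) * s⁻¹ ∈ C.E := mul_mem u.2.2 (inv_mem hsE)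
      have h0 : C.π ((u : G) * s⁻¹) = 0 := by
        have h1 := C.π_mul ((u : G) * s⁻¹) hm s hsE
        rw [inv_mul_cancel_right, hu] at h1
        calc C.π ((u : G) * s⁻¹) = C.π ((u : G) * s⁻¹) ^^^ C.π s ^^^ C.π s := by
              rw [Nat.xor_assoc, Nat.xor_self, Nat.xor_zero]
          _ = 0 := by rw [← h1, Nat.xor_self]
      rcases (C.π_zero _ hm).mp h0 with h | h
      · exact Or.inl (mul_inv_eq_one.mp h)
      · exact Or.inr (mul_inv_eq_iff_eq_mul.mp h)
    rw [hs] at e2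
    refine Subtype.ext ?_
    rcases key a (e1.trans hsv.symm) with ha | ha <;> rcases key b hsv.symm with hb | hb
    · rw [ha, hb]
    · exfalso
      have h := e2.symm
      rw [decide_eq_true ha, decide_eq_true_eq] at h
      rw [hb] at h
      exact C.X.ne (mul_eq_right.mp h)
    · exfalso
      have h := e2
      rw [decide_eq_true hb, decide_eq_true_eq] at h
      rw [ha] at h
      exact C.X.ne (mul_eq_right.mp h)
    · rw [ha, hb]
  refine (Nat.card_le_card_of_injective f hf).trans ?_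
  rw [Nat.card_prod, Nat.card_eq_fintype_card, Fintype.card_coe, Nat.card_eq_fintype_card (α := Bool), Fintype.card_bool,
    mul_comm]
  exact Nat.mul_le_mul_left 2 (Finset.card_filter_le _ _)

/-- The preimage of the distinguished fixed space. -/
def Wt : Set G := {q | q ∈ C.E ∧ C.π q ∈ W0}

theorem perp_W0 {e : G} (he : e ∈ C.E) (h : ∀ w ∈ C.Wt, Commute e w) : C.π e ∈ W0 := by
  refine kerCert_sound (pairL_xor w0B) W0_facts.1 _ (C.π_lt e) (pairL_perp _ _ fun w hw => ?_)
  have hwW : w ∈ W0 := List.contains_iff_mem.mp (List.all_eq_true.mp W0_facts.2.2.2.1 w hw)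
  have hwl : w < 4096 := by
    have h5 := List.all_eq_true.mp W0_facts.2.2.2.2.1 w hwW
    simp only [Bool.and_eq_true, decide_eq_true_eq] at h5
    exact h5.1.1.1
  obtain ⟨q, hq, rfl⟩ := C.π_surj w hwl
  exact (C.π_comm e he q hq).mp (h q ⟨hq, hwW⟩)

/-- The candidate subgroup. -/
def V : Subgroup G where
  carrier := {h | (h ∈ centralizer ({z} : Set G) ∧ ∃ i < 256, i ∈ spanL X0.2 ∧ RepBy C.E C.π h (elt i)) ∧
    ∀ w ∈ C.Wt, Commute h w}
  one_mem' := by
    have h0 : elt 0 = idM := by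
      have h := table_check
      simp only [Bool.and_eq_true, beq_iff_eq] at h
      exact h.1.2
    refine ⟨⟨one_mem _, 0, by norm_num, by decide +kernel, ?_⟩, fun w _ => Commute.one_left w⟩
    rw [h0]; exact C.rep_one
  mul_mem' := by
    rintro g h ⟨⟨hg, i, hi, hiX, hri⟩, hgc⟩ ⟨⟨hh, j, hj, hjX, hrj⟩, hhc⟩
    refine ⟨⟨mul_mem hg hh, mul8 i j, mul8_lt i j, ?_, C.Sset_mul hi hj hh hri hrj⟩, fun w hw => (hgc w hw).mul_left (hhc w hw)⟩
    have h : ((spanL X0.2).all fun a => (spanL X0.2).all fun b => (spanL X0.2).contains (mul8 a b)) = true := by decide +kernel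
    simp only [List.all_eq_true, List.contains_iff_mem] at h
    exact h i hiX j hjX
  inv_mem' := by
    rintro g ⟨⟨hg, i, hi, hiX, hri⟩, hgc⟩
    refine ⟨⟨inv_mem hg, i, hi, hiX, fun q hq => ?_⟩, fun w hw => (hgc w hw).inv_left⟩
    have hq' : g⁻¹ * q * g ∈ C.E := by simpa using C.conj_mem (inv_mem hg) hq
    have e1 := hri _ hq'
    rw [show g * (g⁻¹ * q * g) * g⁻¹ = q by group] at e1
    have hsq : ∀ i ∈ spanL X0.2, i < 256 → mul8 i i = 0 := by decide +kernel
    have h0 : elt 0 = idM := by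
      have h := table_check
      simp only [Bool.and_eq_true, beq_iff_eq] at h
      exact h.1.2
    have h2 := mul8_spec hi hi _ (C.π_lt (g⁻¹ * q * g))
    rw [hsq i hiX hi, h0, mv_idM (C.π_lt _), ← e1] at h2
    show C.π (g⁻¹ * q * g⁻¹⁻¹) = _
    rw [inv_inv]
    exact h2

theorem mem_V {h : G} : h ∈ C.V ↔ (h ∈ centralizer ({z} : Set G) ∧ ∃ i < 256, i ∈ spanL X0.2 ∧ RepBy C.E C.π h (elt i)) ∧
    ∀ w ∈ C.Wt, Commute h w := Iff.rfl

theorem card_V_le : Nat.card ↥C.V ≤ 2 ^ 11 := by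
  classical
  choose idx hidx hX hrep using fun h : ↥C.V => h.2.1.2
  let f : ↥C.V → ↥((spanL X0.2).toFinset) := fun h => ⟨idx h, List.mem_toFinset.mpr (hX h)⟩
  have hk : ∀ a b : ↥C.V, idx a = idx b → (b : G)⁻¹ * (a : G) ∈ C.V ⊓ C.E := fun a b e =>
    Subgroup.mem_inf.mpr ⟨C.V.mul_mem (C.V.inv_mem b.2) a.2,
      C.rep_quot (C.mem_V.mp a.2).1.1 (C.mem_V.mp b.2).1.1 (hrep a) (e ▸ hrep b)⟩
  have hc : Nat.card ↥(C.V ⊓ C.E) ≤ 128 := by
    refine (C.card_inf_le W0.toFinset fun a ha => List.mem_toFinset.mpr (C.perp_W0 ha.2 (C.mem_V.mp (Subgroup.mem_inf.mp ha).1).2)).trans ?_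
    rw [List.toFinset_card_of_nodup W0_facts.2.1, W0_facts.2.2.1]
  choose rp hrp using fun i : ↥(Finset.univ.filter fun i : ↥((spanL X0.2).toFinset) => ∃ a : ↥C.V, f a = i) =>
    (Finset.mem_filter.mp i.2).2
  let g : ↥C.V → ↥((spanL X0.2).toFinset) × ↥(C.V ⊓ C.E) := fun a =>
    (f a, ⟨_, hk a (rp ⟨f a, Finset.mem_filter.mpr ⟨Finset.mem_univ _, a, rfl⟩⟩)
      (congrArg Subtype.val (hrp ⟨f a, Finset.mem_filter.mpr ⟨Finset.mem_univ _, a, rfl⟩⟩)).symm⟩)
  have hg : Function.Injective g := by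
    intro a b e
    simp only [g, Prod.mk.injEq, Subtype.mk.injEq] at e
    obtain ⟨e1, e2⟩ := e
    have : rp ⟨f a, Finset.mem_filter.mpr ⟨Finset.mem_univ _, a, rfl⟩⟩ = rp ⟨f b, Finset.mem_filter.mpr ⟨Finset.mem_univ _, b, rfl⟩⟩ := by
      simp only [e1]
    rw [this] at e2
    exact Subtype.ext (mul_left_cancel e2)
  refine (Nat.card_le_card_of_injective g hg).trans ?_
  have h16 : (spanL X0.2).toFinset.card = 16 := by decide +kernel
  rw [Nat.card_prod, Nat.card_eq_fintype_card, Fintype.card_coe, h16]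
  omega

/-- An elementary abelian subgroup of the Sylow subgroup has order at most two to the eleventh, and lies in the
candidate if it attains that order. -/
theorem le_V {A : Subgroup G} (hA : Cfsg.IsElementaryAbelian 2 A) (hAS : A ≤ C.S) (hcard : Nat.card ↥A = 2 ^ 11) :
    A ≤ C.V := by
  classical
  have hAc : ∀ a ∈ A, ∀ b ∈ A, Commute a b := fun a ha b hb => congrArg Subtype.val (hA.1.is_comm.comm ⟨a, ha⟩ ⟨b, hb⟩)
  choose idx hidx hrep using fun a : ↥A => (C.mem_S.mp (hAS a.2)).2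
  have hH : ∀ a : ↥A, (a : G) ∈ centralizer ({z} : Set G) := fun a => (C.mem_S.mp (hAS a.2)).1
  have huniq : ∀ (a : ↥A) (i : ℕ), i < 256 → RepBy C.E C.π (a : G) (elt i) → idx a = i := fun a i hi h =>
    elt_inj (hidx a) hi (C.rep_unique (hrep a) h)
  have hmul : ∀ a b : ↥A, idx (a * b) = mul8 (idx a) (idx b) := fun a b =>
    huniq _ _ (mul8_lt _ _) (C.Sset_mul (hidx a) (hidx b) (hH b) (hrep a) (hrep b))
  have hone : idx 1 = 0 := by
    have h0 : elt 0 = idM := by
      have h := table_check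
      simp only [Bool.and_eq_true, beq_iff_eq] at h
      exact h.1.2
    refine huniq 1 0 (by norm_num) ?_
    rw [h0]; exact C.rep_one
  haveI : Fintype ↥A := Fintype.ofFinite _
  set I : Finset ℕ := Finset.univ.image idx with hI
  have hI0 : 0 ∈ I := Finset.mem_image.mpr ⟨1, Finset.mem_univ _, hone⟩
  have hImem : ∀ a : ↥A, idx a ∈ I := fun a => Finset.mem_image.mpr ⟨a, Finset.mem_univ _, rfl⟩
  have hIc : ∀ u ∈ I, ∀ v ∈ I, mul8 u v ∈ I ∧ mul8 u v = mul8 v u := by
    intro u hu v hv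
    obtain ⟨a, -, rfl⟩ := Finset.mem_image.mp hu
    obtain ⟨b, -, rfl⟩ := Finset.mem_image.mp hv
    rw [← hmul]
    refine ⟨hImem _, ?_⟩
    rw [← hmul, show a * b = b * a from Subtype.ext (hAc _ a.2 _ b.2).eq]
  have hIinv : ∀ u ∈ I, u ≠ 0 → u ∈ invS := by
    intro u hu hu0
    obtain ⟨a, -, rfl⟩ := Finset.mem_image.mp hu
    have h := List.all_eq_true.mp inv_complete (idx a) (List.mem_range.mpr (hidx a))
    simp only [Bool.or_eq_true, beq_iff_eq, Bool.not_eq_true', beq_eq_false_iff_ne, List.contains_iff_mem] at h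
    refine (h.resolve_left ?_)
    rintro (h | h)
    · exact hu0 h
    · refine h ?_
      rw [← hmul, show a * a = 1 from Subtype.ext (by rw [← pow_two]; exact hA.2 a a.2), hone]
  -- the intersection with the extraspecial group
  set D : Finset ℕ := ((Finset.range 4096).filter fun x => ∃ a ∈ A ⊓ C.E, C.π a = x) with hD
  have hDmem : ∀ a ∈ A ⊓ C.E, C.π a ∈ D := fun a ha =>
    Finset.mem_filter.mpr ⟨Finset.mem_range.mpr (C.π_lt a), a, ha, rfl⟩
  have hDfix : ∀ x ∈ D, ∀ i ∈ I, mv (elt i) x = x := by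
    intro x hx i hi
    obtain ⟨-, a, ha, rfl⟩ := Finset.mem_filter.mp hx
    obtain ⟨b, -, rfl⟩ := Finset.mem_image.mp hi
    rw [← hrep b a ha.2, show (b : G) * a * (b : G)⁻¹ = a by rw [(hAc _ b.2 _ ha.1).eq, mul_inv_cancel_right]]
  have hD64 : D.card ≤ 64 := by
    refine isotropic_card (fun d hd => Finset.mem_range.mp (Finset.mem_filter.mp hd).1) ?_ ?_ ?_
    · have h : C.π 1 = 0 := (C.π_zero 1 (one_mem _)).mpr (Or.inl rfl)
      exact h ▸ hDmem 1 (one_mem _)
    · intro a ha b hb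
      obtain ⟨-, u, hu, rfl⟩ := Finset.mem_filter.mp ha
      obtain ⟨-, v, hv, rfl⟩ := Finset.mem_filter.mp hb
      rw [← C.π_mul u hu.2 v hv.2]
      exact hDmem _ (mul_mem hu hv)
    · intro a ha b hb
      obtain ⟨-, u, hu, rfl⟩ := Finset.mem_filter.mp ha
      obtain ⟨-, v, hv, rfl⟩ := Finset.mem_filter.mp hb
      exact (C.π_comm u hu.2 v hv.2).mp (hAc u hu.1 v hv.1)
  have hAcard : Nat.card ↥A ≤ I.card * Nat.card ↥(A ⊓ C.E) := by
    choose rp hrp using fun i : ↥I => Finset.mem_image.mp i.2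
    let g : ↥A → ↥I × ↥(A ⊓ C.E) := fun a =>
      (⟨idx a, hImem a⟩, ⟨((rp ⟨idx a, hImem a⟩ : ↥A) : G)⁻¹ * (a : G), Subgroup.mem_inf.mpr ⟨A.mul_mem (A.inv_mem (rp ⟨idx a, hImem a⟩).2) a.2,
        C.rep_quot (hH a) (hH _) (hrep a) (by
          have h := hrep (rp ⟨idx a, hImem a⟩)
          rwa [(hrp ⟨idx a, hImem a⟩).2] at h)⟩⟩)
    have hg : Function.Injective g := by
      intro a b e
      simp only [g, Prod.mk.injEq, Subtype.mk.injEq] at e
      obtain ⟨e1, e2⟩ := e
      rw [show rp ⟨idx a, hImem a⟩ = rp ⟨idx b, hImem b⟩ by simp only [e1]] at e2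
      exact Subtype.ext (mul_left_cancel e2)
    refine (Nat.card_le_card_of_injective g hg).trans (le_of_eq ?_)
    rw [Nat.card_prod, Nat.card_eq_fintype_card (α := ↥I), Fintype.card_coe]
  have hDc := C.card_inf_le D hDmem
  rw [hcard] at hAcard
  obtain ⟨m1, m2, m3, m4, m5⟩ := masks_ok
  have hI8 : 8 < I.card := by
    by_contra hle
    have := Nat.mul_le_mul (show I.card ≤ 8 by omega) (hDc.trans (Nat.mul_le_mul_left 2 hD64))
    omega
  have hc1 : ∀ a ∈ I, ∀ b ∈ I, mul8 a b ∈ I := fun a ha b hb => (hIc a ha b hb).1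
  have hc2 : ∀ a ∈ I, ∀ b ∈ I, mul8 a b = mul8 b a := fun a ha b hb => (hIc a ha b hb).2
  have i1 : InI ab1 I := by
    obtain ⟨x, hxI, hx0⟩ : ∃ x ∈ I, x ≠ 0 := by
      by_contra! h
      have := Finset.card_le_card (show I ⊆ {0} from fun x hx => Finset.mem_singleton.mpr (h x hx))
      simp at this; omega
    have h := List.all_eq_true.mp level_one x (hIinv x hxI hx0)
    simp only [List.any_eq_true, beq_iff_eq] at h
    obtain ⟨A', hA', he⟩ := h
    refine ⟨A', hA', fun y hy => ?_⟩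
    obtain ⟨hm1', hm2', -⟩ := levelMask_spec m1 hA'
    have h1 := (maskL_testBit _ y).mpr (hm2' y hy)
    rw [hm1', he] at h1
    exact spanL_mem (I := (I : Set ℕ)) hI0 hc1 [x] (fun u hu => (List.mem_singleton.mp hu).symm ▸ hxI) y
      ((maskL_testBit _ y).mp h1)
  have i2 := next_step level_two m1 m2 hI0 hc1 hc2 hIinv i1 (by norm_num; omega)
  have i3 := next_step level_three m2 m3 hI0 hc1 hc2 hIinv i2 (by norm_num; omega)
  have i4 := next_step level_four m3 m4 hI0 hc1 hc2 hIinv i3 (by norm_num; omega)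
  have hI32 : I.card ≤ 32 := by
    by_contra hgt
    have i5 := next_step level_five m4 m5 hI0 hc1 hc2 hIinv i4 (by norm_num; omega)
    exact next_empty (next_step level_six m5 rfl hI0 hc1 hc2 hIinv i5 (by norm_num; omega))
  have hI16 : I.card ≤ 16 := by
    by_contra hgt
    obtain ⟨A5, hA5, hA5I⟩ := next_step level_five m4 m5 hI0 hc1 hc2 hIinv i4 (by norm_num; omega)
    obtain ⟨i, hi, rfl⟩ := List.getElem_of_mem hA5
    have h := fix_five
    simp only [Bool.and_eq_true, List.all_eq_true, List.mem_range, decide_eq_true_eq] at h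
    obtain ⟨hk, hlen⟩ := h.2 i hi
    rw [List.getD_eq_getElem _ _ hi] at hk
    have hsub : D ⊆ (Data.fixC5.getD i ([], [], [])).2.2.toFinset := fun x hx => List.mem_toFinset.mpr
      (kerCert_sound (stackL_xor _) hk x (Finset.mem_range.mp (Finset.mem_filter.mp hx).1)
        (stackL_fix _ _ fun j hj => hDfix x hx j (hA5I j hj)))
    have hD2 : D.card ≤ 2 := (Finset.card_le_card hsub).trans ((List.toFinset_card_le _).trans hlen)
    have := Nat.mul_le_mul hI32 (hDc.trans (Nat.mul_le_mul_left 2 hD2))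
    omega
  obtain ⟨A4, hA4, hA4I⟩ := i4
  obtain ⟨i, hi, rfl⟩ := List.getElem_of_mem hA4
  have h := fix_four
  simp only [Bool.and_eq_true, List.all_eq_true, List.mem_range, Bool.or_eq_true, decide_eq_true_eq] at h
  obtain ⟨hk, hor⟩ := h.2 i hi
  rw [List.getD_eq_getElem _ _ hi] at hk hor
  have hsub : D ⊆ (Data.fixC4.getD i ([], [], [])).2.2.toFinset := fun x hx => List.mem_toFinset.mpr
    (kerCert_sound (stackL_xor _) hk x (Finset.mem_range.mp (Finset.mem_filter.mp hx).1)
      (stackL_fix _ _ fun j hj => hDfix x hx j (hA4I j hj)))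
  rcases hor with ⟨hX, hW⟩ | h8
  · rw [hW] at hsub
    have hspan : ∀ u ∈ spanL X0.2, u ∈ I := spanL_mem (I := (I : Set ℕ)) hI0 hc1 _ (by rw [← hX]; exact hA4I)
    have h16 : (spanL X0.2).toFinset.card = 16 := by decide +kernel
    have hIeq : (spanL X0.2).toFinset = I := Finset.eq_of_subset_of_card_le
      (fun u hu => hspan u (List.mem_toFinset.mp hu)) (by omega)
    have hW64 : W0.toFinset.card = 64 := by rw [List.toFinset_card_of_nodup W0_facts.2.1, W0_facts.2.2.1]
    have hDW : D = W0.toFinset := by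
      refine Finset.eq_of_subset_of_card_le hsub ?_
      by_contra hlt
      have := Nat.mul_le_mul hI16 (hDc.trans (Nat.mul_le_mul_left 2 (show D.card ≤ 63 by omega)))
      omega
    intro a ha
    refine ⟨⟨hH ⟨a, ha⟩, idx ⟨a, ha⟩, hidx _, List.mem_toFinset.mp (hIeq.symm ▸ hImem ⟨a, ha⟩), hrep ⟨a, ha⟩⟩, fun w hw => ?_⟩
    obtain ⟨-, d, hd, hdw⟩ := Finset.mem_filter.mp (hDW.symm ▸ List.mem_toFinset.mpr hw.2 : C.π w ∈ D)
    have hm : w * d⁻¹ ∈ C.E := mul_mem hw.1 (inv_mem hd.2)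
    have h0 : C.π (w * d⁻¹) = 0 := by
      have h1 := C.π_mul (w * d⁻¹) hm d hd.2
      rw [inv_mul_cancel_right] at h1
      calc C.π (w * d⁻¹) = C.π (w * d⁻¹) ^^^ C.π d ^^^ C.π d := by rw [Nat.xor_assoc, Nat.xor_self, Nat.xor_zero]
        _ = 0 := by rw [← h1, hdw, Nat.xor_self]
    rw [← inv_mul_cancel_right w d]
    refine Commute.mul_right ?_ (hAc a ha d hd.1)
    rcases (C.π_zero _ hm).mp h0 with e | e <;> rw [e]
    · exact Commute.one_right a
    · exact mem_centralizer_singleton_iff.mp (hH ⟨a, ha⟩)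
  · exfalso
    have hD8 : D.card ≤ 8 := (Finset.card_le_card hsub).trans ((List.toFinset_card_le _).trans h8)
    have := Nat.mul_le_mul hI16 (hDc.trans (Nat.mul_le_mul_left 2 hD8))
    omega

end Ctx

end Cfsg.Lib.JankoFour
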