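import Cfsg.Agent.JankoFour.SevenInner
import Cfsg.Agent.Golay.M24Block

/-!
Subgroups of order five of the automorphism group of the Mathieu group on 22 points.
-/

set_option autoImplicit false
set_option maxRecDepth 100000
set_option linter.style.haveILetI false
set_option linter.unusedSectionVars false

namespace Cfsg.Lib.Golay.OrderFive

open Cfsg.Lib.PermCert Cfsg.Lib.Golay MulAction
open Cfsg.Lib.Golay.M24Block (cent mem_cent el5 pw5 mem_fix5 el_mem orders_ok card_cent_5 orderOf_of_orderOK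
  conjOK mkM isConj_of_conjOK valid_of_preserves self_mem_cent)
open scoped Pointwise

/-- An involution of the centraliser of the element of order five. -/
def two5 : PP := (2405072739460482294413980712418876312451141975672896375463076159318912205127108981240327884639111922982362152966, 2405072739460482294413980712418876312451141975672896375463076159318912205127108981240327884639111922982362152966)

/-- An element of order three of that centraliser. -/
def three5 : PP := (12024739854619906771371823639245343848577659100839549726334667724955210435972240424603873727236567161155809771526, 2405109435578326453722792652911208257584585193244561868653689589046860406434920766623970289069199686324350681101)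

/-- The element of order five. -/
def x5 : Equiv.Perm GolayPt := toP el5

/-- The element inducing squaring. -/
def n5 : Equiv.Perm GolayPt := toP pw5

/-- The fixed points. -/
def fix4 : Finset GolayPt := {ptAt 1, ptAt 2, ptAt 5, ptAt 12}

theorem tabs : preserves two5 = true ∧ preserves three5 = true ∧ preserves pw5 = true := by decide +kernel

theorem two5_comm : toP two5 * x5 = x5 * toP two5 := by decide +kernel

theorem three5_comm : toP three5 * x5 = x5 * toP three5 := by decide +kernel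

theorem n5_conj : n5 * x5 * n5⁻¹ = x5 ^ 2 := by decide +kernel

theorem two5_sq : toP two5 * toP two5 = 1 ∧ toP two5 ≠ 1 := by decide +kernel

theorem two5_pair : toP two5 (ptAt 1) = ptAt 2 ∧ toP two5 (ptAt 2) = ptAt 1 ∧ toP two5 (ptAt 5) = ptAt 12 ∧
    toP two5 (ptAt 12) = ptAt 5 := by decide +kernel

theorem three5_pair : toP three5 (ptAt 1) = ptAt 1 ∧ toP three5 (ptAt 2) = ptAt 5 ∧ toP three5 (ptAt 5) = ptAt 12 ∧
    toP three5 (ptAt 12) = ptAt 2 := by decide +kernel

theorem fix4_card : fix4.card = 4 := by decide +kernel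

theorem pairs_list : fix4.powersetCard 2 = {{ptAt 1, ptAt 2}, {ptAt 1, ptAt 5}, {ptAt 1, ptAt 12}, {ptAt 2, ptAt 5},
    {ptAt 2, ptAt 12}, {ptAt 5, ptAt 12}} := by decide +kernel

theorem x5_order : orderOf x5 = 5 := orderOf_of_orderOK orders_ok.2.2.2.2

theorem x5_mem : x5 ∈ Cfsg.M24 := toP_mem_M24 el_mem.2.2.2.2.1

/-- The normaliser of the subgroup of order five in the group of the code. -/
def norm5 : Subgroup (Equiv.Perm GolayPt) := Cfsg.M24 ⊓ Subgroup.normalizer (Subgroup.zpowers x5 : Set (Equiv.Perm GolayPt))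

theorem cent_le_norm5 : cent x5 ≤ norm5 := fun c hc => by
  obtain ⟨hM, hx⟩ := mem_cent.mp hc
  refine ⟨hM, mem_normalizer_zpowers.mpr ?_⟩
  rw [hx, mul_inv_cancel_right]
  exact Subgroup.mem_zpowers _

theorem n5_mem : n5 ∈ norm5 :=
  ⟨toP_mem_M24 tabs.2.2, mem_normalizer_zpowers.mpr (n5_conj ▸ Subgroup.pow_mem _ (Subgroup.mem_zpowers _) 2)⟩

theorem norm5_fix {c : Equiv.Perm GolayPt} (hc : c ∈ norm5) {t : GolayPt} (ht : x5 t = t) : x5 (c t) = c t := by
  obtain ⟨k, hk⟩ := Subgroup.mem_zpowers_iff.mp (mem_normalizer_zpowers.mp (inv_mem hc).2)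
  rw [inv_inv] at hk
  have h : x5 * c = c * x5 ^ k := by rw [hk]; group
  rw [← Equiv.Perm.mul_apply, h, Equiv.Perm.mul_apply, Equiv.Perm.zpow_apply_eq_self_of_apply_eq_self ht k]

theorem x5_fix {t : GolayPt} : x5 t = t ↔ t ∈ fix4 := mem_fix5

theorem smul_two {c : Equiv.Perm GolayPt} (hc : c ∈ norm5) {Q : Finset GolayPt} (hQ : Q ∈ fix4.powersetCard 2) :
    c • Q ∈ fix4.powersetCard 2 := by
  rw [Finset.mem_powersetCard] at hQ ⊢
  refine ⟨fun t ht => ?_, by rw [Finset.card_smul_finset]; exact hQ.2⟩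
  obtain ⟨s, hs, rfl⟩ := Finset.mem_smul_finset.mp ht
  exact x5_fix.mp (norm5_fix hc (x5_fix.mpr (hQ.1 hs)))

theorem gens_mem : toP two5 ∈ cent x5 ∧ toP three5 ∈ cent x5 :=
  ⟨mem_cent.mpr ⟨toP_mem_M24 tabs.1, two5_comm⟩, mem_cent.mpr ⟨toP_mem_M24 tabs.2.1, three5_comm⟩⟩

theorem cent_trans {Q : Finset GolayPt} (hQ : Q ∈ fix4.powersetCard 2) :
    ∃ c ∈ cent x5, c • ({ptAt 1, ptAt 2} : Finset GolayPt) = Q := by
  obtain ⟨h2, h3⟩ := gens_mem
  obtain ⟨a1, a2, a5, a12⟩ := two5_pair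
  obtain ⟨b1, b2, b5, b12⟩ := three5_pair
  rw [pairs_list] at hQ
  simp only [Finset.mem_insert, Finset.mem_singleton] at hQ
  have act : ∀ (c : Equiv.Perm GolayPt) (u v : GolayPt), c • ({u, v} : Finset GolayPt) = {c u, c v} := fun c u v => by
    simp [Finset.smul_finset_insert, Finset.smul_finset_singleton, Equiv.Perm.smul_def]
  rcases hQ with rfl | rfl | rfl | rfl | rfl | rfl
  · exact ⟨1, one_mem _, one_smul _ _⟩
  · exact ⟨_, h3, by rw [act, b1, b2]⟩
  · exact ⟨_, mul_mem h3 h3, by rw [act, Equiv.Perm.mul_apply, Equiv.Perm.mul_apply, b1, b1, b2, b5]⟩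
  · exact ⟨_, mul_mem h3 (mul_mem h2 h3), by
      rw [act]; simp only [Equiv.Perm.mul_apply, b1, b2, b12, a1, a5]
      rw [Finset.pair_comm]⟩
  · exact ⟨_, mul_mem h2 h3, by
      rw [act]; simp only [Equiv.Perm.mul_apply, b1, b2, b5, b12, a1, a2, a5, a12]⟩
  · exact ⟨_, mul_mem h3 (mul_mem h3 (mul_mem h2 h3)), by
      rw [act]; simp only [Equiv.Perm.mul_apply, b1, b2, b5, b12, a1, a5]
      rw [Finset.pair_comm]⟩

/-- A group between the centraliser and the normaliser has six times the order of the stabiliser of a pair. -/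
theorem card_eq_six {H : Subgroup (Equiv.Perm GolayPt)} (h1 : cent x5 ≤ H) (h2 : H ≤ norm5) {Q : Finset GolayPt}
    (hQ : Q ∈ fix4.powersetCard 2) :
    Nat.card H = 6 * Nat.card ↥(H ⊓ stabilizer (Equiv.Perm GolayPt) Q) := by
  classical
  have h := Subgroup.index_mul_card (stabilizer H Q)
  rw [index_stabilizer] at h
  have horb : orbit H Q = (fix4.powersetCard 2 : Set (Finset GolayPt)) := by
    ext R
    constructor
    · rintro ⟨c, rfl⟩
      exact smul_two (h2 c.2) hQ
    · intro hR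
      obtain ⟨a, ha, ea⟩ := cent_trans hQ
      obtain ⟨b, hb, eb⟩ := cent_trans hR
      exact ⟨⟨b * a⁻¹, h1 (mul_mem hb (inv_mem ha))⟩, by
        show (b * a⁻¹) • Q = R
        rw [← ea, smul_smul, inv_mul_cancel_right, eb]⟩
  have hst : Nat.card (stabilizer H Q) = Nat.card ↥(H ⊓ stabilizer (Equiv.Perm GolayPt) Q) :=
    Nat.card_congr ⟨fun x => ⟨x.1.1, x.1.2, x.2⟩, fun x => ⟨⟨x.1, x.2.1⟩, x.2.2⟩, fun _ => rfl, fun _ => rfl⟩
  rw [horb, Set.ncard_coe_finset, Finset.card_powersetCard, fix4_card, hst] at h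
  rw [← h]
  rfl

theorem base_pair : ({ptAt 1, ptAt 2} : Finset GolayPt) ∈ fix4.powersetCard 2 := by decide +kernel

theorem card_cent : Nat.card (cent x5) = 60 := by
  have hle : Nat.card (cent x5) ≤ 60 := card_cent_5
  have h := card_eq_six le_rfl cent_le_norm5 base_pair
  set St := cent x5 ⊓ stabilizer (Equiv.Perm GolayPt) ({ptAt 1, ptAt 2} : Finset GolayPt)
  have hx : x5 ∈ St := by
    refine ⟨self_mem_cent el_mem.2.2.2.2.1, mem_stabilizer_iff.mpr ?_⟩
    have h1 : x5 (ptAt 1) = ptAt 1 ∧ x5 (ptAt 2) = ptAt 2 := ⟨x5_fix.mpr (by simp [fix4]), x5_fix.mpr (by simp [fix4])⟩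
    simp [Finset.smul_finset_insert, Finset.smul_finset_singleton, Equiv.Perm.smul_def, h1.1, h1.2]
  have ht : toP two5 ∈ St := ⟨gens_mem.1, mem_stabilizer_iff.mpr (by
    simp [Finset.smul_finset_insert, Finset.smul_finset_singleton, Equiv.Perm.smul_def, two5_pair.1, two5_pair.2.1,
      Finset.pair_comm])⟩
  haveI : Fact (Nat.Prime 2) := ⟨Nat.prime_two⟩
  have d5 := Subgroup.orderOf_dvd_natCard St hx
  have d2 := Subgroup.orderOf_dvd_natCard St ht
  rw [x5_order] at d5
  rw [orderOf_eq_prime (p := 2) (by rw [pow_two]; exact two5_sq.1) two5_sq.2] at d2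
  have h0 : 0 < Nat.card ↥St := Nat.card_pos
  omega

theorem card_norm : Nat.card norm5 = 240 := by
  classical
  haveI : Fact (Nat.Prime 5) := ⟨by norm_num⟩
  set Z := Subgroup.zpowers x5 with hZ
  have hZc : Nat.card Z = 5 := by rw [hZ, Nat.card_zpowers, x5_order]
  have hcyc : IsCyclic ↥Z := isCyclic_of_prime_card hZc
  have haut : Nat.card (MulAut ↥Z) = 4 := by
    rw [Nat.card_congr (IsCyclic.mulAutMulEquiv ↥Z).toEquiv, hZc, Nat.card_eq_fintype_card,
      ZMod.card_units_eq_totient, Nat.totient_prime (by norm_num)]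
  let f : ↥norm5 →* MulAut ↥Z := Z.normalizerMonoidHom.comp (Subgroup.inclusion inf_le_right)
  have hker : Nat.card f.ker = 60 := by
    rw [← card_cent]
    refine Nat.card_congr ⟨fun x => ⟨x.1.1, mem_cent.mpr ⟨x.1.2.1, ?_⟩⟩,
      fun x => ⟨⟨x.1, cent_le_norm5 x.2⟩, ?_⟩, fun _ => rfl, fun _ => rfl⟩
    · have h := (SetLike.ext_iff.mp Z.normalizerMonoidHom_ker _).mp (show Subgroup.inclusion inf_le_right x.1 ∈
        Z.normalizerMonoidHom.ker from x.2)
      exact (Subgroup.mem_centralizer_iff.mp (Subgroup.mem_subgroupOf.mp h) x5 (Subgroup.mem_zpowers x5)).symm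
    · refine (SetLike.ext_iff.mp Z.normalizerMonoidHom_ker _).mpr (Subgroup.mem_subgroupOf.mpr ?_)
      refine Subgroup.mem_centralizer_iff.mpr fun y hy => ?_
      obtain ⟨k, rfl⟩ := Subgroup.mem_zpowers_iff.mp hy
      exact ((Commute.symm (mem_cent.mp x.2).2).zpow_left k).eq
  have h := f.ker.card_mul_index
  rw [Subgroup.index_ker, hker] at h
  have hdvd : Nat.card f.range ∣ 4 := haut ▸ Subgroup.card_subgroup_dvd_card _
  set a := f ⟨n5, n5_mem⟩ with ha
  have ha2 : ¬ orderOf a ∣ 2 := fun hd => by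
    have h2 : f ⟨n5 * n5, mul_mem n5_mem n5_mem⟩ = 1 := by
      rw [show (⟨n5 * n5, mul_mem n5_mem n5_mem⟩ : ↥norm5) = ⟨n5, n5_mem⟩ * ⟨n5, n5_mem⟩ from rfl, map_mul,
        ← pow_two]
      exact orderOf_dvd_iff_pow_eq_one.mp hd
    have h3 := congrArg (fun φ : MulAut ↥Z => ((φ ⟨x5, Subgroup.mem_zpowers x5⟩ : ↥Z) : Equiv.Perm GolayPt)) h2
    have h4 : n5 * n5 * x5 * (n5 * n5)⁻¹ = x5 := h3
    rw [show n5 * n5 * x5 * (n5 * n5)⁻¹ = n5 * (n5 * x5 * n5⁻¹) * n5⁻¹ by group, n5_conj, ← conj_pow,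
      n5_conj, ← pow_mul] at h4
    have h5 := orderOf_dvd_of_pow_eq_one (show x5 ^ 3 = 1 from mul_right_cancel (b := x5) (by
      rw [← pow_succ, one_mul]; exact h4))
    rw [x5_order] at h5
    norm_num at h5
  have hd : orderOf a ∣ Nat.card f.range := Subgroup.orderOf_dvd_natCard _ ⟨_, rfl⟩
  have ha4 : orderOf a = 4 := by
    have h4 := hd.trans hdvd
    have hle := Nat.le_of_dvd (by norm_num) h4
    interval_cases orderOf a <;> simp_all
  rw [ha4] at hd
  have : Nat.card f.range = 4 := Nat.dvd_antisymm hdvd hd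
  rw [this] at h
  exact h.symm

/-- The stabiliser of a pair of fixed points. -/
theorem five_pair {a b : GolayPt} (hab : a ≠ b) (ha : x5 a = a) (hb : x5 b = b) :
    Nat.card ↥(cent x5 ⊓ stabilizer (Equiv.Perm GolayPt) ({a, b} : Set GolayPt)) = 10 ∧
    Nat.card ↥(norm5 ⊓ stabilizer (Equiv.Perm GolayPt) ({a, b} : Set GolayPt)) = 40 := by
  classical
  have hQ : ({a, b} : Finset GolayPt) ∈ fix4.powersetCard 2 := by
    rw [Finset.mem_powersetCard]
    refine ⟨?_, Finset.card_pair hab⟩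
    intro t ht
    simp only [Finset.mem_insert, Finset.mem_singleton] at ht
    rcases ht with rfl | rfl
    exacts [x5_fix.mp ha, x5_fix.mp hb]
  have e : stabilizer (Equiv.Perm GolayPt) ({a, b} : Set GolayPt) =
      stabilizer (Equiv.Perm GolayPt) ({a, b} : Finset GolayPt) := by
    rw [← stabilizer_coe_finset, Finset.coe_pair]
  have h1 := card_eq_six le_rfl cent_le_norm5 hQ
  have h2 := card_eq_six cent_le_norm5 le_rfl hQ
  rw [card_cent] at h1
  rw [card_norm] at h2
  rw [e]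
  omega

end Cfsg.Lib.Golay.OrderFive

namespace Cfsg.Lib.JankoFour

open Subgroup
open Cfsg.Lib.Golay
open Cfsg.Lib.Golay.OrderFive (x5 norm5 five_pair x5_order x5_mem)
open Cfsg.Lib.Golay.M24Block (cent mem_cent)
open scoped Pointwise

/-- Orders of the normaliser and of the centraliser of a subgroup of order five of the stabiliser of a pair. -/
theorem duad_five {R : Subgroup (Equiv.Perm Cfsg.GolayPt)}
    (hR : R ≤ Cfsg.M24 ⊓ MulAction.stabilizer (Equiv.Perm Cfsg.GolayPt) ({none, some 0} : Set Cfsg.GolayPt))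
    (h5 : Nat.card R = 5) :
    Nat.card ↥((Cfsg.M24 ⊓ MulAction.stabilizer (Equiv.Perm Cfsg.GolayPt) ({none, some 0} : Set Cfsg.GolayPt)) ⊓
      normalizer (R : Set (Equiv.Perm Cfsg.GolayPt))) = 40 ∧
    Nat.card ↥((Cfsg.M24 ⊓ MulAction.stabilizer (Equiv.Perm Cfsg.GolayPt) ({none, some 0} : Set Cfsg.GolayPt)) ⊓
      centralizer (R : Set (Equiv.Perm Cfsg.GolayPt))) = 10 := by
  classical
  haveI : Fact (Nat.Prime 5) := ⟨by norm_num⟩
  set P := Cfsg.M24 ⊓ MulAction.stabilizer (Equiv.Perm Cfsg.GolayPt) ({none, some 0} : Set Cfsg.GolayPt) with hP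
  have hfac : (Nat.card Cfsg.M24).factorization 5 = 1 := by
    rw [Cfsg.Lib.Golay.card_M24]
    have h1 : (244823040 : ℕ) = 5 * 48964608 := rfl
    rw [h1, Nat.factorization_mul (by norm_num) (by norm_num), Finsupp.add_apply,
      Nat.Prime.factorization_self (by norm_num), Nat.factorization_eq_zero_of_not_dvd (by norm_num)]
  obtain ⟨g, hg, hgR⟩ := conj_of_prime_card (zpowers_le.mpr x5_mem) (hR.trans inf_le_left)
    (by rw [Nat.card_zpowers, x5_order]) h5 hfac
  set Q : Set Cfsg.GolayPt := g⁻¹ • ({none, some 0} : Set Cfsg.GolayPt) with hQ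
  have hxQ : x5 • Q = Q := by
    have h1 : g * x5 * g⁻¹ ∈ R := hgR ▸ ⟨x5, mem_zpowers _, rfl⟩
    have h2 := MulAction.mem_stabilizer_iff.mp (hR h1).2
    rw [hQ, eq_inv_smul_iff, smul_smul, smul_smul]
    exact h2
  obtain ⟨a, b, hab, hQab⟩ : ∃ a b, a ≠ b ∧ Q = {a, b} :=
    ⟨g⁻¹ none, g⁻¹ (some 0), fun h => by simpa using g⁻¹.injective h, by
      rw [hQ, Set.smul_set_insert, Set.smul_set_singleton]; rfl⟩
  have hfixp : ∀ p ∈ Q, x5 p = p := by
    intro p hp
    have h1 : ∀ q ∈ Q, x5 q ∈ Q := fun q hq => hxQ ▸ Set.smul_mem_smul_set hq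
    by_contra hne
    have h2 : x5 (x5 p) = p := by
      have hq := h1 p hp
      have hqq := h1 _ hq
      rw [hQab] at hp hq hqq
      rcases hp with rfl | rfl <;> rcases hq with e | e
      · exact absurd e hne
      · rcases hqq with e' | e'
        · exact e'
        · exact absurd (x5.injective (e'.trans e.symm)) hne
      · rcases hqq with e' | e'
        · exact absurd (x5.injective (e'.trans e.symm)) hne
        · exact e'
      · exact absurd e hne
    have h5' : (x5 ^ 5) p = x5 p := by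
      simp only [pow_succ, pow_zero, one_mul, Equiv.Perm.mul_apply, h2]
    rw [← x5_order, pow_orderOf_eq_one] at h5'
    exact hne h5'.symm
  obtain ⟨hC, hN⟩ := five_pair hab (hfixp a (hQab ▸ Set.mem_insert a _)) (hfixp b (hQab ▸ Set.mem_insert_of_mem a rfl))
  rw [← hQab] at hC hN
  have hPg : ∀ d, g * d * g⁻¹ ∈ P ↔ d ∈ Cfsg.M24 ∧ d • Q = Q := fun d => by
    rw [hP, mem_inf, MulAction.mem_stabilizer_iff, hQ]
    refine and_congr ⟨fun h => ?_, fun h => mul_mem (mul_mem hg h) (inv_mem hg)⟩ ?_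
    · have := mul_mem (mul_mem (inv_mem hg) h) hg
      rwa [show g⁻¹ * (g * d * g⁻¹) * g = d by group] at this
    · rw [eq_inv_smul_iff, smul_smul, smul_smul, MulAction.mem_stabilizer_iff]
  have hmap : ∀ (A K : Subgroup (Equiv.Perm Cfsg.GolayPt)),
      (∀ d, d ∈ K ↔ d ∈ Cfsg.M24 ∧ g * d * g⁻¹ ∈ A) →
      Nat.card ↥(P ⊓ A) = Nat.card ↥(K ⊓ MulAction.stabilizer (Equiv.Perm Cfsg.GolayPt) Q) := by
    intro A K hK
    have hinv : ∀ x : Equiv.Perm Cfsg.GolayPt, x ∈ P ⊓ A →
        g⁻¹ * x * g ∈ K ⊓ MulAction.stabilizer (Equiv.Perm Cfsg.GolayPt) Q := fun x hx => by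
      have e : g * (g⁻¹ * x * g) * g⁻¹ = x := by group
      obtain ⟨h1, h2⟩ := (hPg (g⁻¹ * x * g)).mp (e.symm ▸ hx.1)
      exact ⟨(hK _).mpr ⟨h1, e.symm ▸ hx.2⟩, h2⟩
    exact (Nat.card_congr
      { toFun := fun d => (⟨g * d.1 * g⁻¹, (hPg _).mpr ⟨((hK _).mp d.2.1).1, d.2.2⟩, ((hK _).mp d.2.1).2⟩ : ↥(P ⊓ A))
        invFun := fun x => ⟨g⁻¹ * x.1 * g, hinv x.1 x.2⟩
        left_inv := fun d => Subtype.ext (by simp [mul_assoc])
        right_inv := fun x => Subtype.ext (by simp [mul_assoc]) }).symm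
  refine ⟨(hmap _ norm5 fun d => ?_).trans hN, (hmap _ (cent x5) fun d => ?_).trans hC⟩
  · rw [norm5, mem_inf, ← hgR, ← map_equiv_normalizer_eq]
    exact and_congr_right fun _ => ⟨fun h => ⟨d, h, rfl⟩,
      fun ⟨y, hy, e⟩ => (MulAut.conj g).injective e ▸ hy⟩
  · rw [mem_cent]
    refine and_congr_right fun _ => ⟨fun h => mem_centralizer_iff.mpr ?_, fun h => ?_⟩
    · rw [← hgR]
      rintro _ ⟨y, hy, rfl⟩
      obtain ⟨k, rfl⟩ := mem_zpowers_iff.mp hy
      show (MulAut.conj g) (x5 ^ k) * (MulAut.conj g) d = (MulAut.conj g) d * (MulAut.conj g) (x5 ^ k)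
      rw [← map_mul, ← map_mul, ((Commute.symm h).zpow_left k).eq]
    · have h1 := mem_centralizer_iff.mp h _ (hgR ▸ ⟨x5, mem_zpowers _, rfl⟩ : g * x5 * g⁻¹ ∈ R)
      exact (MulAut.conj g).injective (by
        rw [map_mul, map_mul]; exact h1.symm)

/-- Orders of the normaliser and of the centraliser of a subgroup of order five of the automorphism group. -/
theorem aut_five (R : Subgroup (MulAut ↥Cfsg.Spor.M22)) (h5 : Nat.card R = 5) :
    Nat.card (normalizer (R : Set (MulAut ↥Cfsg.Spor.M22))) = 40 ∧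
      Nat.card (centralizer (R : Set (MulAut ↥Cfsg.Spor.M22))) = 10 := by
  obtain ⟨e⟩ := duadStab_aut
  set P := Cfsg.M24 ⊓ MulAction.stabilizer (Equiv.Perm Cfsg.GolayPt) ({none, some 0} : Set Cfsg.GolayPt)
  set R' : Subgroup ↥P := R.map e.symm.toMonoidHom with hR'
  have hR : R'.map e.toMonoidHom = R := by
    rw [hR', map_map, show e.toMonoidHom.comp e.symm.toMonoidHom = MonoidHom.id _ from
      MonoidHom.ext e.apply_symm_apply, map_id]
  obtain ⟨h1, h2⟩ := card_local_equiv e R'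
  obtain ⟨k1, k2⟩ := card_local_subtype P R'
  obtain ⟨m1, m2⟩ := duad_five (R := R'.map P.subtype) (map_subtype_le R') (by
    rw [card_map_of_injective P.subtype_injective, hR', card_map_of_injective e.symm.injective, h5])
  rw [hR] at h1 h2
  exact ⟨h1.trans (k1.trans m1), h2.trans (k2.trans m2)⟩

end Cfsg.Lib.JankoFour
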