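import Cfsg.Agent.JankoFour.StabChecks
import Cfsg.Agent.JankoFour.Existence

/-!
Finite checks for the elements of order five: their fixed vectors and the maps commuting with them on these.
-/

set_option autoImplicit false
set_option maxRecDepth 100000
set_option synthInstance.maxSize 4000

namespace Cfsg.Lib.JankoFour

open Data (W0 w0B fixB)

/-- The word of an outer map commuting with the map of order five. -/
def wFive : List ℕ := [3, 0, 2, 0, 3, 2, 2, 2, 3]

/-- The outer map commuting with the map of order five. -/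
def mFive : List ℕ := [2, 1, 619, 470, 807, 542, 884, 748, 221, 187, 2048, 1024]

/-- The action of the centraliser on the fixed vectors. -/
def actFix (k j : ℕ) : List ℕ := mm (mpow Data.OM k) (mpow mFive j)

/-- The maps of the centraliser. -/
def actFive (k i j : ℕ) : List ℕ := mm (mpow Data.OM k) (mm (mpow Data.B i) (mpow mFive j))

theorem five_word : wM gens5 wFive = mFive ∧ mm mFive Data.B = mm Data.B mFive ∧ mm mFive mFive = idM ∧
    mpow Data.B 5 = idM ∧ mpow Data.B 6 = Data.B ∧ mm Data.B Data.OM = mm Data.OM Data.B ∧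
    mm mFive Data.OM ≠ mm Data.OM mFive ∧ (∀ b ∈ w0B, mv Data.B b ∈ W0) ∧
    mm (mpow Data.OM 0) (wM [Data.A, Data.B, Data.C] [1]) = Data.B := by decide +kernel

theorem five_scan : ((List.range 4096).all fun x => (mv Data.B x == x) == fixB.contains x) = true := by
  decide +kernel

/-- The images of two vectors under a map of the centraliser. -/
def keyFive (k i j : ℕ) : List ℕ := ([4, 1024] : List ℕ).map (mv (actFive k i j))

/-- The table of these images. -/
def tblFive : List (List ℕ) := (List.range 30).map fun n => keyFive (n / 10) (n / 2 % 5) (n % 2)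

theorem five_idx : ∀ k < 3, ∀ i < 5, ∀ j < 2, tblFive.idxOf (keyFive k i j) = 10 * k + 2 * i + j := by decide +kernel

theorem five_sep {k i j k' i' j' : ℕ} (hk : k < 3) (hi : i < 5) (hj : j < 2) (hk' : k' < 3) (hi' : i' < 5) (hj' : j' < 2)
    (h : ([4, 1024] : List ℕ).map (mv (actFive k i j)) = ([4, 1024] : List ℕ).map (mv (actFive k' i' j'))) :
    k = k' ∧ i = i' ∧ j = j' := by
  have h1 := five_idx k hk i hi j hj
  rw [show keyFive k i j = keyFive k' i' j' from h, five_idx k' hk' i' hi' j' hj'] at h1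
  omega

theorem mpow_OM_lt (k : ℕ) : ∀ m ∈ mpow Data.OM k, m < 4096 := by
  induction k with
  | zero => exact (by decide +kernel : ∀ m ∈ idM, m < 4096)
  | succ k ih =>
    intro m hm
    obtain ⟨x, -, rfl⟩ := List.mem_map.mp hm
    exact mv_lt (n := 12) ih x

theorem five_fix_facts : fixB.Nodup ∧ fixB.length = 16 ∧ (∀ x ∈ fixB, x < 4096) ∧
    ∀ k < 3, ∀ j < 2, ∀ x ∈ fixB, mv (actFix k j) x ∈ fixB ∧
      ∀ i < 5, mv (actFive k i j) x = mv (actFix k j) x := by decide +kernel

/-- The three fixed singular vectors of the second class in the distinguished space. -/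
def pA5 : List ℕ := [1027, 2049, 3074]

/-- The fixed singular vectors of the first class. -/
def pW5 : List ℕ := [1025, 2050, 3075]

/-- The fixed singular vectors of the second class. -/
def six5 : List ℕ := [1027, 2049, 3074, 1026, 2051, 3073]

/-- The plane of the fixed singular vectors of the first class. -/
def span5 : List ℕ := [0, 1025, 2050, 3075]

theorem five_sing : ∀ x ∈ fixB, qB x = false → x = 0 ∨ x ∈ pW5 ∨ x ∈ six5 := by decide +kernel

theorem five_lists : pW5.Nodup ∧ six5.Nodup ∧ span5.Nodup ∧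
    (∀ x ∈ pW5, x ∈ fixB ∧ x < 4096 ∧ x ≠ 0 ∧ qB x = false ∧ cls x = 0) ∧
    (∀ x ∈ six5, x ∈ fixB ∧ x < 4096 ∧ x ≠ 0 ∧ qB x = false ∧ cls x = 1) ∧
    (∀ x ∈ fixB, x ∈ W0 → x = 0 ∨ x ∈ pA5) ∧ (∀ x ∈ pA5, x ∈ W0 ∧ x ∈ six5) := by decide +kernel

theorem five_xi : ∀ k < 15, mm (elt (xi k)) Data.B ≠ mm Data.B (elt (xi k)) := by decide +kernel

theorem five_base : (∀ w ∈ six5, ∃ k < 3, ∃ j < 2, mv (actFix k j) 1027 = w) ∧
    (∀ w ∈ six5, ∃ e ∈ fixB, pB e w = true) ∧
    ∀ k < 3, ∀ j < 2, mv (actFix k j) 1027 = 1027 → k = 0 ∧ j = 0 := by decide +kernel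

theorem five_square : ∀ k < 3, ∀ i < 5, ∀ j < 2,
    ([4, 1024] : List ℕ).map (fun v => mv (actFive k i j) (mv (actFive k i j) v)) = [4, 1024] →
      i = 0 ∧ (j = 1 ∨ k = 0) := by decide +kernel

theorem five_plane : (∀ a ∈ pW5, ∀ b ∈ pW5, pB a b = false) ∧
    pW5.filter (fun w => !pB w 1027) = [2050] ∧ 1027 ^^^ 2050 ∈ six5 ∧
    (∀ w ∈ pW5, (six5.filter fun y => pB w y).length = 4) ∧
    (∀ x ∈ fixB, (∀ w ∈ pW5, pB x w = false) → x ∈ span5) ∧
    (∀ a ∈ span5, ∀ b ∈ span5, a ^^^ b ∈ span5) ∧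
    ∀ k < 3, ∀ j < 2, (∀ w ∈ pW5, mv (actFix k j) w = w) → k = 0 ∧ j = 0 := by decide +kernel

theorem five_outer : (∀ k < 3, (fixB.filter fun v => mv (actFix k 1) v == v).length = 4) ∧
    ∀ k < 3, ∀ v ∈ pW5, mv (actFix k 1) v = v →
      ∃ a ∈ pA5, v = a ^^^ mv (actFix k 1) a ∧ pB a (mv (actFix k 1) a) = false := by decide +kernel

theorem five_split : (∀ x ∈ fixB, ∃ r ∈ ([0, 1027, 2049, 3074] : List ℕ), x ^^^ r ∈ span5) ∧
    ∀ a ∈ span5.map (1027 ^^^ ·), ∀ b ∈ span5.map (2049 ^^^ ·), qB a = false → qB b = false → pB a b = false →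
      ¬ (mv (actFix 0 1) a ∈ [0, a, b, a ^^^ b] ∧ mv (actFix 0 1) b ∈ [0, a, b, a ^^^ b]) := by decide +kernel

end Cfsg.Lib.JankoFour
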