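import Cfsg.Agent.JankoFour.FiveLocal

/-!
The order of the normaliser of a subgroup of order five.
-/

set_option autoImplicit false
set_option maxRecDepth 100000
set_option maxHeartbeats 2000000
set_option linter.style.haveILetI false
set_option linter.unusedSectionVars false

namespace Cfsg.Lib.JankoFour

open Subgroup
open Cfsg.Lib.HallJankoType
open Data (fixB W0)

universe u

variable {G : Type u} [Group G] [Finite G]

namespace Ctx

variable {z : G} {P : Subgroup G}

theorem fac_five (C : Ctx z P) {r : G} (hr : IsConj z r) :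
    (Nat.card (centralizer ({r} : Set G))).factorization 5 = 1 := by
  obtain ⟨g, rfl⟩ := isConj_iff.mp hr
  rw [LocalCount.map_centralizer_elem,
    card_map_of_injective (f := (MulAut.conj g).toMonoidHom) (MulAut.conj g).injective, C.cardH,
    show (8192 : ℕ) * 2661120 = 5 * (8192 * 532224) from rfl,
    Nat.factorization_mul (by norm_num) (by norm_num), Finsupp.add_apply,
    Nat.Prime.factorization_self (by norm_num), Nat.factorization_eq_zero_of_not_dvd (by norm_num)]

namespace Five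

variable {C : Ctx z P} (F : C.Five)

include F

/-- The members of the class of the involution centralising the element of order five. -/
def Zs : Set G := {x : G | orderOf x = 2 ∧ Commute x F.s ∧ IsConj z x}

/-- The members of the other class centralising the element of order five. -/
def Ts : Set G := {x : G | orderOf x = 2 ∧ Commute x F.s ∧ ¬ IsConj z x}

theorem order_two {x : G} (h : orderOf x = 2) : x * x = 1 ∧ x ≠ 1 := by
  refine ⟨by rw [← pow_two, ← h, pow_orderOf_eq_one], fun e => ?_⟩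
  rw [e, orderOf_one] at h
  norm_num at h

theorem fac_base [IsSimpleGroup G] (hG : ¬ IsMulCommutative G) {t : G} (ht : t ∈ C.liftsOf [1027]) :
    (Nat.card (centralizer ({t} : Set G))).factorization 5 = 1 := by
  have hN : Nat.card ↥(normalizer (C.V : Set G)) = 1771 * (138240 * 2048) := by
    rw [show normalizer (C.V : Set G) = normalizer ((C.sextet hG).A : Set G) from rfl, (C.sextet hG).card_normalizer]
    show 1771 * Nat.card ↥(normalizer (C.V : Set G) ⊓ centralizer ({z} : Set G)) = _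
    rw [← C.M_eq, C.M_card.1]
  have hd : Nat.card (centralizer ({t} : Set G)) ∣ 1771 * (138240 * 2048) :=
    hN ▸ Subgroup.card_dvd_of_le (C.centralizer_T hG (F.memT hG ht))
  have h5 : 5 ∣ Nat.card (centralizer ({t} : Set G)) := by
    rw [← F.s_order]
    exact Subgroup.orderOf_dvd_natCard _
      (mem_centralizer_singleton_iff.mpr (F.comm_of_lift F.six_fix (F.base_six ht)).symm.eq)
  have hp : Nat.Prime 5 := by norm_num
  have h1 := (Nat.Prime.dvd_iff_one_le_factorization hp Nat.card_pos.ne').mp h5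
  have h2 : (Nat.card (centralizer ({t} : Set G))).factorization 5 ≤ (1771 * (138240 * 2048) : ℕ).factorization 5 :=
    (Nat.factorization_le_iff_dvd Nat.card_pos.ne' (by norm_num)).mpr hd 5
  rw [show (1771 * (138240 * 2048) : ℕ) = 5 * (1771 * (27648 * 2048)) from rfl,
    Nat.factorization_mul (by norm_num) (by norm_num), Finsupp.add_apply,
    Nat.Prime.factorization_self hp,
    Nat.factorization_eq_zero_of_not_dvd (show ¬ 5 ∣ (1771 * (27648 * 2048) : ℕ) by norm_num)] at h2
  omega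

/-- The outer involutions of the centraliser. -/
def Os : Set G := {y : G | y ∈ centralizer ({z} : Set G) ∧ Commute y F.s ∧ y * y = 1 ∧ y ∉ C.E}

theorem Os_card : F.Os.ncard ≤ 24 := by
  classical
  let Ok : ℕ → Set G := fun k => {y | y * y = 1 ∧ ∃ e ∈ C.liftsOf fixB, y = formFive F.s F.h C.p e k 0 1}
  have hsub : F.Os ⊆ ⋃ k ∈ Finset.range 3, Ok k := by
    rintro y ⟨hy, hs, h2, hE⟩
    obtain ⟨e, he, k, hk, rfl⟩ := (F.invol_H hy hs h2).resolve_left hE
    simp only [Set.mem_iUnion]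
    exact ⟨k, Finset.mem_range.mpr hk, h2, e, he, rfl⟩
  refine (Set.ncard_le_ncard hsub (Set.toFinite _)).trans ((Finset.set_ncard_biUnion_le _ _).trans ?_)
  refine (Finset.sum_le_card_nsmul _ _ 8 fun k hk => ?_).trans (by simp)
  rcases (Ok k).eq_empty_or_nonempty with h | ⟨u, hu2, e, he, hu⟩
  · simp [h]
  have hlist : ∀ x ∈ fixB.filter (fun v => mv (actFix k 1) v == v), x < 4096 := fun x hx =>
    five_fix_facts.2.2.1 x (List.mem_filter.mp hx).1
  refine le_trans (Set.ncard_le_ncard (t := (fun a => a * u) '' C.liftsOf (fixB.filter fun v => mv (actFix k 1) v == v))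
    ?_ (Set.toFinite _)) ((Set.ncard_image_le (Set.toFinite _)).trans ?_)
  · rintro y ⟨hy2, e', he', hy⟩
    refine ⟨e' * e⁻¹, ⟨mul_mem he'.1 (inv_mem he.1), ?_⟩, ?_⟩
    · have haE : e' * e⁻¹ ∈ C.E := mul_mem he'.1 (inv_mem he.1)
      have has : Commute F.s (e' * e⁻¹) := ((F.comm_E he'.1).mpr he'.2).mul_right ((F.comm_E he.1).mpr he.2).inv_right
      have haf := (F.comm_E haE).mp has
      refine List.mem_filter.mpr ⟨haf, beq_iff_eq.mpr ?_⟩
      have hyu : y = e' * e⁻¹ * u := by rw [hy, hu, formFive, formFive]; group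
      have hconj : u * (e' * e⁻¹) * u⁻¹ = (e' * e⁻¹)⁻¹ := by
        refine eq_inv_of_mul_eq_one_right ?_
        rw [inv_eq_of_mul_eq_one_right hu2,
          show e' * e⁻¹ * (u * (e' * e⁻¹) * u) = e' * e⁻¹ * u * (e' * e⁻¹ * u) by group, ← hyu, hy2]
      have h := F.form_fix he.1 (q := e' * e⁻¹) ⟨haE, haf⟩ (Finset.mem_range.mp hk) (by norm_num : 0 < 5)
        (by norm_num : 1 < 2)
      rw [← hu, hconj, C.π_inv haE] at h
      exact h.symm
    · show e' * e⁻¹ * u = y
      rw [hy, hu, formFive, formFive]; group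
  · rw [C.lifts_ncard (five_fix_facts.1.filter _) hlist, five_outer.1 k (Finset.mem_range.mp hk)]

/-- The order of the normaliser and the members of the class of the involution. -/
theorem counts [IsSimpleGroup G] (hG : ¬ IsMulCommutative G) :
    Nat.card (normalizer (zpowers F.s : Set G)) = 26880 ∧ F.Zs = insert z (C.liftsOf pW5) := by
  classical
  haveI : Fact (Nat.Prime 5) := ⟨by norm_num⟩
  haveI : Fact (Nat.Prime 2) := ⟨Nat.prime_two⟩
  obtain ⟨t, ht⟩ := F.exists_base
  set Q := zpowers F.s with hQ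
  set N := normalizer (Q : Set G) with hN
  obtain ⟨o1, o2⟩ := F.base_cards hG ht
  have h6 := F.base_six ht
  have hts : Commute t F.s := F.comm_of_lift F.six_fix h6
  have ht2 : orderOf t = 2 := F.lift_order (Or.inr h6)
  have htT := F.six_not_conj hG h6
  have hle : ∀ {a : G}, Commute F.s a → Q ≤ centralizer ({a} : Set G) := fun h =>
    zpowers_le.mpr (mem_centralizer_singleton_iff.mpr h.eq)
  have hCN : centralizer (Q : Set G) ≤ N := LocalCount.centralizer_le_norm _
  have hcomm_mem : ∀ {x : G}, Commute x F.s → x ∈ N := fun h => hCN (mem_centralizer_zpowers.mpr h)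
  let zN : ↥N := ⟨z, hcomm_mem F.z_comm_s⟩
  let tN : ↥N := ⟨t, hcomm_mem hts⟩
  set Cn := (centralizer (Q : Set G)).subgroupOf N with hCn
  haveI : Cn.Normal := ⟨fun c hc n => by
    rw [hCn, mem_subgroupOf, mem_centralizer_zpowers] at hc ⊢
    exact F.norm_comm n.2 hc⟩
  have hin : ∀ {a : ↥N}, a ∈ Cn → orderOf (a : G) = 2 → ∀ {b : ↥N}, IsConj a b →
      orderOf (b : G) = 2 ∧ Commute (b : G) F.s ∧ IsConj (a : G) b := fun {a} ha h2 {b} hab => by
    obtain ⟨c, rfl⟩ := isConj_iff.mp hab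
    refine ⟨?_, mem_centralizer_zpowers.mp (mem_subgroupOf.mp (Normal.conj_mem inferInstance a ha c)),
      isConj_iff.mpr ⟨c, rfl⟩⟩
    show orderOf (MulAut.conj (c : G) a) = 2
    rw [MulEquiv.orderOf_eq, h2]
  have hzC : zN ∈ Cn := mem_subgroupOf.mpr (mem_centralizer_zpowers.mpr F.z_comm_s)
  have htC : tN ∈ Cn := mem_subgroupOf.mpr (mem_centralizer_zpowers.mpr hts)
  have hZiff : ∀ x : G, x ∈ F.Zs ↔ ∃ hx : x ∈ N, IsConj zN ⟨x, hx⟩ := by
    intro x
    constructor
    · rintro ⟨h2, hc, hz⟩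
      obtain ⟨n, hn, e⟩ := LocalCount.conj_in_norm F.card_s hz (hle F.z_comm_s.symm) (hle hc.symm) (C.fac_five hz)
      exact ⟨hcomm_mem hc, isConj_iff.mpr ⟨⟨n, hn⟩, Subtype.ext e⟩⟩
    · rintro ⟨hx, hc⟩
      exact hin hzC C.hz hc
  have hTiff : ∀ x : G, x ∈ F.Ts ↔ ∃ hx : x ∈ N, IsConj tN ⟨x, hx⟩ := by
    intro x
    constructor
    · rintro ⟨h2, hc, hz⟩
      obtain ⟨hx2, hx1⟩ := F.order_two h2
      obtain ⟨v, hv, hxv⟩ := C.to_V hG hx2
      have hv1 : v ≠ 1 := fun e => hx1 (isConj_one_left.mp (e ▸ hxv))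
      obtain ⟨m, -, hm⟩ := (C.sextet hG).transitive (F.memT hG ht)
        (⟨hv, hv1, fun h => hz (h.trans hxv.symm)⟩ : v ∈ (C.sextet hG).T)
      have hxt : IsConj x t := hxv.trans (isConj_iff.mpr ⟨m, hm⟩ : IsConj t v).symm
      obtain ⟨n, hn, e⟩ := LocalCount.conj_in_norm F.card_s hxt (hle hc.symm) (hle hts.symm) (F.fac_base hG ht)
      exact ⟨hcomm_mem hc, (isConj_iff.mpr ⟨⟨n, hn⟩, Subtype.ext e⟩ : IsConj ⟨x, hcomm_mem hc⟩ tN).symm⟩
    · rintro ⟨hx, hc⟩
      obtain ⟨h1, h2, h3⟩ := hin htC ht2 hc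
      exact ⟨h1, h2, fun h => htT (h.trans h3.symm)⟩
  have hzt : ¬ IsConj zN tN := fun h => htT (hin hzC C.hz h).2.2
  have hform := LocalCount.two_class_formula_in Cn (z := zN) (t := tN)
    (by rw [← Subgroup.orderOf_coe]; exact C.hz) (by rw [← Subgroup.orderOf_coe]; exact ht2) hzC htC hzt
    (fun x hx h2 => by
      rw [← Subgroup.orderOf_coe] at h2
      by_cases hc : IsConj z (x : G)
      · exact Or.inl ((hZiff _).mp ⟨h2, mem_centralizer_zpowers.mp hx, hc⟩).2
      · exact Or.inr ((hTiff _).mp ⟨h2, mem_centralizer_zpowers.mp hx, hc⟩).2)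
  have hcz : Nat.card (centralizer ({zN} : Set ↥N)) = 3840 := by
    rw [LocalCount.card_centralizer_coe]; exact F.cards.1
  have hct : Nat.card (centralizer ({tN} : Set ↥N)) = 320 := by
    rw [LocalCount.card_centralizer_coe]; exact o1
  have hWZ : ∀ x ∈ C.liftsOf pW5, x ∈ F.Zs := fun x hx =>
    ⟨F.lift_order (Or.inl hx), F.comm_of_lift F.pW_fix hx, F.pW_conj hG hx⟩
  have hsix : ∀ x ∈ C.liftsOf six5, x ∈ F.Ts := fun x hx =>
    ⟨F.lift_order (Or.inr hx), F.comm_of_lift F.six_fix hx, F.six_not_conj hG hx⟩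
  have hzZ : z ∈ F.Zs := ⟨C.hz, F.z_comm_s, IsConj.refl z⟩
  have hZE : ∀ x ∈ F.Zs, x ∈ C.E → x = z ∨ x ∈ C.liftsOf pW5 := fun x hx hE => by
    obtain ⟨h2, h1⟩ := F.order_two hx.1
    rcases F.E_invol hE hx.2.1 h2 with r | r | r | r
    exacts [absurd r h1, Or.inl r, Or.inr r, absurd hx.2.2 (F.six_not_conj hG r)]
  have hTE : ∀ x ∈ F.Ts, x ∈ C.E → x ∈ C.liftsOf six5 := fun x hx hE => by
    obtain ⟨h2, h1⟩ := F.order_two hx.1
    rcases F.E_invol hE hx.2.1 h2 with r | r | r | r
    exacts [absurd r h1, absurd (r ▸ IsConj.refl z) hx.2.2, absurd (F.pW_conj hG r) hx.2.2, r]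
  obtain ⟨pl1, pl2, pl3, pl4, -⟩ := five_plane
  have hz0 : C.π z = 0 := (C.π_zero z C.X.mem).mpr (Or.inr rfl)
  -- the members of the first class centralising the base element
  have hXt : {x : G | x ∈ F.Zs ∧ Commute x t} = insert z (C.liftsOf [2050]) := by
    ext x
    constructor
    · rintro ⟨hx, hxt⟩
      have hxE := F.base_invol hG ht hx.2.1 hxt (F.order_two hx.1).1
      rcases hZE x hx hxE with r | r
      · exact Or.inl r
      · refine Or.inr ⟨hxE, ?_⟩
        rw [← pl2]
        refine List.mem_filter.mpr ⟨r.2, ?_⟩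
        have h := (C.π_comm x hxE t ht.1).mp hxt
        rw [List.mem_singleton.mp ht.2] at h
        simp [h]
    · rintro (rfl | hx)
      · exact ⟨hzZ, (C.z_comm (C.le ht.1)).symm⟩
      · have hm : 2050 ∈ pW5.filter fun w => !pB w 1027 := by rw [pl2]; simp
        obtain ⟨h1, h2⟩ := List.mem_filter.mp hm
        have e := List.mem_singleton.mp hx.2
        exact ⟨hWZ x ⟨hx.1, e ▸ h1⟩, (C.π_comm x hx.1 t ht.1).mpr (by
          rw [e, List.mem_singleton.mp ht.2]; simpa using h2)⟩
  have hznot : ∀ l : List ℕ, 0 ∉ l → z ∉ C.liftsOf l := fun l h hm => h (hz0 ▸ hm.2)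
  have hXc : {x : G | x ∈ F.Zs ∧ Commute x t}.ncard = 3 := by
    rw [hXt, Set.ncard_insert_of_notMem (hznot _ (by simp)), C.lifts_ncard (List.nodup_singleton _) (by simp)]
    rfl
  have heven : ∀ {x y : G}, x ∈ F.Zs → y ∈ F.Ts → Even (orderOf (x * y)) := fun {x y} hx hy =>
    even_of_not_conj hx.1 hy.1 fun h => hy.2.2 (hx.2.2.trans h)
  -- pairs over the base element
  have hAt : {p : G × G | p.1 ∈ F.Zs ∧ p.2 ∈ F.Ts ∧ pairInvol p.1 p.2 = t}.ncard = 3 := by
    rw [← hXc, ← Set.ncard_image_of_injective {x : G | x ∈ F.Zs ∧ Commute x t}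
      (f := fun x => (x, x * t)) (fun a b e => congrArg Prod.fst e)]
    congr 1
    ext ⟨x, y⟩
    constructor
    · rintro ⟨hx, hy, e⟩
      simp only at hx hy e
      obtain ⟨-, c1, c2⟩ := Cfsg.Lib.InvolCalc.central_spec hx.1 hy.1 (heven hx hy)
      rw [show (x * y) ^ (orderOf (x * y) / 2) = t from e] at c1 c2
      obtain ⟨hx2, -⟩ := F.order_two hx.1
      obtain ⟨hy2, -⟩ := F.order_two hy.1
      have hxE := F.base_invol hG ht hx.2.1 c1.symm hx2
      have hyE := F.base_invol hG ht hy.2.1 c2.symm hy2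
      have hne : x * y ≠ 1 := fun h => hy.2.2 (by
        rw [show y = x by rw [← inv_eq_of_mul_eq_one_right h, inv_eq_of_mul_eq_one_right hx2]]; exact hx.2.2)
      have hxy : x * y * x⁻¹ = y ∨ x * y * x⁻¹ = z * y := by
        rw [C.conjB hxE hyE]; split
        · exact Or.inr rfl
        · exact Or.inl (one_mul _)
      rcases hxy with h | h
      · refine ⟨x, ⟨hx, c1.symm⟩, Prod.ext rfl ?_⟩
        rw [LocalCount.pairInvol_two (by
          rw [show x * y * (x * y) = x * y * x⁻¹ * (x * x) * y by group, h, hx2, mul_one, hy2]) hne] at e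
        show x * t = y
        rw [← e, ← mul_assoc, hx2, one_mul]
      · exfalso
        rw [LocalCount.pairInvol_four C.X.zz C.X.ne (by
          rw [show x * y * (x * y) = x * y * x⁻¹ * (x * x) * y by group, h, hx2, mul_one, mul_assoc, hy2, mul_one])]
          at e
        exact htT (e ▸ IsConj.refl z)
    · rintro ⟨w, ⟨hw, hwt⟩, e⟩
      simp only [Prod.mk.injEq] at e
      obtain ⟨rfl, rfl⟩ := e
      obtain ⟨hw2, -⟩ := F.order_two hw.1
      have hwE := F.base_invol hG ht hw.2.1 hwt hw2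
      have hmem : w * t ∈ C.liftsOf six5 := by
        refine ⟨mul_mem hwE ht.1, ?_⟩
        rw [C.π_mul w hwE t ht.1, List.mem_singleton.mp ht.2]
        have hm : w ∈ insert z (C.liftsOf [2050]) := hXt ▸ ⟨hw, hwt⟩
        rcases hm with r | r
        · rw [r, hz0, Nat.zero_xor]; decide
        · rw [List.mem_singleton.mp r.2, Nat.xor_comm]; exact pl3
      refine ⟨hw, hsix _ hmem, ?_⟩
      show pairInvol w (w * t) = t
      have he : w * (w * t) = t := by rw [← mul_assoc, hw2, one_mul]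
      rw [LocalCount.pairInvol_two (by rw [he, (F.order_two ht2).1]) (by rw [he]; exact (F.order_two ht2).2), he]
  -- the members of the second class commuting with the involution
  set Y := {y : G | y ∈ F.Ts ∧ Commute z y} with hY
  have hY36 : Y.ncard = 36 := by
    have h := LocalCount.commuting_pairs zN tN
    have h1 : {x : ↥N | IsConj zN x ∧ Commute x tN}.ncard = 3 := by
      rw [← hXc, ← Set.ncard_image_of_injective _ Subtype.val_injective]
      congr 1
      ext x
      constructor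
      · rintro ⟨x, ⟨hx1, hx2⟩, rfl⟩
        exact ⟨(hZiff _).mpr ⟨x.2, hx1⟩, (congrArg Subtype.val hx2.eq :)⟩
      · rintro ⟨hx1, hx2⟩
        obtain ⟨hx, hc⟩ := (hZiff _).mp hx1
        exact ⟨⟨x, hx⟩, ⟨hc, Subtype.ext hx2.eq⟩, rfl⟩
    have h2 : {y : ↥N | IsConj tN y ∧ Commute zN y}.ncard = Y.ncard := by
      rw [← Set.ncard_image_of_injective _ Subtype.val_injective]
      congr 1
      ext y
      constructor
      · rintro ⟨y, ⟨hy1, hy2⟩, rfl⟩
        exact ⟨(hTiff _).mpr ⟨y.2, hy1⟩, (congrArg Subtype.val hy2.eq :)⟩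
      · rintro ⟨hy1, hy2⟩
        obtain ⟨hy, hc⟩ := (hTiff _).mp hy1
        exact ⟨⟨y, hy⟩, ⟨hc, Subtype.ext hy2.eq⟩, rfl⟩
    rw [h1, h2, hct, hcz] at h
    omega
  have hYsub : Y ⊆ C.liftsOf six5 ∪ F.Os := by
    rintro y ⟨hy, hc⟩
    by_cases hE : y ∈ C.E
    · exact Or.inl (hTE y hy hE)
    · exact Or.inr ⟨mem_centralizer_singleton_iff.mpr hc.symm.eq, hy.2.1, (F.order_two hy.1).1, hE⟩
  have hYeq : Y = C.liftsOf six5 ∪ F.Os := by
    refine Set.eq_of_subset_of_ncard_le hYsub ?_ (Set.toFinite _)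
    refine (Set.ncard_union_le _ _).trans ?_
    rw [C.lifts_ncard five_lists.2.1 fun x hx => (five_lists.2.2.2.2.1 x hx).2.1, hY36]
    have := F.Os_card
    show 2 * 6 + _ ≤ 36
    omega
  have hZz : ∀ x ∈ F.Zs, Commute z x → x = z ∨ x ∈ C.liftsOf pW5 := fun x hx hc => hZE x hx (by
    by_contra hE
    have hxY : x ∈ Y := hYeq ▸ Or.inr ⟨mem_centralizer_singleton_iff.mpr hc.symm.eq, hx.2.1,
      (F.order_two hx.1).1, hE⟩
    exact hxY.1.2.2 hx.2.2)
  -- pairs over the involution
  have hAz : {p : G × G | p.1 ∈ F.Zs ∧ p.2 ∈ F.Ts ∧ pairInvol p.1 p.2 = z}.ncard = 48 := by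
    have hval : ∀ x ∈ C.liftsOf pW5, ∀ y ∈ C.liftsOf six5,
        pairInvol x y = z ↔ pB (C.π x) (C.π y) = true := by
      intro x hx y hy
      obtain ⟨hx2, -⟩ := F.order_two (F.lift_order (Or.inl hx))
      obtain ⟨hy2, -⟩ := F.order_two (F.lift_order (Or.inr hy))
      have h := C.conjB hx.1 hy.1
      rw [inv_eq_of_mul_eq_one_right hx2] at h
      have hπne : C.π x ≠ C.π y := fun e => by
        have h0 := (five_lists.2.2.2.1 _ hx.2).2.2.2.2
        rw [e, (five_lists.2.2.2.2.1 _ hy.2).2.2.2.2] at h0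
        norm_num at h0
      cases hb : pB (C.π x) (C.π y)
      · simp only [Bool.false_eq_true, iff_false]
        intro e
        rw [hb, if_neg Bool.false_ne_true, one_mul] at h
        have hsq : x * y * (x * y) = 1 := by
          rw [show x * y * (x * y) = x * y * x * y by group, h, hy2]
        rw [LocalCount.pairInvol_two hsq fun h1 => hπne (by
          rw [show y = x⁻¹ from eq_inv_of_mul_eq_one_right h1, C.π_inv hx.1])] at e
        exact hπne (Nat.xor_eq_zero_iff.mp (by rw [← C.π_mul x hx.1 y hy.1, e, hz0]))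
      · simp only [iff_true]
        rw [hb, if_pos rfl] at h
        exact LocalCount.pairInvol_four C.X.zz C.X.ne (by
          rw [show x * y * (x * y) = x * y * x * y by group, h, mul_assoc, hy2, mul_one])
    have hset : {p : G × G | p.1 ∈ F.Zs ∧ p.2 ∈ F.Ts ∧ pairInvol p.1 p.2 = z} =
        {p : G × G | p.1 ∈ C.liftsOf pW5 ∧ p.2 ∈ C.liftsOf six5 ∧ pB (C.π p.1) (C.π p.2) = true} := by
      ext ⟨x, y⟩
      constructor
      · rintro ⟨hx, hy, e⟩
        simp only at hx hy e
        obtain ⟨-, c1, c2⟩ := Cfsg.Lib.InvolCalc.central_spec hx.1 hy.1 (heven hx hy)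
        rw [show (x * y) ^ (orderOf (x * y) / 2) = z from e] at c1 c2
        obtain ⟨hy2, hy1⟩ := F.order_two hy.1
        obtain ⟨hx2, -⟩ := F.order_two hx.1
        rcases hZz x hx c1 with r | r
        · exfalso
          rw [r, LocalCount.pairInvol_two (by
              rw [show z * y * (z * y) = z * (y * z) * y by group, ← c2.eq, ← mul_assoc, C.X.zz, one_mul, hy2])
            (fun h => hy.2.2 (by rw [← inv_eq_of_mul_eq_one_right h, inv_eq_of_mul_eq_one_right C.X.zz]))] at e
          exact hy1 (mul_eq_left.mp e)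
        have hyY : y ∈ Y := ⟨hy, c2⟩
        rcases hYeq ▸ hyY with q | q
        · exact ⟨r, q, (hval x r y q).mp e⟩
        exfalso
        obtain ⟨e', he', k, hk, hyf⟩ := (F.invol_H q.1 q.2.1 q.2.2.1).resolve_left q.2.2.2
        have hπy : ∀ a ∈ C.liftsOf fixB, C.π (y * a * y⁻¹) = mv (actFix k 1) (C.π a) := fun a ha => by
          rw [hyf]; exact F.form_fix he'.1 ha hk (by norm_num) (by norm_num)
        have hyi : y⁻¹ = y := inv_eq_of_mul_eq_one_right hy2
        set x' := y * x * y⁻¹ with hx'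
        have hx'E : x' ∈ C.E := C.conj_mem q.1 r.1
        have hx'W : x' ∈ C.liftsOf pW5 := by
          have hx'Z : x' ∈ F.Zs := ⟨by
            rw [hx', show y * x * y⁻¹ = MulAut.conj y x from rfl, MulEquiv.orderOf_eq, hx.1],
            (q.2.1.mul_left hx.2.1).mul_left q.2.1.inv_left, hx.2.2.trans (isConj_iff.mpr ⟨y, rfl⟩)⟩
          refine (hZE x' hx'Z hx'E).resolve_left fun h => ?_
          have hxz : x = z := by
            rw [show x = y⁻¹ * x' * y by rw [hx']; group, h, mul_assoc, c2.eq, inv_mul_cancel_left]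
          exact hznot pW5 (by decide) (hxz ▸ r)
        have hsq : x * y * (x * y) = x * x' := by rw [hx', hyi]; group
        by_cases hv : mv (actFix k 1) (C.π x) = C.π x
        · rcases C.π_eq hx'E r.1 ((hπy x ⟨r.1, F.pW_fix _ r.2⟩).trans hv) with h | h
          · -- commuting
            rw [LocalCount.pairInvol_two (by rw [hsq, h, hx2]) fun h1 => hy.2.2 (by
              rw [show y = x⁻¹ from eq_inv_of_mul_eq_one_right h1, inv_eq_of_mul_eq_one_right hx2]; exact hx.2.2)] at e
            exact q.2.2.2 (by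
              rw [show y = x⁻¹ * z by rw [← e, inv_mul_cancel_left]]; exact mul_mem (inv_mem r.1) C.X.mem)
          · obtain ⟨a, ha, hva, hab⟩ := five_outer.2 k hk _ r.2 hv
            have ha6 := (five_lists.2.2.2.2.2.2 a ha).2
            obtain ⟨a', ha', e1⟩ := C.π_surj a (five_lists.2.2.2.2.1 a ha6).2.1
            have haf : a' ∈ C.liftsOf fixB := ⟨ha', e1 ▸ F.six_fix a ha6⟩
            set b' := y * a' * y⁻¹ with hb'
            have hbE : b' ∈ C.E := C.conj_mem q.1 ha'
            have hbπ : C.π b' = mv (actFix k 1) a := by rw [← e1]; exact hπy a' haf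
            have hc : Commute a' b' := (C.π_comm a' ha' b' hbE).mpr (by rw [e1, hbπ]; exact hab)
            have hfix : y * (a' * b') * y⁻¹ = a' * b' := by
              rw [show y * (a' * b') * y⁻¹ = b' * ((y * y) * a' * (y * y)⁻¹) by rw [hb']; group, hy2, one_mul, inv_one,
                mul_one, hc.eq]
            have hzfix : y * z * y⁻¹ = z := by rw [← c2.eq, mul_inv_cancel_right]
            have hxfix : x' = x := by
              rcases C.π_eq r.1 (mul_mem ha' hbE) (by rw [C.π_mul a' ha' b' hbE, e1, hbπ]; exact hva) with u | u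
              · rw [hx', u, hfix]
              · rw [hx', u, show y * (z * (a' * b')) * y⁻¹ = y * z * y⁻¹ * (y * (a' * b') * y⁻¹) by group, hzfix, hfix]
            exact C.X.ne (mul_eq_right.mp (h.symm.trans hxfix))
        · have hne : C.π (x * x') ≠ 0 := fun h => hv (by
            rw [C.π_mul x r.1 x' hx'E, Nat.xor_eq_zero_iff] at h
            rw [← hπy x ⟨r.1, F.pW_fix _ r.2⟩, ← hx', ← h])
          have hcm : Commute x x' := (C.π_comm x r.1 x' hx'E).mpr (pl1 _ r.2 _ hx'W.2)
          obtain ⟨hx'2, -⟩ := F.order_two (F.lift_order (Or.inl hx'W))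
          rw [LocalCount.pairInvol_four (by
              rw [hcm.symm.mul_mul_mul_comm, hx2, hx'2, one_mul])
            (fun h => hne (by rw [h, C.π_one])) hsq] at e
          exact hne (e ▸ hz0)
      · rintro ⟨hx, hy, hb⟩
        exact ⟨hWZ x hx, hsix y hy, (hval x hx y hy).mpr hb⟩
    rw [hset, ← Nat.card_coe_set_eq]
    let e : ↥{p : G × G | p.1 ∈ C.liftsOf pW5 ∧ p.2 ∈ C.liftsOf six5 ∧ pB (C.π p.1) (C.π p.2) = true} ≃
        Σ x : ↥(C.liftsOf pW5), ↥(C.liftsOf (six5.filter fun w => pB (C.π (x : G)) w)) :=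
      { toFun := fun p => ⟨⟨p.1.1, p.2.1⟩, ⟨p.1.2, p.2.2.1.1, List.mem_filter.mpr ⟨p.2.2.1.2, p.2.2.2⟩⟩⟩
        invFun := fun s => ⟨(s.1.1, s.2.1), s.1.2, ⟨s.2.2.1, (List.mem_filter.mp s.2.2.2).1⟩,
          (List.mem_filter.mp s.2.2.2).2⟩
        left_inv := fun _ => rfl
        right_inv := fun _ => rfl }
    haveI : Fintype ↥(C.liftsOf pW5) := Fintype.ofFinite _
    rw [Nat.card_congr e, Nat.card_sigma, Finset.sum_eq_card_nsmul (b := 8) fun x _ => ?_, Finset.card_univ,
      ← Nat.card_eq_fintype_card, Nat.card_coe_set_eq,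
      C.lifts_ncard five_lists.1 fun x hx => (five_lists.2.2.2.1 x hx).2.1]
    · rfl
    · rw [Nat.card_coe_set_eq, C.lifts_ncard (five_lists.2.1.filter _)
        (fun y hy => (five_lists.2.2.2.2.1 y (List.mem_filter.mp hy).1).2.1), pl4 _ x.2.2]
  rw [LocalCount.pairSet_coe N zN tN zN hZiff hTiff, LocalCount.pairSet_coe N zN tN tN hZiff hTiff, hcz, hct,
    show {p : G × G | p.1 ∈ F.Zs ∧ p.2 ∈ F.Ts ∧ pairInvol p.1 p.2 = (zN : G)}.ncard = 48 from hAz,
    show {p : G × G | p.1 ∈ F.Zs ∧ p.2 ∈ F.Ts ∧ pairInvol p.1 p.2 = (tN : G)}.ncard = 3 from hAt] at hform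
  refine ⟨hform, ?_⟩
  symm
  refine Set.eq_of_subset_of_ncard_le ?_ ?_ (Set.toFinite _)
  · rintro x (rfl | hx)
    exacts [hzZ, hWZ x hx]
  · have hcl := card_class_mul zN
    rw [hcz, hform] at hcl
    have h : Nat.card {x // IsConj zN x} = F.Zs.ncard := by
      rw [← Nat.card_coe_set_eq]
      exact Nat.card_congr
        { toFun := fun x => ⟨x.1.1, (hZiff _).mpr ⟨x.1.2, x.2⟩⟩
          invFun := fun x => ⟨⟨x.1, ((hZiff _).mp x.2).1⟩, ((hZiff _).mp x.2).2⟩
          left_inv := fun _ => rfl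
          right_inv := fun _ => rfl }
    rw [h] at hcl
    rw [Set.ncard_insert_of_notMem (hznot _ (by decide)),
      C.lifts_ncard five_lists.1 fun x hx => (five_lists.2.2.2.1 x hx).2.1]
    show _ ≤ 2 * 3 + 1
    omega

end Five

end Ctx

end Cfsg.Lib.JankoFour
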