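import Cfsg.Agent.JankoFour.LocalCount

/-!
Fusion in the normaliser of a subgroup of prime order, and small calculations with pairs of involutions.
-/

set_option autoImplicit false
set_option linter.unusedSectionVars false
set_option linter.style.haveILetI false

namespace Cfsg.Lib.JankoFour.LocalCount

open Subgroup
open Cfsg.Lib.HallJankoType

universe u

variable {G : Type u} [Group G] [Finite G]

/-- The centraliser of a subgroup under conjugation. -/
theorem map_centralizer_conj (g : G) (Q : Subgroup G) :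
    centralizer ((Q.map (MulAut.conj g).toMonoidHom : Subgroup G) : Set G) =
      (centralizer (Q : Set G)).map (MulAut.conj g).toMonoidHom := by
  refine SetLike.ext fun x => ⟨fun hx => mem_map.mpr ⟨g⁻¹ * x * g, ?_, by simp [mul_assoc]⟩, ?_⟩
  · refine mem_centralizer_iff.mpr fun y hy => (MulAut.conj g).injective ?_
    have h := mem_centralizer_iff.mp hx _ ⟨y, hy, rfl⟩
    rw [map_mul (MulAut.conj g) y, map_mul (MulAut.conj g) _ y,
      show (MulAut.conj g) (g⁻¹ * x * g) = x by simp [mul_assoc]]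
    exact h
  · rintro ⟨d, hd, rfl⟩
    refine mem_centralizer_iff.mpr ?_
    rintro _ ⟨y, hy, rfl⟩
    rw [← map_mul, ← map_mul, mem_centralizer_iff.mp hd y hy]

/-- The centraliser of an element under conjugation. -/
theorem map_centralizer_elem (g a : G) :
    centralizer ({g * a * g⁻¹} : Set G) = (centralizer ({a} : Set G)).map (MulAut.conj g).toMonoidHom := by
  refine SetLike.ext fun x => ⟨fun hx => mem_map.mpr ⟨g⁻¹ * x * g, ?_, by simp [mul_assoc]⟩, ?_⟩
  · refine mem_centralizer_singleton_iff.mpr ?_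
    have h := mem_centralizer_singleton_iff.mp hx
    calc g⁻¹ * x * g * a = g⁻¹ * (x * (g * a * g⁻¹)) * g := by group
      _ = g⁻¹ * (g * a * g⁻¹ * x) * g := by rw [h]
      _ = _ := by group
  · rintro ⟨d, hd, rfl⟩
    refine mem_centralizer_singleton_iff.mpr ?_
    show g * d * g⁻¹ * (g * a * g⁻¹) = g * a * g⁻¹ * (g * d * g⁻¹)
    rw [show g * d * g⁻¹ * (g * a * g⁻¹) = g * (d * a) * g⁻¹ by group, mem_centralizer_singleton_iff.mp hd]
    group

/-- Local subgroups of an element and a subgroup under conjugation. -/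
theorem card_local_elem (g a : G) (Q : Subgroup G) :
    Nat.card ↥(centralizer ({g * a * g⁻¹} : Set G) ⊓
        normalizer ((Q.map (MulAut.conj g).toMonoidHom : Subgroup G) : Set G)) =
      Nat.card ↥(centralizer ({a} : Set G) ⊓ normalizer (Q : Set G)) ∧
    Nat.card ↥(centralizer ({g * a * g⁻¹} : Set G) ⊓
        centralizer ((Q.map (MulAut.conj g).toMonoidHom : Subgroup G) : Set G)) =
      Nat.card ↥(centralizer ({a} : Set G) ⊓ centralizer (Q : Set G)) := by
  refine ⟨?_, ?_⟩
  · rw [map_centralizer_elem, ← map_equiv_normalizer_eq, ← map_inf _ _ _ (MulAut.conj g).injective]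
    exact card_map_of_injective (MulAut.conj g).injective
  · rw [map_centralizer_elem, map_centralizer_conj, ← map_inf _ _ _ (MulAut.conj g).injective]
    exact card_map_of_injective (MulAut.conj g).injective

/-- Conjugate elements centralising a subgroup of prime order dividing the centraliser once are conjugate in its
normaliser. -/
theorem conj_in_norm {a b : G} {Q : Subgroup G} {q : ℕ} [Fact q.Prime] (hQ : Nat.card Q = q) (hab : IsConj a b)
    (ha : Q ≤ centralizer ({a} : Set G)) (hb : Q ≤ centralizer ({b} : Set G))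
    (hfac : (Nat.card (centralizer ({b} : Set G))).factorization q = 1) :
    ∃ n ∈ normalizer (Q : Set G), n * a * n⁻¹ = b := by
  obtain ⟨g, rfl⟩ := isConj_iff.mp hab
  have hQ' : Q.map (MulAut.conj g).toMonoidHom ≤ centralizer ({g * a * g⁻¹} : Set G) := by
    rw [map_centralizer_elem]; exact map_mono ha
  set H := centralizer ({g * a * g⁻¹} : Set G) with hH
  let P1 : Sylow q ↥H := Sylow.ofCard (Q.subgroupOf H) (by
    rw [Nat.card_congr (subgroupOfEquivOfLe hb).toEquiv, hQ, hfac, pow_one])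
  let P2 : Sylow q ↥H := Sylow.ofCard ((Q.map (MulAut.conj g).toMonoidHom).subgroupOf H) (by
    rw [Nat.card_congr (subgroupOfEquivOfLe hQ').toEquiv, card_map_of_injective (MulAut.conj g).injective, hQ, hfac,
      pow_one])
  obtain ⟨⟨h, hh⟩, hP⟩ := MulAction.exists_smul_eq ↥H P2 P1
  refine ⟨h * g, mem_normalizer_fintype fun x hx => ?_, ?_⟩
  · have h1 : (⟨h, hh⟩ * ⟨g * x * g⁻¹, hQ' ⟨x, hx, rfl⟩⟩ * (⟨h, hh⟩ : ↥H)⁻¹) ∈
        (((⟨h, hh⟩ : ↥H) • P2 : Sylow q ↥H) : Subgroup ↥H) := by
      rw [Sylow.coe_subgroup_smul]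
      exact ⟨⟨g * x * g⁻¹, hQ' ⟨x, hx, rfl⟩⟩, ⟨x, hx, rfl⟩, rfl⟩
    rw [hP] at h1
    have h2 : h * (g * x * g⁻¹) * h⁻¹ ∈ Q := h1
    rwa [show h * g * x * (h * g)⁻¹ = h * (g * x * g⁻¹) * h⁻¹ by group]
  · rw [show h * g * a * (h * g)⁻¹ = h * (g * a * g⁻¹) * h⁻¹ by group, mem_centralizer_singleton_iff.mp hh,
      mul_inv_cancel_right]

/-- The centraliser of an element inside a subgroup. -/
theorem card_centralizer_coe (N : Subgroup G) (a : ↥N) :
    Nat.card (centralizer ({a} : Set ↥N)) = Nat.card ↥(centralizer ({(a : G)} : Set G) ⊓ N) :=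
  Nat.card_congr
    { toFun := fun x => ⟨x.1.1, mem_centralizer_singleton_iff.mpr
        (congrArg Subtype.val (mem_centralizer_singleton_iff.mp x.2)), x.1.2⟩
      invFun := fun x => ⟨⟨x.1, x.2.2⟩, mem_centralizer_singleton_iff.mpr
        (Subtype.ext (mem_centralizer_singleton_iff.mp x.2.1))⟩
      left_inv := fun _ => rfl
      right_inv := fun _ => rfl }

/-- The central involution of a pair inside a subgroup. -/
theorem pairInvol_coe (N : Subgroup G) (x y : ↥N) : ((pairInvol x y : ↥N) : G) = pairInvol (x : G) y := by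
  rw [pairInvol, pairInvol, SubgroupClass.coe_pow, ← Subgroup.orderOf_coe]
  rfl

/-- Pairs in a subgroup as pairs in the group. -/
theorem pairSet_coe (N : Subgroup G) (a b u : ↥N) {A B : Set G}
    (hA : ∀ x : G, x ∈ A ↔ ∃ hx : x ∈ N, IsConj a ⟨x, hx⟩) (hB : ∀ x : G, x ∈ B ↔ ∃ hx : x ∈ N, IsConj b ⟨x, hx⟩) :
    Nat.card (PairSet a b u) = {p : G × G | p.1 ∈ A ∧ p.2 ∈ B ∧ pairInvol p.1 p.2 = u}.ncard := by
  rw [← Nat.card_coe_set_eq]
  refine Nat.card_congr
    { toFun := fun p => ⟨(p.1.1, p.1.2), (hA _).mpr ⟨p.1.1.2, p.2.1⟩, (hB _).mpr ⟨p.1.2.2, p.2.2.1⟩, by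
        rw [← pairInvol_coe, p.2.2.2]⟩
      invFun := fun p => ⟨(⟨p.1.1, ((hA _).mp p.2.1).1⟩, ⟨p.1.2, ((hB _).mp p.2.2.1).1⟩),
        ((hA _).mp p.2.1).2, ((hB _).mp p.2.2.1).2, Subtype.ext (by rw [pairInvol_coe]; exact p.2.2.2)⟩
      left_inv := fun _ => rfl
      right_inv := fun _ => rfl }

/-- The central involution of a commuting pair. -/
theorem pairInvol_two {x y : G} (h : (x * y) * (x * y) = 1) (h1 : x * y ≠ 1) : pairInvol x y = x * y := by
  haveI : Fact (Nat.Prime 2) := ⟨Nat.prime_two⟩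
  rw [pairInvol, orderOf_eq_prime (by rw [pow_two, h]) h1]
  exact pow_one _

/-- The central involution of a pair with product of order four. -/
theorem pairInvol_four {x y u : G} (hu : u * u = 1) (hu1 : u ≠ 1) (h : (x * y) * (x * y) = u) :
    pairInvol x y = u := by
  haveI : Fact (Nat.Prime 2) := ⟨Nat.prime_two⟩
  have h2 : (x * y) ^ 2 = u := by rw [pow_two, h]
  have ho : orderOf (x * y) = 2 ^ (1 + 1) :=
    orderOf_eq_prime_pow (by rwa [pow_one, h2]) (by rw [show 2 ^ (1 + 1) = 2 * 2 from rfl, pow_mul, h2, pow_two, hu])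
  rw [pairInvol, ho]
  exact h2

/-- The central involution of a pair whose product is an involution times a commuting element of order dividing
three. -/
theorem pairInvol_six {x y u w : G} (hu : u * u = 1) (hu1 : u ≠ 1) (hc : Commute u w) (hw : w * w * w = 1)
    (h : x * y = u * w) : pairInvol x y = u := by
  haveI : Fact (Nat.Prime 2) := ⟨Nat.prime_two⟩
  haveI : Fact (Nat.Prime 3) := ⟨Nat.prime_three⟩
  have hu2 : orderOf u = 2 := orderOf_eq_prime (by rw [pow_two, hu]) hu1
  by_cases hw1 : w = 1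
  · rw [hw1, mul_one] at h
    rw [pairInvol_two (by rw [h, hu]) (by rw [h]; exact hu1), h]
  have hw3 : orderOf w = 3 := orderOf_eq_prime (by rw [pow_succ, pow_two, hw]) hw1
  rw [pairInvol, h, hc.orderOf_mul_eq_mul_orderOf_of_coprime (by rw [hu2, hw3]; decide), hu2, hw3,
    show 2 * 3 / 2 = 3 from rfl, hc.mul_pow, pow_succ w, pow_two w, hw, mul_one, pow_succ, pow_two, hu, one_mul]

/-- An involutive map of a set of three elements fixes one of them. -/
theorem exists_fixed_of_three {α : Type*} {A : Set α} (hA : A.ncard = 3) {f : α → α} (hf : ∀ a ∈ A, f a ∈ A)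
    (hff : ∀ a ∈ A, f (f a) = a) : ∃ a ∈ A, f a = a := by
  obtain ⟨a, b, c, hab, hac, hbc, rfl⟩ := Set.ncard_eq_three.mp hA
  simp only [Set.mem_insert_iff, Set.mem_singleton_iff, forall_eq_or_imp, forall_eq] at hf hff
  by_contra h
  simp only [Set.mem_insert_iff, Set.mem_singleton_iff, exists_eq_or_imp, exists_eq_left, not_or] at h
  obtain ⟨ha, hb, hc⟩ := h
  obtain ⟨fa, fb, fc⟩ := hf
  obtain ⟨ga, gb, gc⟩ := hff
  rcases fa with e | e | e <;> rcases fb with e' | e' | e' <;> rcases fc with e'' | e'' | e'' <;>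
    simp_all

end Cfsg.Lib.JankoFour.LocalCount
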