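import Cfsg.Agent.JankoFour.SevenInner
import Cfsg.Agent.JankoFour.Classify
import Cfsg.Agent.JankoFour.LocalFusion
import Cfsg.Agent.JankoFour.FiveAut
import Cfsg.Agent.JankoFour.FiveChecks

/-!
Subgroups of order five of the centraliser of the involution.
-/

set_option autoImplicit false
set_option maxRecDepth 100000
set_option maxHeartbeats 1000000
set_option linter.style.haveILetI false
set_option linter.unusedSectionVars false

namespace Cfsg.Lib.JankoFour

open Subgroup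
open Data (fixB)

universe u

variable {G : Type u} [Group G] [Finite G]

/-- The element in normal form. -/
def formFive (s h p e : G) (k i j : ℕ) : G := e * p ^ k * s ^ i * h ^ j

namespace Ctx

variable {z : G} {P : Subgroup G} (C : Ctx z P)

/-- An element of order five and an outer element commuting with it. -/
structure Five where
  s : G
  h : G
  sH : s ∈ centralizer ({z} : Set G)
  hH : h ∈ centralizer ({z} : Set G)
  s_order : orderOf s = 5
  sp : Commute s C.p
  hs : Commute h s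
  rep_s : RepBy C.E C.π s Data.B
  rep_h : RepBy C.E C.π h mFive

variable {C}

theorem fix_iff {x : ℕ} (hx : x < 4096) : mv Data.B x = x ↔ x ∈ fixB := by
  have h := five_scan
  simp only [List.all_eq_true, List.mem_range, beq_iff_eq] at h
  rw [← beq_iff_eq (a := mv Data.B x), h x hx, List.contains_iff_mem]

/-- The elements of the extraspecial group commuting with an element of order five. -/
theorem comm_fix {s : G} (hsH : s ∈ centralizer ({z} : Set G)) (h5 : s ^ 5 = 1) (hr : RepBy C.E C.π s Data.B) {e : G}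
    (he : e ∈ C.E) : Commute s e ↔ C.π e ∈ fixB := by
  rw [← fix_iff (C.π_lt e), ← hr e he]
  refine ⟨fun h => by rw [h.eq, mul_inv_cancel_right], fun h => ?_⟩
  rcases C.π_eq (C.conj_mem hsH he) he h with e1 | e1
  · exact mul_inv_eq_iff_eq_mul.mp e1
  · exfalso
    have hpow : ∀ n : ℕ, s ^ n * e * (s ^ n)⁻¹ = z ^ n * e := fun n => by
      induction n with
      | zero => simp
      | succ n ih =>
        rw [pow_succ', show s * s ^ n * e * (s * s ^ n)⁻¹ = s * (s ^ n * e * (s ^ n)⁻¹) * s⁻¹ by group, ih,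
          show s * (z ^ n * e) * s⁻¹ = s * z ^ n * s⁻¹ * (s * e * s⁻¹) by group, e1,
          ((C.z_comm hsH).pow_right n).eq, mul_inv_cancel_right, ← mul_assoc, ← pow_succ]
    have h6 := hpow 5
    rw [h5, one_mul, inv_one, mul_one, show (5 : ℕ) = 2 + 2 + 1 from rfl, pow_succ, pow_add, pow_two, C.X.zz, one_mul,
      one_mul, eq_comm, mul_eq_right] at h6
    exact C.X.ne h6

theorem kernel_card {s : G} (hs : s ∈ centralizer ({z} : Set G)) (h5 : s ^ 5 = 1) (hsp : Commute s C.p)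
    (hr : RepBy C.E C.π s Data.B) :
    Nat.card ↥(C.ψ.ker ⊓ centralizer ((zpowers s).subgroupOf (centralizer ({z} : Set G)) :
      Set ↥(centralizer ({z} : Set G)))) = 96 := by
  classical
  set H := centralizer ({z} : Set G) with hH
  have hp3 : C.p ^ 3 = 1 := C.ord ▸ pow_orderOf_eq_one C.p
  have hfix : ∀ {e : G}, e ∈ C.liftsOf fixB ↔ e ∈ C.E ∧ Commute s e := fun {e} =>
    and_congr_right fun he => (C.comm_fix hs h5 hr he).symm
  have hmem : ∀ x : ↥H, x ∈ C.ψ.ker ⊓ centralizer ((zpowers s).subgroupOf H : Set ↥H) ↔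
      ∃ e ∈ C.liftsOf fixB, ∃ k : ℕ, (x : G) = e * C.p ^ k := by
    intro x
    rw [mem_inf, MonoidHom.mem_ker, C.ψ_ker]
    constructor
    · rintro ⟨⟨e, he, k, hk⟩, hc⟩
      have hxs : Commute (x : G) s :=
        (congrArg Subtype.val (mem_centralizer_iff.mp hc ⟨s, hs⟩ (mem_subgroupOf.mpr (mem_zpowers s))) :).symm
      refine ⟨e, hfix.mpr ⟨he, ?_⟩, k, hk⟩
      have h := hxs.symm.mul_right (hsp.pow_right k).inv_right
      rwa [hk, mul_inv_cancel_right] at h
    · rintro ⟨e, he, k, hk⟩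
      refine ⟨⟨e, (hfix.mp he).1, k, hk⟩, mem_centralizer_iff.mpr fun y hy => Subtype.ext ?_⟩
      obtain ⟨n, hn⟩ := mem_zpowers_iff.mp (mem_subgroupOf.mp hy)
      show (y : G) * x = x * y
      rw [← hn, hk]
      exact (((hfix.mp he).2.mul_right (hsp.pow_right k)).zpow_left n).eq
  let f : ↥(C.liftsOf fixB) × Fin 3 → ↥(C.ψ.ker ⊓ centralizer ((zpowers s).subgroupOf H : Set ↥H)) := fun t =>
    ⟨⟨t.1 * C.p ^ (t.2 : ℕ), mul_mem (C.le t.1.2.1) (pow_mem C.pH _)⟩, (hmem _).mpr ⟨_, t.1.2, _, rfl⟩⟩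
  have hf : Function.Bijective f := by
    constructor
    · rintro ⟨a, i⟩ ⟨b, j⟩ e
      have e' : (a : G) * C.p ^ (i : ℕ) = b * C.p ^ (j : ℕ) :=
        congrArg (fun x : ↥(C.ψ.ker ⊓ centralizer ((zpowers s).subgroupOf H : Set ↥H)) => ((x : ↥H) : G)) e
      have hr' : ∀ (a : ↥(C.liftsOf fixB)) (i : ℕ), RepBy C.E C.π ((a : G) * C.p ^ i) (mpow Data.OM i) := fun a i q hq => by
        rw [C.rep_mul (pow_mem C.pH i) (C.rep_E a.2.1) (C.rep_pow C.pH C.rep_p i) q hq, mv_mm,
          mv_idM (mv_lt (n := 12) (mpow_OM_lt i) _)]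
      have hu := C.rep_unique (e' ▸ hr' a i) (hr' b j) 1 (by norm_num)
      have hd : ∀ i < 3, ∀ j < 3, mv (mpow Data.OM i) 1 = mv (mpow Data.OM j) 1 → i = j := by decide +kernel
      have hij : i = j := Fin.ext (hd _ i.2 _ j.2 hu)
      rw [hij] at e'
      exact Prod.ext (Subtype.ext (mul_right_cancel e')) hij
    · rintro ⟨⟨x, hx⟩, hx'⟩
      obtain ⟨e, he, k, hk⟩ := (hmem _).mp hx'
      refine ⟨(⟨e, he⟩, ⟨k % 3, Nat.mod_lt _ (by norm_num)⟩), Subtype.ext (Subtype.ext ?_)⟩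
      show e * C.p ^ (k % 3) = x
      rw [← C.ord, pow_mod_orderOf]
      exact hk.symm
  obtain ⟨hnd, hl, hlt, -⟩ := five_fix_facts
  rw [← Nat.card_congr (Equiv.ofBijective f hf), Nat.card_prod, Nat.card_fin, Nat.card_coe_set_eq,
    C.lifts_ncard hnd hlt, hl]

/-- The orders of the local subgroups of the model. -/
theorem model_cards {s : G} (hs : s ∈ centralizer ({z} : Set G)) (hs5 : orderOf s = 5) (hsp : Commute s C.p)
    (hr : RepBy C.E C.π s Data.B) :
    Nat.card ↥(centralizer ({z} : Set G) ⊓ normalizer (zpowers s : Set G)) = 3840 ∧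
      Nat.card ↥(centralizer ({z} : Set G) ⊓ centralizer (zpowers s : Set G)) = 960 ∧
      ∀ a ∈ centralizer ((zpowers (C.ψ ⟨s, hs⟩)) : Set (MulAut ↥Cfsg.Spor.M22)),
        ∃ c : ↥(centralizer ({z} : Set G)), Commute (c : G) s ∧ C.ψ c = a := by
  classical
  set H := centralizer ({z} : Set G) with hH
  have hS0 : zpowers s ≤ H := zpowers_le.mpr hs
  have h5 : s ^ 5 = 1 := hs5 ▸ pow_orderOf_eq_one s
  obtain ⟨k1, k2⟩ := card_local_subtype H ((zpowers s).subgroupOf H)
  rw [subgroupOf_map_subtype, inf_eq_left.mpr hS0] at k1 k2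
  set Q := (zpowers s).subgroupOf H
  have hQc : Nat.card Q = 5 := by rw [Nat.card_congr (subgroupOfEquivOfLe hS0).toEquiv, Nat.card_zpowers, hs5]
  have hker := C.kernel_card hs h5 hsp hr
  haveI : Finite (MulAut Spor.M22) := Finite.of_surjective C.ψ C.ψ_surj
  have hk : ¬ 5 ∣ Nat.card C.ψ.ker := by
    have h := C.ψ.ker.card_mul_index
    rw [index_ker, MonoidHom.range_eq_top.mpr C.ψ_surj, card_top, Cfsg.Lib.JankoFour.card_aut_M22.1, C.cardH] at h
    intro hd
    obtain ⟨c, hc⟩ := hd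
    rw [hc] at h
    omega
  obtain ⟨h1, h2, h3⟩ := LocalCount.local_cards C.ψ C.ψ_surj Q (by norm_num : Nat.Prime 5) hQc hk
  obtain ⟨a1, a2⟩ := aut_five _ h1
  refine ⟨?_, ?_, ?_⟩
  · rw [← k1, h2, hker, a1]
  · rw [← k2, h3, hker, a2]
  · have hQe : Q.map C.ψ = zpowers (C.ψ ⟨s, hs⟩) := by
      rw [← MonoidHom.map_zpowers]
      refine congrArg (fun K : Subgroup ↥H => K.map C.ψ) (SetLike.ext fun x => ?_)
      rw [mem_subgroupOf, mem_zpowers_iff, mem_zpowers_iff]
      exact exists_congr fun n => by rw [← Subtype.coe_inj, SubgroupClass.coe_zpow]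
    have hle : (centralizer (Q : Set ↥H)).map C.ψ ≤ centralizer ((Q.map C.ψ : Subgroup (MulAut ↥Cfsg.Spor.M22)) : Set (MulAut ↥Cfsg.Spor.M22)) := by
      rintro _ ⟨n, hn, rfl⟩
      refine mem_centralizer_iff.mpr ?_
      rintro _ ⟨x, hx, rfl⟩
      rw [← map_mul, ← map_mul, mem_centralizer_iff.mp hn x hx]
    have heq := eq_of_le_of_card_ge hle (by
      have h := LocalCount.card_split C.ψ (centralizer (Q : Set ↥H))
      rw [h3, hker] at h
      omega)
    intro a ha
    rw [← hQe, ← heq] at ha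
    obtain ⟨c, hc, rfl⟩ := ha
    exact ⟨c, (congrArg Subtype.val (mem_centralizer_iff.mp hc ⟨s, hs⟩ (mem_subgroupOf.mpr (mem_zpowers s))) :).symm,
      rfl⟩

variable (C) in
theorem exists_five : Nonempty C.Five := by
  classical
  obtain ⟨hw, hcomm, -, hB5, hB6, -, -, -, hword⟩ := five_word
  obtain ⟨g, hg, hc, hr⟩ := C.exists_inner [1] 0 (by decide)
  rw [hword] at hr
  have hg5 : g ^ 5 ∈ C.E := by
    have h := C.rep_quot (pow_mem hg 5) (one_mem _) (hB5 ▸ C.rep_pow hg hr 5) C.rep_one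
    simpa using h
  have hcp : C.p * g ^ 5 * C.p⁻¹ = g ^ 5 := by rw [((hc.pow_left 5).symm).eq, mul_inv_cancel_right]
  have h30 : (g ^ 6) ^ 5 = 1 := by
    rw [← pow_mul, show 6 * 5 = 5 * 6 by norm_num, pow_mul]
    rcases C.fpf _ hg5 (Or.inl hcp) with e | e <;> rw [e]
    · exact one_pow 6
    · rw [show 6 = 2 * 3 by norm_num, pow_mul, pow_two, C.X.zz, one_pow]
  have hrep : RepBy C.E C.π (g ^ 6) Data.B := hB6 ▸ C.rep_pow hg hr 6
  haveI : Fact (Nat.Prime 5) := ⟨by norm_num⟩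
  set s := g ^ 6 with hs_def
  have hs : s ∈ centralizer ({z} : Set G) := pow_mem hg 6
  have hso : orderOf s = 5 := orderOf_eq_prime h30 fun e => by
    have h1 := C.rep_unique (e ▸ hrep : RepBy C.E C.π 1 Data.B) C.rep_one
    have h : mv Data.B 4 ≠ mv idM 4 := by decide +kernel
    exact h (h1 4 (by norm_num))
  obtain ⟨w, hwH, hwr⟩ := C.exists_word wFive (by decide)
  rw [hw] at hwr
  -- the image of the word commutes with the image of the element
  set wH : ↥(centralizer ({z} : Set G)) := ⟨w, hwH⟩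
  set sH : ↥(centralizer ({z} : Set G)) := ⟨s, hs⟩
  have hd : (s * w)⁻¹ * (w * s) ∈ C.E :=
    C.rep_quot (mul_mem hwH hs) (mul_mem hs hwH) (C.rep_mul hs hwr hrep) (by rw [hcomm]; exact C.rep_mul hwH hrep hwr)
  have hψ : C.ψ wH * C.ψ sH = C.ψ sH * C.ψ wH := by
    rw [← inv_mul_eq_one, eq_comm, ← map_mul, ← map_mul, ← map_inv, ← map_mul, eq_comm, C.ψ_ker]
    refine ⟨_, inv_mem hd, 0, ?_⟩
    show (w * s)⁻¹ * (s * w) = ((s * w)⁻¹ * (w * s))⁻¹ * C.p ^ 0
    group
  obtain ⟨c, hcs, hcψ⟩ := (C.model_cards hs hso (hc.pow_left 6) hrep).2.2 (C.ψ wH)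
    (mem_centralizer_iff.mpr fun y hy => by
      obtain ⟨n, rfl⟩ := mem_zpowers_iff.mp hy
      exact ((Commute.symm hψ).zpow_left n).eq)
  obtain ⟨e, he, k, hk⟩ := (C.ψ_ker (wH⁻¹ * c)).mp (by rw [map_mul, map_inv, hcψ, inv_mul_cancel])
  have hce : (c : G) * (C.p ^ k)⁻¹ = w * e := by
    have : w⁻¹ * (c : G) = e * C.p ^ k := hk
    rw [show (c : G) = w * (e * C.p ^ k) by rw [← this, mul_inv_cancel_left]]
    group
  exact ⟨{
    s := s, h := (c : G) * (C.p ^ k)⁻¹, sH := hs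
    hH := mul_mem c.2 (inv_mem (pow_mem C.pH k))
    s_order := hso, sp := hc.pow_left 6
    hs := hcs.mul_left (((hc.pow_left 6).pow_right k).symm.inv_left)
    rep_s := hrep
    rep_h := hce ▸ fun q hq => by
      rw [C.rep_mul (C.le he) hwr (C.rep_E he) q hq, mv_mm, mv_idM (C.π_lt q)] }⟩

namespace Five

variable (F : C.Five)

theorem card_s : Nat.card (zpowers F.s) = 5 := by rw [Nat.card_zpowers, F.s_order]

theorem s5 : F.s ^ 5 = 1 := F.s_order ▸ pow_orderOf_eq_one F.s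

theorem cards : Nat.card ↥(centralizer ({z} : Set G) ⊓ normalizer (zpowers F.s : Set G)) = 3840 ∧
    Nat.card ↥(centralizer ({z} : Set G) ⊓ centralizer (zpowers F.s : Set G)) = 960 :=
  ⟨(C.model_cards F.sH F.s_order F.sp F.rep_s).1, (C.model_cards F.sH F.s_order F.sp F.rep_s).2.1⟩

theorem comm_E {e : G} (he : e ∈ C.E) : Commute F.s e ↔ C.π e ∈ fixB := C.comm_fix F.sH F.s5 F.rep_s he

theorem form_H {e : G} (he : e ∈ C.E) (k i j : ℕ) : formFive F.s F.h C.p e k i j ∈ centralizer ({z} : Set G) :=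
  mul_mem (mul_mem (mul_mem (C.le he) (pow_mem C.pH k)) (pow_mem F.sH i)) (pow_mem F.hH j)

theorem form_rep {e : G} (he : e ∈ C.E) (k i j : ℕ) :
    RepBy C.E C.π (formFive F.s F.h C.p e k i j) (actFive k i j) := fun q hq => by
  have h := C.rep_mul (pow_mem F.hH j) (C.rep_mul (pow_mem F.sH i) (C.rep_mul (pow_mem C.pH k) (C.rep_E he)
    (C.rep_pow C.pH C.rep_p k)) (C.rep_pow F.sH F.rep_s i)) (C.rep_pow F.hH F.rep_h j) q hq
  rw [formFive, h, actFive]
  simp only [mv_mm]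
  rw [mv_idM (mv_lt (n := 12) (mpow_OM_lt k) _)]

/-- The form of the elements of the centraliser. -/
theorem form {x : G} (hx : x ∈ centralizer ({z} : Set G)) (hxs : Commute x F.s) :
    ∃ e ∈ C.liftsOf fixB, ∃ k < 3, ∃ i < 5, ∃ j < 2, x = formFive F.s F.h C.p e k i j := by
  classical
  obtain ⟨hnd, hl, hlt, -⟩ := five_fix_facts
  set R := centralizer ({z} : Set G) ⊓ centralizer (zpowers F.s : Set G) with hR
  have hcomm : ∀ {e : G}, e ∈ C.liftsOf fixB → ∀ k i j : ℕ, Commute (formFive F.s F.h C.p e k i j) F.s := fun {e} he k i j =>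
    (((F.comm_E he.1).mpr he.2).symm.mul_left (F.sp.symm.pow_left k)).mul_left ((Commute.refl F.s).pow_left i)
      |>.mul_left (F.hs.pow_left j)
  have hin : ∀ {e : G}, e ∈ C.liftsOf fixB → ∀ k i j : ℕ, formFive F.s F.h C.p e k i j ∈ R := fun {e} he k i j =>
    ⟨F.form_H he.1 k i j, mem_centralizer_iff.mpr fun y hy => by
      obtain ⟨n, rfl⟩ := mem_zpowers_iff.mp hy
      exact ((hcomm he k i j).symm.zpow_left n).eq⟩
  let f : ↥(C.liftsOf fixB) × Fin 3 × Fin 5 × Fin 2 → ↥R := fun t => ⟨_, hin t.1.2 t.2.1 t.2.2.1 t.2.2.2⟩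
  have hf : Function.Injective f := by
    rintro ⟨a, k, i, j⟩ ⟨b, k', i', j'⟩ e
    have e' : formFive F.s F.h C.p a k i j = formFive F.s F.h C.p b k' i' j' := congrArg Subtype.val e
    have hu := C.rep_unique (e' ▸ F.form_rep a.2.1 k i j) (F.form_rep b.2.1 k' i' j')
    obtain ⟨h1, h2, h3⟩ := five_sep k.2 i.2 j.2 k'.2 i'.2 j'.2 (by
      simp [hu 4 (by norm_num), hu 1024 (by norm_num)])
    obtain rfl := Fin.ext h1
    obtain rfl := Fin.ext h2
    obtain rfl := Fin.ext h3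
    have : (a : G) = b := by
      simp only [formFive] at e'
      exact mul_right_cancel (mul_right_cancel (mul_right_cancel e'))
    exact Prod.ext (Subtype.ext this) rfl
  have hbij := hf.bijective_of_nat_card_le (by
    rw [hR, F.cards.2, Nat.card_prod, Nat.card_prod, Nat.card_prod, Nat.card_fin, Nat.card_fin, Nat.card_fin,
      Nat.card_coe_set_eq, C.lifts_ncard hnd hlt, hl])
  obtain ⟨⟨a, k, i, j⟩, hf'⟩ := hbij.2 ⟨x, hx, mem_centralizer_iff.mpr fun y hy => by
    obtain ⟨n, rfl⟩ := mem_zpowers_iff.mp hy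
    exact (hxs.symm.zpow_left n).eq⟩
  exact ⟨a, a.2, k, k.2, i, i.2, j, j.2, (congrArg Subtype.val hf').symm⟩

/-- The action on the fixed vectors. -/
theorem form_fix {e q : G} (he : e ∈ C.E) (hq : q ∈ C.liftsOf fixB) {k i j : ℕ} (hk : k < 3) (hi : i < 5) (hj : j < 2) :
    C.π (formFive F.s F.h C.p e k i j * q * (formFive F.s F.h C.p e k i j)⁻¹) = mv (actFix k j) (C.π q) := by
  rw [F.form_rep he k i j q hq.1]
  exact (five_fix_facts.2.2.2 k hk j hj _ hq.2).2 i hi

end Five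

end Ctx

end Cfsg.Lib.JankoFour
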