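import Cfsg.Agent.JankoFour.Section
import Cfsg.Agent.JankoFour.SevenChecks
import Cfsg.Agent.Golay.Elements

/-!
In a complement of the distinguished subgroup the involutions with fixed points are conjugate to the given involution.
-/

set_option autoImplicit false
set_option maxRecDepth 100000
set_option maxHeartbeats 1000000
set_option linter.style.haveILetI false
set_option linter.unusedSectionVars false

namespace Cfsg.Lib.JankoFour

open Subgroup
open Data (W0)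
open scoped Pointwise

universe u

variable {G : Type u} [Group G] [Finite G]

/-- A fixed-point-free involution of twenty-four points fixes at most twelve pairs. -/
theorem fixed_pairs_le {m : Equiv.Perm Cfsg.GolayPt} (h0 : ∀ p, m p ≠ p) (hm : m * m = 1) :
    {Q : Set Cfsg.GolayPt | ∃ a b, a ≠ b ∧ Q = {a, b} ∧ m • Q = Q}.ncard ≤ 12 := by
  classical
  set R := Finset.univ.filter fun p : Cfsg.GolayPt => Cfsg.Lib.Golay.pidx p < Cfsg.Lib.Golay.pidx (m p) with hR
  have hmm : ∀ p, m (m p) = p := fun p => by rw [← Equiv.Perm.mul_apply, hm]; rfl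
  have hcard : R.card * 2 = 24 := by
    have hcompl : (Finset.univ \ R).card = R.card := by
      refine Finset.card_bij' (fun p _ => m p) (fun p _ => m p) ?_ ?_ (fun p _ => hmm p) (fun p _ => hmm p)
      · intro p hp
        simp only [hR, Finset.mem_sdiff, Finset.mem_filter, Finset.mem_univ, true_and, hmm] at hp ⊢
        exact lt_of_le_of_ne (not_lt.mp hp) fun e => h0 p (Cfsg.Lib.Golay.pidx_injective e)
      · intro p hp
        simp only [hR, Finset.mem_sdiff, Finset.mem_filter, Finset.mem_univ, true_and, hmm] at hp ⊢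
        omega
    have h24 : (Finset.univ : Finset Cfsg.GolayPt).card = 24 := by
      rw [Finset.card_univ, Fintype.card_congr Cfsg.Lib.Golay.ptEquiv, Fintype.card_fin]
    have h := Finset.card_sdiff_add_card_eq_card (Finset.subset_univ R)
    omega
  refine le_trans (Set.ncard_le_ncard (t := (fun p => ({p, m p} : Set Cfsg.GolayPt)) '' (R : Set Cfsg.GolayPt)) ?_
    (Set.toFinite _)) (le_trans (Set.ncard_image_le (Set.toFinite _)) ?_)
  · rintro Q ⟨a, b, hab, rfl, hQ⟩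
    have hma : m a ∈ ({a, b} : Set Cfsg.GolayPt) := hQ ▸ Set.smul_mem_smul_set (Set.mem_insert a _)
    have e : m a = b := hma.resolve_left (h0 a)
    have hlt : ∀ p, p ∈ R ∨ m p ∈ R := fun p => by
      simp only [hR, Finset.mem_filter, Finset.mem_univ, true_and, hmm]
      rcases lt_trichotomy (Cfsg.Lib.Golay.pidx p) (Cfsg.Lib.Golay.pidx (m p)) with h | h | h
      exacts [Or.inl h, absurd (Cfsg.Lib.Golay.pidx_injective h).symm (h0 p), Or.inr h]
    rcases hlt a with h | h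
    · exact ⟨a, h, by simp only [e]⟩
    · exact ⟨m a, h, by simp only [hmm]; rw [e, Set.pair_comm]⟩
  · rw [Set.ncard_coe_finset]; omega

namespace Ctx

variable {z : G} {P : Subgroup G} {C : Ctx z P} (S : Sec C)

include S

namespace Sec

/-- Lifts of the vectors in the complement. -/
theorem exists_lift_E {a : ℕ} (ha : a < 4096) : ∃ κ ∈ S.K, κ ∈ C.E ∧ a ^^^ C.π κ ∈ W0 := by
  obtain ⟨e, he, hπ⟩ := C.π_surj a ha
  have heN := (C.M_normalizes (C.E_le_M he)).1
  obtain ⟨v, hv, m, hdec⟩ := S.dec heN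
  have hκE : S.l m ∈ C.E := C.complement_E S.KN S.KV S.sup (S.l_mem m) he (by
    rw [hdec, show (v * S.l m)⁻¹ * S.l m = (S.l m)⁻¹ * v⁻¹ * (S.l m)⁻¹⁻¹ by group]
    exact (mem_normalizer_iff.mp (inv_mem (S.KN (S.l_mem m))) _).mp (inv_mem hv))
  have hvE : v ∈ C.E := by
    have h := mul_mem he (inv_mem hκE)
    rwa [hdec, mul_inv_cancel_right] at h
  refine ⟨S.l m, S.l_mem m, hκE, ?_⟩
  rw [← hπ, hdec, C.π_mul v hvE _ hκE, Nat.xor_assoc, Nat.xor_self, Nat.xor_zero]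
  exact (C.mem_Wt_iff.mp ⟨hv, hvE⟩).2

theorem KE_cases {κ : G} (hκ : κ ∈ S.K) (h : κ = 1 ∨ κ = z) : κ = 1 := h.elim id fun e =>
  mem_bot.mp (S.KV ▸ (mem_inf.mpr ⟨hκ, e ▸ C.Wt_le_V C.z_mem_Wt⟩ : κ ∈ S.K ⊓ C.V))

theorem KE_sq {κ : G} (hκ : κ ∈ S.K) (he : κ ∈ C.E) : κ * κ = 1 :=
  S.KE_cases (mul_mem hκ hκ) (C.sq_cases he)

theorem KE_perp {κ κ' : G} (hκ : κ ∈ S.K) (he : κ ∈ C.E) (hκ' : κ' ∈ S.K) (he' : κ' ∈ C.E) :
    pB (C.π κ) (C.π κ') = false := by
  refine (C.π_comm κ he κ' he').mp ?_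
  have h := C.conjB he he'
  by_cases hb : pB (C.π κ) (C.π κ') = true
  · rw [if_pos hb] at h
    have h1 := S.KE_cases (mul_mem (mul_mem (mul_mem hκ hκ') (inv_mem hκ)) (inv_mem hκ'))
      (Or.inr (by rw [h, mul_inv_cancel_right]))
    exact commutatorElement_eq_one_iff_mul_comm.mp h1
  · rw [if_neg hb, one_mul] at h
    exact (mul_inv_eq_iff_eq_mul.mp h :)

/-- Some involution with fixed points of the complement is conjugate to the given involution. -/
theorem exists_twoA [IsSimpleGroup G] (hG : ¬ IsMulCommutative G) :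
    ∃ m : ↥Cfsg.M24, orderOf m = 2 ∧ Cfsg.Lib.Golay.fixCard (m : Equiv.Perm Cfsg.GolayPt) ≠ 0 ∧
      IsConj z (S.l m) := by
  classical
  obtain ⟨κ, hκ, hκE, hok⟩ : ∃ κ, κ ∈ S.K ∧ κ ∈ C.E ∧ okLift (C.π κ) = true := by
    by_contra hne
    push Not at hne
    have h := lift_cert
    simp only [Bool.and_eq_true, List.all_eq_true, Bool.or_eq_true] at h
    obtain ⟨htwo, hc⟩ := h
    have get : ∀ a ∈ ([7, 143, 204, 9] : List ℕ), ∃ κ ∈ S.K, κ ∈ C.E ∧ C.π κ ∈ cosetTwo a := by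
      intro a ha
      have hlt : a < 4096 := by
        simp only [List.mem_cons, List.not_mem_nil, or_false] at ha
        rcases ha with rfl | rfl | rfl | rfl <;> norm_num
      obtain ⟨κ, hκ, hκE, hw⟩ := S.exists_lift_E hlt
      refine ⟨κ, hκ, hκE, ?_⟩
      have hm : C.π κ ∈ W0.map (a ^^^ ·) :=
        List.mem_map.mpr ⟨a ^^^ C.π κ, hw, by rw [← Nat.xor_assoc, Nat.xor_self, Nat.zero_xor]⟩
      have h2 : twoA (C.π κ) = true := by
        obtain ⟨w, hwm, e⟩ := List.mem_map.mp hm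
        rw [← e]; exact htwo a ha w hwm
      have h0 := hne κ hκ hκE
      simp only [okLift, h2, Bool.true_and] at h0
      refine List.mem_filter.mpr ⟨hm, ?_⟩
      simp only [Bool.and_eq_true, Bool.not_eq_true', beq_iff_eq]
      exact ⟨(C.π_sq κ hκE).mp (S.KE_sq hκ hκE), (cls_two _).resolve_left fun e => h0 (beq_iff_eq.mpr e)⟩
    obtain ⟨a, haK, haE, ha⟩ := get 7 (by simp)
    obtain ⟨b, hbK, hbE, hb⟩ := get 143 (by simp)
    obtain ⟨c, hcK, hcE, hc'⟩ := get 204 (by simp)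
    obtain ⟨d, hdK, hdE, hd⟩ := get 9 (by simp)
    have hp := fun {x y : G} (h1 : x ∈ S.K) (h2 : x ∈ C.E) (h3 : y ∈ S.K) (h4 : y ∈ C.E) =>
      Bool.eq_false_iff.mp (S.KE_perp h1 h2 h3 h4)
    have h2 : ∀ {x y : G}, x ∈ S.K → x ∈ C.E → y ∈ S.K → y ∈ C.E → okLift (C.π x ^^^ C.π y) ≠ true :=
      fun {x y} h1 h2 h3 h4 => by
        rw [← C.π_mul x h2 y h4]; exact hne _ (mul_mem h1 h3) (mul_mem h2 h4)
    have h3 : ∀ {x y w : G}, x ∈ S.K → x ∈ C.E → y ∈ S.K → y ∈ C.E → w ∈ S.K → w ∈ C.E →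
        okLift (C.π x ^^^ C.π y ^^^ C.π w) ≠ true := fun {x y w} h1 h2 h3 h4 h5 h6 => by
        rw [← C.π_mul x h2 y h4, ← C.π_mul _ (mul_mem h2 h4) w h6]
        exact hne _ (mul_mem (mul_mem h1 h3) h5) (mul_mem (mul_mem h2 h4) h6)
    rcases hc _ ha _ hb with (r | r) | r
    · exact hp haK haE hbK hbE r
    · exact h2 haK haE hbK hbE r
    rcases r _ hc' with ((((r | r) | r) | r) | r) | r
    · exact hp haK haE hcK hcE r
    · exact hp hbK hbE hcK hcE r
    · exact h2 haK haE hcK hcE r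
    · exact h2 hbK hbE hcK hcE r
    · exact h3 haK haE hbK hbE hcK hcE r
    rcases r _ hd with (((((((((r | r) | r) | r) | r) | r) | r) | r) | r) | r)
    · exact hp haK haE hdK hdE r
    · exact hp hbK hbE hdK hdE r
    · exact hp hcK hcE hdK hdE r
    · exact h2 haK haE hdK hdE r
    · exact h2 hbK hbE hdK hdE r
    · exact h2 hcK hcE hdK hdE r
    · exact h3 haK haE hbK hbE hdK hdE r
    · exact h3 haK haE hcK hcE hdK hdE r
    · exact h3 hbK hbE hcK hcE hdK hdE r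
    · rw [← C.π_mul a haE b hbE, ← C.π_mul _ (mul_mem haE hbE) c hcE,
        ← C.π_mul _ (mul_mem (mul_mem haE hbE) hcE) d hdE] at r
      exact hne _ (mul_mem (mul_mem (mul_mem haK hbK) hcK) hdK) (mul_mem (mul_mem (mul_mem haE hbE) hcE) hdE) r
  simp only [okLift, Bool.and_eq_true, beq_iff_eq] at hok
  obtain ⟨h2A, hcls⟩ := hok
  obtain ⟨m, rfl⟩ := S.l_surj κ hκ
  have hlen : ((partW 1).filter fun w => !pB (C.π (S.l m)) w).length = 10 := by
    simpa [twoA] using h2A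
  have hπ0 : C.π (S.l m) ≠ 0 := by
    intro h
    rw [h] at hlen
    have : (((partW 1).filter fun w => !pB 0 w).length == 18) = true := by decide +kernel
    rw [beq_iff_eq] at this
    omega
  have hne1 : S.l m ≠ 1 := fun e => hπ0 (by rw [e, C.π_one])
  have hm2 : m * m = 1 := S.l_injective (by rw [map_mul, map_one]; exact S.KE_sq hκ hκE)
  haveI : Fact (Nat.Prime 2) := ⟨Nat.prime_two⟩
  refine ⟨m, orderOf_eq_prime (by rw [pow_two, hm2]) fun e => hne1 (by rw [e, map_one]), ?_, ?_⟩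
  · intro h0
    have hfix : C.liftsOf ((partW 1).filter fun w => !pB (C.π (S.l m)) w) ⊆
        {u | (u ∈ C.V ∧ u ≠ 1 ∧ ¬ IsConj z u) ∧ S.l m * u * (S.l m)⁻¹ = u} := by
      rintro u ⟨hu, hul⟩
      obtain ⟨hp1, hb⟩ := List.mem_filter.mp hul
      have hm : u ∈ C.liftsOf (partW 1) := ⟨hu, hp1⟩
      refine ⟨⟨(C.lifts_A0 hm).1.1, (C.lifts_A0 hm).2.1, (C.inner_card hG).2.2 u hm⟩, ?_⟩
      rw [C.conjB hκE hu]
      simp only [Bool.not_eq_true'] at hb
      rw [hb, if_neg Bool.false_ne_true, one_mul]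
    have hle := Set.ncard_le_ncard_of_injOn S.pairOf (t := {Q : Set Cfsg.GolayPt | ∃ a b, a ≠ b ∧ Q = {a, b} ∧
        (m : Equiv.Perm Cfsg.GolayPt) • Q = Q})
      (fun u hu => by
        obtain ⟨⟨h1, h2, h3⟩, h4⟩ := hfix hu
        obtain ⟨a, b, hab, e⟩ := S.pairOf_spec h1 h2 h3
        refine ⟨a, b, hab, e, ?_⟩
        have := (S.fix_iff ⟨S.l m, S.KN (S.l_mem m)⟩ h1 h2 h3).mp h4
        rwa [S.φ_l] at this)
      (fun u hu u' hu' e => by
        obtain ⟨⟨h1, h2, h3⟩, -⟩ := hfix hu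
        obtain ⟨⟨k1, k2, k3⟩, -⟩ := hfix hu'
        exact S.pairOf_inj h1 h2 h3 k1 k2 k3 e) (Set.toFinite _)
    rw [C.lifts_ncard ((partW_nodup 1).filter _)
      (fun x hx => (W0_spec (mem_partW.mp (List.mem_filter.mp hx).1).1).1), hlen] at hle
    have := fixed_pairs_le (Cfsg.Lib.Golay.fixCard_eq_zero.mp h0) (congrArg Subtype.val hm2)
    omega
  · obtain ⟨p0, -⟩ := C.part_ncard
    obtain ⟨b, hb⟩ : (C.liftsOf (partW 0)).Nonempty := Set.nonempty_of_ncard_ne_zero (by rw [p0]; norm_num)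
    obtain ⟨hb1, hb2, hb3⟩ := mem_partW.mp hb.2
    exact ((C.inner_card hG).2.1 b hb).trans (C.conj_cls hb.1 hκE hb2 hπ0 (W0_spec hb1).2.1
      ((C.π_sq _ hκE).mp (S.KE_sq hκ hκE)) (hb3.trans hcls.symm))

/-- The involutions with fixed points of the complement are conjugate to the given involution. -/
theorem twoA_conj [IsSimpleGroup G] (hG : ¬ IsMulCommutative G) {m : ↥Cfsg.M24} (h2 : orderOf m = 2)
    (hfix : Cfsg.Lib.Golay.fixCard (m : Equiv.Perm Cfsg.GolayPt) ≠ 0) : IsConj z (S.l m) := by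
  obtain ⟨k, hk2, hkf, hkc⟩ := S.exists_twoA hG
  obtain ⟨g, hg, ⟨e, -⟩ | ⟨-, e0⟩⟩ := Cfsg.Lib.Golay.involution_classes m.2
    (by rwa [← Subgroup.orderOf_coe] at h2)
  rotate_left
  · exact absurd e0 hfix
  obtain ⟨g', hg', ⟨e', -⟩ | ⟨-, e0⟩⟩ := Cfsg.Lib.Golay.involution_classes k.2
    (by rwa [← Subgroup.orderOf_coe] at hk2)
  rotate_left
  · exact absurd e0 hkf
  have hc : IsConj k m := isConj_iff.mpr ⟨⟨g, hg⟩ * ⟨g', hg'⟩⁻¹, Subtype.ext (by
    simp only [Subgroup.coe_mul, Subgroup.coe_inv, mul_inv_rev, inv_inv]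
    rw [e, e']; group)⟩
  exact hkc.trans (S.l.map_isConj hc)

end Sec

end Ctx

end Cfsg.Lib.JankoFour
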