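import Cfsg.Agent.JankoFour.SevenOuter
import Cfsg.Agent.JankoFour.TwoAClass
import Cfsg.Agent.JankoFour.SevenInner

/-!
Local subgroups of the element of order seven inside the centraliser of a member of the second class.
-/

set_option autoImplicit false
set_option maxRecDepth 100000
set_option maxHeartbeats 1000000
set_option linter.style.haveILetI false
set_option linter.unusedSectionVars false

namespace Cfsg.Lib.Golay

open MulAction
open scoped Pointwise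

/-- The stabiliser of a pair of fixed points in the centraliser consists of fourteen explicit elements. -/
theorem seven_stab_mem {d : Equiv.Perm Cfsg.GolayPt} :
    d ∈ cgSeven.grp ⊓ stabilizer (Equiv.Perm Cfsg.GolayPt) ({ptAt 5, ptAt 11} : Set Cfsg.GolayPt) ↔
      ∃ i < 7, d = xSeven ^ i ∨ d = xSeven ^ i * toP cgSevenG0.1 := by
  classical
  set g := toP cgSevenG0.1 with hg
  set F := cgSeven.grp ⊓ stabilizer (Equiv.Perm Cfsg.GolayPt) ({ptAt 5, ptAt 11} : Set Cfsg.GolayPt) with hF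
  obtain ⟨p0, p5, p11⟩ := sevenG0_points
  have hgF : g ∈ F := Subgroup.mem_inf.mpr ⟨seven_gens_mem.1, mem_stabilizer_iff.mpr (by
    rw [Set.smul_set_insert, Set.smul_set_singleton, Equiv.Perm.smul_def, Equiv.Perm.smul_def, hg, p5, p11,
      Set.pair_comm])⟩
  have hxF : xSeven ∈ F := Subgroup.mem_inf.mpr ⟨centralizer_seven.mp ⟨xSeven_mem, rfl⟩, mem_stabilizer_iff.mpr (by
    rw [Set.smul_set_insert, Set.smul_set_singleton, Equiv.Perm.smul_def, Equiv.Perm.smul_def,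
      xSeven_fix.mpr (Or.inr (Or.inl rfl)), xSeven_fix.mpr (Or.inr (Or.inr rfl))])⟩
  let f : Fin 7 × Bool → ↥F := fun t => ⟨xSeven ^ (t.1 : ℕ) * (if t.2 then g else 1),
    mul_mem (pow_mem hxF _) (by cases t.2; exacts [one_mem _, hgF])⟩
  have hfix : ∀ i : ℕ, (xSeven ^ i) (ptAt 5) = ptAt 5 := fun i => by
    simpa using Equiv.Perm.zpow_apply_eq_self_of_apply_eq_self (xSeven_fix.mpr (Or.inr (Or.inl rfl))) (i : ℤ)
  have hinj : Function.Injective f := by
    rintro ⟨i, b⟩ ⟨j, c⟩ e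
    have e' : xSeven ^ (i : ℕ) * (if b then g else 1) = xSeven ^ (j : ℕ) * (if c then g else 1) :=
      congrArg Subtype.val e
    have hbc : b = c := by
      have h := congrArg (fun d : Equiv.Perm Cfsg.GolayPt => d (ptAt 5)) e'
      have hne : (ptAt 11 : Cfsg.GolayPt) ≠ ptAt 5 := seven_fix_tab.2.2.2.2.2.2.2.2.2.2.2.2.1.symm
      have h11 : ∀ i : ℕ, (xSeven ^ i) (ptAt 11) = ptAt 11 := fun i => by
        simpa using Equiv.Perm.zpow_apply_eq_self_of_apply_eq_self (xSeven_fix.mpr (Or.inr (Or.inr rfl))) (i : ℤ)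
      cases b <;> cases c <;> simp [hg, p5, hfix, h11, hne, hne.symm] at h ⊢
    subst hbc
    exact Prod.ext (Fin.ext (pow_injOn_Iio_orderOf (x := xSeven) (by simp [orderOf_xSeven])
      (by simp [orderOf_xSeven]) (mul_right_cancel e'))) rfl
  have hcard : Nat.card ↥F = 14 :=
    (seven_pair (Q := {ptAt 5, ptAt 11}) (by simp [fixPairs])).1
  have hbij := hinj.bijective_of_nat_card_le (by
    rw [hcard, Nat.card_prod, Nat.card_fin, Nat.card_eq_fintype_card, Fintype.card_bool])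
  constructor
  · intro hd
    obtain ⟨⟨i, b⟩, e⟩ := hbij.2 ⟨d, hd⟩
    have e' : xSeven ^ (i : ℕ) * (if b then g else 1) = d := congrArg Subtype.val e
    cases b
    · exact ⟨i, i.2, Or.inl (by simpa using e'.symm)⟩
    · exact ⟨i, i.2, Or.inr (by simpa using e'.symm)⟩
  · rintro ⟨i, -, rfl | rfl⟩
    exacts [pow_mem hxF i, mul_mem (pow_mem hxF i) hgF]

theorem seven_G0_commute : Commute (toP cgSevenG0.1) xSeven := (centralizer_seven.mpr seven_gens_mem.1).2

end Cfsg.Lib.Golay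

namespace Cfsg.Lib.JankoFour

open Subgroup
open Cfsg.Lib.Golay
open scoped Pointwise

universe u

variable {G : Type u} [Group G] [Finite G]

/-- Membership of the centraliser of a cyclic subgroup. -/
theorem mem_centralizer_zpowers {x s : G} : x ∈ centralizer (zpowers s : Set G) ↔ Commute x s := by
  refine ⟨fun h => (mem_centralizer_iff.mp h s (mem_zpowers s)).symm, fun h => mem_centralizer_iff.mpr fun y hy => ?_⟩
  obtain ⟨k, rfl⟩ := mem_zpowers_iff.mp hy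
  exact (h.symm.zpow_left k).eq

namespace Ctx

variable {z : G} {P : Subgroup G} {C : Ctx z P} (S : Sec C)

namespace Sec

theorem σ7_z [IsSimpleGroup G] (hG : ¬ IsMulCommutative G) : IsConj z S.σ7 :=
  S.twoA_conj hG (by rw [← Subgroup.orderOf_coe]; exact sevenG0_invol.1)
    (by rw [show ((gPt : ↥Cfsg.M24) : Equiv.Perm Cfsg.GolayPt) = toP cgSevenG0.1 from rfl, sevenG0_invol.2]; norm_num)

/-- The data around a member of the second class centralised by the element of order seven. -/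
structure Trio where
  t : G
  t' : G
  t'' : G
  mem : t ∈ C.V ∧ t' ∈ C.V ∧ t'' ∈ C.V
  cls : ¬ IsConj z t ∧ ¬ IsConj z t' ∧ ¬ IsConj z t''
  pair : S.pairOf t = {ptAt 5, ptAt 11} ∧ S.pairOf t' = {ptAt 0, ptAt 5} ∧ S.pairOf t'' = {ptAt 0, ptAt 11}
  ne : t ≠ 1 ∧ t' ≠ 1 ∧ t'' ≠ 1 ∧ t ≠ t' ∧ t ≠ t'' ∧ t' ≠ t''
  comm : Commute S.s7 t ∧ Commute S.s7 t' ∧ Commute S.s7 t''
  all : ∀ u ∈ C.V, Commute S.s7 u → u = 1 ∨ u = t ∨ u = t' ∨ u = t''

theorem exists_Trio : Nonempty (Trio S) := by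
  obtain ⟨t, t', t'', h1, h2, h3, h4, h5, h6⟩ := S.exists_trio
  exact ⟨⟨t, t', t'', h1, h2, h3, h4, h5, h6⟩⟩

variable {S}

namespace Trio

variable (T : Trio S)

theorem memT [IsSimpleGroup G] (hG : ¬ IsMulCommutative G) : T.t ∈ (C.sextet hG).T :=
  ⟨T.mem.1, T.ne.1, T.cls.1⟩

theorem σ7_conj : S.σ7 * T.t * S.σ7⁻¹ = T.t ∧ S.σ7 * T.t' * S.σ7⁻¹ = T.t'' ∧ S.σ7 * T.t'' * S.σ7⁻¹ = T.t' := by
  obtain ⟨p0, p5, p11⟩ := sevenG0_points
  have hφ : S.φ ⟨S.σ7, S.KN (S.l_mem _)⟩ = toP cgSevenG0.1 := S.φ_l gPt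
  have key : ∀ {u w : G}, u ∈ C.V → u ≠ 1 → ¬ IsConj z u → w ∈ C.V → w ≠ 1 → ¬ IsConj z w →
      toP cgSevenG0.1 • S.pairOf u = S.pairOf w → S.σ7 * u * S.σ7⁻¹ = w := by
    intro u w hu h1 hc hw h1' hc' e
    have hN : S.σ7 ∈ normalizer (C.V : Set G) := S.KN (S.l_mem _)
    refine S.pairOf_inj ((mem_normalizer_iff.mp hN u).mp hu) (fun h => h1 (conj_eq_one_iff.mp h))
      (fun h => hc (h.trans (isConj_iff.mpr ⟨S.σ7, rfl⟩ : IsConj u (S.σ7 * u * S.σ7⁻¹)).symm)) hw h1' hc' ?_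
    rw [S.pairOf_smul ⟨S.σ7, hN⟩ hu h1 hc, hφ, e]
  obtain ⟨hp, hp', hp''⟩ := T.pair
  obtain ⟨m1, m2, m3⟩ := T.mem
  obtain ⟨c1, c2, c3⟩ := T.cls
  obtain ⟨n1, n2, n3, -⟩ := T.ne
  refine ⟨key m1 n1 c1 m1 n1 c1 ?_, key m2 n2 c2 m3 n3 c3 ?_, key m3 n3 c3 m2 n2 c2 ?_⟩ <;>
    simp only [hp, hp', hp'', Set.smul_set_insert, Set.smul_set_singleton, Equiv.Perm.smul_def, p0, p5, p11]
  exact Set.pair_comm _ _

theorem prod_eq : T.t' * T.t'' = T.t := by
  obtain ⟨-, m2, m3⟩ := T.mem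
  obtain ⟨-, n2, n3, -, -, n6⟩ := T.ne
  rcases T.all _ (mul_mem m2 m3) (T.comm.2.1.mul_right T.comm.2.2) with e | e | e | e
  · exact absurd ((eq_inv_of_mul_eq_one_left e).trans (inv_eq_of_mul_eq_one_right (C.V_sq m3))) n6
  · exact e
  · exact absurd (mul_eq_left.mp e) n3
  · exact absurd (mul_eq_right.mp e) n2

/-- The part of the distinguished subgroup centralised. -/
theorem card_fix (R : Subgroup G) (hle : ∀ u ∈ C.V, u ∈ R → Commute S.s7 u) (h1 : T.t ∈ R)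
    (h2 : T.t' ∈ R) : Nat.card ↥(C.V ⊓ R) = 4 := by
  classical
  obtain ⟨n1, n2, n3, n4, n5, n6⟩ := T.ne
  have h3 : T.t'' ∈ R := by
    have h := mul_mem (inv_mem h2) h1
    rwa [← T.prod_eq, inv_mul_cancel_left] at h
  have hset : ((C.V ⊓ R : Subgroup G) : Set G) = {1, T.t, T.t', T.t''} := by
    ext u
    constructor
    · intro hu
      simpa using T.all u hu.1 (hle u hu.1 hu.2)
    · rintro (rfl | rfl | rfl | rfl)
      exacts [⟨one_mem _, one_mem _⟩, ⟨T.mem.1, h1⟩, ⟨T.mem.2.1, h2⟩, ⟨T.mem.2.2, h3⟩]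
  rw [← SetLike.coe_sort_coe, Nat.card_coe_set_eq, hset, Set.ncard_insert_of_notMem (by
    simp [n1.symm, n2.symm, n3.symm]), Set.ncard_insert_of_notMem (by simp [n4, n5]), Set.ncard_pair n6]

theorem orders [IsSimpleGroup G] (hG : ¬ IsMulCommutative G) :
    Nat.card ↥(centralizer ({T.t} : Set G) ⊓ normalizer (zpowers S.s7 : Set G)) = 168 ∧
    Nat.card ↥(centralizer ({T.t} : Set G) ⊓ centralizer (zpowers S.s7 : Set G)) = 56 ∧
    Nat.card ↥(normalizer (C.V : Set G) ⊓ centralizer (zpowers S.s7 : Set G)) = 168 ∧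
    Nat.card ↥((centralizer ({T.t} : Set G) ⊓ centralizer ({S.σ7} : Set G)) ⊓ centralizer (zpowers S.s7 : Set G)) = 28 := by
  have hcen := C.centralizer_T hG (T.memT hG)
  have hfix : ∀ (n : G) (hn : n ∈ normalizer (C.V : Set G)),
      n ∈ centralizer ({T.t} : Set G) ↔ S.φ ⟨n, hn⟩ • S.pairOf T.t = S.pairOf T.t := fun n hn => by
    rw [← S.fix_iff ⟨n, hn⟩ T.mem.1 T.ne.1 T.cls.1, mem_centralizer_singleton_iff]
    exact mul_inv_eq_iff_eq_mul.symm
  have hV : ∀ {u : G}, u ∈ C.V → u ∈ centralizer ({T.t} : Set G) := fun hu =>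
    mem_centralizer_singleton_iff.mpr (C.V_comm hu T.mem.1).eq
  obtain ⟨hP5, hP5'⟩ := seven_pair (Q := {ptAt 5, ptAt 11}) (by simp [fixPairs])
  rw [← T.pair.1] at hP5 hP5'
  have hlift : ∀ {m : Equiv.Perm Cfsg.GolayPt}, m ∈ Cfsg.M24 → m • S.pairOf T.t = S.pairOf T.t →
      ∃ m' : ↥Cfsg.M24, (m' : Equiv.Perm Cfsg.GolayPt) = m ∧ S.l m' ∈ centralizer ({T.t} : Set G) := fun {m} hm e =>
    ⟨⟨m, hm⟩, rfl, (hfix _ (S.KN (S.l_mem _))).mpr (by rw [S.φ_l]; exact e)⟩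
  refine ⟨?_, ?_, ?_, ?_⟩
  · rw [S.card_of_image (R := centralizer ({T.t} : Set G) ⊓ normalizer (zpowers S.s7 : Set G))
      (inf_le_left.trans hcen) (F := cgSevenN.grp ⊓ MulAction.stabilizer (Equiv.Perm Cfsg.GolayPt) (S.pairOf T.t))
      (fun n hn => mem_inf.mpr ⟨S.φ_norm _ hn.2, MulAction.mem_stabilizer_iff.mpr ((hfix n _).mp hn.1)⟩)
      (fun m hm => by
        obtain ⟨hm1, hm2⟩ := mem_inf.mp hm
        obtain ⟨m', rfl, hm'⟩ := hlift (seven_le.2 hm1) (MulAction.mem_stabilizer_iff.mp hm2)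
        exact ⟨S.l m', ⟨hm', S.l_mem_norm hm1⟩, S.φ_l m'⟩),
      T.card_fix (centralizer ({T.t} : Set G) ⊓ normalizer (zpowers S.s7 : Set G)) (fun u hu h => (S.V_norm_comm hu h.2).symm)
        ⟨hV T.mem.1, LocalCount.centralizer_le_norm _ (mem_centralizer_zpowers.mpr T.comm.1.symm)⟩
        ⟨hV T.mem.2.1, LocalCount.centralizer_le_norm _ (mem_centralizer_zpowers.mpr T.comm.2.1.symm)⟩, hP5']
  · rw [S.card_of_image (R := centralizer ({T.t} : Set G) ⊓ centralizer (zpowers S.s7 : Set G))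
      (inf_le_left.trans hcen) (F := cgSeven.grp ⊓ MulAction.stabilizer (Equiv.Perm Cfsg.GolayPt) (S.pairOf T.t))
      (fun n hn => mem_inf.mpr ⟨S.φ_comm _ (mem_centralizer_zpowers.mp hn.2),
        MulAction.mem_stabilizer_iff.mpr ((hfix n _).mp hn.1)⟩)
      (fun m hm => by
        obtain ⟨hm1, hm2⟩ := mem_inf.mp hm
        obtain ⟨m', rfl, hm'⟩ := hlift (seven_le.2 (seven_le.1 hm1)) (MulAction.mem_stabilizer_iff.mp hm2)
        exact ⟨S.l m', ⟨hm', mem_centralizer_zpowers.mpr (S.l_commute hm1)⟩, S.φ_l m'⟩),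
      T.card_fix (centralizer ({T.t} : Set G) ⊓ centralizer (zpowers S.s7 : Set G)) (fun u hu h => (mem_centralizer_zpowers.mp h.2).symm)
        ⟨hV T.mem.1, mem_centralizer_zpowers.mpr T.comm.1.symm⟩
        ⟨hV T.mem.2.1, mem_centralizer_zpowers.mpr T.comm.2.1.symm⟩, hP5]
  · rw [S.card_of_image (R := normalizer (C.V : Set G) ⊓ centralizer (zpowers S.s7 : Set G)) inf_le_left
      (F := cgSeven.grp) (fun n hn => S.φ_comm _ (mem_centralizer_zpowers.mp hn.2))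
      (fun m hm => ⟨S.l ⟨m, seven_le.2 (seven_le.1 hm)⟩, ⟨S.KN (S.l_mem _),
        mem_centralizer_zpowers.mpr (S.l_commute hm)⟩, S.φ_l _⟩),
      T.card_fix (normalizer (C.V : Set G) ⊓ centralizer (zpowers S.s7 : Set G)) (fun u hu h => (mem_centralizer_zpowers.mp h.2).symm)
        ⟨le_normalizer T.mem.1, mem_centralizer_zpowers.mpr T.comm.1.symm⟩
        ⟨le_normalizer T.mem.2.1, mem_centralizer_zpowers.mpr T.comm.2.1.symm⟩, card_seven_grps.1]
  · rw [S.card_of_image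
      (R := (centralizer ({T.t} : Set G) ⊓ centralizer ({S.σ7} : Set G)) ⊓ centralizer (zpowers S.s7 : Set G))
      ((inf_le_left.trans inf_le_left).trans hcen)
      (F := cgSeven.grp ⊓ MulAction.stabilizer (Equiv.Perm Cfsg.GolayPt) (S.pairOf T.t))
      (fun n hn => mem_inf.mpr ⟨S.φ_comm _ (mem_centralizer_zpowers.mp hn.2),
        MulAction.mem_stabilizer_iff.mpr ((hfix n _).mp hn.1.1)⟩)
      (fun m hm => by
        obtain ⟨hm1, hm2⟩ := mem_inf.mp hm
        obtain ⟨m', rfl, hm'⟩ := hlift (seven_le.2 (seven_le.1 hm1)) (MulAction.mem_stabilizer_iff.mp hm2)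
        refine ⟨S.l m', ⟨⟨hm', mem_centralizer_singleton_iff.mpr ?_⟩, mem_centralizer_zpowers.mpr (S.l_commute hm1)⟩,
          S.φ_l m'⟩
        rw [σ7, ← map_mul, ← map_mul]
        refine congrArg S.l (Subtype.ext ?_)
        show (m' : Equiv.Perm Cfsg.GolayPt) * toP cgSevenG0.1 = toP cgSevenG0.1 * m'
        rw [T.pair.1] at hm
        obtain ⟨i, -, e | e⟩ := seven_stab_mem.mp hm <;> rw [e]
        · exact (seven_G0_commute.symm.pow_left i).eq
        · exact ((seven_G0_commute.symm.pow_left i).mul_left (Commute.refl _)).eq)]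
    have hset : (C.V ⊓ ((centralizer ({T.t} : Set G) ⊓ centralizer ({S.σ7} : Set G)) ⊓
        centralizer (zpowers S.s7 : Set G))) = zpowers T.t := by
      ext u
      constructor
      · rintro ⟨hu, ⟨-, hσ⟩, hc⟩
        rcases T.all u hu (mem_centralizer_zpowers.mp hc).symm with rfl | rfl | rfl | rfl
        · exact one_mem _
        · exact mem_zpowers _
        all_goals
          have h := mem_centralizer_singleton_iff.mp hσ
          rw [eq_comm, ← mul_inv_eq_iff_eq_mul] at h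
        · exact absurd (h.symm.trans T.σ7_conj.2.1) T.ne.2.2.2.2.2
        · exact absurd (T.σ7_conj.2.2.symm.trans h) T.ne.2.2.2.2.2
      · intro hu
        refine zpowers_le.mpr ?_ hu
        exact mem_inf.mpr ⟨T.mem.1, mem_inf.mpr ⟨mem_inf.mpr ⟨hV T.mem.1, mem_centralizer_singleton_iff.mpr
          (mul_inv_eq_iff_eq_mul.mp T.σ7_conj.1).symm⟩, mem_centralizer_zpowers.mpr T.comm.1.symm⟩⟩
    haveI : Fact (Nat.Prime 2) := ⟨Nat.prime_two⟩
    rw [hset, hP5, Nat.card_zpowers, orderOf_eq_prime (by rw [pow_two, C.V_sq T.mem.1]) T.ne.1]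

/-- The involutions of the intersection of the two centralisers. -/
theorem invol_cases [IsSimpleGroup G] (hG : ¬ IsMulCommutative G) {u : G} (h2 : orderOf u = 2)
    (hs : Commute u S.s7) (ht : Commute u T.t) :
    u = T.t ∨ u = T.t' ∨ u = T.t'' ∨ u = S.σ7 ∨ u = T.t * S.σ7 := by
  have hu2 : u * u = 1 := by rw [← pow_two, ← h2, pow_orderOf_eq_one]
  have hu1 : u ≠ 1 := fun e => by rw [e, orderOf_one] at h2; norm_num at h2
  have hN : u ∈ normalizer (C.V : Set G) :=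
    C.centralizer_T hG (T.memT hG) (mem_centralizer_singleton_iff.mpr ht.eq)
  obtain ⟨v, hv, m, rfl⟩ := S.dec hN
  have hφ := S.φ_mul_l hv m hN
  have hm : (m : Equiv.Perm Cfsg.GolayPt) ∈ cgSeven.grp := hφ ▸ S.φ_comm hN hs
  have hvs : Commute S.s7 v := by
    have h := hs.mul_left (S.l_commute hm).inv_left
    rwa [mul_inv_cancel_right, Commute.symm_iff] at h
  have hmQ : (m : Equiv.Perm Cfsg.GolayPt) • S.pairOf T.t = S.pairOf T.t := by
    rw [← hφ]
    exact (S.fix_iff ⟨_, hN⟩ T.mem.1 T.ne.1 T.cls.1).mp (mul_inv_eq_iff_eq_mul.mpr ht.eq)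
  have hm2 : (m : Equiv.Perm Cfsg.GolayPt) * m = 1 := by
    rw [← hφ, ← map_mul]
    exact (S.ker_iff _).mpr (by rw [Subgroup.coe_mul, hu2]; exact one_mem _)
  rw [T.pair.1] at hmQ
  obtain ⟨i, hi, hmi⟩ := seven_stab_mem.mp (mem_inf.mpr ⟨hm, MulAction.mem_stabilizer_iff.mpr hmQ⟩)
  have hx2 : ∀ {i : ℕ}, i < 7 → xSeven ^ (i + i) = 1 → i = 0 := fun {i} hi h => by
    have := orderOf_dvd_of_pow_eq_one h
    rw [orderOf_xSeven] at this
    omega
  rcases hmi with e | e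
  · rw [e, ← pow_add] at hm2
    have hi0 := hx2 hi hm2
    have hm1 : m = 1 := Subtype.ext (by rw [e, hi0, pow_zero]; rfl)
    rw [hm1, map_one, mul_one] at hu1 ⊢
    rcases T.all v hv hvs with r | r | r | r
    exacts [absurd r hu1, Or.inl r, Or.inr (Or.inl r), Or.inr (Or.inr (Or.inl r))]
  · have hg2 : toP cgSevenG0.1 * toP cgSevenG0.1 = 1 := seven_fix_tab.2.2.2.2.2.2.2.2.2.2.2.2.2
    rw [e, (seven_G0_commute.symm.pow_left i).symm.mul_mul_mul_comm, ← pow_add, hg2, mul_one] at hm2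
    have hi0 := hx2 hi hm2
    have hmg : m = gPt := Subtype.ext (by rw [e, hi0, pow_zero, one_mul]; rfl)
    subst hmg
    have hσ2 : S.σ7 * S.σ7 = 1 := by rw [← pow_two, ← S.σ7_order, pow_orderOf_eq_one]
    have hfix : S.σ7 * v * S.σ7⁻¹ = v := by
      rw [inv_eq_of_mul_eq_one_right hσ2]
      calc S.σ7 * v * S.σ7 = v⁻¹ * (v * S.l gPt * (v * S.l gPt)) := by simp only [σ7]; group
        _ = v := by rw [hu2, mul_one, inv_eq_of_mul_eq_one_right (C.V_sq hv)]
    rcases T.all v hv hvs with r | r | r | r <;> subst r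
    · exact Or.inr (Or.inr (Or.inr (Or.inl (one_mul _))))
    · exact Or.inr (Or.inr (Or.inr (Or.inr rfl)))
    · exact absurd (hfix.symm.trans T.σ7_conj.2.1) T.ne.2.2.2.2.2
    · exact absurd (T.σ7_conj.2.2.symm.trans hfix) T.ne.2.2.2.2.2

end Trio

end Sec

end Ctx

end Cfsg.Lib.JankoFour
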