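import Cfsg.Agent.JankoFour.FiveInner
import Cfsg.Agent.JankoFour.CentralT
import Cfsg.Agent.JankoFour.SevenLocal

/-!
The involutions centralising an element of order five.
-/

set_option autoImplicit false
set_option maxRecDepth 100000
set_option maxHeartbeats 1000000
set_option linter.style.haveILetI false
set_option linter.unusedSectionVars false

namespace Cfsg.Lib.JankoFour

open Subgroup
open Data (fixB W0)

universe u

variable {G : Type u} [Group G] [Finite G]

namespace Ctx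

namespace Five

variable {z : G} {P : Subgroup G} {C : Ctx z P} (F : C.Five)

include F

theorem comm_of_lift {l : List ℕ} (hl : ∀ x ∈ l, x ∈ fixB) {a : G} (ha : a ∈ C.liftsOf l) : Commute a F.s :=
  ((F.comm_E ha.1).mpr (hl _ ha.2)).symm

theorem pW_fix : ∀ x ∈ pW5, x ∈ fixB := fun x hx => (five_lists.2.2.2.1 x hx).1

theorem six_fix : ∀ x ∈ six5, x ∈ fixB := fun x hx => (five_lists.2.2.2.2.1 x hx).1

theorem lift_order {a : G} (ha : a ∈ C.liftsOf pW5 ∨ a ∈ C.liftsOf six5) : orderOf a = 2 := by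
  haveI : Fact (Nat.Prime 2) := ⟨Nat.prime_two⟩
  obtain ⟨hE, h0, hq⟩ : a ∈ C.E ∧ C.π a ≠ 0 ∧ qB (C.π a) = false := by
    rcases ha with h | h
    · obtain ⟨-, -, h1, h2, -⟩ := five_lists.2.2.2.1 _ h.2; exact ⟨h.1, h1, h2⟩
    · obtain ⟨-, -, h1, h2, -⟩ := five_lists.2.2.2.2.1 _ h.2; exact ⟨h.1, h1, h2⟩
  exact orderOf_eq_prime (by rw [pow_two]; exact (C.π_sq a hE).mpr hq) fun e => h0 (by rw [e, C.π_one])

theorem pW_conj [IsSimpleGroup G] (hG : ¬ IsMulCommutative G) {a : G} (ha : a ∈ C.liftsOf pW5) : IsConj z a := by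
  obtain ⟨-, -, h1, h2, h3⟩ := five_lists.2.2.2.1 _ ha.2
  obtain ⟨k1, k2, k3⟩ := mem_partW.mp part_nonempty.1
  obtain ⟨b, hb, e⟩ := C.π_surj _ (W0_spec k1).1
  exact ((C.inner_card hG).2.1 b ⟨hb, e ▸ part_nonempty.1⟩).trans
    (C.conj_cls hb ha.1 (e ▸ k2) h1 (e ▸ (W0_spec k1).2.1) h2 (by rw [e, k3, h3]))

theorem six_not_conj [IsSimpleGroup G] (hG : ¬ IsMulCommutative G) {a : G} (ha : a ∈ C.liftsOf six5) :
    ¬ IsConj z a := by
  obtain ⟨-, -, h1, h2, h3⟩ := five_lists.2.2.2.2.1 _ ha.2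
  obtain ⟨k1, k2, k3⟩ := mem_partW.mp part_nonempty.2
  obtain ⟨b, hb, e⟩ := C.π_surj _ (W0_spec k1).1
  intro h
  exact (C.inner_card hG).2.2 b ⟨hb, e ▸ part_nonempty.2⟩ (h.trans
    (C.conj_cls ha.1 hb h1 (e ▸ k2) h2 (e ▸ (W0_spec k1).2.1) (by rw [e, k3, h3])))

theorem z_comm_s : Commute z F.s := (C.z_comm F.sH).symm

/-- The involutions of the extraspecial group centralising the element of order five. -/
theorem E_invol {x : G} (hx : x ∈ C.E) (hc : Commute x F.s) (h2 : x * x = 1) :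
    x = 1 ∨ x = z ∨ x ∈ C.liftsOf pW5 ∨ x ∈ C.liftsOf six5 := by
  rcases five_sing _ ((F.comm_E hx).mp hc.symm) ((C.π_sq x hx).mp h2) with h | h | h
  · rcases (C.π_zero x hx).mp h with e | e
    exacts [Or.inl e, Or.inr (Or.inl e)]
  · exact Or.inr (Or.inr (Or.inl ⟨hx, h⟩))
  · exact Or.inr (Or.inr (Or.inr ⟨hx, h⟩))

/-- The only member of the first class in the distinguished subgroup centralised. -/
theorem V_fix [IsSimpleGroup G] (hG : ¬ IsMulCommutative G) {v : G} (hv : v ∈ C.V) (hc : Commute v F.s)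
    (hz : IsConj z v) : v = z := by
  obtain ⟨⟨hvH, n, hn, hs, hr⟩, -⟩ := C.mem_V.mp hv
  have hvE : v ∈ C.E := by
    rcases xi_facts.2.1 n hn hs with rfl | ⟨k, hk, rfl⟩
    · rw [elt_zero] at hr
      have h := C.rep_quot hvH (one_mem _) hr C.rep_one
      simpa using h
    · refine absurd (mat_ext ?_ ?_ fun x hx => ?_) (five_xi k hk)
      · rw [mm, List.length_map]; rfl
      · rw [mm, List.length_map, elt_len]
      · have h := C.rep_unique (hc.eq ▸ C.rep_mul F.sH hr F.rep_s) (C.rep_mul hvH F.rep_s hr) x hx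
        exact h
  have hW : C.π v ∈ W0 := (C.mem_Wt_iff.mp ⟨hv, hvE⟩).2
  have hf := (F.comm_E hvE).mp hc.symm
  rcases five_lists.2.2.2.2.2.1 _ hf hW with h | h
  · rcases (C.π_zero v hvE).mp h with e | e
    · exact absurd (isConj_one_left.mp (e ▸ hz)) C.X.ne
    · exact e
  · exact absurd hz (F.six_not_conj hG ⟨hvE, (five_lists.2.2.2.2.2.2 _ h).2⟩)

theorem base_six {t : G} (ht : t ∈ C.liftsOf [1027]) : t ∈ C.liftsOf six5 :=
  ⟨ht.1, by rw [List.mem_singleton.mp ht.2]; decide⟩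

theorem memT [IsSimpleGroup G] (hG : ¬ IsMulCommutative G) {t : G} (ht : t ∈ C.liftsOf [1027]) :
    t ∈ (C.sextet hG).T := by
  have h6 := F.base_six ht
  refine ⟨C.Wt_le_V ⟨ht.1, ?_⟩, fun e => ?_, F.six_not_conj hG h6⟩
  · rw [List.mem_singleton.mp ht.2]; exact (five_lists.2.2.2.2.2.2 1027 (by decide)).1
  · have := F.lift_order (Or.inr h6)
    rw [e, orderOf_one] at this
    norm_num at this

theorem exists_base : ∃ t, t ∈ C.liftsOf [1027] := by
  obtain ⟨t, ht, e⟩ := C.π_surj 1027 (by norm_num)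
  exact ⟨t, ht, List.mem_singleton.mpr e⟩

theorem norm_comm {n x : G} (hn : n ∈ normalizer (zpowers F.s : Set G)) (hx : Commute x F.s) :
    Commute (n * x * n⁻¹) F.s := by
  obtain ⟨k, hk⟩ := mem_zpowers_iff.mp ((mem_normalizer_iff.mp (inv_mem hn) F.s).mp (mem_zpowers _))
  rw [inv_inv] at hk
  have h := (hx.zpow_right k).map (MulAut.conj n)
  rw [hk] at h
  simpa [mul_assoc] using h

/-- The normaliser in the centraliser of the base element lies in the centraliser of the involution. -/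
theorem base_le [IsSimpleGroup G] (hG : ¬ IsMulCommutative G) {t : G} (ht : t ∈ C.liftsOf [1027]) :
    centralizer ({t} : Set G) ⊓ normalizer (zpowers F.s : Set G) ≤ centralizer ({z} : Set G) := by
  rintro n ⟨hn1, hn2⟩
  have hnV := C.centralizer_T hG (F.memT hG ht) hn1
  exact mem_centralizer_singleton_iff.mpr (mul_inv_eq_iff_eq_mul.mp
    (F.V_fix hG ((mem_normalizer_iff.mp hnV z).mp (C.Wt_le_V C.z_mem_Wt)) (F.norm_comm hn2 F.z_comm_s)
      (isConj_iff.mpr ⟨n, rfl⟩)))

theorem six_conj {t w : G} (ht : t ∈ C.liftsOf [1027]) (hw : w ∈ C.liftsOf six5) :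
    ∃ c ∈ centralizer ({z} : Set G), Commute c F.s ∧ c * t * c⁻¹ = w := by
  obtain ⟨k, hk, j, hj, hkj⟩ := five_base.1 _ hw.2
  obtain ⟨v, hv, hvw⟩ := five_base.2.1 _ hw.2
  obtain ⟨e, he, hev⟩ := C.π_surj v (five_fix_facts.2.2.1 v hv)
  set g := formFive F.s F.h C.p (1 : G) k 0 j with hg
  have hgH := F.form_H (one_mem C.E) k 0 j
  have hgs : Commute g F.s := by
    rw [hg, formFive]
    exact (((Commute.one_left _).mul_left (F.sp.symm.pow_left k)).mul_left ((Commute.refl F.s).pow_left 0)).mul_left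
      (F.hs.pow_left j)
  have hπ : C.π (g * t * g⁻¹) = C.π w := by
    rw [F.form_fix (one_mem _) ⟨ht.1, F.six_fix _ (F.base_six ht).2⟩ hk (by norm_num : 0 < 5) hj,
      List.mem_singleton.mp ht.2, hkj]
  rcases C.π_eq (C.conj_mem hgH ht.1) hw.1 hπ with r | r
  · exact ⟨g, hgH, hgs, r⟩
  · refine ⟨e * g, mul_mem (C.le he) hgH, ((F.comm_E he).mpr (hev ▸ hv)).symm.mul_left hgs, ?_⟩
    rw [show e * g * t * (e * g)⁻¹ = e * (g * t * g⁻¹) * e⁻¹ by group, r, C.conjB he (mul_mem C.X.mem hw.1),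
      C.π_z_mul hw.1, hev, if_pos hvw, ← mul_assoc, C.X.zz, one_mul]

/-- The orders of the local subgroups of the base element. -/
theorem base_cards [IsSimpleGroup G] (hG : ¬ IsMulCommutative G) {t : G} (ht : t ∈ C.liftsOf [1027]) :
    Nat.card ↥(centralizer ({t} : Set G) ⊓ normalizer (zpowers F.s : Set G)) = 320 ∧
      Nat.card ↥(centralizer ({t} : Set G) ⊓ centralizer (zpowers F.s : Set G)) = 80 := by
  classical
  set H := centralizer ({z} : Set G) with hH
  have hCN : centralizer (zpowers F.s : Set G) ≤ normalizer (zpowers F.s : Set G) :=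
    LocalCount.centralizer_le_norm _
  have h6 := F.base_six ht
  have hts : Commute t F.s := F.comm_of_lift F.six_fix h6
  have key : ∀ K : Subgroup G, K ≤ normalizer (zpowers F.s : Set G) →
      centralizer (zpowers F.s : Set G) ≤ K →
      12 * Nat.card ↥(centralizer ({t} : Set G) ⊓ K) = Nat.card ↥(H ⊓ K) := by
    intro K hK1 hK2
    have horb : {x | ∃ k ∈ H ⊓ K, k * t * k⁻¹ = x} = C.liftsOf six5 := by
      ext x
      constructor
      · rintro ⟨k, hk, rfl⟩
        have hxE := C.conj_mem hk.1 ht.1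
        have hxs := F.norm_comm (hK1 hk.2) hts
        have h2 : k * t * k⁻¹ * (k * t * k⁻¹) = 1 := by
          rw [conj_mul, (C.π_sq t ht.1).mpr (five_lists.2.2.2.2.1 _ h6.2).2.2.2.1, mul_one, mul_inv_cancel]
        have hne : ¬ IsConj z (k * t * k⁻¹) := fun h => F.six_not_conj hG h6
          (h.trans (isConj_iff.mpr ⟨k⁻¹, by group⟩))
        rcases F.E_invol hxE hxs h2 with r | r | r | r
        · have h := F.lift_order (Or.inr h6)
          rw [conj_eq_one_iff.mp r, orderOf_one] at h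
          norm_num at h
        · exact absurd (r ▸ IsConj.refl z) hne
        · exact absurd (F.pW_conj hG r) hne
        · exact r
      · intro hx
        obtain ⟨c, hc, hcs, e⟩ := F.six_conj ht hx
        exact ⟨c, ⟨hc, hK2 (mem_centralizer_zpowers.mpr hcs)⟩, e⟩
    have h := orbit_card (H ⊓ K) t
    rw [horb, C.lifts_ncard five_lists.2.1 fun x hx => (five_lists.2.2.2.2.1 x hx).2.1] at h
    rw [← h]
    have heq : H ⊓ K ⊓ centralizer ({t} : Set G) = centralizer ({t} : Set G) ⊓ K := by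
      refine le_antisymm (le_inf inf_le_right (inf_le_left.trans inf_le_right)) fun n hn => ?_
      exact ⟨⟨F.base_le hG ht ⟨hn.1, hK1 hn.2⟩, hn.2⟩, hn.1⟩
    rw [heq]
    rfl
  have e1 := key _ le_rfl hCN
  have e2 := key _ hCN le_rfl
  rw [F.cards.1] at e1
  rw [F.cards.2] at e2
  omega

/-- An involution of the centraliser centralising the element of order five. -/
theorem invol_H {x : G} (hx : x ∈ centralizer ({z} : Set G)) (hs : Commute x F.s) (h2 : x * x = 1) :
    x ∈ C.E ∨ ∃ e ∈ C.liftsOf fixB, ∃ k < 3, x = formFive F.s F.h C.p e k 0 1 := by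
  obtain ⟨e, he, k, hk, i, hi, j, hj, rfl⟩ := F.form hx hs
  have hrep := F.form_rep he.1 k i j
  have hsq := C.rep_unique (h2 ▸ C.rep_mul hx hrep hrep) C.rep_one
  obtain ⟨rfl, h⟩ := five_square k hk i hi j hj (by
    have a := hsq 4 (by norm_num)
    have b := hsq 1024 (by norm_num)
    rw [mv_mm, mv_idM (by norm_num)] at a b
    simp [a, b])
  rcases (show j = 0 ∨ j = 1 by omega) with rfl | rfl
  · obtain rfl : k = 0 := h.resolve_left (by norm_num)
    exact Or.inl (by simpa [formFive] using he.1)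
  · exact Or.inr ⟨e, he, k, hk, rfl⟩

/-- An involution commuting with the element of order five and the base element. -/
theorem base_invol [IsSimpleGroup G] (hG : ¬ IsMulCommutative G) {t : G} (ht : t ∈ C.liftsOf [1027]) {x : G}
    (hs : Commute x F.s) (hxt : Commute x t) (h2 : x * x = 1) : x ∈ C.E := by
  have hxH := F.base_le hG ht ⟨mem_centralizer_singleton_iff.mpr hxt.eq,
    LocalCount.centralizer_le_norm _ (mem_centralizer_zpowers.mpr hs)⟩
  refine (F.invol_H hxH hs h2).resolve_right ?_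
  rintro ⟨e, he, k, hk, rfl⟩
  have h := F.form_fix he.1 (q := t) ⟨ht.1, F.six_fix _ (F.base_six ht).2⟩ hk (by norm_num : 0 < 5) (by norm_num : 1 < 2)
  rw [hxt.eq, mul_inv_cancel_right, List.mem_singleton.mp ht.2] at h
  exact absurd (five_base.2.2 k hk 1 (by norm_num) h.symm).2 (by norm_num)

end Five

end Ctx

end Cfsg.Lib.JankoFour
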