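import Cfsg.Agent.JankoFour.FusionChecks
import Cfsg.Agent.S0215

/-!
The involution has another conjugate in the extraspecial subgroup.
-/

set_option autoImplicit false
set_option maxRecDepth 100000
set_option maxHeartbeats 1000000
set_option linter.style.haveILetI false
set_option linter.unusedSectionVars false

namespace Cfsg.Lib.JankoFour

open Subgroup

universe u

variable {G : Type u} [Group G] [Finite G]

namespace Ctx

variable {z : G} {P : Subgroup G} (C : Ctx z P)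

include C

theorem inner_absurd (hno : ∀ g : G, g * z * g⁻¹ ∈ C.E → g * z * g⁻¹ = z) {w g : G} (hwS : w ∈ C.S) (hin : C.In w)
    (hne : w ≠ z) (hg : g * w * g⁻¹ = z) : False := by
  classical
  obtain ⟨hwH, i, hi, hr⟩ := C.mem_S.mp hwS
  have hwz : Commute w z := C.z_comm hwH
  have hw0 : g⁻¹ * z * g = w := by rw [← hg]; group
  have hwc : g⁻¹ * z * g⁻¹⁻¹ = w := by rw [inv_inv]; exact hw0
  have hwE : w ∉ C.E := fun h => hne (hwc ▸ hno g⁻¹ (hwc.symm ▸ h))
  have hw2 : w * w = 1 := by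
    rw [← hw0, show g⁻¹ * z * g * (g⁻¹ * z * g) = g⁻¹ * (z * z) * g by group, C.X.zz]; group
  have hwi : w⁻¹ = w := inv_eq_of_mul_eq_one_right hw2
  -- the index
  have hi0 : i ≠ 0 := fun e => hwE (by
    subst e
    rw [elt_zero] at hr
    simpa using C.rep_quot hwH (one_mem _) hr C.rep_one)
  have hii : mul8 i i = 0 := C.index_square hi (by norm_num) hwH hr (elt_zero ▸ C.rep_one) hw2
  have hcom : mm (elt i) Data.OM = mm Data.OM (elt i) := (C.in_index hwH hr).mp hin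
  have hcov := List.all_eq_true.mp fus_cover i (List.mem_range.mpr hi)
  simp only [fusOK, hcom, beq_self_eq_true, if_true, hii, Bool.not_true, Bool.or_false, Bool.or_eq_true, beq_iff_eq, hi0,
    false_or, List.any_eq_true] at hcov
  obtain ⟨⟨x, ⟨B, L⟩, cert, ys⟩, hmem, hx⟩ := hcov
  obtain rfl : i = x := hx.symm
  have hcert := List.all_eq_true.mp inn_cert _ hmem
  simp only [Bool.and_eq_true, decide_eq_true_eq, List.all_eq_true, beq_iff_eq] at hcert
  obtain ⟨⟨⟨⟨-, hB⟩, hL⟩, hys⟩, hker⟩ := hcert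
  obtain ⟨hnd, hlen⟩ := span_nodup hL
  have hfix : ∀ v ∈ spanX B, v < 4096 ∧ mv (elt i) v = v :=
    spanX_ind ⟨by norm_num, mv_zero _⟩ B fun b hb v hv =>
      ⟨Nat.xor_lt_two_pow (n := 12) (hB b hb).1 hv.1, by rw [mv_xor, (hB b hb).2, hv.2]⟩
  have himg : ∀ r < 4096, (∀ v ∈ spanX B, pB r v = false) → ∃ y < 4096, xm (elt i) y = r := by
    intro r hr' hperp
    obtain ⟨y, hy, e⟩ := List.mem_map.mp
      (kerCert_sound (pairL_xor B) hker r hr' (pairL_perp B r fun b hb => hperp b (mem_spanX B b hb)))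
    exact ⟨y, hys y hy, e⟩
  -- the centraliser and its part mapped into the extraspecial subgroup
  let A : Subgroup G := C.E ⊓ centralizer ({w} : Set G)
  let D : Subgroup G := A ⊓ C.E.comap (MulAut.conj g).toMonoidHom
  have hDmem : ∀ d, d ∈ D ↔ d ∈ A ∧ g * d * g⁻¹ ∈ C.E := fun d => Iff.rfl
  have hAw : ∀ {a}, a ∈ A → Commute a w := fun {a} ha => mem_centralizer_singleton_iff.mp ha.2
  have hAH : ∀ {a}, a ∈ A → g * a * g⁻¹ ∈ centralizer ({z} : Set G) := fun {a} ha => by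
    refine mem_centralizer_singleton_iff.mpr ?_
    rw [← hg, show g * a * g⁻¹ * (g * w * g⁻¹) = g * (a * w) * g⁻¹ by group, (hAw ha).eq]
    group
  have hzA : z ∈ A := ⟨C.X.mem, mem_centralizer_singleton_iff.mpr hwz.eq.symm⟩
  have hDz : z ∉ D := fun h => by
    have h1 := hno g ((hDmem z).mp h).2
    exact hne (mul_left_cancel (mul_right_cancel (hg.trans h1.symm)))
  have hDsq : ∀ d ∈ D, d * d = 1 := fun d hd =>
    (C.sq_cases hd.1.1).resolve_right fun e => hDz (e ▸ mul_mem hd hd)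
  have hDπ : ∀ d ∈ D, C.π d = 0 → d = 1 := fun d hd h =>
    ((C.π_zero d hd.1.1).mp h).resolve_right fun e => hDz (e ▸ hd)
  have hDA : ∀ d ∈ D, ∀ a ∈ A, pB (C.π d) (C.π a) = false := by
    intro d hd a ha
    refine (C.π_comm d hd.1.1 a ha.1).mp ?_
    have hm : a * d * a⁻¹ * d⁻¹ ∈ D := by
      refine mul_mem ((hDmem _).mpr ⟨mul_mem (mul_mem ha hd.1) (inv_mem ha), ?_⟩) (inv_mem hd)
      rw [show g * (a * d * a⁻¹) * g⁻¹ = g * a * g⁻¹ * (g * d * g⁻¹) * (g * a * g⁻¹)⁻¹ by group]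
      exact C.conj_mem (hAH ha) hd.2
    have h := C.conjB ha.1 hd.1.1
    by_cases hb : pB (C.π a) (C.π d) = true
    · rw [if_pos hb] at h
      rw [h, mul_inv_cancel_right] at hm
      exact absurd hm hDz
    · rw [if_neg hb, one_mul] at h
      exact (mul_inv_eq_iff_eq_mul.mp h).symm
  have key : ∀ d ∈ D, d ≠ 1 → ∀ e ∈ C.E, C.π (e * w * e⁻¹ * w⁻¹) = C.π d → e * w * e⁻¹ * w⁻¹ = z * d := by
    intro d hd hd1 e he hπ
    refine (C.π_eq (C.comm_w hwH hr he).1 hd.1.1 hπ).resolve_left fun h => hd1 ?_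
    have h1 : g * e * g⁻¹ * z * (g * e * g⁻¹)⁻¹ = g * d * g⁻¹ * z := by
      calc g * e * g⁻¹ * z * (g * e * g⁻¹)⁻¹ = g * (e * (g⁻¹ * z * g) * e⁻¹) * g⁻¹ := by group
        _ = g * (d * w) * g⁻¹ := by rw [hw0, ← mul_inv_eq_iff_eq_mul.mp h]
        _ = g * d * g⁻¹ * (g * w * g⁻¹) := by group
        _ = _ := by rw [hg]
    have h2 := hno (g * e * g⁻¹) (h1 ▸ mul_mem hd.2 C.X.mem)
    rw [h1] at h2
    exact conj_eq_one_iff.mp (mul_eq_right.mp h2)
  -- lifts of the fixed span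
  choose sec hsecE hsec using fun v : ↥(spanX B).toFinset => C.π_surj v.1 (hfix v.1 (List.mem_toFinset.mp v.2)).1
  let lift : ↥(spanX B).toFinset × Bool → G := fun t => (if t.2 then z else 1) * sec t.1
  have hlE : ∀ t, lift t ∈ C.E := fun t => by
    refine mul_mem ?_ (hsecE _)
    split
    exacts [C.X.mem, one_mem _]
  have hlπ : ∀ t, C.π (lift t) = t.1.1 := fun t => by
    rcases t with ⟨v, b⟩
    cases b
    · show C.π (1 * sec v) = v.1; rw [one_mul, hsec]
    · show C.π (z * sec v) = v.1; rw [C.π_z_mul (hsecE v), hsec]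
  have hlinj : Function.Injective lift := by
    rintro ⟨v, b⟩ ⟨v', b'⟩ e
    have hv : v = v' := Subtype.ext (by
      have := hlπ (v, b)
      rw [e, hlπ] at this
      exact this.symm)
    subst hv
    have e' := mul_right_cancel e
    cases b <;> cases b' <;> first | rfl | exact absurd e' C.X.ne.symm | exact absurd e' C.X.ne
  have hspanc : Nat.card (↥(spanX B).toFinset × Bool) = 512 := by
    rw [Nat.card_prod, Nat.card_eq_fintype_card (α := ↥(spanX B).toFinset), Fintype.card_coe,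
      List.toFinset_card_of_nodup hnd, hlen]
    simp
  have hc01 : ∀ e ∈ C.E, C.π e ∈ spanX B → e * w * e⁻¹ * w⁻¹ = 1 ∨ e * w * e⁻¹ * w⁻¹ = z := fun e he hv => by
    refine (C.π_zero _ (C.comm_w hwH hr he).1).mp ?_
    rw [(C.comm_w hwH hr he).2, xm, (hfix _ hv).2, Nat.xor_self]
  have hAof : ∀ e ∈ C.E, e * w * e⁻¹ * w⁻¹ = 1 → e ∈ A := fun e he h =>
    ⟨he, mem_centralizer_singleton_iff.mpr (mul_inv_eq_iff_eq_mul.mp (mul_inv_eq_one.mp h))⟩
  -- the order of the centraliser is bounded by the order of the kernel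
  have hbound : Nat.card ↥A ≤ 127 * Nat.card ↥D := by
    let A' : Subgroup G := A.map (MulAut.conj g).toMonoidHom
    have hA'H : A' ≤ centralizer ({z} : Set G) := by rintro _ ⟨a, ha, rfl⟩; exact hAH ha
    obtain ⟨h, hh, hS⟩ := C.to_S (A := A')
      (((IsPGroup.of_card (n := 13) (by rw [C.card]; norm_num)).to_le (inf_le_left : A ≤ C.E)).map _) hA'H
    have hf : ∀ a : ↥A, h * (g * a * g⁻¹) * h⁻¹ ∈ C.S := fun a => hS _ ⟨a, a.2, rfl⟩
    choose idx hidx hrep using fun a : ↥A => (C.mem_S.mp (hf a)).2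
    set k := idx ⟨z, hzA⟩
    have hsq : ∀ a : ↥A, idx a ∈ (sqIn k).toFinset := by
      intro a
      simp only [sqIn, List.mem_toFinset, List.mem_filter, List.mem_range, Bool.or_eq_true, beq_iff_eq]
      refine ⟨hidx a, ?_⟩
      have hH := (C.mem_S.mp (hf a)).1
      have hcalc : h * (g * (a : G) * g⁻¹) * h⁻¹ * (h * (g * a * g⁻¹) * h⁻¹) = h * (g * (a * a) * g⁻¹) * h⁻¹ := by group
      rcases C.sq_cases a.2.1 with e | e
      · exact Or.inl (C.index_square (hidx a) (by norm_num) hH (hrep a) (elt_zero ▸ C.rep_one) (by rw [hcalc, e]; group))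
      · exact Or.inr (C.index_square (hidx a) (hidx _) hH (hrep a) (hrep ⟨z, hzA⟩) (by rw [hcalc, e]))
    let sc : ℕ → ↥A := fun n => if hn : ∃ a, idx a = n then hn.choose else 1
    have hsc : ∀ a, idx (sc (idx a)) = idx a := fun a => by
      have hn : ∃ b, idx b = idx a := ⟨a, rfl⟩
      simp only [sc, dif_pos hn]
      exact hn.choose_spec
    have hmD : ∀ a : ↥A, (sc (idx a) : G)⁻¹ * a ∈ D := fun a => by
      refine (hDmem _).mpr ⟨mul_mem (inv_mem (sc (idx a)).2) a.2, ?_⟩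
      have hq := C.rep_quot (C.mem_S.mp (hf a)).1 (C.mem_S.mp (hf (sc (idx a)))).1 (hrep a)
        (by have := hrep (sc (idx a)); rwa [hsc] at this)
      have := C.conj_mem (inv_mem hh) hq
      rwa [show h⁻¹ * ((h * (g * (sc (idx a) : G) * g⁻¹) * h⁻¹)⁻¹ * (h * (g * a * g⁻¹) * h⁻¹)) * h⁻¹⁻¹ =
        g * ((sc (idx a) : G)⁻¹ * a) * g⁻¹ by group] at this
    let f : ↥A → ↥(sqIn k).toFinset × ↥D := fun a => (⟨idx a, hsq a⟩, ⟨_, hmD a⟩)
    have hinj : Function.Injective f := fun a b e => by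
      simp only [f, Prod.mk.injEq, Subtype.mk.injEq] at e
      obtain ⟨e1, e2⟩ := e
      rw [e1] at e2
      exact Subtype.ext (mul_left_cancel e2)
    refine (Nat.card_le_card_of_injective f hinj).trans ?_
    rw [Nat.card_prod, Nat.card_eq_fintype_card (α := ↥(sqIn k).toFinset), Fintype.card_coe]
    refine Nat.mul_le_mul_right _ ((List.toFinset_card_le _).trans ?_)
    have := List.all_eq_true.mp sq_small k (List.mem_range.mpr (hidx _))
    simp only [decide_eq_true_eq] at this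
    omega
  have hperp_img : ∀ d ∈ D, (∀ v ∈ spanX B, pB (C.π d) v = false) →
      ∃ e ∈ C.E, C.π (e * w * e⁻¹ * w⁻¹) = C.π d := by
    intro d hd hperp
    obtain ⟨y, hy, e⟩ := himg _ (C.π_lt d) hperp
    obtain ⟨q, hq, rfl⟩ := C.π_surj y hy
    exact ⟨q, hq, (C.comm_w hwH hr hq).2.trans e⟩
  have hcmul : ∀ a b : G, a * b * w * (a * b)⁻¹ * w⁻¹ = a * (b * w * b⁻¹ * w⁻¹) * a⁻¹ * (a * w * a⁻¹ * w⁻¹) :=
    fun a b => by group
  by_cases hu : ∃ u ∈ C.E, C.π u ∈ spanX B ∧ u * w * u⁻¹ * w⁻¹ = z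
  · obtain ⟨u, hu, huv, hcu⟩ := hu
    have hc : ∀ t : ↥(spanX B).toFinset × Bool, (lift t * w * (lift t)⁻¹ * w⁻¹ = 1 → lift t ∈ A) ∧
        (¬ lift t * w * (lift t)⁻¹ * w⁻¹ = 1 → lift t * u ∈ A) := fun t => by
      have hv : C.π (lift t) ∈ spanX B := (hlπ t).symm ▸ List.mem_toFinset.mp t.1.2
      refine ⟨hAof _ (hlE t), fun h => hAof _ (mul_mem (hlE t) hu) ?_⟩
      rw [hcmul, hcu, (hc01 _ (hlE t) hv).resolve_left h, C.X.central _ (hlE t), mul_inv_cancel_right, C.X.zz]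
    have h256 : 512 ≤ 2 * Nat.card ↥A := by
      let f : ↥(spanX B).toFinset × Bool → ↥A × Bool := fun t =>
        if h : lift t * w * (lift t)⁻¹ * w⁻¹ = 1 then (⟨_, (hc t).1 h⟩, false) else (⟨_, (hc t).2 h⟩, true)
      have hf : Function.Injective f := fun a b e => by
        simp only [f] at e
        split at e <;> split at e <;> simp only [Prod.mk.injEq, Subtype.mk.injEq] at e
        · exact hlinj e.1
        · exact absurd e.2 (by decide)
        · exact absurd e.2 (by decide)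
        · exact hlinj (mul_right_cancel e.1)
      have := Nat.card_le_card_of_injective f hf
      rw [hspanc, Nat.card_prod, Nat.card_eq_fintype_card (α := Bool), Fintype.card_bool, mul_comm] at this
      exact this
    have hodd : ∀ d ∈ D, d ≠ 1 → pB (C.π d) (C.π u) = true := by
      intro d hd hd1
      by_contra hb
      rw [Bool.not_eq_true] at hb
      have hperp : ∀ v ∈ spanX B, pB (C.π d) v = false := by
        intro v hv
        obtain ⟨e, he, rfl⟩ := C.π_surj v (hfix v hv).1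
        rcases hc01 e he hv with h | h
        · exact hDA d hd e (hAof e he h)
        · have := hDA d hd (e * u) (hAof _ (mul_mem he hu) (by
            rw [hcmul, hcu, h, C.X.central _ he, mul_inv_cancel_right, C.X.zz]))
          rwa [C.π_mul e he u hu, pB_xor_right, hb, Bool.xor_false] at this
      obtain ⟨e, he, hπe⟩ := hperp_img d hd hperp
      have h1 := key d hd hd1 e he hπe
      have hxu : xm (elt i) (C.π u) = 0 := by rw [xm, (hfix _ huv).2, Nat.xor_self]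
      have h2 := key d hd hd1 (e * u) (mul_mem he hu) (by
        rw [(C.comm_w hwH hr (mul_mem he hu)).2, C.π_mul e he u hu, xm_xor, hxu, Nat.xor_zero,
          ← (C.comm_w hwH hr he).2, hπe])
      rw [hcmul, hcu, h1, C.X.central _ he, mul_inv_cancel_right, ← mul_assoc, C.X.zz, one_mul] at h2
      exact C.X.ne (mul_eq_right.mp h2.symm)
    have h3 : 3 ≤ Nat.card ↥D := by omega
    obtain ⟨d1, hd1, hd1'⟩ : ∃ d ∈ D, d ≠ 1 := by
      by_contra! h
      rw [(eq_bot_iff_forall D).mpr h, card_bot] at h3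
      omega
    obtain ⟨d2, hd2, hd2', hd12⟩ : ∃ d ∈ D, d ≠ 1 ∧ d ≠ d1 := by
      by_contra! h
      have : (D : Set G) ⊆ {1, d1} := fun x hx => or_iff_not_imp_left.mpr (h x hx)
      have := Set.ncard_le_ncard this (Set.toFinite _)
      rw [← Nat.card_coe_set_eq, SetLike.coe_sort_coe] at this
      have := this.trans (Set.ncard_insert_le _ _)
      rw [Set.ncard_singleton] at this
      omega
    have h12 : d1 * d2 ≠ 1 := fun e => hd12 ((eq_inv_of_mul_eq_one_right e).trans (inv_eq_of_mul_eq_one_right (hDsq d1 hd1)))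
    have := hodd _ (mul_mem hd1 hd2) h12
    rw [C.π_mul _ hd1.1.1 _ hd2.1.1, pB_xor_left, hodd d1 hd1 hd1', hodd d2 hd2 hd2'] at this
    exact absurd this (by decide)
  · push Not at hu
    have hall : ∀ t, lift t ∈ A := fun t =>
      hAof _ (hlE t) ((hc01 _ (hlE t) ((hlπ t).symm ▸ List.mem_toFinset.mp t.1.2)).resolve_right fun h =>
        hu _ (hlE t) ((hlπ t).symm ▸ List.mem_toFinset.mp t.1.2) h)
    have h512 : 512 ≤ Nat.card ↥A := hspanc ▸ Nat.card_le_card_of_injective (fun t => (⟨_, hall t⟩ : ↥A))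
      (fun a b e => hlinj (congrArg Subtype.val e))
    have hperp : ∀ d ∈ D, ∀ v ∈ spanX B, pB (C.π d) v = false := fun d hd v hv => by
      obtain ⟨e, he, rfl⟩ := C.π_surj v (hfix v hv).1
      exact hDA d hd e (hAof e he ((hc01 e he hv).resolve_right fun h => hu e he hv h))
    have hpre : ∀ d ∈ D, d ≠ 1 → ∃ e ∈ C.E, C.π (e * w * e⁻¹ * w⁻¹) = C.π d ∧ e * w * e⁻¹ * w⁻¹ = z * d :=
      fun d hd hd1 => by
        obtain ⟨e, he, h⟩ := hperp_img d hd (hperp d hd)
        exact ⟨e, he, h, key d hd hd1 e he h⟩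
    have hpair : ∀ d d', d ∈ D → d' ∈ D → d ≠ 1 → d' ≠ 1 → d ≠ d' → ∀ e ∈ C.E, e * w * e⁻¹ * w⁻¹ = z * d →
        pB (C.π e) (C.π d') = true := by
      intro d d' hd hd' h1 h1' hne' e he hce
      obtain ⟨e', he', hπ', hce'⟩ := hpre d' hd' h1'
      have hdd : d * d' ≠ 1 := fun h => hne' ((eq_inv_of_mul_eq_one_left h).trans (inv_eq_of_mul_eq_one_right (hDsq d' hd')))
      have h := key _ (mul_mem hd hd') hdd (e * e') (mul_mem he he') (by
        rw [(C.comm_w hwH hr (mul_mem he he')).2, C.π_mul e he e' he', xm_xor, ← (C.comm_w hwH hr he).2,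
          ← (C.comm_w hwH hr he').2, hπ', hce, C.π_z_mul hd.1.1, C.π_mul d hd.1.1 d' hd'.1.1])
      rw [hcmul, hce, hce', C.conjB he (mul_mem C.X.mem hd'.1.1), C.π_z_mul hd'.1.1] at h
      by_contra hb
      rw [if_neg hb, one_mul] at h
      have hdd' : d' * d = d * d' := by
        rw [← inv_eq_of_mul_eq_one_right (hDsq _ (mul_mem hd hd')), mul_inv_rev,
          inv_eq_of_mul_eq_one_right (hDsq d hd), inv_eq_of_mul_eq_one_right (hDsq d' hd')]
      rw [show z * d' * (z * d) = z * (d' * z) * d by group, C.X.central d' hd'.1.1, ← mul_assoc, C.X.zz, one_mul,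
        hdd'] at h
      exact C.X.ne (mul_eq_right.mp h.symm)
    have h5 : 5 ≤ Nat.card ↥D := by omega
    obtain ⟨d1, hd1, hd1'⟩ : ∃ d ∈ D, d ≠ 1 := by
      by_contra! h
      rw [(eq_bot_iff_forall D).mpr h, card_bot] at h5
      omega
    obtain ⟨d2, hd2, hd2', hd12⟩ : ∃ d ∈ D, d ≠ 1 ∧ d ≠ d1 := by
      by_contra! h
      have : (D : Set G) ⊆ {1, d1} := fun x hx => or_iff_not_imp_left.mpr (h x hx)
      have := Set.ncard_le_ncard this (Set.toFinite _)
      rw [← Nat.card_coe_set_eq, SetLike.coe_sort_coe] at this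
      have := this.trans (Set.ncard_insert_le _ _)
      rw [Set.ncard_singleton] at this
      omega
    obtain ⟨d3, hd3, hd3', hd13, hd23, hd123⟩ : ∃ d ∈ D, d ≠ 1 ∧ d ≠ d1 ∧ d ≠ d2 ∧ d ≠ d1 * d2 := by
      by_contra! h
      have : (D : Set G) ⊆ {1, d1, d2, d1 * d2} := fun x hx => by
        simp only [Set.mem_insert_iff, Set.mem_singleton_iff]
        by_contra! hc
        exact hc.2.2.2 (h x hx hc.1 hc.2.1 hc.2.2.1)
      have := Set.ncard_le_ncard this (Set.toFinite _)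
      rw [← Nat.card_coe_set_eq, SetLike.coe_sort_coe] at this
      have e1 := Set.ncard_insert_le (1 : G) ({d1, d2, d1 * d2} : Set G)
      have e2 := Set.ncard_insert_le d1 ({d2, d1 * d2} : Set G)
      have e3 := Set.ncard_insert_le d2 ({d1 * d2} : Set G)
      rw [Set.ncard_singleton] at e3
      omega
    obtain ⟨e, he, -, hce⟩ := hpre d1 hd1 hd1'
    have hi3 : d3⁻¹ = d3 := inv_eq_of_mul_eq_one_right (hDsq d3 hd3)
    have h23 : d2 * d3 ≠ 1 := fun h => hd23 (hi3 ▸ (eq_inv_of_mul_eq_one_left h)).symm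
    have h1_23 : d1 ≠ d2 * d3 := fun h => hd123 (by
      rw [h, show d2 * d3 * d2 = d2 * (d3 * d2) by group, show d3 * d2 = d2 * d3 by
        rw [← inv_eq_of_mul_eq_one_right (hDsq _ (mul_mem hd2 hd3)), mul_inv_rev, hi3,
          inv_eq_of_mul_eq_one_right (hDsq d2 hd2)], ← mul_assoc, hDsq d2 hd2, one_mul])
    have := hpair d1 _ hd1 (mul_mem hd2 hd3) hd1' h23 h1_23 e he hce
    rw [C.π_mul _ hd2.1.1 _ hd3.1.1, pB_xor_right, hpair d1 d2 hd1 hd2 hd1' hd2' (Ne.symm hd12) e he hce,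
      hpair d1 d3 hd1 hd3 hd1' hd3' (Ne.symm hd13) e he hce] at this
    exact absurd this (by decide)

theorem conj_z_out (hno : ∀ g : G, g * z * g⁻¹ ∈ C.E → g * z * g⁻¹ = z) {w : G} (hw : IsConj z w)
    (hwH : w ∈ centralizer ({z} : Set G)) (hne : w ≠ z) : ¬ C.In w := by
  intro hin
  obtain ⟨g, hg⟩ := isConj_iff.mp hw.symm
  have hw2 : w * w = 1 := by
    rw [show w * w = g⁻¹ * (g * w * g⁻¹ * (g * w * g⁻¹)) * g by group, hg, C.X.zz]; group
  obtain ⟨h, hh, hS⟩ := C.to_S (A := zpowers w) (fun x => ⟨1, by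
    obtain ⟨k, hk⟩ := mem_zpowers_iff.mp x.2
    refine Subtype.ext ?_
    rw [pow_one, SubmonoidClass.coe_pow, ← hk, pow_two, ← (Commute.refl w).mul_zpow, hw2, one_zpow, Subgroup.coe_one]⟩)
    (zpowers_le.mpr hwH)
  have hne' : h * w * h⁻¹ ≠ z := fun e => hne (by
    rw [show w = h⁻¹ * (h * w * h⁻¹) * h by group, e, mul_assoc, ← (C.z_comm hh).eq, inv_mul_cancel_left])
  refine C.inner_absurd hno (hS w (mem_zpowers w)) (C.in_conj hh hwH hin) hne' (g := g * h⁻¹) ?_
  rw [show g * h⁻¹ * (h * w * h⁻¹) * (g * h⁻¹)⁻¹ = g * w * g⁻¹ by group, hg]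

theorem outer_absurd (hno : ∀ g : G, g * z * g⁻¹ ∈ C.E → g * z * g⁻¹ = z) {w g : G} (hwS : w ∈ C.S) (hne : w ≠ z)
    (hg : g * w * g⁻¹ = z) : False := by
  obtain ⟨hwH, i, hi, hr⟩ := C.mem_S.mp hwS
  have hwz : Commute w z := C.z_comm hwH
  have hw0 : g⁻¹ * z * g = w := by rw [← hg]; group
  have hconj : IsConj z w := isConj_iff.mpr ⟨g⁻¹, by rw [inv_inv]; exact hw0⟩
  have hout := C.conj_z_out hno hconj hwH hne
  have hw2 : w * w = 1 := by
    rw [← hw0, show g⁻¹ * z * g * (g⁻¹ * z * g) = g⁻¹ * (z * z) * g by group, C.X.zz]; group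
  have hwi : w⁻¹ = w := inv_eq_of_mul_eq_one_right hw2
  have hi0 : i ≠ 0 := fun e => hout (C.in_E (by
    subst e
    rw [elt_zero] at hr
    simpa using C.rep_quot hwH (one_mem _) hr C.rep_one))
  have hii : mul8 i i = 0 := C.index_square hi (by norm_num) hwH hr (elt_zero ▸ C.rep_one) hw2
  have hcom : ¬ mm (elt i) Data.OM = mm Data.OM (elt i) := fun h => hout ((C.in_index hwH hr).mpr h)
  have hcov := List.all_eq_true.mp fus_cover i (List.mem_range.mpr hi)
  simp only [fusOK, hcom, if_false, hii, beq_self_eq_true, Bool.not_true, Bool.or_false, Bool.or_eq_true, beq_iff_eq, hi0,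
    false_or, List.any_eq_true] at hcov
  obtain ⟨⟨x, ys⟩, hmem, hx⟩ := hcov
  obtain rfl : i = x := hx.symm
  have hcert := List.all_eq_true.mp out_cert _ hmem
  simp only [Bool.and_eq_true, decide_eq_true_eq, singOK, bne_iff_ne, ne_eq, Bool.not_eq_true'] at hcert
  generalize ys.getD 0 0 = y1, ys.getD 1 0 = y2, ys.getD 2 0 = y3 at hcert
  obtain ⟨⟨⟨⟨⟨⟨⟨⟨⟨l1, l2⟩, l3⟩, s1⟩, s2⟩, s3⟩, s12⟩, s13⟩, s23⟩, s123⟩ := hcert
  have hz' : g * z * g⁻¹ ∈ centralizer ({z} : Set G) ∧ ¬ C.In (g * z * g⁻¹) := by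
    have hH : g * z * g⁻¹ ∈ centralizer ({z} : Set G) := mem_centralizer_singleton_iff.mpr (by
      calc g * z * g⁻¹ * z = g * z * g⁻¹ * (g * w * g⁻¹) := by rw [hg]
        _ = g * (z * w) * g⁻¹ := by group
        _ = g * (w * z) * g⁻¹ := by rw [hwz.eq]
        _ = g * w * g⁻¹ * (g * z * g⁻¹) := by group
        _ = z * (g * z * g⁻¹) := by rw [hg])
    exact ⟨hH, C.conj_z_out hno (isConj_iff.mpr ⟨g, rfl⟩) hH fun e =>
      hne (mul_left_cancel (mul_right_cancel (hg.trans e.symm)))⟩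
  have hcom' : ∀ e ∈ C.E, ∀ y, C.π e = y → xm (elt i) y ≠ 0 → qB (xm (elt i) y) = false →
      g * (e * w * e⁻¹ * w⁻¹) * g⁻¹ ∈ centralizer ({z} : Set G) ∧ ¬ C.In (g * (e * w * e⁻¹ * w⁻¹) * g⁻¹) := by
    intro e he y hy hr0 hq
    obtain ⟨hcE, hcπ⟩ := C.comm_w hwH hr he
    rw [hy] at hcπ
    set c := e * w * e⁻¹ * w⁻¹ with hc
    have hcc : c * c = 1 := (C.π_sq c hcE).mpr (hcπ ▸ hq)
    have hcw : e * w * e⁻¹ = c * w := by rw [hc, inv_mul_cancel_right]
    have hsq : c * w * (c * w) = 1 := by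
      rw [← hcw, show e * w * e⁻¹ * (e * w * e⁻¹) = e * (w * w) * e⁻¹ by group, hw2]; group
    have hcomm : c * w = w * c := by
      rw [← inv_eq_of_mul_eq_one_right hsq, mul_inv_rev, hwi, inv_eq_of_mul_eq_one_right hcc]
    have hgH : g * c * g⁻¹ ∈ centralizer ({z} : Set G) := mem_centralizer_singleton_iff.mpr (by
      rw [← hg, show g * c * g⁻¹ * (g * w * g⁻¹) = g * (c * w) * g⁻¹ by group, hcomm]; group)
    refine ⟨hgH, fun hin => ?_⟩
    refine C.conj_z_out hno (w := g * c * g⁻¹ * z) (isConj_iff.mpr ⟨g * e * g⁻¹, ?_⟩)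
      (mul_mem hgH (C.le C.X.mem)) (fun h => ?_) (C.in_mul hgH hin (C.in_E C.X.mem))
    · calc g * e * g⁻¹ * z * (g * e * g⁻¹)⁻¹ = g * (e * (g⁻¹ * z * g) * e⁻¹) * g⁻¹ := by group
        _ = g * (c * w) * g⁻¹ := by rw [hw0, hcw]
        _ = g * c * g⁻¹ * (g * w * g⁻¹) := by group
        _ = _ := by rw [hg]
    · have hc1 : c = 1 := conj_eq_one_iff.mp (mul_eq_right.mp h)
      rw [hc1, C.π_one] at hcπ
      exact hr0 hcπ.symm
  have hB : ∀ a b, a < 4096 → b < 4096 → (xm (elt i) a ≠ 0 ∧ qB (xm (elt i) a) = false) →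
      (xm (elt i) b ≠ 0 ∧ qB (xm (elt i) b) = false) →
      (xm (elt i) (a ^^^ b) ≠ 0 ∧ qB (xm (elt i) (a ^^^ b)) = false) → pB a (xm (elt i) b) = true := by
    intro a b ha hb sa sb sab
    obtain ⟨e, he, hea⟩ := C.π_surj a ha
    obtain ⟨e', he', heb⟩ := C.π_surj b hb
    obtain ⟨m1, n1⟩ := hcom' e he a hea sa.1 sa.2
    obtain ⟨m2, n2⟩ := hcom' e' he' b heb sb.1 sb.2
    obtain ⟨-, n12⟩ := hcom' (e * e') (mul_mem he he') _ (by rw [C.π_mul e he e' he', hea, heb]) sab.1 sab.2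
    by_contra hb'
    refine n12 ?_
    rw [show e * e' * w * (e * e')⁻¹ * w⁻¹ = e * (e' * w * e'⁻¹ * w⁻¹) * e⁻¹ * (e * w * e⁻¹ * w⁻¹) by group,
      C.conjB he (C.comm_w hwH hr he').1, hea, (C.comm_w hwH hr he').2, heb, if_neg hb', one_mul, ← conj_mul]
    exact C.out_out m2 m1 n2 n1
  have b12 := hB y1 y2 l1 l2 s1 s2 s12
  have b13 := hB y1 y3 l1 l3 s1 s3 s13
  have b123 := hB y1 (y2 ^^^ y3) l1 (Nat.xor_lt_two_pow (n := 12) l2 l3) s1 s23 s123
  rw [xm_xor, pB_xor_right, b12, b13] at b123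
  exact absurd b123 (by decide)

theorem exists_conj_E [IsSimpleGroup G] (hG : ¬ IsMulCommutative G) :
    ∃ g : G, g * z * g⁻¹ ∈ C.E ∧ g * z * g⁻¹ ≠ z := by
  by_contra! hno
  obtain ⟨T, hT⟩ := C.sylow
  have hzT : z ∈ (T : Subgroup G) := hT ▸ C.E_le_S C.X.mem
  by_cases hiso : ∀ g : G, g * z * g⁻¹ ∈ T → g * z * g⁻¹ = z
  · obtain ⟨N, hN, hodd, hcN⟩ := Cfsg.Agent.S0215.result T z C.hz hzT hiso
    rcases IsSimpleGroup.eq_bot_or_eq_top_of_normal N hN with h | h
    · have hzc : z ∈ center G := mem_center_iff.mpr fun g => by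
        have hm := hcN g
        rw [h, mem_bot] at hm
        exact (mul_inv_eq_iff_eq_mul.mp (mul_inv_eq_one.mp hm)).symm
      rcases IsSimpleGroup.eq_bot_or_eq_top_of_normal (center G) inferInstance with h' | h'
      · rw [h', mem_bot] at hzc
        exact C.X.ne hzc
      · exact hG ⟨⟨fun a b => (mem_center_iff.mp (h' ▸ mem_top a : a ∈ center G) b).symm⟩⟩
    · rw [h, card_top] at hodd
      have h2 : 2 ∣ Nat.card G := C.hz ▸ orderOf_dvd_natCard z
      exact (Nat.not_even_iff_odd.mpr hodd) (even_iff_two_dvd.mpr h2)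
  · push Not at hiso
    obtain ⟨g, hgT, hne⟩ := hiso
    exact C.outer_absurd hno (g := g⁻¹) (hT ▸ hgT) hne (by group)

end Ctx

end Cfsg.Lib.JankoFour
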