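import Cfsg.Agent.JankoFour.Inner
import Cfsg.Agent.JankoFour.FusionData

/-!
Finite checks for the involutions of the Sylow subgroup.
-/

set_option autoImplicit false
set_option maxRecDepth 100000

namespace Cfsg.Lib.JankoFour

/-- The span of a list of codes. -/
def spanX : List ℕ → List ℕ
  | [] => [0]
  | b :: r => spanX r ++ (spanX r).map (b ^^^ ·)

theorem spanX_ind {p : ℕ → Prop} (h0 : p 0) : ∀ B : List ℕ, (∀ b ∈ B, ∀ x, p x → p (b ^^^ x)) → ∀ x ∈ spanX B, p x := by
  intro B
  induction B with
  | nil => intro _ x hx; rw [spanX, List.mem_singleton] at hx; exact hx ▸ h0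
  | cons b r ih =>
    intro h x hx
    have ih' := ih fun c hc => h c (List.mem_cons_of_mem _ hc)
    rcases List.mem_append.mp hx with hx | hx
    · exact ih' x hx
    · obtain ⟨y, hy, rfl⟩ := List.mem_map.mp hx
      exact h b List.mem_cons_self y (ih' y hy)

theorem zero_mem_spanX : ∀ B : List ℕ, (0 : ℕ) ∈ spanX B
  | [] => List.mem_singleton_self 0
  | _ :: r => List.mem_append_left _ (zero_mem_spanX r)

theorem mem_spanX : ∀ B : List ℕ, ∀ b ∈ B, b ∈ spanX B
  | c :: r, b, hb => by
    rcases List.mem_cons.mp hb with rfl | hb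
    · exact List.mem_append_right _ (List.mem_map.mpr ⟨0, zero_mem_spanX r, Nat.xor_zero _⟩)
    · exact List.mem_append_left _ (mem_spanX r b hb)

/-- An index is that of an inner involution with a certificate or an outer one with a certificate. -/
def fusOK (i : ℕ) : Bool :=
  i == 0 || !(mul8 i i == 0) ||
    if mm (elt i) Data.OM == mm Data.OM (elt i) then Data.innC.any (fun c => c.1 == i) else Data.outC.any (fun c => c.1 == i)

theorem fus_cover : ((List.range 256).all fusOK) = true := by decide +kernel

theorem inn_cert : (Data.innC.all fun c => decide (c.1 < 256) &&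
    c.2.1.1.all (fun b => decide (b < 4096) && mv (elt c.1) b == b) &&
    (c.2.1.1.map (mv c.2.1.2) == [1, 2, 4, 8, 16, 32, 64, 128]) && c.2.2.2.all (fun y => decide (y < 4096)) &&
    kerCert (pairL c.2.1.1) c.2.2.1 (c.2.2.2.map (xm (elt c.1)))) = true := by decide +kernel

theorem spanX_map {f : ℕ → ℕ} (hf : ∀ a b, f (a ^^^ b) = f a ^^^ f b) :
    ∀ B : List ℕ, (spanX B).map f = spanX (B.map f) := by
  intro B
  induction B with
  | nil =>
    have h0 : f 0 = 0 := by simpa using hf 0 0
    simp [spanX, h0]
  | cons b r ih =>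
    rw [List.map_cons, spanX, spanX, List.map_append, ← ih, List.map_map, List.map_map]
    congr 1
    exact List.map_congr_left fun a _ => hf b a

theorem span_basis : (spanX [1, 2, 4, 8, 16, 32, 64, 128]).Nodup ∧ (spanX [1, 2, 4, 8, 16, 32, 64, 128]).length = 256 := by
  refine ⟨?_, by decide +kernel⟩
  refine List.Perm.nodup_iff (l₂ := List.range 256) ?_ |>.mpr List.nodup_range
  exact (List.subperm_of_subset List.nodup_range (fun i hi => List.contains_iff_mem.mp
    (List.all_eq_true.mp (show ((List.range 256).all fun i => (spanX [1, 2, 4, 8, 16, 32, 64, 128]).contains i) = true by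
      decide +kernel) i hi))).perm_of_length_le (by decide +kernel) |>.symm

theorem span_nodup {B L : List ℕ} (h : B.map (mv L) = [1, 2, 4, 8, 16, 32, 64, 128]) :
    (spanX B).Nodup ∧ (spanX B).length = 256 := by
  have e := spanX_map (mv_xor L) B
  rw [h] at e
  exact ⟨List.Nodup.of_map _ (e ▸ span_basis.1), by rw [← List.length_map (f := mv L), e]; exact span_basis.2⟩

/-- A code is a non-zero singular image. -/
def singOK (M : List ℕ) (y : ℕ) : Bool := xm M y != 0 && !qB (xm M y)

theorem out_cert : (Data.outC.all fun c =>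
    (fun y1 y2 y3 => decide (y1 < 4096) && decide (y2 < 4096) && decide (y3 < 4096) &&
      singOK (elt c.1) y1 && singOK (elt c.1) y2 && singOK (elt c.1) y3 && singOK (elt c.1) (y1 ^^^ y2) &&
      singOK (elt c.1) (y1 ^^^ y3) && singOK (elt c.1) (y2 ^^^ y3) && singOK (elt c.1) (y1 ^^^ (y2 ^^^ y3)))
      (c.2.getD 0 0) (c.2.getD 1 0) (c.2.getD 2 0)) = true := by decide +kernel

/-- The indices with square among two values. -/
def sqIn (k : ℕ) : List ℕ := (List.range 256).filter fun i => mul8 i i == 0 || mul8 i i == k

theorem sq_small : ((List.range 256).all fun k => decide ((sqIn k).length < 128)) = true := by decide +kernel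

end Cfsg.Lib.JankoFour
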