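import Cfsg.Agent.JankoFour.Existence

/-!
The subgroup of index two of the centraliser of the involution, and elementary facts on commutators with the
extraspecial subgroup.
-/

set_option autoImplicit false
set_option maxRecDepth 100000
set_option maxHeartbeats 1000000
set_option linter.style.haveILetI false
set_option linter.unusedSectionVars false

namespace Cfsg.Lib.JankoFour

open Subgroup
open scoped commutatorElement

universe u

variable {G : Type u} [Group G] [Finite G]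

/-- The displacement of a code by a coded map. -/
def xm (M : List ℕ) (y : ℕ) : ℕ := mv M y ^^^ y

theorem xm_xor (M : List ℕ) (a b : ℕ) : xm M (a ^^^ b) = xm M a ^^^ xm M b := by
  simp [xm, mv_xor, Nat.xor_assoc, Nat.xor_left_comm]

theorem elt_len (i : ℕ) : (elt i).length = 12 := by
  rw [elt, List.getD_eq_getElem?_getD]
  rcases h : Data.els[i]? with _ | M
  · rfl
  · exact beq_iff_eq.mp (List.all_eq_true.mp els_faithful M (List.mem_of_getElem? h))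

namespace Ctx

variable {z : G} {P : Subgroup G} (C : Ctx z P)

include C

/-- Elements centralising the element of order three modulo the extraspecial subgroup. -/
def In (h : G) : Prop := h * C.p * h⁻¹ * C.p⁻¹ ∈ C.E

theorem in_mul {a b : G} (ha : a ∈ centralizer ({z} : Set G)) (h1 : C.In a) (h2 : C.In b) : C.In (a * b) := by
  have h3 := mul_mem (C.conj_mem ha h2) h1
  show a * b * C.p * (a * b)⁻¹ * C.p⁻¹ ∈ C.E
  rwa [show a * b * C.p * (a * b)⁻¹ * C.p⁻¹ = a * (b * C.p * b⁻¹ * C.p⁻¹) * a⁻¹ * (a * C.p * a⁻¹ * C.p⁻¹) by group]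

theorem in_inv {a : G} (ha : a ∈ centralizer ({z} : Set G)) (h1 : C.In a) : C.In a⁻¹ := by
  have h := C.conj_mem (inv_mem ha) (inv_mem h1)
  show a⁻¹ * C.p * a⁻¹⁻¹ * C.p⁻¹ ∈ C.E
  rwa [show a⁻¹ * C.p * a⁻¹⁻¹ * C.p⁻¹ = a⁻¹ * (a * C.p * a⁻¹ * C.p⁻¹)⁻¹ * a⁻¹⁻¹ by group]

theorem in_E {e : G} (he : e ∈ C.E) : C.In e := by
  show e * C.p * e⁻¹ * C.p⁻¹ ∈ C.E
  rw [show e * C.p * e⁻¹ * C.p⁻¹ = e * (C.p * e⁻¹ * C.p⁻¹) by group]
  exact mul_mem he (C.conj_mem C.pH (inv_mem he))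

theorem out_spec {h : G} (hh : h ∈ centralizer ({z} : Set G)) (hn : ¬ C.In h) : h * C.p * h⁻¹ * C.p ∈ C.E := by
  obtain ⟨e, he, m, hm, rfl⟩ := C.NE h hh
  have hmH : m ∈ centralizer ({z} : Set G) := by simpa using mul_mem (inv_mem (C.le he)) hh
  rcases C.deg m hmH hm with d | d
  · refine absurd (C.in_mul (C.le he) (C.in_E he) (show C.In m from ?_)) hn
    show m * C.p * m⁻¹ * C.p⁻¹ ∈ C.E
    rw [d, mul_inv_cancel]
    exact one_mem _
  · rw [show e * m * C.p * (e * m)⁻¹ * C.p = e * ((m * C.p * m⁻¹) * e⁻¹ * C.p) by group, d]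
    refine mul_mem he ?_
    simpa using C.conj_mem (inv_mem C.pH) (inv_mem he)

theorem out_out {a b : G} (ha : a ∈ centralizer ({z} : Set G)) (hb : b ∈ centralizer ({z} : Set G)) (h1 : ¬ C.In a)
    (h2 : ¬ C.In b) : C.In (a * b) := by
  have e1 := C.out_spec ha h1
  have e2 := C.conj_mem ha (C.out_spec hb h2)
  have h3 := C.conj_mem C.pH (inv_mem e1)
  have h4 := mul_mem e2 h3
  show a * b * C.p * (a * b)⁻¹ * C.p⁻¹ ∈ C.E
  rwa [show a * b * C.p * (a * b)⁻¹ * C.p⁻¹ =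
    a * (b * C.p * b⁻¹ * C.p) * a⁻¹ * (C.p * (a * C.p * a⁻¹ * C.p)⁻¹ * C.p⁻¹) by group]

theorem in_mul_left {a b : G} (ha : a ∈ centralizer ({z} : Set G)) (h1 : C.In a) (h : C.In (a * b)) : C.In b := by
  simpa using C.in_mul (inv_mem ha) (C.in_inv ha h1) h

theorem in_mul_right {a b : G} (ha : a ∈ centralizer ({z} : Set G)) (hb : b ∈ centralizer ({z} : Set G)) (h1 : C.In b)
    (h : C.In (a * b)) : C.In a := by
  simpa using C.in_mul (mul_mem ha hb) h (C.in_inv hb h1)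

theorem in_conj {h a : G} (hh : h ∈ centralizer ({z} : Set G)) (ha : a ∈ centralizer ({z} : Set G)) (h1 : C.In a) :
    C.In (h * a * h⁻¹) := by
  by_cases h2 : C.In h
  · exact C.in_mul (mul_mem hh ha) (C.in_mul hh h2 h1) (C.in_inv hh h2)
  · refine C.out_out (mul_mem hh ha) (inv_mem hh) (fun h => h2 (C.in_mul_right hh ha h1 h)) fun h => h2 ?_
    simpa using C.in_inv (inv_mem hh) h

theorem in_iff_rep {h : G} {M : List ℕ} (hh : h ∈ centralizer ({z} : Set G)) (hr : RepBy C.E C.π h M) :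
    C.In h ↔ ∀ y < 4096, mv M (mv Data.OM y) = mv Data.OM (mv M y) := by
  constructor
  · intro hi y hy
    obtain ⟨q, hq, rfl⟩ := C.π_surj y hy
    rw [← C.rep_p q hq, ← hr _ (C.conj_mem C.pH hq), ← hr q hq, ← C.rep_p _ (C.conj_mem hh hq)]
    have hq' := C.conj_mem C.pH (C.conj_mem hh hq)
    rw [show h * (C.p * q * C.p⁻¹) * h⁻¹ =
      (h * C.p * h⁻¹ * C.p⁻¹) * (C.p * (h * q * h⁻¹) * C.p⁻¹) * (h * C.p * h⁻¹ * C.p⁻¹)⁻¹ by group,
      C.rep_E hi _ hq', mv_idM (C.π_lt _)]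
  · intro hc
    have r1 : RepBy C.E C.π (h * C.p) (mm Data.OM M) := fun q hq => by
      rw [C.rep_mul C.pH hr C.rep_p q hq, mv_mm, mv_mm, hc _ (C.π_lt q)]
    have hm := C.conj_mem (mul_mem C.pH hh)
      (C.rep_quot (mul_mem hh C.pH) (mul_mem C.pH hh) r1 (C.rep_mul hh C.rep_p hr))
    show h * C.p * h⁻¹ * C.p⁻¹ ∈ C.E
    rwa [show h * C.p * h⁻¹ * C.p⁻¹ = (C.p * h) * ((C.p * h)⁻¹ * (h * C.p)) * (C.p * h)⁻¹ by group]

theorem π_one : C.π 1 = 0 := (C.π_zero 1 (one_mem _)).mpr (Or.inl rfl)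

theorem π_inv {a : G} (ha : a ∈ C.E) : C.π a⁻¹ = C.π a := by
  have h := C.π_mul a⁻¹ (inv_mem ha) a ha
  rw [inv_mul_cancel, C.π_one] at h
  exact Nat.xor_eq_zero_iff.mp h.symm

theorem π_z_mul {a : G} (ha : a ∈ C.E) : C.π (z * a) = C.π a := by
  rw [C.π_mul z C.X.mem a ha, (C.π_zero z C.X.mem).mpr (Or.inr rfl), Nat.zero_xor]

theorem π_eq {a b : G} (ha : a ∈ C.E) (hb : b ∈ C.E) (h : C.π a = C.π b) : a = b ∨ a = z * b := by
  have hm : a * b⁻¹ ∈ C.E := mul_mem ha (inv_mem hb)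
  have h0 : C.π (a * b⁻¹) = 0 := by rw [C.π_mul a ha _ (inv_mem hb), C.π_inv hb, h, Nat.xor_self]
  rcases (C.π_zero _ hm).mp h0 with e | e
  · exact Or.inl (mul_inv_eq_one.mp e)
  · exact Or.inr (mul_inv_eq_iff_eq_mul.mp e)

theorem sq_cases {a : G} (ha : a ∈ C.E) : a * a = 1 ∨ a * a = z :=
  (C.π_zero _ (mul_mem ha ha)).mp (by rw [C.π_mul a ha a ha, Nat.xor_self])

theorem conjB {e c : G} (he : e ∈ C.E) (hc : c ∈ C.E) :
    e * c * e⁻¹ = (if pB (C.π e) (C.π c) then z else 1) * c := by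
  by_cases hb : pB (C.π e) (C.π c) = true
  · rw [if_pos hb]
    rcases C.X.comm _ he _ hc with h | h
    · rw [(C.π_comm e he c hc).mp (commutatorElement_eq_one_iff_mul_comm.mp h)] at hb
      exact absurd hb (by decide)
    · rw [← h, commutatorElement_def]; group
  · rw [if_neg hb, one_mul, ((C.π_comm e he c hc).mpr (by simpa using hb)).eq, mul_inv_cancel_right]

theorem comm_w {w e : G} {M : List ℕ} (hw : w ∈ centralizer ({z} : Set G)) (hr : RepBy C.E C.π w M) (he : e ∈ C.E) :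
    e * w * e⁻¹ * w⁻¹ ∈ C.E ∧ C.π (e * w * e⁻¹ * w⁻¹) = xm M (C.π e) := by
  have h := C.conj_mem hw (inv_mem he)
  rw [show e * w * e⁻¹ * w⁻¹ = e * (w * e⁻¹ * w⁻¹) by group]
  refine ⟨mul_mem he h, ?_⟩
  rw [C.π_mul e he _ h, hr _ (inv_mem he), C.π_inv he, xm, Nat.xor_comm]

theorem in_index {h : G} {i : ℕ} (hh : h ∈ centralizer ({z} : Set G)) (hr : RepBy C.E C.π h (elt i)) :
    C.In h ↔ mm (elt i) Data.OM = mm Data.OM (elt i) := by
  rw [C.in_iff_rep hh hr]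
  constructor
  · intro hc
    refine mat_ext ?_ ?_ fun x hx => by rw [mv_mm, mv_mm, hc x hx]
    · rw [mm, List.length_map]; rfl
    · rw [mm, List.length_map, elt_len]
  · intro e y _
    rw [← mv_mm, e, mv_mm]

theorem to_S {A : Subgroup G} (hA : IsPGroup 2 ↥A) (hAH : A ≤ centralizer ({z} : Set G)) :
    ∃ h ∈ centralizer ({z} : Set G), ∀ a ∈ A, h * a * h⁻¹ ∈ C.S := by
  haveI : Fact (Nat.Prime 2) := ⟨Nat.prime_two⟩
  obtain ⟨T, hT⟩ := C.sylow
  have hTH : (T : Subgroup G) ≤ centralizer ({z} : Set G) := fun s hs => (C.mem_S.mp (hT ▸ hs)).1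
  obtain ⟨Q, hQ⟩ := (hA.of_equiv (subgroupOfEquivOfLe hAH).symm).exists_le_sylow
  obtain ⟨h, hh⟩ := MulAction.exists_smul_eq ↥(centralizer ({z} : Set G)) Q (T.subtype hTH)
  refine ⟨h, h.2, fun a ha => ?_⟩
  have h1 : h * ⟨a, hAH ha⟩ * h⁻¹ ∈ ((h • Q : Sylow 2 ↥(centralizer ({z} : Set G))) : Subgroup ↥(centralizer ({z} : Set G))) := by
    rw [Sylow.coe_subgroup_smul]
    exact ⟨⟨a, hAH ha⟩, hQ (mem_subgroupOf.mpr ha), rfl⟩
  rw [hh] at h1
  exact hT ▸ (mem_subgroupOf.mp h1 : (h : G) * a * (h : G)⁻¹ ∈ (T : Subgroup G))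

theorem index_square {a b : G} {i k : ℕ} (hi : i < 256) (hk : k < 256) (ha : a ∈ centralizer ({z} : Set G))
    (hr : RepBy C.E C.π a (elt i)) (hb : RepBy C.E C.π b (elt k)) (e : a * a = b) : mul8 i i = k :=
  elt_inj (mul8_lt i i) hk (C.rep_unique (e ▸ C.Sset_mul hi hi ha hr hr) hb)

end Ctx

end Cfsg.Lib.JankoFour
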