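import Cfsg.Agent.JankoFour.Coords

/-!
The invariant alternating form and the semilinear map in standard coordinates.
-/

set_option autoImplicit false
set_option maxRecDepth 100000
set_option maxHeartbeats 1000000

namespace Cfsg.Lib.JankoFour

open Data

theorem pB_xor_left (x x' y : ℕ) : pB (x ^^^ x') y = (pB x y ^^ pB x' y) := by
  rw [pB, mv_xor, Nat.and_xor_distrib_right, parity_xor]; rfl

theorem pB_xor_right (x y y' : ℕ) : pB x (y ^^^ y') = (pB x y ^^ pB x y') := by
  rw [pB, Nat.and_xor_distrib_left, parity_xor]; rfl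

theorem pB_zero (x : ℕ) : pB x 0 = false := by
  rw [pB, Nat.and_zero]; rfl

theorem pB_zero_left (x : ℕ) : pB 0 x = false := by
  rw [pB, mv_zero, Nat.zero_and]; rfl

theorem xor_bool_zero {g : ℕ → Bool} (hg : ∀ a b, g (a ^^^ b) = (g a ^^ g b)) : g 0 = false := by
  have h := hg 0 0
  rw [Nat.xor_self] at h
  revert h
  cases g 0 <;> simp

/-- Bit-valued bilinear maps agreeing on the basis agree. -/
theorem bilin_ext {g h : ℕ → ℕ → Bool}
    (g1 : ∀ a a' b, g (a ^^^ a') b = (g a b ^^ g a' b)) (g2 : ∀ a b b', g a (b ^^^ b') = (g a b ^^ g a b'))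
    (h1 : ∀ a a' b, h (a ^^^ a') b = (h a b ^^ h a' b)) (h2 : ∀ a b b', h a (b ^^^ b') = (h a b ^^ h a b'))
    (e : ∀ i < 12, ∀ j < 12, g (2 ^ i) (2 ^ j) = h (2 ^ i) (2 ^ j)) : ∀ x < 4096, ∀ y < 4096, g x y = h x y := by
  intro x hx y hy
  refine lin_ext (fun a b => (a ^^ b)) 12 (f := fun x => g x y) (g := fun x => h x y) (fun a b => g1 a b y)
    (fun a b => h1 a b y) ?_ (fun i hi => ?_) x hx
  · rw [xor_bool_zero (g := fun x => g x y) fun a b => g1 a b y, xor_bool_zero (g := fun x => h x y) fun a b => h1 a b y]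
  · refine lin_ext (fun a b => (a ^^ b)) 12 (f := g (2 ^ i)) (g := h (2 ^ i)) (g2 _) (h2 _) ?_ (e i hi) y hy
    rw [xor_bool_zero (g2 _), xor_bool_zero (h2 _)]

theorem pB_inv : ∀ M ∈ [A, B, C, OM, T], ∀ x < 4096, ∀ y < 4096, pB (mv M x) (mv M y) = pB x y := by
  intro M hM
  refine bilin_ext (fun a a' b => by rw [mv_xor, pB_xor_left]) (fun a b b' => by rw [mv_xor, pB_xor_right])
    pB_xor_left pB_xor_right fun i hi j hj => ?_
  have h := List.all_eq_true.mp form_ok.1 M hM
  exact beq_iff_eq.mp (List.all_eq_true.mp (List.all_eq_true.mp h _ (idM_two_pow hi)) _ (idM_two_pow hj))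

theorem pB_symm : ∀ x < 4096, ∀ y < 4096, pB x y = pB y x := by
  refine bilin_ext pB_xor_left pB_xor_right (fun a a' b => pB_xor_right b a a') (fun a b b' => pB_xor_left b b' a)
    fun i hi j hj => ?_
  exact beq_iff_eq.mp (List.all_eq_true.mp (List.all_eq_true.mp form_ok.2.1 _ (idM_two_pow hi)) _ (idM_two_pow hj))

/-- The number with given bits. -/
def bitsN (g : ℕ → Bool) : ℕ := ((List.range 12).map fun y => if g y then 2 ^ y else 0).foldr (· ^^^ ·) 0

theorem bitsN_spec (g : ℕ → Bool) : bitsN g < 4096 ∧ ∀ l < 12, (bitsN g).testBit l = g l ∧ parity (bitsN g &&& 2 ^ l) = g l := by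
  have h : ∀ n, n ≤ 12 → ∀ l, ((((List.range n).map fun y => if g y then 2 ^ y else 0).foldr (· ^^^ ·) 0).testBit l) =
      (decide (l < n) && g l) := by
    intro n
    induction n with
    | zero => intro _ l; simp
    | succ n ih =>
      intro hn l
      have hfr : ∀ (L : List ℕ) (z : ℕ), (L ++ [z]).foldr (· ^^^ ·) 0 = L.foldr (· ^^^ ·) 0 ^^^ z := by
        intro L z
        induction L with
        | nil => simp
        | cons y L ih => simp [ih, Nat.xor_assoc]
      rw [List.range_succ, List.map_append, List.map_singleton, hfr, Nat.testBit_xor, ih (by omega)]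
      rcases Nat.lt_trichotomy l n with hl | rfl | hl
      · cases g n <;> simp [hl, Nat.testBit_two_pow, show n ≠ l by omega, show l < n + 1 by omega]
      · cases hg : g l <;> simp [hg]
      · cases g n <;> simp [Nat.testBit_two_pow, show n ≠ l by omega, show ¬ l < n by omega,
          show ¬ l < n + 1 by omega]
  refine ⟨Nat.lt_pow_two_of_testBit (n := 12) _ fun i hi => by rw [bitsN, h 12 le_rfl]; simp [show ¬ i < 12 by omega],
    fun l hl => ?_⟩
  have ht : (bitsN g).testBit l = g l := by rw [bitsN, h 12 le_rfl]; simp [hl]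
  refine ⟨ht, ?_⟩
  have hp : ∀ l < 12, parity (2 ^ l) = true ∧ parity 0 = false := by decide +kernel
  rw [show bitsN g &&& 2 ^ l = if (bitsN g).testBit l then 2 ^ l else 0 from ?_, ht]
  · cases g l <;> simp [hp l hl]
  · refine Nat.eq_of_testBit_eq fun i => ?_
    rw [Nat.testBit_and, Nat.testBit_two_pow]
    split
    · rename_i ht'
      rw [Nat.testBit_two_pow]
      by_cases e : l = i
      · subst e; simp [ht']
      · simp [e]
    · rename_i ht'
      by_cases e : l = i
      · subst e; simp at ht'; simp [ht']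
      · simp [e]

namespace Frame

variable {V : Type*} [AddCommGroup V] {w a b c : AddMonoid.End V} {f : ℕ → V} (F : Frame w a b c f)

include F

theorem f_zero : f 0 = 0 := by
  have h := F.add 0 0
  rw [Nat.xor_self] at h
  exact left_eq_add.mp h

theorem form_eq (β : V → V → Bool) (b1 : ∀ u u' v, β (u + u') v = (β u v ^^ β u' v))
    (b2 : ∀ u v, β u v = β v u) (b3 : ∀ v, β v v = false) (hne : ∃ u v, β u v = true)
    (inv : ∀ M : AddMonoid.End V, M = w ∨ M = a ∨ M = b ∨ M = c → ∀ u v, β (M u) (M v) = β u v) :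
    ∀ x < 4096, ∀ y < 4096, β (f x) (f y) = pB x y := by
  have b1' : ∀ u v v', β u (v + v') = (β u v ^^ β u v') := fun u v v' => by rw [b2, b1, b2 v, b2 v']
  have hx1 : ∀ a' a'' y, β (f (a' ^^^ a'')) y = (β (f a') y ^^ β (f a'') y) := fun _ _ _ => by rw [F.add, b1]
  have hx2 : ∀ u p q, β u (f (p ^^^ q)) = (β u (f p) ^^ β u (f q)) := fun _ _ _ => by rw [F.add, b1']
  have lt : ∀ {M : List ℕ}, (∀ m ∈ M, m < 4096) → ∀ x, mv M x < 4096 := fun {M} h x => mv_lt (n := 12) h x
  have ltA := lt mats_lt.1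
  have ltO := lt mats_lt.2.2.2.1
  set c0 := bitsN fun l => β (f 1) (f (2 ^ l)) with hc0
  obtain ⟨hc0l, hc0b⟩ := bitsN_spec fun l => β (f 1) (f (2 ^ l))
  have hphi : ∀ y < 4096, β (f 1) (f y) = parity (c0 &&& y) := by
    refine lin_ext (fun a b => (a ^^ b)) 12 (hx2 _) (fun a b => by rw [Nat.and_xor_distrib_left, parity_xor]) ?_
      fun l hl => (hc0b l hl).2.symm
    rw [xor_bool_zero (g := fun y => β (f 1) (f y)) (hx2 (f 1)), Nat.and_zero]; rfl
  have gA : ∀ n x y, x < 4096 → y < 4096 → β (f ((mv A)^[n] x)) (f ((mv A)^[n] y)) = β (f x) (f y) ∧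
      (mv A)^[n] x < 4096 ∧ (mv A)^[n] y < 4096 := by
    intro n
    induction n with
    | zero => intro x y hx hy; exact ⟨rfl, hx, hy⟩
    | succ n ih =>
      intro x y hx hy
      obtain ⟨e, h1, h2⟩ := ih x y hx hy
      rw [Function.iterate_succ_apply', Function.iterate_succ_apply', F.fA _ h1, F.fA _ h2, inv a (.inr (.inl rfl))]
      exact ⟨e, ltA _, ltA _⟩
  have gO : ∀ x y, x < 4096 → y < 4096 → β (f (mv OM x)) (f (mv OM y)) = β (f x) (f y) := fun x y hx hy => by
    rw [F.fW x hx, F.fW y hy, inv w (.inl rfl)]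
  have hrow : ∀ k < 10, ∀ l < 12, β (f (2 ^ k)) (f (2 ^ l)) =
      parity (c0 &&& (fun f : ℕ → ℕ => if k % 2 = 1 then f (mv OM (mv OM (2 ^ l))) else f (2 ^ l)) (mv A)^[(11 - k / 2) % 11]) := by
    intro k hk l hl
    have hl' : 2 ^ l < 4096 := Nat.pow_lt_pow_right (a := 2) (by norm_num) hl
    have hk' : 2 ^ k < 4096 := Nat.pow_lt_pow_right (a := 2) (by norm_num) (show k < 12 by omega)
    have key : ∀ k < 10, (k % 2 = 0 → (mv A)^[(11 - k / 2) % 11] (2 ^ k) = 1) ∧
        (k % 2 = 1 → (mv A)^[(11 - k / 2) % 11] (mv OM (mv OM (2 ^ k))) = 1) := by decide +kernel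
    rcases Nat.mod_two_eq_zero_or_one k with e | e
    · obtain ⟨hval, -, h2⟩ := gA ((11 - k / 2) % 11) _ _ hk' hl'
      rw [(key k hk).1 e, hphi _ h2] at hval
      simp only [e, if_neg (show ¬ (0 = 1) by omega)]
      exact hval.symm
    · obtain ⟨hval, -, h2⟩ := gA ((11 - k / 2) % 11) _ _ (ltO (mv OM (2 ^ k))) (ltO (mv OM (2 ^ l)))
      rw [(key k hk).2 e, hphi _ h2, gO _ _ (ltO _) (ltO _), gO _ _ hk' hl'] at hval
      simp only [e, if_pos rfl]
      exact hval.symm
  set t := β (f (2 ^ 10)) (f (2 ^ 11)) with ht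
  set R := fRows c0 t with hR
  have hRget : ∀ k < 10, R.getD k 0 = bitsN fun l =>
      parity (c0 &&& (fun f : ℕ → ℕ => if k % 2 = 1 then f (mv OM (mv OM (2 ^ l))) else f (2 ^ l)) (mv A)^[(11 - k / 2) % 11]) := by
    intro k hk
    simp [hR, fRows, List.getD, List.getElem?_append, hk, bitsN]
  have hR10 : ∀ s : Bool, (fRows c0 t).getD (10 + s.toNat) 0 = bitsN (fun k => decide (k < 10) && (R.getD k 0).testBit (10 + s.toNat)) ^^^
      (if t then (if s then 1024 else 2048) else 0) := by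
    intro s
    have hb : ∀ l, bitsN (fun k => decide (k < 10) && (R.getD k 0).testBit l) =
        ((List.range 10).map fun k => if (R.getD k 0).testBit l then 2 ^ k else 0).foldr (· ^^^ ·) 0 := by
      intro l
      simp [bitsN, List.range_succ, List.foldr_append]
    have hl : ∀ L : List ℕ, L.length = 10 → ∀ p q : ℕ, (L ++ [p, q]).getD (10 + s.toNat) 0 = if s then q else p := by
      intro L hL p q
      cases s <;> simp [List.getD, List.getElem?_append, hL]
    have hget : ∀ k < 10, R.getD k 0 = ((List.range 10).map fun k => bitsN fun y =>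
        parity (c0 &&& (fun f : ℕ → ℕ => if k % 2 = 1 then f (mv OM (mv OM (2 ^ y))) else f (2 ^ y)) (mv A)^[(11 - k / 2) % 11])).getD k 0 := by
      intro k hk
      rw [hRget k hk]
      simp [List.getD, hk]
    rw [fRows, hl _ (by simp), hb]
    cases s <;>
    · simp only [Bool.toNat_false, Bool.toNat_true, Bool.false_eq_true, if_false, if_true]
      congr 1
  have hbit : ∀ i < 12, ∀ j < 12, (R.getD i 0).testBit j = β (f (2 ^ i)) (f (2 ^ j)) := by
    have hlow : ∀ i < 10, ∀ j < 12, (R.getD i 0).testBit j = β (f (2 ^ i)) (f (2 ^ j)) := fun i hi j hj => by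
      rw [hRget i hi, ((bitsN_spec _).2 j hj).1, hrow i hi j hj]
    intro i hi j hj
    by_cases hi10 : i < 10
    · exact hlow i hi10 j hj
    obtain ⟨s, rfl⟩ : ∃ s : Bool, i = 10 + s.toNat := by
      rcases (show i = 10 ∨ i = 11 by omega) with rfl | rfl
      · exact ⟨false, rfl⟩
      · exact ⟨true, rfl⟩
    rw [hR, hR10, Nat.testBit_xor, ((bitsN_spec _).2 j hj).1]
    by_cases hj10 : j < 10
    · have h0 : (if t then (if s then 1024 else 2048) else 0 : ℕ).testBit j = false := by
        cases t <;> cases s <;> simp only [Bool.false_eq_true, if_false, if_true, Nat.zero_testBit]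
        · rw [show (2048 : ℕ) = 2 ^ 11 from rfl, Nat.testBit_two_pow]; simp [show 11 ≠ j by omega]
        · rw [show (1024 : ℕ) = 2 ^ 10 from rfl, Nat.testBit_two_pow]; simp [show 10 ≠ j by omega]
      rw [h0, Bool.xor_false, decide_eq_true hj10, Bool.true_and, hlow j hj10 _ (by cases s <;> simp), b2]
    · rw [decide_eq_false hj10, Bool.false_and, Bool.false_xor]
      rcases (show j = 10 ∨ j = 11 by omega) with rfl | rfl <;> cases s <;>
        simp only [Bool.toNat_false, Bool.toNat_true, show (10 : ℕ) + 0 = 10 from rfl, show (10 : ℕ) + 1 = 11 from rfl,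
          Bool.false_eq_true, if_false, if_true, b3, ← ht, b2 (f (2 ^ 11)) (f (2 ^ 10))] <;>
        cases t <;> rfl
  have hRl : R.length = 12 := by simp [hR, fRows]
  have hRlt : ∀ m ∈ R, m < 4096 := by
    intro m hm
    obtain ⟨i, hi, rfl⟩ := List.getElem_of_mem hm
    rw [← List.getD_eq_getElem _ 0 hi]
    by_cases hi10 : i < 10
    · rw [hRget i hi10]; exact (bitsN_spec _).1
    · obtain ⟨s, rfl⟩ : ∃ s : Bool, i = 10 + s.toNat := by
        rcases (show i = 10 ∨ i = 11 by omega) with rfl | rfl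
        · exact ⟨false, rfl⟩
        · exact ⟨true, rfl⟩
      rw [hR, hR10]
      exact Nat.xor_lt_two_pow (n := 12) (bitsN_spec _).1 (by cases t <;> cases s <;> simp)
  have h2pow : ∀ (L : List ℕ) (k : ℕ), mv L (2 ^ k) = L.getD k 0 := by
    intro L
    induction L with
    | nil => intro k; simp [mv]
    | cons m r ih =>
      intro k
      cases k with
      | zero => simp [mv, mv_zero]
      | succ k =>
        have h1 : 2 ^ (k + 1) % 2 = 0 := by rw [pow_succ]; simp
        have h2 : 2 ^ (k + 1) / 2 = 2 ^ k := by rw [pow_succ]; simp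
        simp [mv, h1, h2, ih]
  have hβ : ∀ x < 4096, ∀ y < 4096, β (f x) (f y) = parity (mv R x &&& y) := by
    refine bilin_ext (fun _ _ _ => hx1 _ _ _) (fun _ _ _ => hx2 _ _ _)
      (fun p q r => by rw [mv_xor, Nat.and_xor_distrib_right, parity_xor])
      (fun p q r => by rw [Nat.and_xor_distrib_left, parity_xor]) fun i hi j hj => ?_
    have hp : parity (2 ^ j) = true ∧ parity 0 = false := by
      have h : ∀ j < 12, parity (2 ^ j) = true ∧ parity 0 = false := by decide +kernel
      exact h j hj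
    rw [h2pow, ← hbit i hi j hj]
    rw [show R.getD i 0 &&& 2 ^ j = if (R.getD i 0).testBit j then 2 ^ j else 0 from ?_]
    · cases (R.getD i 0).testBit j <;> simp [hp]
    · refine Nat.eq_of_testBit_eq fun k => ?_
      rw [Nat.testBit_and, Nat.testBit_two_pow]
      by_cases e : j = k
      · subst e; cases hb : (R.getD i 0).testBit j <;> simp [hb]
      · cases hb : (R.getD i 0).testBit j <;> simp [e, Nat.testBit_two_pow]
  have hc1 : c0 % 2 = 0 := by
    have := (hc0b 0 (by norm_num)).1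
    rw [pow_zero, b3] at this
    rw [Nat.testBit_zero] at this
    simp only [← hc0] at this
    simpa using this
  have hidl : ∀ x ∈ idM, x < 4096 := by decide +kernel
  have hB1 : idM.all (fun x => parity (c0 &&& mv B x) == parity (c0 &&& x)) = true := by
    refine List.all_eq_true.mpr fun x hx => beq_iff_eq.mpr ?_
    rw [← hphi _ (lt mats_lt.2.1 x), ← hphi _ (hidl x hx), F.fB x (hidl x hx)]
    have h1 : b (f 1) = f 1 := by rw [← F.fB 1 (by norm_num), eig_ids.1]
    conv_lhs => rw [← h1]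
    exact inv b (.inr (.inr (.inl rfl))) _ _
  have hchk := List.all_eq_true.mp form_check c0 (List.mem_range.mpr hc0l)
  simp only [hc1, hB1, show ((0 : ℕ) == 1) = false from rfl, Bool.not_true, Bool.or_false, Bool.false_or] at hchk
  have ht' := List.all_eq_true.mp hchk t (by cases t <;> simp)
  rw [← hR] at ht'
  simp only [Bool.or_eq_true, Bool.not_eq_true', List.all_eq_true, beq_iff_eq] at ht'
  rcases ht' with (h | h) | h
  · exfalso
    obtain ⟨u, v, huv⟩ := hne
    obtain ⟨x, hx, rfl⟩ := F.surj u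
    obtain ⟨y, hy, rfl⟩ := F.surj v
    have hz : ∀ (L : List ℕ), (∀ m ∈ L, m = 0) → ∀ x, mv L x = 0 := by
      intro L
      induction L with
      | nil => intro _ x; rfl
      | cons m r ih => intro hL x; simp [mv, hL m, ih (fun m hm => hL m (List.mem_cons_of_mem _ hm))]
    rw [hβ x hx y hy, hz R h, Nat.zero_and] at huv
    exact Bool.false_ne_true huv
  · intro x hx y hy; rw [hβ x hx y hy, h]; rfl
  · exfalso
    refine Bool.false_ne_true (h.symm.trans ?_)
    simp only [List.all_eq_true, List.mem_cons, List.not_mem_nil, or_false, beq_iff_eq]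
    intro M hM x hx y hy
    rw [← hβ _ (hidl x hx) _ (hidl y hy)]
    rcases hM with rfl | rfl | rfl | rfl
    · rw [← hβ _ (ltA x) _ (ltA y), F.fA x (hidl x hx), F.fA y (hidl y hy), inv a (.inr (.inl rfl))]
    · rw [← hβ _ (lt mats_lt.2.1 x) _ (lt mats_lt.2.1 y), F.fB x (hidl x hx), F.fB y (hidl y hy), inv b (.inr (.inr (.inl rfl)))]
    · rw [← hβ _ (lt mats_lt.2.2.1 x) _ (lt mats_lt.2.2.1 y), F.fC x (hidl x hx), F.fC y (hidl y hy), inv c (.inr (.inr (.inr rfl)))]
    · rw [← hβ _ (ltO x) _ (ltO y), gO _ _ (hidl x hx) (hidl y hy)]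

/-- An additive map twisting the scalar and acting on the generators by the given words is standard up to a scalar. -/
theorem twist_eq (τ : AddMonoid.End V) (hw : ∀ v, τ (w v) = w (w (τ v)))
    (hA : ∀ x < 4096, ∀ y < 4096, τ (f x) = f y → τ (a (f x)) = f (mv WA y))
    (hB : ∀ x < 4096, ∀ y < 4096, τ (f x) = f y → τ (b (f x)) = f (mv WB y))
    (hC : ∀ x < 4096, ∀ y < 4096, τ (f x) = f y → τ (c (f x)) = f (mv WC y))
    (hne : ∃ v, τ v ≠ 0) :
    ∃ M ∈ [T, mm T OM, mm T OM2], ∀ x < 4096, τ (f x) = f (mv M x) := by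
  choose g hgl hg using F.surj
  have lt : ∀ {M : List ℕ}, (∀ m ∈ M, m < 4096) → ∀ x, mv M x < 4096 := fun {M} h x => mv_lt (n := 12) h x
  have ltA := lt mats_lt.1
  have ltO := lt mats_lt.2.2.2.1
  have ltWA := lt mats_lt.2.2.2.2.2.2.1
  set u := g (τ (f 1)) with hu
  set v := g (τ (f 1024)) with hv
  have scan : ∀ x < 4096, (mv WB x = x → x ∈ fixWB) ∧ (mv WB x = x → mv WA x = x → x ∈ fixAB) := by
    intro x hx
    have h := List.all_eq_true.mp t_scan x (List.mem_range.mpr hx)
    simp only [Bool.and_eq_true, Bool.or_eq_true, Bool.not_eq_true', List.contains_iff_mem, Bool.and_eq_false_iff,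
      beq_eq_false_iff_ne] at h
    exact ⟨fun e => h.1.resolve_left (absurd e), fun e e' => h.2.resolve_left (fun h => h.elim (absurd e) (absurd e'))⟩
  obtain ⟨tA, -, tB, -, tW, -⟩ := basis_top
  have ltWB := lt mats_lt.2.2.2.2.2.2.2.1
  have hu1 : u ∈ fixWB := (scan u (hgl _)).1 <| F.inj _ (ltWB _) _ (hgl _) <| by
    rw [← hB 1 (by norm_num) u (hgl _) (hg _).symm, ← F.fB 1 (by norm_num), eig_ids.1, hu, hg]
  have hv1 : v ∈ fixAB := (scan v (hgl _)).2
    (F.inj _ (ltWB _) _ (hgl _) <| by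
      rw [← hB 1024 (by norm_num) v (hgl _) (hg _).symm, ← F.fB 1024 (by norm_num), tB, hv, hg])
    (F.inj _ (ltWA _) _ (hgl _) <| by
      rw [← hA 1024 (by norm_num) v (hgl _) (hg _).symm, ← F.fA 1024 (by norm_num), tA, hv, hg])
  set M := tMat u v with hM
  have hO2 : ∀ x < 4096, ∀ y < 4096, τ (f x) = f y → τ (f (mv OM x)) = f (mv OM (mv OM y)) := fun x hx y hy e => by
    rw [F.fW x hx, hw, e, F.fW _ (ltO y), F.fW y hy]
  have hiter : ∀ i, τ (f ((mv A)^[i] 1)) = f ((mv WA)^[i] u) ∧ (mv A)^[i] 1 < 4096 ∧ (mv WA)^[i] u < 4096 := by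
    intro i
    induction i with
    | zero => exact ⟨(hg _).symm, by norm_num, hgl _⟩
    | succ i ih =>
      obtain ⟨e, h1, h2⟩ := ih
      rw [Function.iterate_succ_apply', Function.iterate_succ_apply']
      exact ⟨by rw [F.fA _ h1]; exact hA _ h1 _ h2 e, ltA _, ltWA _⟩
  have key : ∀ i < 5, (mv A)^[i] 1 = 2 ^ (2 * i) ∧ mv OM (2 ^ (2 * i)) = 2 ^ (2 * i + 1) := by decide +kernel
  have hMk : ∀ k < 12, τ (f (2 ^ k)) = f (mv M (2 ^ k)) := by
    have h2pow : ∀ (L : List ℕ) (k : ℕ), mv L (2 ^ k) = L.getD k 0 := by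
      intro L
      induction L with
      | nil => intro k; simp [mv]
      | cons m r ih =>
        intro k
        cases k with
        | zero => simp [mv, mv_zero]
        | succ k =>
          have h1 : 2 ^ (k + 1) % 2 = 0 := by rw [pow_succ]; simp
          have h2 : 2 ^ (k + 1) / 2 = 2 ^ k := by rw [pow_succ]; simp
          simp [mv, h1, h2, ih]
    have ev0 : ∀ i < 5, τ (f (2 ^ (2 * i))) = f ((mv WA)^[i] u) ∧
        τ (f (2 ^ (2 * i + 1))) = f (mv OM (mv OM ((mv WA)^[i] u))) := fun i hi => by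
      obtain ⟨e, h1, h2⟩ := hiter i
      rw [(key i hi).1] at e h1
      exact ⟨e, by rw [← (key i hi).2]; exact hO2 _ h1 _ h2 e⟩
    intro k hk
    rw [h2pow, hM, tMat]
    rcases (show k = 0 ∨ k = 1 ∨ k = 2 ∨ k = 3 ∨ k = 4 ∨ k = 5 ∨ k = 6 ∨ k = 7 ∨ k = 8 ∨ k = 9 ∨ k = 10 ∨ k = 11 by omega) with
      rfl | rfl | rfl | rfl | rfl | rfl | rfl | rfl | rfl | rfl | rfl | rfl
    exacts [(ev0 0 (by norm_num)).1, (ev0 0 (by norm_num)).2, (ev0 1 (by norm_num)).1, (ev0 1 (by norm_num)).2,
      (ev0 2 (by norm_num)).1, (ev0 2 (by norm_num)).2, (ev0 3 (by norm_num)).1, (ev0 3 (by norm_num)).2,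
      (ev0 4 (by norm_num)).1, (ev0 4 (by norm_num)).2, (hg _).symm,
      (by rw [show (2 : ℕ) ^ 11 = mv OM 1024 from tW.symm]; exact hO2 _ (by norm_num) _ (hgl _) (hg _).symm)]
  have hMlt : ∀ m ∈ M, m < 4096 := by
    intro m hm
    simp only [hM, tMat, List.mem_append, List.mem_flatMap, List.mem_range, List.mem_cons, List.not_mem_nil, or_false] at hm
    rcases hm with ⟨i, -, rfl | rfl⟩ | rfl | rfl
    exacts [(hiter i).2.2, ltO _, hgl _, ltO _]
  have hall : ∀ x < 4096, τ (f x) = f (mv M x) := by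
    refine lin_ext (· + ·) 12 (fun p q => by rw [F.add, map_add]) (fun p q => by rw [mv_xor, F.add]) ?_ hMk
    rw [mv_zero, F.f_zero, map_zero]
  have hcom : idM.all (fun x => mv M (mv C x) == mv WC (mv M x)) = true := by
    have hidl : ∀ x ∈ idM, x < 4096 := by decide +kernel
    refine List.all_eq_true.mpr fun x hx => beq_iff_eq.mpr (F.inj _ (lt hMlt _) _ (lt mats_lt.2.2.2.2.2.2.2.2 _) ?_)
    rw [← hall _ (lt mats_lt.2.2.1 x), F.fC x (hidl x hx)]
    exact hC x (hidl x hx) _ (lt hMlt x) (hall x (hidl x hx))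
  have h := List.all_eq_true.mp (List.all_eq_true.mp t_check u hu1) v hv1
  simp only [← hM, hcom, Bool.not_true, Bool.false_or, Bool.or_eq_true, List.all_eq_true, beq_iff_eq] at h
  rcases h with ((h | h) | h) | h
  · exfalso
    obtain ⟨r, hr⟩ := hne
    refine hr ?_
    rw [← hg r, hall _ (hgl r)]
    have hz : ∀ (L : List ℕ), (∀ m ∈ L, m = 0) → ∀ x, mv L x = 0 := by
      intro L
      induction L with
      | nil => intro _ x; rfl
      | cons m r ih => intro hL x; simp [mv, hL m, ih (fun m hm => hL m (List.mem_cons_of_mem _ hm))]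
    rw [hz M h, F.f_zero]
  · exact ⟨T, by simp, fun x hx => by rw [hall x hx, h]⟩
  · exact ⟨mm T OM, by simp, fun x hx => by rw [hall x hx, h]⟩
  · exact ⟨mm T OM2, by simp, fun x hx => by rw [hall x hx, h]⟩

end Frame

end Cfsg.Lib.JankoFour
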