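import Cfsg.Agent.JankoFour.FusionChecks
import Cfsg.Agent.JankoFour.SplitData

/-!
Finite checks for the splitting over the distinguished subgroup.
-/

set_option autoImplicit false
set_option maxRecDepth 100000

namespace Cfsg.Lib.JankoFour

open Data (invCls w1B yGen eTwo X0 W0)

/-- An index is conjugate to a representative by the certificate. -/
def clsTo (i r : ℕ) : Bool :=
  invCls.any fun t => t.1 == i && t.2.1 == r && t.2.2.all (fun k => decide (k < 3)) &&
    mm (wM [Data.A, Data.B, Data.C] t.2.2) (elt r) == mm (elt i) (wM [Data.A, Data.B, Data.C] t.2.2)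

theorem cls_cover : ((List.range 256).all fun i =>
    i == 0 || !(mul8 i i == 0) || clsTo i 7 || clsTo i 191 || clsTo i 35) = true := by decide +kernel

theorem rep_first : mul8 191 191 = 0 ∧ (Data.liftX.getD 0 (0, 0, [])).1 = 7 ∧
    (Data.w0B.all fun b => W0.contains (mv (elt 191) b)) = true ∧
    ((List.range 15).all fun k => (fun x => !(mul8 191 x == mul8 x 191) || clsTo (mul8 191 x) 191)
      (Data.liftX.getD k (0, 0, [])).1) = true := by decide +kernel

theorem rep_triple : (clsTo 2 191 && clsTo 74 191 && clsTo 205 191 && clsTo (mul8 2 74) 7 && clsTo (mul8 2 205) 7 &&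
    clsTo (mul8 74 205) 7 && mul8 (mul8 2 74) 205 == 35 &&
    !(mm (elt 191) Data.OM == mm Data.OM (elt 191))) = true := by decide +kernel

/-- The product of the first two generators of the complementary subgroup. -/
def yR : ℕ := mul8 (yGen.getD 0 0) (yGen.getD 1 0)

/-- The element with given exponents. -/
def yEl (k : ℕ) (e d : Bool) : ℕ :=
  mul8 (mul8 ([0, yR, mul8 yR yR, mul8 (mul8 yR yR) yR].getD k 0) (if e then yGen.getD 0 0 else 0))
    (if d then yGen.getD 2 0 else 0)

theorem y_gen : (fun a b c => decide (a < 256) && decide (b < 256) && decide (c < 256) && mul8 a a == 0 && mul8 b b == 0 &&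
      mul8 c c == 0 && mul8 (mul8 a c) (mul8 a c) == 0 && mul8 (mul8 b c) (mul8 b c) == 0 &&
      mul8 (mul8 yR yR) (mul8 yR yR) == 0 &&
      w1B.all (fun u => (spanX w1B).contains (mv (elt a) u) && (spanX w1B).contains (mv (elt b) u) &&
        (spanX w1B).contains (mv (elt c) u)))
    (yGen.getD 0 0) (yGen.getD 1 0) (yGen.getD 2 0) = true := by decide +kernel

/-- The exponents. -/
def yExp : List (ℕ × Bool × Bool) :=
  (List.range 4).flatMap fun k => [(k, false, false), (k, false, true), (k, true, false), (k, true, true)]

theorem y_sep : (yExp.all fun t => !(spanL X0.2).contains (yEl t.1 t.2.1 t.2.2) || t == (0, false, false)) = true ∧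
    (yExp.map fun t => yEl t.1 t.2.1 t.2.2).Nodup := by
  decide +kernel

theorem w1_ok : (w1B.all (fun u => decide (u < 4096) && !qB u && (spanX w1B).contains (mv Data.OM u)) &&
      (w1B.all fun u => w1B.all fun v => !pB u v) && (spanX w1B).length == 64 && decide (spanX w1B).Nodup &&
      (spanX w1B).all (fun u => u == 0 || !W0.contains u)) = true := by decide +kernel

theorem e_two : ((eTwo.all fun y => decide (y < 4096) && !qB y && !W0.contains y) &&
    (((spanL X0.2).map fun i => xm (elt i) (eTwo.getD 0 0)).dedup.length == 8) &&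
    (((spanL X0.2).map fun i => xm (elt i) (eTwo.getD 1 0)).dedup.length == 16) && eTwo.length == 2) = true := by
  decide +kernel

end Cfsg.Lib.JankoFour
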