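import Cfsg.Agent.JankoFour.SextetInst
import Cfsg.Agent.JankoFour.SplitChecks
import Cfsg.Agent.Golay.Elements

/-!
Lifts of the table in the normaliser of the subgroup of order three, and their squares.
-/

set_option autoImplicit false
set_option maxRecDepth 100000
set_option maxHeartbeats 1000000
set_option linter.style.haveILetI false
set_option linter.unusedSectionVars false

namespace Cfsg.Lib.JankoFour

open Subgroup
open Data (W0 X0 eTwo)

universe u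

variable {G : Type u} [Group G] [Finite G]

theorem eq_of_xor {a b c d : ℕ} (h : a ^^^ b = c) (h' : b ^^^ c = d) : a = d := by
  rw [← h', ← h, Nat.xor_comm a b, ← Nat.xor_assoc, Nat.xor_self, Nat.zero_xor]

theorem qB_OM {x : ℕ} (hx : x < 4096) : qB (mv Data.OM x) = qB x := by
  have hl : mv Data.OM x < 4096 := mv_lt (n := 12) (by decide +kernel) x
  rw [qB, qB, pB_inv Data.OM (by simp) x hx _ hl]

namespace Ctx

variable {z : G} {P : Subgroup G} (C : Ctx z P)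

include C

/-- Normalising the generator of order three. -/
def NP (g : G) : Prop := g ∈ centralizer ({z} : Set G) ∧ (Commute g C.p ∨ g * C.p * g⁻¹ = C.p⁻¹)

theorem np_mul {g h : G} (hg : C.NP g) (hh : C.NP h) : C.NP (g * h) := by
  refine ⟨mul_mem hg.1 hh.1, ?_⟩
  rcases hg.2 with a | a <;> rcases hh.2 with b | b
  · exact Or.inl (a.mul_left b)
  · refine Or.inr ?_
    rw [show g * h * C.p * (g * h)⁻¹ = g * (h * C.p * h⁻¹) * g⁻¹ by group, b, a.inv_right.eq, mul_inv_cancel_right]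
  · refine Or.inr ?_
    rw [show g * h * C.p * (g * h)⁻¹ = g * (h * C.p * h⁻¹) * g⁻¹ by group, b.eq, mul_inv_cancel_right, a]
  · refine Or.inl (mul_inv_eq_iff_eq_mul.mp ?_)
    rw [show g * h * C.p * (g * h)⁻¹ = g * (h * C.p * h⁻¹) * g⁻¹ by group, b,
      show g * C.p⁻¹ * g⁻¹ = (g * C.p * g⁻¹)⁻¹ by group, a, inv_inv]

theorem np_E {d : G} (hd : d ∈ C.E) (hn : C.NP d) : d = 1 ∨ d = z := by
  refine C.fpf d hd (Or.inl ?_)
  rcases hn.2 with h | h
  · rw [← h.eq, mul_inv_cancel_right]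
  · exfalso
    have h2 : C.p * C.p ∈ C.E := by
      have h3 := C.in_E hd
      unfold In at h3
      rw [h] at h3
      rw [← mul_inv_rev] at h3
      simpa using inv_mem h3
    have h4 : C.p ∈ C.E := by
      have h5 := mul_mem h2 h2
      rwa [show C.p * C.p * (C.p * C.p) = C.p ^ 3 * C.p by simp [pow_succ, mul_assoc],
        show C.p ^ 3 = 1 from C.ord ▸ pow_orderOf_eq_one C.p, one_mul] at h5
    have hd : orderOf C.p ∣ Nat.card ↥C.E := by
      have := orderOf_dvd_natCard (⟨C.p, h4⟩ : ↥C.E)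
      rwa [Subgroup.orderOf_mk] at this
    rw [C.ord, C.card] at hd
    norm_num at hd

theorem np_inv {g : G} (hg : C.NP g) : C.NP g⁻¹ := by
  refine ⟨inv_mem hg.1, ?_⟩
  rcases hg.2 with a | a
  · exact Or.inl a.inv_left
  · refine Or.inr ?_
    rw [show g⁻¹ * C.p * g⁻¹⁻¹ = g⁻¹ * (g * C.p * g⁻¹)⁻¹ * g by rw [a, inv_inv, inv_inv]]
    group

theorem np_one : C.NP 1 := ⟨one_mem _, Or.inl (Commute.one_left _)⟩

theorem np_z : C.NP z := ⟨C.le C.X.mem, Or.inl (C.z_comm C.pH).symm⟩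

/-- A lift of an index. -/
def Lift (g : G) (i : ℕ) : Prop := C.NP g ∧ i < 256 ∧ RepBy C.E C.π g (elt i)

theorem exists_lift {i : ℕ} (hi : i < 256) : ∃ g, C.Lift g i := by
  obtain ⟨h, hh, hr⟩ := C.exists_elt hi
  obtain ⟨e, he, m, hm, rfl⟩ := C.NE h hh
  have hmH : m ∈ centralizer ({z} : Set G) := by simpa using mul_mem (inv_mem (C.le he)) hh
  refine ⟨m, ⟨hmH, (C.deg m hmH hm).imp_left fun d => mul_inv_eq_iff_eq_mul.mp d⟩, hi, fun q hq => ?_⟩
  have h1 := hr q hq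
  rwa [show e * m * q * (e * m)⁻¹ = e * (m * q * m⁻¹) * e⁻¹ by group, C.rep_E he _ (C.conj_mem hmH hq),
    mv_idM (C.π_lt _)] at h1

theorem lift_mul {g h : G} {i j : ℕ} (hg : C.Lift g i) (hh : C.Lift h j) : C.Lift (g * h) (mul8 i j) :=
  ⟨C.np_mul hg.1 hh.1, mul8_lt i j, C.Sset_mul hg.2.1 hh.2.1 hh.1.1 hg.2.2 hh.2.2⟩

theorem lift_unique {g h : G} {i : ℕ} (hg : C.Lift g i) (hh : C.Lift h i) : g = h ∨ g = h * z := by
  rcases C.np_E (C.rep_quot hg.1.1 hh.1.1 hg.2.2 hh.2.2) (C.np_mul (C.np_inv hh.1) hg.1) with e | e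
  · exact Or.inl (inv_mul_eq_one.mp e).symm
  · exact Or.inr (inv_mul_eq_iff_eq_mul.mp e)

theorem lift_zero {g : G} (hg : C.Lift g 0) : g = 1 ∨ g = z := by
  rcases C.lift_unique hg ⟨C.np_one, by norm_num, elt_zero ▸ C.rep_one⟩ with e | e
  exacts [Or.inl e, Or.inr (by rw [e, one_mul])]

theorem lift_sq {g : G} {i : ℕ} (hg : C.Lift g i) (h2 : mul8 i i = 0) : g * g = 1 ∨ g * g = z :=
  C.lift_zero (h2 ▸ C.lift_mul hg hg)

theorem sq_shift {g h : G} (hh : h ∈ centralizer ({z} : Set G)) (e : g = h ∨ g = h * z) : g * g = h * h := by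
  rcases e with rfl | rfl
  · rfl
  · calc h * z * (h * z) = h * (z * h) * z := by group
      _ = h * (h * z) * z := by rw [(C.z_comm hh).eq]
      _ = h * h * (z * z) := by group
      _ = h * h := by rw [C.X.zz, mul_one]

theorem cls_square {i r : ℕ} (h : clsTo i r = true) (hi : i < 256) (hr : r < 256) {g k : G} (hg : C.Lift g r)
    (hk : C.Lift k i) (h2 : mul8 r r = 0) : k * k = g * g := by
  simp only [clsTo, List.any_eq_true, Bool.and_eq_true, beq_iff_eq, List.all_eq_true, decide_eq_true_eq] at h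
  obtain ⟨⟨a, b, w⟩, -, ⟨⟨ha, hb⟩, hw⟩, he⟩ := h
  have ha' : i = a := ha.symm
  have hb' : r = b := hb.symm
  subst ha' hb'
  obtain ⟨n, hn, hnc, hnr⟩ := C.exists_inner w 0 hw
  have hwlt : ∀ m ∈ wM [Data.A, Data.B, Data.C] w, m < 4096 := by
    clear he hnr
    induction w with
    | nil => intro m hm; exact list_lt (M := idM) (by decide +kernel) m hm
    | cons a t ih =>
      intro m hm
      simp only [wM, mm, List.mem_map] at hm
      obtain ⟨x, -, rfl⟩ := hm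
      refine mv_lt (n := 12) ?_ _
      have hlt : ∀ a < 3, ∀ m ∈ [Data.A, Data.B, Data.C].getD a idM, m < 4096 := by decide +kernel
      exact hlt a (hw a List.mem_cons_self)
  have hnr' : RepBy C.E C.π n (wM [Data.A, Data.B, Data.C] w) := fun q hq => by
    rw [hnr q hq, mv_mm, mpow, mv_idM (mv_lt (n := 12) hwlt _)]
  have hN : C.NP n := ⟨hn, Or.inl hnc⟩
  have hrep : RepBy C.E C.π (k * n) (mm (elt i) (wM [Data.A, Data.B, Data.C] w)) := C.rep_mul hn hk.2.2 hnr'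
  rw [← he] at hrep
  have hd := C.np_E (C.rep_quot (mul_mem hk.1.1 hn) (mul_mem hn hg.1.1) hrep (C.rep_mul hg.1.1 hnr' hg.2.2))
    (C.np_mul (C.np_inv (C.np_mul hN hg.1)) (C.np_mul hk.1 hN))
  have hk' : k = n * g * n⁻¹ ∨ k = n * g * n⁻¹ * z := by
    rcases hd with e | e
    · refine Or.inl ?_
      rw [inv_mul_eq_one] at e
      rw [e, mul_inv_cancel_right]
    · refine Or.inr ?_
      rw [inv_mul_eq_iff_eq_mul] at e
      calc k = k * n * n⁻¹ := (mul_inv_cancel_right k n).symm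
        _ = n * g * z * n⁻¹ := by rw [e]
        _ = n * g * (z * n⁻¹) := by group
        _ = n * g * (n⁻¹ * z) := by rw [(C.z_comm (inv_mem hn)).eq]
        _ = _ := by group
  rw [C.sq_shift (mul_mem (mul_mem hn hg.1.1) (inv_mem hn)) hk', conj_mul]
  rcases C.lift_sq hg h2 with e | e <;> rw [e]
  · group
  · rw [(C.z_comm hn).eq, mul_inv_cancel_right]

theorem comm_of_squares {g h : G} (hg : g * g = 1) (hh : h * h = 1) (hgh : g * h * (g * h) = 1) : Commute g h := by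
  show g * h = h * g
  rw [← inv_eq_of_mul_eq_one_right hgh, mul_inv_rev, inv_eq_of_mul_eq_one_right hg, inv_eq_of_mul_eq_one_right hh]

/-- An element fixed modulo the centre, through its preimage under the fixed-point-free map. -/
def hh (u : G) : G := u * (C.p * u * C.p⁻¹)

theorem hh_shift {u u' : G} (hu : u ∈ C.E) (hu' : u' ∈ C.E) (e : C.π u = C.π u') : C.hh u = C.hh u' := by
  rcases C.π_eq hu hu' e with rfl | rfl
  · rfl
  · have hpz : Commute C.p z := C.z_comm C.pH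
    have h1 : C.p * (z * u') * C.p⁻¹ = z * (C.p * u' * C.p⁻¹) := by
      rw [← mul_assoc C.p, hpz.eq]; group
    show z * u' * (C.p * (z * u') * C.p⁻¹) = u' * (C.p * u' * C.p⁻¹)
    rw [h1, show z * u' * (z * (C.p * u' * C.p⁻¹)) = z * (u' * z) * (C.p * u' * C.p⁻¹) by group,
      C.X.central u' hu', ← mul_assoc z z, C.X.zz, one_mul]

theorem hh_π {u : G} (hu : u ∈ C.E) : C.π (C.hh u) = C.π u ^^^ mv Data.OM (C.π u) := by
  rw [hh, C.π_mul u hu _ (C.conj_mem C.pH hu), C.rep_p u hu]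

theorem hh_conj {g : G} {M : List ℕ} (hg : C.NP g) (hr : RepBy C.E C.π g M) {u : G} (hu : u ∈ C.E)
    (hq : pB (C.π (g * u * g⁻¹)) (mv Data.OM (C.π (g * u * g⁻¹))) = false) :
    (Commute g C.p ∧ g * C.hh u * g⁻¹ = C.hh (g * u * g⁻¹)) ∨
      ((∀ y < 4096, mv Data.OM (mv M (mv Data.OM y)) = mv M y) ∧ g * C.p * g⁻¹ = C.p⁻¹ ∧
        g * C.hh u * g⁻¹ = C.hh (C.p⁻¹ * (g * u * g⁻¹) * C.p)) := by
  rcases hg.2 with h | h
  · refine Or.inl ⟨h, ?_⟩
    rw [hh, hh, show g * (u * (C.p * u * C.p⁻¹)) * g⁻¹ = g * u * g⁻¹ * ((g * C.p) * u * (g * C.p)⁻¹) by group, h.eq]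
    group
  · refine Or.inr ⟨fun y hy => ?_, h, ?_⟩
    · obtain ⟨q, hq', rfl⟩ := C.π_surj y hy
      rw [← C.rep_p q hq', ← hr _ (C.conj_mem C.pH hq'), ← C.rep_p _ (C.conj_mem hg.1 (C.conj_mem C.pH hq')), ← hr q hq']
      congr 1
      rw [show g * (C.p * q * C.p⁻¹) * g⁻¹ = (g * C.p * g⁻¹) * (g * q * g⁻¹) * (g * C.p * g⁻¹)⁻¹ by group, h]
      group
    · set u' := g * u * g⁻¹ with hu'
      have hu'E : u' ∈ C.E := C.conj_mem hg.1 hu
      have hw : C.p⁻¹ * u' * C.p ∈ C.E := by simpa using C.conj_mem (inv_mem C.pH) hu'E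
      have e1 : g * C.hh u * g⁻¹ = u' * (C.p⁻¹ * u' * C.p) := by
        rw [hh, show g * (u * (C.p * u * C.p⁻¹)) * g⁻¹ = u' * ((g * C.p * g⁻¹) * u' * (g * C.p * g⁻¹)⁻¹) by
          rw [hu']; group, h, inv_inv]
      rw [e1, hh, show C.p * (C.p⁻¹ * u' * C.p) * C.p⁻¹ = u' by group]
      refine ((C.π_comm u' hu'E _ hw).mpr ?_).eq
      rw [← qB, ← qB_OM (C.π_lt _)] at hq
      have hcw : C.π u' = mv Data.OM (C.π (C.p⁻¹ * u' * C.p)) := by
        rw [← C.rep_p _ hw]; congr 1; group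
      rw [pB_symm _ (C.π_lt _) _ (C.π_lt _), hcw]
      have hl : qB (C.π (C.p⁻¹ * u' * C.p)) = false := by
        rw [← qB_OM (C.π_lt _), ← hcw, ← qB_OM (C.π_lt _)]
        exact hq
      exact hl

theorem fixed_comm {g : G} {M : List ℕ} (hg : C.NP g) (hr : RepBy C.E C.π g M) {y : G} (hy : y ∈ C.E)
    (hfix : mv M (C.π y) = C.π y) (hq : qB (C.π y) = false) : Commute g y := by
  have hl := C.π_lt y
  have hOl : mv Data.OM (C.π y) < 4096 := mv_lt (n := 12) (by decide +kernel) _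
  obtain ⟨u, hu, hπu⟩ := C.π_surj _ hOl
  have hy' : C.π y = C.π (C.hh u) := by
    rw [C.hh_π hu, hπu]
    exact ((Nat.xor_comm _ _).trans (OM_sum hl)).symm
  have hu' : C.π (g * u * g⁻¹) = mv M (mv Data.OM (C.π y)) := by rw [hr u hu, hπu]
  have hqB : ∀ x, x < 4096 → qB (mv Data.OM x) = false → qB x = false := fun x hx h => (qB_OM hx).symm.trans h
  have hnorm : pB (C.π (g * u * g⁻¹)) (mv Data.OM (C.π (g * u * g⁻¹))) = false := by
    rw [← qB]
    have hMO : mv M (mv Data.OM (C.π y)) = mv Data.OM (C.π y) ∨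
        mv Data.OM (mv M (mv Data.OM (C.π y))) = C.π y := by
      rcases hg.2 with h | h
      · refine Or.inl ?_
        have hI : C.In g := by
          show g * C.p * g⁻¹ * C.p⁻¹ ∈ C.E
          rw [h.eq, mul_inv_cancel_right, mul_inv_cancel]; exact one_mem _
        rw [(C.in_iff_rep hg.1 hr).mp hI _ hl, hfix]
      · refine Or.inr ?_
        rw [← C.rep_p y hy, ← hr _ (C.conj_mem C.pH hy), ← C.rep_p _ (C.conj_mem hg.1 (C.conj_mem C.pH hy))]
        refine (congrArg C.π ?_).trans ((hr y hy).trans hfix)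
        rw [show g * (C.p * y * C.p⁻¹) * g⁻¹ = (g * C.p * g⁻¹) * (g * y * g⁻¹) * (g * C.p * g⁻¹)⁻¹ by group, h]
        group
    rcases hMO with e | e
    · rw [hu', e, qB_OM hl, hq]
    · refine hqB _ (C.π_lt _) ?_
      rw [hu', e, hq]
  have hfin : g * C.hh u * g⁻¹ = C.hh u := by
    rcases C.hh_conj hg hr hu hnorm with ⟨h, e⟩ | ⟨h, h', e⟩
    · rw [e]
      refine C.hh_shift (C.conj_mem hg.1 hu) hu ?_
      have hI : C.In g := by
        show g * C.p * g⁻¹ * C.p⁻¹ ∈ C.E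
        rw [h.eq, mul_inv_cancel_right, mul_inv_cancel]; exact one_mem _
      rw [hu', hπu, (C.in_iff_rep hg.1 hr).mp hI _ hl, hfix]
    · rw [e]
      have hw : C.p⁻¹ * (g * u * g⁻¹) * C.p ∈ C.E := by simpa using C.conj_mem (inv_mem C.pH) (C.conj_mem hg.1 hu)
      refine C.hh_shift hw hu ?_
      have e2 : mv Data.OM (C.π (C.p⁻¹ * (g * u * g⁻¹) * C.p)) = mv M (mv Data.OM (C.π y)) := by
        rw [← C.rep_p _ hw, ← hu']; congr 1; group
      have e3 : mv Data.OM (mv Data.OM (C.π (C.p⁻¹ * (g * u * g⁻¹) * C.p))) = C.π y := by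
        rw [e2, h _ hl, hfix]
      have h3 : ∀ x < 4096, mv Data.OM (mv Data.OM (mv Data.OM x)) = x :=
        lin_ext (f := fun x => mv Data.OM (mv Data.OM (mv Data.OM x))) (g := id) (· ^^^ ·) 12
          (fun a b => by simp only [mv_xor]) (fun a b => rfl) (by simp [mv_zero]) (by decide +kernel)
      rw [← h3 _ (C.π_lt _), e3, hπu]
  rcases C.π_eq hy (mul_mem hu (C.conj_mem C.pH hu) : C.hh u ∈ C.E) hy' with e | e
  · exact e ▸ mul_inv_eq_iff_eq_mul.mp hfin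
  · exact e ▸ (C.z_comm hg.1).mul_right (mul_inv_eq_iff_eq_mul.mp hfin)

theorem image_commutator {e : G} (he : e ∈ C.E) (hW : C.π e ∉ W0) :
    {x : G | ∃ v ∈ C.V, e * v * e⁻¹ * v = x} = C.liftsOf ((spanL X0.2).map fun i => xm (elt i) (C.π e)) := by
  obtain ⟨hxi, hspan, -⟩ := xi_facts
  have hbase : ∀ v ∈ C.V, e * v * e⁻¹ * v ∈ C.E ∧ C.π (e * v * e⁻¹ * v) ∈ (spanL X0.2).map fun i => xm (elt i) (C.π e) := by
    intro v hv
    obtain ⟨⟨hH, i, hi, hs, hr⟩, -⟩ := C.mem_V.mp hv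
    obtain ⟨h1, h2⟩ := C.comm_w hH hr he
    rw [inv_eq_of_mul_eq_one_right (C.V_sq hv)] at h1 h2
    exact ⟨h1, List.mem_map.mpr ⟨i, hs, h2.symm⟩⟩
  obtain ⟨w, hw, hwe⟩ : ∃ w ∈ C.Wt, ¬ Commute e w := by
    by_contra! h
    exact hW (C.perp_W0 he h)
  have hwV := C.Wt_le_V hw
  have hz : e * w * e⁻¹ * w = z := by
    rcases C.X.comm e he w hw.1 with h | h
    · exact absurd (commutatorElement_eq_one_iff_mul_comm.mp h) hwe
    · rw [← h, commutatorElement_def, inv_eq_of_mul_eq_one_right (C.V_sq hwV)]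
  ext x
  constructor
  · rintro ⟨v, hv, rfl⟩
    exact hbase v hv
  · rintro ⟨hxE, hx⟩
    obtain ⟨i, hi, e'⟩ := List.mem_map.mp hx
    have hi256 : i < 256 := by
      have h : ∀ i ∈ spanL X0.2, i < 256 := by decide +kernel
      exact h i hi
    -- an element of the distinguished subgroup with this index
    obtain ⟨v, hv, hr⟩ : ∃ v ∈ C.V, RepBy C.E C.π v (elt i) := by
      rcases hspan i hi256 hi with rfl | ⟨k, hk, rfl⟩
      · exact ⟨1, one_mem _, elt_zero ▸ C.rep_one⟩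
      · obtain ⟨y, hy⟩ := C.exists_lifts
        refine ⟨y k, C.mem_V_of_comm (hy k hk).1 fun q hq => ?_, (hy k hk).2.2⟩
        have hfixW : mv (elt (xi k)) (C.π q) = C.π q := by
          have h : ((spanL X0.2).all fun i => W0.all fun w => mv (elt i) w == w) = true := by decide +kernel
          simp only [List.all_eq_true, beq_iff_eq] at h
          exact h _ (hxi k hk).2.1 _ hq.2
        exact C.fixed_comm ⟨(hy k hk).1, Or.inl (hy k hk).2.1⟩ (hy k hk).2.2 hq.1 hfixW (W0_spec hq.2).2.1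
    obtain ⟨h1, h2⟩ := C.comm_w (C.V_le_H hv) hr he
    rw [inv_eq_of_mul_eq_one_right (C.V_sq hv)] at h1 h2
    rcases C.π_eq hxE h1 (e'.symm.trans h2.symm) with r | r
    · exact ⟨v, hv, r.symm⟩
    · refine ⟨w * v, mul_mem hwV hv, ?_⟩
      rw [r, ← hz, show e * (w * v) * e⁻¹ * (w * v) = e * w * e⁻¹ * ((e * v * e⁻¹) * w) * v by group,
        (C.V_comm (C.M_conj_V (C.E_le_M he) hv) hwV).eq]
      group

/-- Modulo the distinguished subgroup every involution of its normaliser is conjugate to one of two elements of the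
extraspecial subgroup. -/
theorem two_classes [IsSimpleGroup G] (hG : ¬ IsMulCommutative G) {g : G} (hg : g ∈ normalizer (C.V : Set G))
    (hgV : g ∉ C.V) (hg2 : g * g ∈ C.V) :
    ∃ k ∈ normalizer (C.V : Set G), ∃ n < 2, ∃ e ∈ C.E, C.π e = eTwo.getD n 0 ∧ e⁻¹ * (k * g * k⁻¹) ∈ C.V := by
  classical
  obtain ⟨φ, hφs, hker⟩ := C.exists_hom hG
  have hk : ∀ x : ↥(normalizer (C.V : Set G)), φ x = 1 ↔ (x : G) ∈ C.V := fun x => by
    rw [← MonoidHom.mem_ker, hker, mem_subgroupOf]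
  have h := e_two
  simp only [Bool.and_eq_true, List.all_eq_true, decide_eq_true_eq, Bool.not_eq_true', beq_iff_eq,
    List.contains_eq_mem, decide_eq_false_iff_not] at h
  obtain ⟨⟨⟨h1, h8⟩, h16⟩, hl⟩ := h
  have hy : ∀ n < 2, eTwo.getD n 0 ∈ eTwo := fun n hn => by
    rw [List.getD_eq_getElem _ _ (hl ▸ hn)]; exact List.getElem_mem _
  choose hlt hqe hWe using fun n (hn : n < 2) => (⟨(h1 _ (hy n hn)).1.1, (h1 _ (hy n hn)).1.2, (h1 _ (hy n hn)).2⟩ :
    eTwo.getD n 0 < 4096 ∧ qB (eTwo.getD n 0) = false ∧ eTwo.getD n 0 ∉ W0)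
  obtain ⟨a, ha, hπa⟩ := C.π_surj _ (hlt 0 (by norm_num))
  obtain ⟨b, hb, hπb⟩ := C.π_surj _ (hlt 1 (by norm_num))
  have haV : a ∉ C.V := fun h => hWe 0 (by norm_num) (hπa ▸ (C.mem_Wt_iff.mp ⟨h, ha⟩).2)
  have hbV : b ∉ C.V := fun h => hWe 1 (by norm_num) (hπb ▸ (C.mem_Wt_iff.mp ⟨h, hb⟩).2)
  have ha2 : a * a = 1 := (C.π_sq a ha).mpr (hπa ▸ hqe 0 (by norm_num))
  have hb2 : b * b = 1 := (C.π_sq b hb).mpr (hπb ▸ hqe 1 (by norm_num))
  let Ka : ↥(normalizer (C.V : Set G)) := ⟨a, (C.M_normalizes (C.E_le_M ha)).1⟩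
  let Kb : ↥(normalizer (C.V : Set G)) := ⟨b, (C.M_normalizes (C.E_le_M hb)).1⟩
  -- conjugate modulo the subgroup gives conjugate commutator sets
  have hne : ¬ IsConj (φ Ka) (φ Kb) := by
    intro hc
    obtain ⟨c, hc⟩ := isConj_iff.mp hc
    obtain ⟨⟨k, hk'⟩, rfl⟩ := hφs c
    set v := b⁻¹ * (k * a * k⁻¹) with hv
    have hvV : v ∈ C.V := (hk (Kb⁻¹ * (⟨k, hk'⟩ * Ka * (⟨k, hk'⟩)⁻¹))).mp (by
      rw [map_mul, map_mul, map_mul, map_inv, map_inv, hc, inv_mul_cancel])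
    have hka : k * a * k⁻¹ = b * v := by rw [hv]; group
    have hset : (fun x => k * x * k⁻¹) '' {x : G | ∃ v ∈ C.V, a * v * a⁻¹ * v = x} =
        {x : G | ∃ v ∈ C.V, b * v * b⁻¹ * v = x} := by
      have key : ∀ u ∈ C.V, k * (a * u * a⁻¹ * u) * k⁻¹ = b * (k * u * k⁻¹) * b⁻¹ * (k * u * k⁻¹) := by
        intro u hu
        have hu' := (mem_normalizer_iff.mp hk' u).mp hu
        calc k * (a * u * a⁻¹ * u) * k⁻¹ = (k * a * k⁻¹) * (k * u * k⁻¹) * (k * a * k⁻¹)⁻¹ * (k * u * k⁻¹) := by group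
          _ = b * (v * (k * u * k⁻¹) * v⁻¹) * b⁻¹ * (k * u * k⁻¹) := by rw [hka]; group
          _ = _ := by rw [(C.V_comm hvV hu').eq, mul_inv_cancel_right]
      ext x
      constructor
      · rintro ⟨_, ⟨u, hu, rfl⟩, rfl⟩
        exact ⟨_, (mem_normalizer_iff.mp hk' u).mp hu, (key u hu).symm⟩
      · rintro ⟨u, hu, rfl⟩
        have hu' : k⁻¹ * u * k ∈ C.V := (mem_normalizer_iff.mp hk' _).mpr
          (by rwa [show k * (k⁻¹ * u * k) * k⁻¹ = u by group])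
        refine ⟨_, ⟨_, hu', rfl⟩, ?_⟩
        show k * (a * (k⁻¹ * u * k) * a⁻¹ * (k⁻¹ * u * k)) * k⁻¹ = _
        rw [key _ hu', show k * (k⁻¹ * u * k) * k⁻¹ = u by group]
    have hc1 := congrArg Set.ncard hset
    rw [Set.ncard_image_of_injective _ (fun x y e => by simpa using e),
      C.image_commutator ha (hπa ▸ hWe 0 (by norm_num)), C.image_commutator hb (hπb ▸ hWe 1 (by norm_num))] at hc1
    have hcard : ∀ l : List ℕ, (∀ x ∈ l, x < 4096) → (C.liftsOf l).ncard = 2 * l.dedup.length := fun l hl => by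
      rw [show C.liftsOf l = C.liftsOf l.dedup by ext; simp [liftsOf]]
      exact C.lifts_ncard (List.nodup_dedup l) fun x hx => hl x (List.mem_dedup.mp hx)
    have hlts : ∀ n < 2, ∀ x ∈ (spanL X0.2).map fun i => xm (elt i) (eTwo.getD n 0), x < 4096 := by
      intro n hn x hx
      obtain ⟨i, -, rfl⟩ := List.mem_map.mp hx
      exact Nat.xor_lt_two_pow (n := 12) (mv_lt (n := 12) (elt_lt i) _) (hlt n hn)
    rw [hπa, hπb, hcard _ (hlts 0 (by norm_num)), hcard _ (hlts 1 (by norm_num)), h8, h16] at hc1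
    omega
  -- there are two classes
  have htwo : ∀ x : ↥(normalizer (C.V : Set G)), (x : G) ∉ C.V → (x : G) * x ∈ C.V → orderOf (φ x) = 2 :=
    fun x h1 h2 => orderOf_eq_prime (by rw [pow_two, ← map_mul, hk]; exact h2) (fun e => h1 ((hk x).mp e))
  have hclass : ∀ t : ↥Cfsg.M24, orderOf t = 2 → IsConj (φ Ka) t ∨ IsConj (φ Kb) t := by
    intro t ht
    obtain ⟨t0, hcl⟩ : ∃ f : Bool → Equiv.Perm Cfsg.GolayPt, ∀ s : ↥Cfsg.M24, orderOf s = 2 →
        ∃ g ∈ Cfsg.M24, ∃ i, (s : Equiv.Perm Cfsg.GolayPt) = g * f i * g⁻¹ :=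
      ⟨fun i => cond i (Cfsg.Lib.Golay.toP Cfsg.Lib.Golay.invA.1) (Cfsg.Lib.Golay.toP Cfsg.Lib.Golay.invB.1),
        fun s hs => by
          obtain ⟨g, hg, ⟨e, -⟩ | ⟨e, -⟩⟩ := Cfsg.Lib.Golay.involution_classes s.2
            (by rwa [← Subgroup.orderOf_coe] at hs)
          exacts [⟨g, hg, true, e⟩, ⟨g, hg, false, e⟩]⟩
    have hconj : ∀ s s' : ↥Cfsg.M24, ∀ i, (∃ g ∈ Cfsg.M24, (s : Equiv.Perm Cfsg.GolayPt) = g * t0 i * g⁻¹) →
        (∃ g ∈ Cfsg.M24, (s' : Equiv.Perm Cfsg.GolayPt) = g * t0 i * g⁻¹) → IsConj s s' := by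
      rintro s s' i ⟨g, hg, e⟩ ⟨g', hg', e'⟩
      refine isConj_iff.mpr ⟨⟨g', hg'⟩ * ⟨g, hg⟩⁻¹, Subtype.ext ?_⟩
      simp only [Subgroup.coe_mul, Subgroup.coe_inv, mul_inv_rev, inv_inv]
      rw [e, e']; group
    obtain ⟨g0, hg0, i, e0⟩ := hcl (φ Ka) (htwo Ka haV (by rw [show ((Ka : G) * Ka) = 1 from ha2]; exact one_mem _))
    obtain ⟨g1, hg1, j, e1⟩ := hcl (φ Kb) (htwo Kb hbV (by rw [show ((Kb : G) * Kb) = 1 from hb2]; exact one_mem _))
    obtain ⟨g2, hg2, k, e2⟩ := hcl t ht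
    by_cases hki : k = i
    · exact Or.inl (hconj _ _ i ⟨g0, hg0, e0⟩ ⟨g2, hg2, hki ▸ e2⟩)
    · have hij : i ≠ j := fun h => hne (hconj _ _ i ⟨g0, hg0, e0⟩ ⟨g1, hg1, h ▸ e1⟩)
      have hkj : k = j := by cases i <;> cases j <;> cases k <;> simp_all
      exact Or.inr (hconj _ _ j ⟨g1, hg1, e1⟩ ⟨g2, hg2, hkj ▸ e2⟩)
  have hconv : ∀ (x : ↥(normalizer (C.V : Set G))) (n : ℕ), n < 2 → (x : G) ∈ C.E → C.π x = eTwo.getD n 0 →
      IsConj (φ x) (φ ⟨g, hg⟩) → ∃ k ∈ normalizer (C.V : Set G), ∃ n < 2, ∃ e ∈ C.E, C.π e = eTwo.getD n 0 ∧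
        e⁻¹ * (k * g * k⁻¹) ∈ C.V := by
    intro x n hn hxE hπ hc
    obtain ⟨c, hc⟩ := isConj_iff.mp hc.symm
    obtain ⟨k, rfl⟩ := hφs c
    refine ⟨k, k.2, n, hn, x, hxE, hπ, (hk (x⁻¹ * (k * ⟨g, hg⟩ * k⁻¹))).mp ?_⟩
    rw [map_mul, map_mul, map_mul, map_inv, map_inv, hc, inv_mul_cancel]
  rcases hclass _ (htwo ⟨g, hg⟩ hgV hg2) with h | h
  exacts [hconv Ka 0 (by norm_num) ha hπa h, hconv Kb 1 (by norm_num) hb hπb h]

/-- Every involution modulo the distinguished subgroup lifts to an involution. -/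
theorem involution_lift [IsSimpleGroup G] (hG : ¬ IsMulCommutative G) {g : G} (hg : g ∈ normalizer (C.V : Set G))
    (hgV : g ∉ C.V) (hg2 : g * g ∈ C.V) : ∃ v ∈ C.V, g * v * (g * v) = 1 := by
  obtain ⟨k, hk, n, hn, e, he, hπ, hev⟩ := C.two_classes hG hg hgV hg2
  have he2 : e * e = 1 := (C.π_sq e he).mpr (by
    rw [hπ, List.getD_eq_getElem _ _ (show n < eTwo.length by simpa [eTwo] using hn)]
    have h : ∀ y ∈ eTwo, qB y = false := by decide +kernel
    exact h _ (List.getElem_mem _))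
  refine ⟨g⁻¹ * (k⁻¹ * e * k), ?_, ?_⟩
  · have h := (mem_normalizer_iff.mp (inv_mem hk) _).mp (inv_mem hev)
    rwa [show k⁻¹ * (e⁻¹ * (k * g * k⁻¹))⁻¹ * k⁻¹⁻¹ = g⁻¹ * (k⁻¹ * e * k) by group] at h
  · rw [mul_inv_cancel_left, show k⁻¹ * e * k * (k⁻¹ * e * k) = k⁻¹ * (e * e) * k by group, he2]
    group

end Ctx

end Cfsg.Lib.JankoFour
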