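import Cfsg.Agent.Golay.M22Nine
import Cfsg.Agent.Golay.M22Mult

/-!
The normaliser of a Sylow 3-subgroup of the Mathieu group on twenty-two points.
-/

set_option autoImplicit false
set_option maxRecDepth 100000
set_option linter.style.haveILetI false

namespace Cfsg.Lib.JankoFour

open Cfsg.Lib.Golay.M22Mult Cfsg.Lib.PermCert Subgroup

theorem stab_has_neg : ∃ k : Fin 72, cxv k = ((2, 0) : V3) ∧ cyv k = ((0, 2) : V3) := by decide +kernel

theorem card_psi : Nat.card ↥psi.range = 9 := by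
  show Nat.card (Set.range psi) = 9
  rw [Nat.card_range_of_injective psi_injective, Nat.card_congr Multiplicative.toAdd, Nat.card_prod, Nat.card_zmod]

theorem V3_gen : ∀ v : V3, v = v.1.val • ((1, 0) : V3) + v.2.val • ((0, 1) : V3) := by decide +kernel

theorem V3_three : ∀ v : V3, (3 : ℕ) • v = 0 := by decide +kernel

theorem psi_decomp (v : Multiplicative V3) :
    psi v = psi (Multiplicative.ofAdd ((1, 0) : V3)) ^ v.toAdd.1.val *
      psi (Multiplicative.ofAdd ((0, 1) : V3)) ^ v.toAdd.2.val := by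
  conv_lhs => rw [← ofAdd_toAdd v, V3_gen v.toAdd]
  rw [ofAdd_add, map_mul, ofAdd_nsmul, ofAdd_nsmul, map_pow, map_pow]

theorem stQ_conj (k : Fin 72) :
    psi (Multiplicative.ofAdd ((1, 0) : V3)) * stQ k = stQ k * psi (Multiplicative.ofAdd (cxv k)) ∧
      psi (Multiplicative.ofAdd ((0, 1) : V3)) * stQ k = stQ k * psi (Multiplicative.ofAdd (cyv k)) := by
  constructor
  · refine ev_ext fun x hx => ?_
    show ev (psiFun _ * _) x = ev (_ * psiFun _) x
    rw [ev_mul, ev_mul, ev_psi _ x hx, ev_stQ k x hx, ev_psi _ _ (ev_stQ k x hx ▸ ev_lt _ _),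
      ev_stQ k _ (ev_psi (cxv k) x hx ▸ ev_lt _ _)]
    exact (stab_conj k ⟨x, hx⟩).1.symm
  · refine ev_ext fun x hx => ?_
    show ev (psiFun _ * _) x = ev (_ * psiFun _) x
    rw [ev_mul, ev_mul, ev_psi _ x hx, ev_stQ k x hx, ev_psi _ _ (ev_stQ k x hx ▸ ev_lt _ _),
      ev_stQ k _ (ev_psi (cyv k) x hx ▸ ev_lt _ _)]
    exact (stab_conj k ⟨x, hx⟩).2.symm

theorem stQ_normalizes (k : Fin 72) : stQ k ∈ normalizer (psi.range : Set QM) := by
  have hle : psi.range.map (MulAut.conj (stQ k)⁻¹).toMonoidHom ≤ psi.range := by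
    rintro _ ⟨_, ⟨v, rfl⟩, rfl⟩
    rw [psi_decomp]
    simp only [MulEquiv.coe_toMonoidHom, map_mul, map_pow, MulAut.conj_apply, inv_inv]
    refine mul_mem (pow_mem ?_ _) (pow_mem ?_ _)
    · exact ⟨Multiplicative.ofAdd (cxv k), by rw [mul_assoc, (stQ_conj k).1, inv_mul_cancel_left]⟩
    · exact ⟨Multiplicative.ofAdd (cyv k), by rw [mul_assoc, (stQ_conj k).2, inv_mul_cancel_left]⟩
  have heq := Subgroup.eq_of_le_of_card_ge hle
    (le_of_eq (Subgroup.card_map_of_injective (MulAut.conj (stQ k)⁻¹).injective).symm)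
  rw [← inv_inv (stQ k)]
  refine inv_mem (mem_normalizer_iff.mpr fun x => ⟨fun hx => ?_, fun hx => ?_⟩)
  · rw [← heq]; exact ⟨x, hx, rfl⟩
  · rw [← heq] at hx
    obtain ⟨y, hy, e⟩ := hx
    rwa [← (MulAut.conj (stQ k)⁻¹).injective e]

theorem card_normalizer_psi : Nat.card ↥(normalizer (psi.range : Set QM)) = 72 := by
  have hinj : Function.Injective stQ := fun j k e => stab_sep j k fun x => by
    rw [← ev_stQ j x x.2, ← ev_stQ k x x.2, e]
  rw [← Nat.card_fin 72]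
  refine (Nat.card_eq_of_bijective (fun k => (⟨stQ k, stQ_normalizes k⟩ : ↥(normalizer (psi.range : Set QM))))
    ⟨fun a b e => hinj (congrArg Subtype.val e), fun g => ?_⟩).symm
  obtain ⟨k, hk⟩ := exists_eq_stQ (keeps_of_normalizes (g := (g : QM)) fun v => by
    have h := (mem_normalizer_iff.mp (inv_mem g.2) (psi v)).mp ⟨v, rfl⟩
    obtain ⟨u, hu⟩ := h
    exact ⟨u, by rw [hu]; group⟩)
  exact ⟨k, Subtype.ext hk.symm⟩

theorem psi_real : ∃ n : QM, ∀ s ∈ psi.range, n * s * n⁻¹ = s⁻¹ := by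
  obtain ⟨k, hx, hy⟩ := stab_has_neg
  refine ⟨(stQ k)⁻¹, ?_⟩
  rintro _ ⟨v, rfl⟩
  have h1 := (stQ_conj k).1
  have h2 := (stQ_conj k).2
  rw [hx] at h1
  rw [hy] at h2
  have key : ∀ v : V3, -v = v.1.val • ((2, 0) : V3) + v.2.val • ((0, 2) : V3) := by decide +kernel
  rw [inv_inv, ← map_inv, show v⁻¹ = Multiplicative.ofAdd (-v.toAdd) from rfl, key, ofAdd_add, map_mul, ofAdd_nsmul,
    ofAdd_nsmul, map_pow, map_pow, psi_decomp v]
  have e1 : (MulAut.conj (stQ k)⁻¹) (psi (Multiplicative.ofAdd ((1, 0) : V3))) =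
      psi (Multiplicative.ofAdd ((2, 0) : V3)) := by
    rw [MulAut.conj_apply, inv_inv, mul_assoc, h1, inv_mul_cancel_left]
  have e2 : (MulAut.conj (stQ k)⁻¹) (psi (Multiplicative.ofAdd ((0, 1) : V3))) =
      psi (Multiplicative.ofAdd ((0, 2) : V3)) := by
    rw [MulAut.conj_apply, inv_inv, mul_assoc, h2, inv_mul_cancel_left]
  rw [← e1, ← e2, ← map_pow (MulAut.conj (stQ k)⁻¹), ← map_pow (MulAut.conj (stQ k)⁻¹), ← map_mul (MulAut.conj (stQ k)⁻¹),
    MulAut.conj_apply, inv_inv]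

theorem sylow_three {M : Type*} [Group M] [Finite M] (e : QM ≃* M) (Q : Subgroup M) (hQ : Nat.card ↥Q = 9) :
    Nat.card ↥(normalizer (Q : Set M)) = 72 ∧ ∀ x ∈ Q, x ^ 3 = 1 ∧ ∃ g : M, g * x * g⁻¹ = x⁻¹ := by
  haveI : Fact (Nat.Prime 3) := ⟨Nat.prime_three⟩
  have hM : (Nat.card M).factorization 3 = 2 := by
    rw [← Nat.card_congr e.toEquiv, card_QM, show (443520 : ℕ) = 3 ^ 2 * 49280 by norm_num,
      Nat.factorization_mul (by norm_num) (by norm_num)]
    rw [Finsupp.add_apply, Nat.factorization_eq_zero_of_not_dvd (by norm_num : ¬ 3 ∣ 49280),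
      Nat.prime_three.factorization_pow, Finsupp.single_eq_same, add_zero]
  let S := psi.range.map e.toMonoidHom
  have hS : Nat.card ↥S = 9 := by rw [Subgroup.card_map_of_injective e.injective, card_psi]
  let Q' : Sylow 3 M := Sylow.ofCard Q (by rw [hQ, hM]; rfl)
  let S' : Sylow 3 M := Sylow.ofCard S (by rw [hS, hM]; rfl)
  obtain ⟨g, hg⟩ := MulAction.exists_smul_eq M S' Q'
  have hQS : Q = S.map (MulAut.conj g).toMonoidHom := congrArg (fun s : Sylow 3 M => (s : Subgroup M)) hg.symm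
  refine ⟨?_, ?_⟩
  · rw [hQS, ← Subgroup.map_equiv_normalizer_eq, Subgroup.card_map_of_injective (MulAut.conj g).injective,
      ← Subgroup.map_equiv_normalizer_eq, Subgroup.card_map_of_injective e.injective, card_normalizer_psi]
  · intro x hx
    rw [hQS] at hx
    obtain ⟨_, ⟨s, hs, rfl⟩, rfl⟩ := hx
    obtain ⟨n, hn⟩ := psi_real
    have h3 : s ^ 3 = 1 := by
      obtain ⟨v, rfl⟩ := hs
      rw [← map_pow, show v ^ 3 = Multiplicative.ofAdd ((3 : ℕ) • v.toAdd) from rfl, V3_three, ofAdd_zero, map_one]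
    simp only [MulEquiv.coe_toMonoidHom]
    refine ⟨by rw [← map_pow, ← map_pow, h3, map_one, map_one], g * e n * g⁻¹, ?_⟩
    simp only [MulAut.conj_apply]
    have h' := congrArg e (hn s hs)
    rw [map_mul, map_mul, map_inv, map_inv] at h'
    rw [show (g * e s * g⁻¹)⁻¹ = g * (e s)⁻¹ * g⁻¹ by group, ← h']
    group

theorem M22_sylow_three (Q : Subgroup ↥Cfsg.Spor.M22) (hQ : Nat.card ↥Q = 9) :
    Nat.card ↥(normalizer (Q : Set ↥Cfsg.Spor.M22)) = 72 ∧
      ∀ x ∈ Q, x ^ 3 = 1 ∧ ∃ g, g * x * g⁻¹ = x⁻¹ :=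
  sylow_three (MulEquiv.subgroupCongr Cfsg.Lib.Golay.M22_eq.symm) Q hQ

end Cfsg.Lib.JankoFour
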