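import Cfsg.Agent.JankoFour.Checks

/-!
A group of additive maps with the relations of the triple cover of the Mathieu group on 22 points on a space with 4096
elements has coordinates in which the generators are the standard ones.
-/

set_option autoImplicit false
set_option maxRecDepth 100000
set_option maxHeartbeats 1000000

namespace Cfsg.Lib.JankoFour

open Data

variable {V : Type*} [AddCommGroup V]

/-- The element with given coordinates in a list. -/
def ev : List V → ℕ → V
  | [], _ => 0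
  | m :: r, x => (if x % 2 == 1 then m else 0) + ev r (x / 2)

theorem ev_zero : ∀ L : List V, ev L 0 = 0
  | [] => rfl
  | m :: r => by simp [ev, ev_zero r]

theorem ev_xor (two : ∀ v : V, v + v = 0) : ∀ (L : List V) (x y : ℕ), ev L (x ^^^ y) = ev L x + ev L y := by
  intro L
  induction L with
  | nil => intro x y; simp [ev]
  | cons m r ih =>
    intro x y
    have h1 : (x ^^^ y) / 2 = x / 2 ^^^ y / 2 := by
      refine Nat.eq_of_testBit_eq fun i => ?_
      simp only [Nat.testBit_div_two, Nat.testBit_xor]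
    have h0 : (x ^^^ y).testBit 0 = (x.testBit 0 ^^ y.testBit 0) := Nat.testBit_xor x y 0
    rw [Nat.testBit_zero, Nat.testBit_zero, Nat.testBit_zero] at h0
    simp only [ev, h1, ih]
    rcases Nat.mod_two_eq_zero_or_one x with hx | hx <;> rcases Nat.mod_two_eq_zero_or_one y with hy | hy <;>
      simp only [hx, hy] at h0 ⊢ <;> rcases Nat.mod_two_eq_zero_or_one (x ^^^ y) with hz | hz <;> simp [hz] at h0 ⊢
    · abel
    · abel
    · rw [show m + ev r (x / 2) + (m + ev r (y / 2)) = (m + m) + (ev r (x / 2) + ev r (y / 2)) by abel, two, zero_add]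

theorem ev_map {U : Type*} [AddCommGroup U] (f : U →+ V) : ∀ (L : List U) (x : ℕ), ev (L.map f) x = f (ev L x) := by
  intro L
  induction L with
  | nil => intro x; simp [ev]
  | cons m r ih => intro x; simp only [List.map_cons, ev, ih, map_add]; split <;> simp

theorem ev_mv (two : ∀ v : V, v + v = 0) (L : List V) : ∀ (M : List ℕ) (x : ℕ), ev L (mv M x) = ev (M.map (ev L)) x := by
  intro M
  induction M with
  | nil => intro x; simp [mv, ev, ev_zero]
  | cons m r ih =>
    intro x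
    simp only [mv, ev_xor two, ih, List.map_cons, ev]
    split <;> simp [ev_zero]

theorem ev_two_pow : ∀ (L : List V) (k : ℕ), ev L (2 ^ k) = L.getD k 0 := by
  intro L
  induction L with
  | nil => intro k; simp [ev]
  | cons m r ih =>
    intro k
    cases k with
    | zero => simp [ev, ev_zero]
    | succ k =>
      have h1 : 2 ^ (k + 1) % 2 = 0 := by rw [pow_succ]; simp
      have h2 : 2 ^ (k + 1) / 2 = 2 ^ k := by rw [pow_succ]; simp
      simp [ev, h1, h2, ih]

/-- Additive maps agreeing on the basis agree. -/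
theorem ev_ext {n : ℕ} {f g : ℕ → V} (hf : ∀ a b, f (a ^^^ b) = f a + f b) (hg : ∀ a b, g (a ^^^ b) = g a + g b)
    (h : ∀ j < n, f (2 ^ j) = g (2 ^ j)) : ∀ x < 2 ^ n, f x = g x := by
  refine lin_ext (· + ·) n hf hg ?_ h
  have hf0 := hf 0 0
  have hg0 := hg 0 0
  rw [Nat.xor_self] at hf0 hg0
  rw [left_eq_add.mp hf0, left_eq_add.mp hg0]

/-- The relations. -/
structure Raw (w a b c : AddMonoid.End V) : Prop where
  two : ∀ v : V, v + v = 0
  card : Nat.card V = 4096
  ww : ∀ v, w (w v) + w v + v = 0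
  aw : a * w = w * a
  bw : b * w = w * b
  cw : c * w = w * c
  a11 : a ^ 11 = 1
  a1 : a ≠ 1
  b5 : b ^ 5 = 1
  c4 : c ^ 4 = 1
  ba : b * a = a ^ 4 * b
  cb : c * b = b ^ 2 * c
  ac : ∃ k, (a * c) ^ 5 = w ^ k

namespace Raw

variable {w a b c : AddMonoid.End V} (R : Raw w a b c)

include R

theorem end_two (f : AddMonoid.End V) : f + f = 0 := AddMonoidHom.ext fun v => R.two (f v)

theorem w_sq : w * w = w + 1 := AddMonoidHom.ext fun v => by
  have h := R.ww v
  rw [add_assoc] at h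
  show w (w v) = w v + v
  exact (eq_neg_of_add_eq_zero_left h).trans (eq_neg_of_add_eq_zero_left (R.two _)).symm

theorem w3 : w ^ 3 = 1 := by
  rw [pow_succ, pow_two, R.w_sq, add_mul, one_mul, R.w_sq, add_comm w 1, add_assoc, R.end_two, add_zero]

theorem flip : Raw (w * w) a b c where
  two := R.two
  card := R.card
  ww v := by
    have h : w (w (w v)) = v := by
      have := congrArg (fun f : AddMonoid.End V => f v) R.w3
      simpa [pow_succ, pow_zero, AddMonoid.End.coe_mul] using this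
    show w (w (w (w v))) + w (w v) + v = 0
    rw [h, add_comm (w v)]
    exact R.ww v
  aw := by rw [← mul_assoc, R.aw, mul_assoc, R.aw, ← mul_assoc]
  bw := by rw [← mul_assoc, R.bw, mul_assoc, R.bw, ← mul_assoc]
  cw := by rw [← mul_assoc, R.cw, mul_assoc, R.cw, ← mul_assoc]
  a11 := R.a11
  a1 := R.a1
  b5 := R.b5
  c4 := R.c4
  ba := R.ba
  cb := R.cb
  ac := by
    obtain ⟨k, hk⟩ := R.ac
    refine ⟨2 * k, hk.trans ?_⟩
    rw [← pow_two, ← pow_mul, show 2 * (2 * k) = 3 * k + k by ring, pow_add, pow_mul, R.w3, one_pow, one_mul]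

/-- The monomials. -/
def mons (w a : AddMonoid.End V) : List (AddMonoid.End V) := (List.range 22).map fun k => w ^ (k % 2) * a ^ (k / 2)

omit R in
theorem mons_getD (w a : AddMonoid.End V) {k : ℕ} (hk : k < 22) : (mons w a).getD k 0 = w ^ (k % 2) * a ^ (k / 2) := by
  simp [mons, List.getD, hk]

/-- The polynomial evaluated. -/
def Φ (w a : AddMonoid.End V) (x : ℕ) : AddMonoid.End V := ev (mons w a) x

theorem Φ_xor (x y : ℕ) : Φ w a (x ^^^ y) = Φ w a x + Φ w a y := ev_xor R.end_two _ x y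

omit R in
theorem Φ_pow {k : ℕ} (hk : k < 22) : Φ w a (2 ^ k) = w ^ (k % 2) * a ^ (k / 2) := by
  rw [Φ, ev_two_pow, mons_getD w a hk]

omit R in
theorem Φ_one : Φ w a 1 = 1 := by
  rw [show (1 : ℕ) = 2 ^ 0 from rfl, Φ_pow (by norm_num)]
  simp

theorem sW_spec : ∀ x < 2 ^ 22, Φ w a (mv sW x) = w * Φ w a x := by
  refine ev_ext (fun x y => by rw [mv_xor, R.Φ_xor]) (fun x y => by rw [R.Φ_xor, mul_add]) fun k hk => ?_
  rw [Φ_pow hk, ← mul_assoc, ← pow_succ']
  have h : ∀ k < 22, mv sW (2 ^ k) = if k % 2 = 0 then 2 ^ (k + 1) else 2 ^ (k - 1) ^^^ 2 ^ k := by decide +kernel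
  rw [h k hk]
  rcases Nat.mod_two_eq_zero_or_one k with e | e
  · rw [if_pos e, Φ_pow (by omega), e, show (k + 1) % 2 = 1 by omega, show (k + 1) / 2 = k / 2 by omega]
  · rw [if_neg (by omega), R.Φ_xor, Φ_pow (by omega), Φ_pow hk, e, show (k - 1) % 2 = 0 by omega,
      show (k - 1) / 2 = k / 2 by omega, ← add_mul, pow_zero, pow_one, pow_two, R.w_sq, add_comm 1 w]

theorem sA_spec : ∀ x < 2 ^ 22, Φ w a (mv sA x) = a * Φ w a x := by
  refine ev_ext (fun x y => by rw [mv_xor, R.Φ_xor]) (fun x y => by rw [R.Φ_xor, mul_add]) fun k hk => ?_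
  have h : ∀ k < 22, mv sA (2 ^ k) = 2 ^ ((k + 2) % 22) := by decide +kernel
  rw [Φ_pow hk, h k hk, Φ_pow (Nat.mod_lt _ (by norm_num)), ← mul_assoc,
    (Commute.pow_right (show Commute a w from R.aw) (k % 2)).eq, mul_assoc, ← pow_succ']
  congr 1
  · congr 1; omega
  · by_cases hk2 : k + 2 < 22
    · congr 1; omega
    · rw [show k / 2 + 1 = 11 by omega, show (k + 2) % 22 / 2 = 0 by omega, R.a11, pow_zero]

omit R in
theorem Φ_comm_aux (x : ℕ) {f : AddMonoid.End V} (hw : Commute f w) (ha : Commute f a) : Commute f (Φ w a x) := by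
  show AddMonoidHom.mulLeft f (ev (mons w a) x) = AddMonoidHom.mulRight f (ev (mons w a) x)
  rw [← ev_map, ← ev_map]
  congr 1
  refine List.map_congr_left fun m hm => ?_
  obtain ⟨k, -, rfl⟩ := List.mem_map.mp hm
  exact ((hw.pow_right _).mul_right (ha.pow_right _)).eq

theorem pl_spec : ∀ (n y : ℕ), y < 2 ^ 22 → (pl n y).map (Φ w a) =
    (List.range (2 * n)).map fun k => w ^ (k % 2) * a ^ (k / 2) * Φ w a y := by
  intro n
  induction n with
  | zero => intro y _; simp [pl]
  | succ n ih =>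
    intro y hy
    have hA : mv sA y < 2 ^ 22 := mv_lt shapes.2.2.2.2.2.1 y
    rw [show 2 * (n + 1) = 2 * n + 1 + 1 by ring, List.range_succ_eq_map, List.map_cons, List.map_map, List.range_succ_eq_map,
      List.map_cons, List.map_map, pl, List.map_cons, List.map_cons, ih _ hA, R.sW_spec y hy, R.sA_spec y hy]
    refine List.cons_eq_cons.mpr ⟨by simp, List.cons_eq_cons.mpr ⟨by simp, List.map_congr_left fun k _ => ?_⟩⟩
    show w ^ (k % 2) * a ^ (k / 2) * (a * Φ w a y) = w ^ ((k + 1 + 1) % 2) * a ^ ((k + 1 + 1) / 2) * Φ w a y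
    rw [show (k + 1 + 1) % 2 = k % 2 by omega, show (k + 1 + 1) / 2 = k / 2 + 1 by omega, pow_succ]
    simp only [mul_assoc]

theorem Φ_mul (x y : ℕ) (hy : y < 2 ^ 22) : Φ w a (pmul x y) = Φ w a x * Φ w a y := by
  rw [Φ, Φ, pmul, ev_mv R.end_two]
  refine Eq.trans ?_ (ev_map (AddMonoidHom.mulRight (Φ w a y)) (mons w a) x)
  congr 1
  refine (R.pl_spec 11 y hy).trans ?_
  rw [mons, List.map_map]
  rfl

theorem Φ_flip : ∀ x < 2 ^ 22, Φ (w * w) a x = Φ w a (mv sJ x) := by
  refine ev_ext (fun x y => R.flip.Φ_xor x y) (fun x y => by rw [mv_xor, R.Φ_xor]) fun k hk => ?_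
  have h : ∀ k < 22, mv sJ (2 ^ k) = if k % 2 = 0 then 2 ^ k else 2 ^ (k - 1) ^^^ 2 ^ k := by decide +kernel
  rw [Φ_pow hk, h k hk]
  rcases Nat.mod_two_eq_zero_or_one k with e | e
  · rw [if_pos e, Φ_pow hk, e, pow_zero, pow_zero]
  · rw [if_neg (by omega), R.Φ_xor, Φ_pow (by omega), Φ_pow hk, e, show (k - 1) % 2 = 0 by omega,
      show (k - 1) / 2 = k / 2 by omega, ← add_mul, pow_zero, pow_one, pow_one, R.w_sq, add_comm 1 w]

theorem sF_spec : ∀ x < 2 ^ 22, b * Φ w a x = Φ w a (mv sF x) * b := by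
  refine ev_ext (fun x y => by rw [R.Φ_xor, mul_add]) (fun x y => by rw [mv_xor, R.Φ_xor, add_mul]) fun k hk => ?_
  have h : ∀ k < 22, mv sF (2 ^ k) = 2 ^ (2 * (4 * (k / 2) % 11) + k % 2) ∧ 2 * (4 * (k / 2) % 11) + k % 2 < 22 := by
    decide +kernel
  have hb : ∀ i, b * a ^ i = a ^ (4 * i % 11) * b := by
    intro i
    rw [(show SemiconjBy b a (a ^ 4) from R.ba).pow_right i |>.eq, ← pow_mul]
    congr 1
    conv_lhs => rw [← Nat.div_add_mod (4 * i) 11, pow_add, pow_mul, R.a11, one_pow, one_mul]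
  obtain ⟨h1, h2⟩ := h k hk
  rw [h1, Φ_pow hk, Φ_pow h2, show (2 * (4 * (k / 2) % 11) + k % 2) % 2 = k % 2 by omega,
    show (2 * (4 * (k / 2) % 11) + k % 2) / 2 = 4 * (k / 2) % 11 by omega, ← mul_assoc,
    (Commute.pow_right (show Commute b w from R.bw) _).eq, mul_assoc, hb, ← mul_assoc]

end Raw

end Cfsg.Lib.JankoFour
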