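import Cfsg.Agent.JankoFour.Module

/-!
Coordinates of the module: the element of order eleven is a companion map, the one of order five a Galois map, and the
element of order four is determined up to a change of coordinates.
-/

set_option autoImplicit false
set_option maxRecDepth 100000
set_option maxHeartbeats 1000000

namespace Cfsg.Lib.JankoFour

open Data

variable {V : Type*} [AddCommGroup V]

/-- The standard coordinates. -/
structure Frame (w a b c : AddMonoid.End V) (f : ℕ → V) : Prop where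
  add : ∀ x y, f (x ^^^ y) = f x + f y
  inj : ∀ x < 4096, ∀ y < 4096, f x = f y → x = y
  surj : ∀ v, ∃ x < 4096, f x = v
  fA : ∀ x < 4096, f (mv A x) = a (f x)
  fB : ∀ x < 4096, f (mv B x) = b (f x)
  fC : ∀ x < 4096, f (mv C x) = c (f x)
  fW : ∀ x < 4096, f (mv OM x) = w (f x)

namespace Raw

variable {w a b c : AddMonoid.End V} (R : Raw w a b c)

include R

theorem Φ_comm (x y : ℕ) : Commute (Φ w a x) (Φ w a y) := by
  have h1 : Commute (Φ w a x) w := (Φ_comm_aux x (Commute.refl w) (show Commute w a from R.aw.symm)).symm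
  have h2 : Commute (Φ w a x) a := (Φ_comm_aux x (show Commute a w from R.aw) (Commute.refl a)).symm
  exact Φ_comm_aux y h1 h2

theorem Φ_one_v (v : V) : Φ w a 1 v = v := by rw [Φ_one]; rfl

theorem Φ_add_v (x y : ℕ) (v : V) : Φ w a (x ^^^ y) v = Φ w a x v + Φ w a y v := by
  rw [R.Φ_xor]; rfl

theorem sum_split (v : V) : Φ w a sumP (v + Φ w a sumP v) = 0 := by
  have h : Φ w a sumP (Φ w a sumP v) = Φ w a sumP v := by
    show (Φ w a sumP * Φ w a sumP) v = _
    rw [← R.Φ_mul _ _ poly_ids.2.2.2.2.2.2.2.2.2, poly_ids.2.2.2.2.2.2.1]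
  rw [map_add, h, R.two]

theorem a_sum (v : V) : a (Φ w a sumP v) = Φ w a sumP v := by
  have h := R.Φ_mul 4 sumP poly_ids.2.2.2.2.2.2.2.2.2
  rw [poly_ids.2.2.2.2.2.2.2.1, show (4 : ℕ) = 2 ^ 2 from rfl, Φ_pow (by norm_num)] at h
  have h' := congrArg (fun F : AddMonoid.End V => F v) h
  simpa using h'.symm

theorem exists_eigen : ∃ v : V, v ≠ 0 ∧ (Φ w a gP v = 0 ∨ Φ (w * w) a gP v = 0) := by
  obtain ⟨v, hv⟩ : ∃ v, Φ w a sumP v ≠ v := by
    by_contra! h
    exact R.a1 (AddMonoidHom.ext fun v => by rw [← h v]; exact R.a_sum v)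
  set u := v + Φ w a sumP v with hu
  have hu0 : u ≠ 0 := fun e => hv ((eq_neg_of_add_eq_zero_right e).trans (eq_neg_of_add_eq_zero_left (R.two v)).symm)
  have hG : gP < 2 ^ 22 := shapes.2.2.2.2.2.2.2.2.2.1
  have hJ : Φ (w * w) a gP = Φ w a gQ := by rw [R.Φ_flip _ hG, poly_ids.2.2.1]
  rw [hJ]
  by_cases hq : Φ w a gQ u = 0
  · exact ⟨u, hu0, Or.inr hq⟩
  · refine ⟨_, hq, Or.inl ?_⟩
    show (Φ w a gP * Φ w a gQ) u = 0
    rw [← R.Φ_mul _ _ poly_ids.2.2.2.1, poly_ids.1]
    exact R.sum_split v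

theorem Φ_red (v : V) (hv : Φ w a gP v = 0) : ∀ z < 2 ^ 22, Φ w a z v = Φ w a (mv redP z) v := by
  refine ev_ext (fun x y => by rw [R.Φ_xor]; rfl) (fun x y => by rw [mv_xor, R.Φ_xor]; rfl) fun k hk => ?_
  obtain ⟨h1, -⟩ := red_ids k hk
  have h2 : ∀ k < 22, mv redP (2 ^ k) = redP.getD k 0 := by decide +kernel
  rw [h2 k hk]
  conv_lhs => rw [← h1, R.Φ_add_v,
    R.Φ_mul _ _ shapes.2.2.2.2.2.2.2.2.2.1, AddMonoid.End.coe_mul, Function.comp_apply, hv, map_zero, zero_add]

theorem Φ_inj {v : V} (hv : Φ w a gP v = 0) (hv0 : v ≠ 0) {x : ℕ} (hx : x < 1024) (h : Φ w a x v = 0) : x = 0 := by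
  by_contra hx0
  obtain ⟨hlen, hall⟩ := inv_ids
  have hi := List.all_eq_true.mp hall (x - 1) (List.mem_range.mpr (by omega))
  simp only [Bool.and_eq_true, decide_eq_true_eq, beq_iff_eq, show x - 1 + 1 = x by omega] at hi
  refine hv0 ?_
  rw [← R.Φ_one_v v, ← hi.2, R.Φ_add_v, R.Φ_mul _ _ (lt_trans hx (by norm_num)), R.Φ_mul _ _ shapes.2.2.2.2.2.2.2.2.2.1]
  simp [h, hv]

theorem kerP_eq {v0 : V} (h0 : Φ w a gP v0 = 0) (hne : v0 ≠ 0) {u : V} (hu : Φ w a gP u = 0) :
    ∃ x < 1024, Φ w a x v0 = u := by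
  by_contra hno
  have hu0 : u ≠ 0 := fun e => hno ⟨0, by norm_num, by rw [e, Φ, ev_zero]; rfl⟩
  have key : Function.Injective fun p : Fin 1024 × Fin 1024 => Φ w a p.1.val v0 + Φ w a p.2.val u := by
    rintro ⟨x, y⟩ ⟨x', y'⟩ h
    have hd : Φ w a (x.val ^^^ x'.val) v0 + Φ w a (y.val ^^^ y'.val) u = 0 := by
      rw [R.Φ_add_v, R.Φ_add_v, add_add_add_comm]
      exact (congrArg (· + _) h).trans (R.two _)
    have hxl : x.val ^^^ x'.val < 1024 := Nat.xor_lt_two_pow (n := 10) x.2 x'.2
    have hyl : y.val ^^^ y'.val < 1024 := Nat.xor_lt_two_pow (n := 10) y.2 y'.2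
    have hy0 : y.val ^^^ y'.val = 0 := by
      by_contra hy
      obtain ⟨hlen, hall⟩ := inv_ids
      have hi := List.all_eq_true.mp hall ((y.val ^^^ y'.val) - 1) (List.mem_range.mpr (by omega))
      simp only [Bool.and_eq_true, decide_eq_true_eq, beq_iff_eq,
        show (y.val ^^^ y'.val) - 1 + 1 = y.val ^^^ y'.val by omega] at hi
      set i := (invP.getD ((y.val ^^^ y'.val) - 1) (0, 0)).1
      set j := (invP.getD ((y.val ^^^ y'.val) - 1) (0, 0)).2
      have he : u = Φ w a i (Φ w a (x.val ^^^ x'.val) v0) := by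
        have e : Φ w a (x.val ^^^ x'.val) v0 = Φ w a (y.val ^^^ y'.val) u :=
          (eq_neg_of_add_eq_zero_left hd).trans (eq_neg_of_add_eq_zero_left (R.two _)).symm
        rw [e]
        conv_lhs => rw [← R.Φ_one_v u, ← hi.2, R.Φ_add_v, R.Φ_mul _ _ (lt_trans hyl (by norm_num)),
          R.Φ_mul _ _ shapes.2.2.2.2.2.2.2.2.2.1]
        simp [hu]
      have hp : Φ w a i (Φ w a (x.val ^^^ x'.val) v0) = Φ w a (pmul i (x.val ^^^ x'.val)) v0 := by
        rw [R.Φ_mul _ _ (lt_trans hxl (by norm_num))]; rfl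
      have hlt : pmul i (x.val ^^^ x'.val) < 2 ^ 22 := by
        refine mv_lt (fun m hm => ?_) _
        have hpl : ∀ (n z : ℕ), z < 2 ^ 22 → ∀ m ∈ pl n z, m < 2 ^ 22 := by
          intro n
          induction n with
          | zero => intro z _ m hm; simp [pl] at hm
          | succ n ih =>
            intro z hz m hm
            simp only [pl, List.mem_cons] at hm
            rcases hm with rfl | rfl | hm
            · exact hz
            · exact mv_lt shapes.2.2.2.2.1 z
            · exact ih _ (mv_lt shapes.2.2.2.2.2.1 z) m hm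
        exact hpl 11 _ (lt_trans hxl (by norm_num)) m hm
      refine hno ⟨mv redP (pmul i (x.val ^^^ x'.val)), mv_lt (n := 10) shapes.2.2.2.2.2.2.2.2.1 _, ?_⟩
      rw [← R.Φ_red v0 h0 _ hlt, ← hp, ← he]
    have hy : y = y' := Fin.ext (Nat.xor_eq_zero_iff.mp hy0)
    rw [hy0, show Φ w a 0 = 0 from ev_zero _, AddMonoid.End.zero_apply, add_zero] at hd
    have hx : x = x' := Fin.ext (Nat.xor_eq_zero_iff.mp (R.Φ_inj h0 hne hxl hd))
    rw [hx, hy]
  haveI : Finite V := Nat.finite_of_card_ne_zero (by rw [R.card]; norm_num)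
  have := Nat.card_le_card_of_injective _ key
  rw [R.card, Nat.card_prod, Nat.card_eq_fintype_card, Fintype.card_fin] at this
  norm_num at this

theorem kerQ_zero {v0 : V} (h0 : Φ w a gP v0 = 0) (hne : v0 ≠ 0) {u : V} (hu : Φ w a gQ u = 0) : u = 0 := by
  by_contra hu0
  have hG : gP < 2 ^ 22 := shapes.2.2.2.2.2.2.2.2.2.1
  have hu' : Φ (w * w) a gP u = 0 := by rw [R.Φ_flip _ hG, poly_ids.2.2.1, hu]
  have hsep : ∀ v : V, Φ w a gP v = 0 → Φ w a gQ v = 0 → v = 0 := by
    intro v h1 h2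
    rw [← R.Φ_one_v v, ← poly_ids.2.2.2.2.2.1, R.Φ_add_v, R.Φ_mul _ _ hG, R.Φ_mul _ _ poly_ids.2.2.2.1]
    simp [h1, h2]
  have key : Function.Injective fun p : Fin 1024 × Fin 1024 => Φ w a p.1.val v0 + Φ (w * w) a p.2.val u := by
    rintro ⟨x, y⟩ ⟨x', y'⟩ h
    have hd : Φ w a (x.val ^^^ x'.val) v0 + Φ (w * w) a (y.val ^^^ y'.val) u = 0 := by
      rw [R.Φ_add_v, R.flip.Φ_add_v, add_add_add_comm]
      exact (congrArg (· + _) h).trans (R.two _)
    have hxl : x.val ^^^ x'.val < 1024 := Nat.xor_lt_two_pow (n := 10) x.2 x'.2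
    have hyl : y.val ^^^ y'.val < 1024 := Nat.xor_lt_two_pow (n := 10) y.2 y'.2
    have e : Φ w a (x.val ^^^ x'.val) v0 = Φ (w * w) a (y.val ^^^ y'.val) u :=
      (eq_neg_of_add_eq_zero_left hd).trans (eq_neg_of_add_eq_zero_left (R.two _)).symm
    have hz : Φ w a (x.val ^^^ x'.val) v0 = 0 := by
      refine hsep _ ?_ ?_
      · show (Φ w a gP * Φ w a _) v0 = 0
        rw [(R.Φ_comm _ _).eq]
        show Φ w a _ (Φ w a gP v0) = 0
        rw [h0, map_zero]
      · rw [e]
        show (Φ w a gQ * Φ (w * w) a _) u = 0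
        rw [R.Φ_flip _ (lt_trans hyl (by norm_num)), (R.Φ_comm _ _).eq]
        show Φ w a _ (Φ w a gQ u) = 0
        rw [hu, map_zero]
    have hy0 := R.flip.Φ_inj hu' hu0 hyl (e.symm.trans hz)
    have hx0 := R.Φ_inj h0 hne hxl hz
    rw [Fin.ext (Nat.xor_eq_zero_iff.mp hx0), Fin.ext (Nat.xor_eq_zero_iff.mp hy0)]
  haveI : Finite V := Nat.finite_of_card_ne_zero (by rw [R.card]; norm_num)
  have := Nat.card_le_card_of_injective _ key
  rw [R.card, Nat.card_prod, Nat.card_eq_fintype_card, Fintype.card_fin] at this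
  norm_num at this

theorem kerP_of_sum {v0 : V} (h0 : Φ w a gP v0 = 0) (hne : v0 ≠ 0) {u : V} (hu : Φ w a sumP u = 0) :
    Φ w a gP u = 0 := by
  refine R.kerQ_zero h0 hne ?_
  show (Φ w a gQ * Φ w a gP) u = 0
  rw [← R.Φ_mul _ _ shapes.2.2.2.2.2.2.2.2.2.1, poly_ids.2.1, hu]

theorem b_kerP {u : V} (hu : Φ w a gP u = 0) : Φ w a gP (b u) = 0 := by
  have hG : gP < 2 ^ 22 := shapes.2.2.2.2.2.2.2.2.2.1
  have h4 : Φ w a (mv sF gP) (b u) = 0 := by
    show (Φ w a (mv sF gP) * b) u = 0
    rw [← R.sF_spec _ hG]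
    show b (Φ w a gP u) = 0
    rw [hu, map_zero]
  rw [← poly_ids.2.2.2.2.1, R.Φ_mul _ _ (mv_lt shapes.2.2.2.2.2.2.1 _), AddMonoid.End.coe_mul, Function.comp_apply,
    h4, map_zero]

theorem exists_fixed {v0 : V} (h0 : Φ w a gP v0 = 0) (hne : v0 ≠ 0) :
    ∃ v : V, v ≠ 0 ∧ Φ w a gP v = 0 ∧ b v = v := by
  by_contra hno
  push_neg at hno
  set N : AddMonoid.End V := ∑ i ∈ Finset.range 5, b ^ i with hN
  have hbk : ∀ i u, Φ w a gP u = 0 → Φ w a gP ((b ^ i) u) = 0 := by
    intro i
    induction i with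
    | zero => intro u hu; simpa using hu
    | succ i ih => intro u hu; rw [pow_succ']; exact R.b_kerP (ih u hu)
  have happ : ∀ (s : Finset ℕ) (F : ℕ → AddMonoid.End V) (v : V), (∑ i ∈ s, F i) v = ∑ i ∈ s, F i v :=
    fun s F v => AddMonoidHom.finsetSum_apply F s v
  have hNzero : ∀ u, Φ w a gP u = 0 → N u = 0 := by
    intro u hu
    by_contra hne'
    refine hno _ hne' ?_ ?_
    · rw [hN, happ, map_sum]
      exact Finset.sum_eq_zero fun i _ => hbk i u hu
    · show (b * N) u = N u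
      congr 1
      rw [hN, Finset.mul_sum]
      simp only [← pow_succ']
      have := Finset.sum_range_succ' (fun i => b ^ i) 5
      rw [Finset.sum_range_succ, pow_zero, R.b5] at this
      exact (add_right_cancel this).symm
  have hbm : ∀ i, ∀ j, b ^ i * Φ w a (monP j) = Φ w a (monP (4 ^ i * j)) * b ^ i := by
    intro i
    induction i with
    | zero => intro j; simp
    | succ i ih =>
      intro j
      have hm : ∀ m, monP m < 2 ^ 22 ∧ mv sF (monP m) = monP (4 * m) := by
        intro m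
        have h : ∀ r < 11, monP r < 2 ^ 22 ∧ mv sF (monP r) = monP (4 * r) := by decide +kernel
        obtain ⟨h1, h2⟩ := h (m % 11) (Nat.mod_lt _ (by norm_num))
        have e1 : monP (m % 11) = monP m := by simp [monP]
        have e2 : monP (4 * (m % 11)) = monP (4 * m) := by simp [monP, Nat.mul_mod_mod]
        rw [e1] at h1 h2
        exact ⟨h1, h2.trans e2⟩
      rw [pow_succ', mul_assoc, ih, ← mul_assoc, R.sF_spec _ (hm _).1, (hm _).2, mul_assoc, ← pow_succ']
      rw [show 4 * (4 ^ i * j) = 4 ^ (i + 1) * j by rw [pow_succ]; ring]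
  have hlt : ∀ j, monP j < 2 ^ 22 := fun j => Nat.pow_lt_pow_right (by norm_num) (by omega)
  refine hne ?_
  have hsumv : Φ w a sumP v0 = 0 := by
    rw [← poly_ids.2.1, R.Φ_mul _ _ shapes.2.2.2.2.2.2.2.2.2.1, AddMonoid.End.coe_mul, Function.comp_apply, h0, map_zero]
  have hall : ∑ j ∈ Finset.range 11, Φ w a (monP (11 - j)) (N (Φ w a (monP j) v0)) = 0 := by
    refine Finset.sum_eq_zero fun j _ => ?_
    rw [hNzero _ ?_, map_zero]
    show (Φ w a gP * Φ w a (monP j)) v0 = 0
    rw [(R.Φ_comm _ _).eq]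
    show Φ w a (monP j) (Φ w a gP v0) = 0
    rw [h0, map_zero]
  have hfold : ∀ (l : List ℕ) (g : ℕ → ℕ), Φ w a ((l.map g).foldr (· ^^^ ·) 0) = (l.map fun j => Φ w a (g j)).sum := by
    intro l g
    induction l with
    | nil => exact ev_zero _
    | cons x l ih => simp only [List.map_cons, List.foldr_cons, List.sum_cons, R.Φ_xor, ih]
  have hterm : ∀ i < 5, ∑ j ∈ Finset.range 11, Φ w a (monP (11 - j)) ((b ^ i) (Φ w a (monP j) v0)) =
      if i = 0 then v0 else 0 := by
    intro i hi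
    have e : ∀ j, Φ w a (monP (11 - j)) ((b ^ i) (Φ w a (monP j) v0)) =
        Φ w a (pmul (monP (11 - j)) (monP (4 ^ i * j))) ((b ^ i) v0) := by
      intro j
      rw [R.Φ_mul _ _ (hlt _)]
      show _ = Φ w a (monP (11 - j)) ((Φ w a (monP (4 ^ i * j)) * b ^ i) v0)
      rw [← hbm]; rfl
    simp only [e]
    rw [← happ]
    have hs : ∑ j ∈ Finset.range 11, Φ w a (pmul (monP (11 - j)) (monP (4 ^ i * j))) =
        Φ w a (((List.range 11).map fun j => pmul (monP (11 - j)) (monP (4 ^ i * j))).foldr (· ^^^ ·) 0) := by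
      rw [hfold, ← List.sum_toFinset _ List.nodup_range, List.toFinset_range]
    rw [hs, twist_ids i hi]
    rcases eq_or_ne i 0 with rfl | hi0
    · rw [if_pos rfl, if_pos rfl, R.Φ_one_v]; simp
    · rw [if_neg hi0, if_neg hi0]
      show Φ w a sumP _ = 0
      rw [← poly_ids.2.1, R.Φ_mul _ _ shapes.2.2.2.2.2.2.2.2.2.1, AddMonoid.End.coe_mul, Function.comp_apply,
        hbk i v0 h0, map_zero]
  rw [← hall]
  simp only [hN, happ, map_sum]
  rw [Finset.sum_comm, Finset.sum_congr rfl fun i hi => hterm i (Finset.mem_range.mp hi)]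
  simp

theorem exists_fixed_a {v0 : V} (h0 : Φ w a gP v0 = 0) (hne : v0 ≠ 0) :
    ∃ f : V, f ≠ 0 ∧ a f = f ∧ b f = f := by
  haveI : Finite V := Nat.finite_of_card_ne_zero (by rw [R.card]; norm_num)
  have hdec : ∀ v, ∃ x < 1024, v = Φ w a sumP v + Φ w a x v0 := fun v => by
    obtain ⟨x, hx, e⟩ := R.kerP_eq h0 hne (R.kerP_of_sum h0 hne (R.sum_split v))
    refine ⟨x, hx, ?_⟩
    rw [e, add_left_comm, R.two, add_zero]
  let F := {v : V // Φ w a sumP v = v}
  have hF : 4 ≤ Nat.card F := by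
    choose x hx e using hdec
    have hs : ∀ v, Φ w a sumP (Φ w a sumP v) = Φ w a sumP v := fun v => by
      show (Φ w a sumP * Φ w a sumP) v = _
      rw [← R.Φ_mul _ _ poly_ids.2.2.2.2.2.2.2.2.2, poly_ids.2.2.2.2.2.2.1]
    have hinj : Function.Injective fun v => ((⟨Φ w a sumP v, hs v⟩ : F), (⟨x v, hx v⟩ : Fin 1024)) := by
      intro u v h
      simp only [Prod.mk.injEq, Fin.mk.injEq, Subtype.mk.injEq, F] at h
      rw [e u, e v, h.1, h.2]
    have := Nat.card_le_card_of_injective _ hinj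
    rw [R.card, Nat.card_prod, Nat.card_eq_fintype_card (α := Fin 1024), Fintype.card_fin] at this
    simp only [F] at this ⊢; omega
  have hw : ∀ v : V, w v = v → v = 0 := fun v hv => by
    have := R.ww v
    rwa [hv, hv, R.two, zero_add] at this
  obtain ⟨⟨f, hf⟩, hf0⟩ : ∃ f : F, (f : V) ≠ 0 := by
    by_contra! h
    haveI : Subsingleton F := ⟨fun p q => Subtype.ext ((h p).trans (h q).symm)⟩
    have := Finite.card_le_one_iff_subsingleton.mpr this
    omega
  have haf : a f = f := by rw [← hf]; exact R.a_sum f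
  have hexp : ∀ v, a v = v → Φ w a sumP v = v := fun v hv => by
    have hpow : ∀ i, (a ^ i) v = v := fun i => by
      induction i with
      | zero => simp
      | succ i ih => rw [pow_succ, AddMonoid.End.coe_mul, Function.comp_apply, hv, ih]
    have hterm : ∀ i < 11, Φ w a (2 ^ (2 * i)) v = v := fun i hi => by
      rw [Φ_pow (by omega), show 2 * i % 2 = 0 by omega, show 2 * i / 2 = i by omega, pow_zero, one_mul, hpow]
    have hsum : ∀ n ≤ 11, Φ w a (((List.range n).map fun i => 2 ^ (2 * i)).foldr (· ^^^ ·) 0) v =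
        if n % 2 = 1 then v else 0 := by
      intro n
      induction n with
      | zero => intro _; rw [List.range_zero, List.map_nil, List.foldr_nil, Φ, ev_zero]; rfl
      | succ n ih =>
        intro hn
        have hfr : ∀ (l : List ℕ) (z : ℕ), (l ++ [z]).foldr (· ^^^ ·) 0 = l.foldr (· ^^^ ·) 0 ^^^ z := by
          intro l z
          induction l with
          | nil => simp
          | cons y l ih => simp [ih, Nat.xor_assoc]
        rw [List.range_succ, List.map_append, List.map_singleton, hfr, R.Φ_add_v,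
          ih (by omega), hterm n (by omega)]
        rcases Nat.mod_two_eq_zero_or_one n with e | e
        · rw [if_neg (by omega), if_pos (by omega), zero_add]
        · rw [if_pos e, if_neg (by omega), R.two]
    exact hsum 11 le_rfl
  have hwf : Φ w a sumP (w f) = w f := hexp _ (by
    show (a * w) f = _
    rw [R.aw]; show w (a f) = _; rw [haf])
  have hfour : ∀ v, Φ w a sumP v = v → v = 0 ∨ v = f ∨ v = w f ∨ v = f + w f := by
    have hcard : Nat.card F ≤ 4 := by
      have hinj : Function.Injective fun p : F × Fin 1024 => (p.1 : V) + Φ w a p.2.val v0 := by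
        rintro ⟨p, x⟩ ⟨q, y⟩ h
        have hk : ∀ x : Fin 1024, Φ w a sumP (Φ w a x.val v0) = 0 := fun x => by
          show (Φ w a sumP * Φ w a x.val) v0 = 0
          rw [(R.Φ_comm _ _).eq, AddMonoid.End.coe_mul, Function.comp_apply, ← poly_ids.2.1,
            R.Φ_mul _ _ shapes.2.2.2.2.2.2.2.2.2.1, AddMonoid.End.coe_mul, Function.comp_apply, h0, map_zero, map_zero]
        have hp : p = q := Subtype.ext (by
          have := congrArg (Φ w a sumP) h
          simpa [map_add, hk, p.2, q.2] using this)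
        subst hp
        have hx : Φ w a (x.val ^^^ y.val) v0 = 0 := by
          rw [R.Φ_add_v, add_left_cancel h, R.two]
        rw [Fin.ext (Nat.xor_eq_zero_iff.mp (R.Φ_inj h0 hne (Nat.xor_lt_two_pow (n := 10) x.2 y.2) hx))]
      have := Nat.card_le_card_of_injective _ hinj
      rw [R.card, Nat.card_prod, Nat.card_eq_fintype_card (α := Fin 1024), Fintype.card_fin] at this
      omega
    intro v hv
    by_contra hc
    push_neg at hc
    let g : Fin 5 → F := ![⟨0, map_zero _⟩, ⟨f, hf⟩, ⟨w f, hwf⟩, ⟨f + w f, by rw [map_add, hf, hwf]⟩, ⟨v, hv⟩]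
    have hg : Function.Injective g := by
      have h1 : w f ≠ 0 := fun e => hf0 (by have := R.ww f; rwa [e, map_zero, zero_add, zero_add] at this)
      have h2 : w f ≠ f := fun e => hf0 (hw f e)
      have h3 : f + w f ≠ 0 := fun e => h2 ((eq_neg_of_add_eq_zero_right e).trans (eq_neg_of_add_eq_zero_left (R.two f)).symm)
      intro i j h
      have h := congrArg Subtype.val h
      fin_cases i <;> fin_cases j <;> simp [g] at h ⊢ <;>
        first
          | exact hf0 h | exact hf0 h.symm | exact h1 h | exact h1 h.symm | exact h3 h | exact h3 h.symm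
          | exact h2 h | exact h2 h.symm | exact hc.1 h | exact hc.1 h.symm | exact hc.2.1 h | exact hc.2.1 h.symm
          | exact hc.2.2.1 h | exact hc.2.2.1 h.symm | exact hc.2.2.2 h | exact hc.2.2.2 h.symm
    have := Nat.card_le_card_of_injective _ hg
    rw [Nat.card_eq_fintype_card (α := Fin 5), Fintype.card_fin] at this
    omega
  refine ⟨f, hf0, haf, ?_⟩
  have habf : a (b f) = b f := by
    have h4 : (a ^ 4) (b f) = b f := by
      show (a ^ 4 * b) f = b f
      rw [← R.ba]; show b (a f) = b f; rw [haf]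
    have h12 : (a ^ 12) (b f) = b f := by
      rw [show a ^ 12 = a ^ 4 * (a ^ 4 * a ^ 4) by simp [← pow_add]]
      show (a ^ 4) ((a ^ 4) ((a ^ 4) (b f))) = b f
      rw [h4, h4, h4]
    rwa [show a ^ 12 = a by rw [pow_succ, R.a11, one_mul]] at h12
  have hb5 : (b ^ 5) f = f := by rw [R.b5]; rfl
  have hwb : ∀ v, b (w v) = w (b v) := fun v => congrArg (fun F : AddMonoid.End V => F v) R.bw
  have hw2 : w (w f) = f + w f := by
    have e := congrArg (fun F : AddMonoid.End V => F f) R.w_sq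
    exact e.trans (add_comm _ _)
  have h3 : ∀ v, w (w (w v)) = v := fun v => by
    have := congrArg (fun F : AddMonoid.End V => F v) R.w3
    simpa [pow_succ] using this
  have hb5' : b (b (b (b (b f)))) = f := by simpa [pow_succ] using hb5
  rcases hfour _ (hexp _ habf) with e | e | e | e
  · refine absurd ?_ hf0
    rw [e, map_zero, map_zero, map_zero, map_zero] at hb5'
    exact hb5'.symm
  · exact e
  · refine absurd ?_ hf0
    simp only [e, hwb, h3] at hb5'
    have h := hb5'
    rw [hw2] at h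
    have hwz : w f = 0 := by
      have := congrArg (fun t => f + t) h
      simpa [← add_assoc, R.two] using this
    have := R.ww f
    rwa [hwz, map_zero, zero_add, zero_add] at this
  · refine absurd (hw f ?_) hf0
    rw [← hw2] at e
    simp only [e, hwb, h3] at hb5'
    exact hb5'

end Raw

end Cfsg.Lib.JankoFour
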