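import Cfsg.Agent.JankoFour.Stab
import Cfsg.Agent.JankoFour.Fusion

/-!
Orbits on singular vectors and on the cosets of the distinguished subgroup.
-/

set_option autoImplicit false
set_option maxRecDepth 100000
set_option maxHeartbeats 1000000
set_option linter.style.haveILetI false
set_option linter.unusedSectionVars false

namespace Cfsg.Lib.JankoFour

open Subgroup
open Data (W0 X0 reps)

universe u

variable {G : Type u} [Group G] [Finite G]

theorem tree_spec {x : ℕ} (hx : x < 4096) (hx0 : x ≠ 0) (hq : qB x = false) :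
    (tRank x = 0 ∧ x = reps.getD (cls x) 0) ∨ (tGen x < 5 ∧ tRank (mv (gens5.getD (tGen x) idM) x) < tRank x ∧
      cls (mv (gens5.getD (tGen x) idM) x) = cls x ∧ qB (mv (gens5.getD (tGen x) idM) x) = false ∧
      mv (gens5.getD (tGen x) idM) x ≠ 0) := by
  have h := List.all_eq_true.mp tree_ok x (List.mem_range.mpr hx)
  rw [tOK, hq, beq_false_of_ne hx0, Bool.false_or, Bool.false_or] at h
  by_cases h0 : tRank x = 0
  · rw [h0, beq_self_eq_true, if_pos rfl] at h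
    exact Or.inl ⟨h0, beq_iff_eq.mp h⟩
  · rw [beq_false_of_ne h0, if_neg Bool.false_ne_true] at h
    simp only [Bool.and_eq_true, decide_eq_true_eq, beq_iff_eq, Bool.not_eq_true', bne_iff_ne] at h
    exact Or.inr ⟨h.1, h.2.1.1.1, h.2.1.1.2, h.2.1.2, h.2.2⟩

namespace Ctx

variable {z : G} {P : Subgroup G} (C : Ctx z P)

include C

theorem swap_conj {a : G} (ha : a ∈ C.E) (h1 : a ≠ 1) (hz : a ≠ z) : IsConj a (z * a) := by
  obtain ⟨q, -, e⟩ := C.X.exists_swap ha fun hx => by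
    rcases (Cfsg.Lib.LargeExtra.mem_zpowers_two C.X.zz).mp hx with e | e
    exacts [h1 e, hz e]
  exact isConj_iff.mpr ⟨q, e⟩

theorem to_rep : ∀ (n x : ℕ), tRank x = n → x < 4096 → x ≠ 0 → qB x = false →
    ∃ h ∈ centralizer ({z} : Set G), ∀ q ∈ C.E, C.π q = x → C.π (h * q * h⁻¹) = reps.getD (cls x) 0 := by
  intro n
  induction n using Nat.strong_induction_on with
  | _ n ih =>
    intro x hn hx hx0 hq
    rcases tree_spec hx hx0 hq with ⟨-, e⟩ | ⟨hg, hlt, hc, hq', hne⟩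
    · exact ⟨1, one_mem _, fun q _ hπ => by simpa [hπ] using e⟩
    · have hM : ∀ i < 5, ∀ m ∈ gens5.getD i idM, m < 4096 := by decide +kernel
      obtain ⟨g, hgH, hgr⟩ := C.exists_word [tGen x] (by simpa using hg)
      have hgr' : ∀ q ∈ C.E, C.π (g * q * g⁻¹) = mv (gens5.getD (tGen x) idM) (C.π q) := fun q hq => by
        rw [hgr q hq]
        simp only [wM, mv_mm, mv_idM (C.π_lt q)]
      obtain ⟨h, hh, hr⟩ := ih _ (hn ▸ hlt) _ rfl (mv_lt (n := 12) (hM _ hg) _) hne hq'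
      refine ⟨h * g, mul_mem hh hgH, fun q hq hπ => ?_⟩
      rw [show h * g * q * (h * g)⁻¹ = h * (g * q * g⁻¹) * h⁻¹ by group,
        hr _ (C.conj_mem hgH hq) (by rw [hgr' q hq, hπ]), hc]

theorem conj_cls {a b : G} (ha : a ∈ C.E) (hb : b ∈ C.E) (ha0 : C.π a ≠ 0) (hb0 : C.π b ≠ 0)
    (hqa : qB (C.π a) = false) (hqb : qB (C.π b) = false) (hc : cls (C.π a) = cls (C.π b)) : IsConj a b := by
  obtain ⟨g, hg, hga⟩ := C.to_rep _ _ rfl (C.π_lt a) ha0 hqa
  obtain ⟨k, hk, hkb⟩ := C.to_rep _ _ rfl (C.π_lt b) hb0 hqb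
  have e := hga a ha rfl
  rw [hc, ← hkb b hb rfl] at e
  refine (isConj_iff.mpr ⟨g, rfl⟩ : IsConj a (g * a * g⁻¹)).trans
    (IsConj.trans ?_ (isConj_iff.mpr ⟨k, rfl⟩ : IsConj b (k * b * k⁻¹)).symm)
  rcases C.π_eq (C.conj_mem hg ha) (C.conj_mem hk hb) e with r | r
  · rw [r]
  · rw [r]
    refine (C.swap_conj (C.conj_mem hk hb) (fun h => hb0 ?_) fun h => hb0 ?_).symm
    · rw [conj_eq_one_iff.mp h, C.π_one]
    · have h' : b = z := by
        have : b = k⁻¹ * (k * b * k⁻¹) * k := by group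
        rw [this, h, mul_assoc, ← (C.z_comm hk).eq, inv_mul_cancel_left]
      rw [h', (C.π_zero z C.X.mem).mpr (Or.inr rfl)]

theorem V_index {a : G} (ha : a ∈ C.V) (ha0 : a ∉ C.E) :
    ∃ k < 15, RepBy C.E C.π a (elt (xi k)) := by
  obtain ⟨⟨hH, i, hi, hs, hr⟩, -⟩ := C.mem_V.mp ha
  rcases xi_facts.2.1 i hi hs with rfl | ⟨k, hk, rfl⟩
  · refine absurd ?_ ha0
    rw [elt_zero] at hr
    simpa using C.rep_quot hH (one_mem _) hr C.rep_one
  · exact ⟨k, hk, hr⟩

/-- Cosets related by the stabiliser. -/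
def Rel (a b : G) : Prop := ∃ m ∈ C.M, (m * a * m⁻¹)⁻¹ * b ∈ C.E

theorem rel_trans {a b c : G} (h1 : C.Rel a b) (h2 : C.Rel b c) : C.Rel a c := by
  obtain ⟨m, hm, e1⟩ := h1
  obtain ⟨k, hk, e2⟩ := h2
  refine ⟨k * m, mul_mem hk hm, ?_⟩
  have h := mul_mem (C.conj_mem hk.1 e1) e2
  rwa [show k * ((m * a * m⁻¹)⁻¹ * b) * k⁻¹ * ((k * b * k⁻¹)⁻¹ * c) = (k * m * a * (k * m)⁻¹)⁻¹ * c by group] at h

theorem rel_symm {a b : G} (h : C.Rel a b) : C.Rel b a := by
  obtain ⟨m, hm, e⟩ := h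
  refine ⟨m⁻¹, inv_mem hm, ?_⟩
  have h := C.conj_mem (inv_mem hm.1) (inv_mem e)
  rwa [show m⁻¹ * ((m * a * m⁻¹)⁻¹ * b)⁻¹ * m⁻¹⁻¹ = (m⁻¹ * b * m⁻¹⁻¹)⁻¹ * a by group] at h

theorem coset {a b : G} (ha : a ∈ C.V) (ha0 : a ∉ C.E) (hb : b ∈ C.V) (hb0 : b ∉ C.E) : C.Rel a b := by
  obtain ⟨hxi, -, -⟩ := xi_facts
  obtain ⟨x, hx⟩ := C.exists_lifts
  have hsame : ∀ g g' : G, g ∈ centralizer ({z} : Set G) → g' ∈ centralizer ({z} : Set G) →
      ∀ k, RepBy C.E C.π g (elt (xi k)) → RepBy C.E C.π g' (elt (xi k)) → C.Rel g g' := fun g g' hg hg' k r r' =>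
    ⟨1, one_mem _, by simpa using C.rep_quot hg' hg r' r⟩
  have horb : ∀ n, ∀ k ∈ norOrbit n, k < 15 ∧ C.Rel (x 0) (x k) := by
    intro n
    induction n with
    | zero =>
      intro k hk
      simp [norOrbit] at hk
      subst hk
      exact ⟨by norm_num, hsame _ _ (hx 0 (by norm_num)).1 (hx 0 (by norm_num)).1 0 (hx 0 (by norm_num)).2.2
        (hx 0 (by norm_num)).2.2⟩
    | succ n ih =>
      intro k hk
      simp only [norOrbit, List.mem_dedup, List.mem_append, List.mem_flatMap, List.mem_map] at hk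
      rcases hk with hk | ⟨t, ht, j, hj, rfl⟩
      · exact ih k hk
      · obtain ⟨hj15, hrel⟩ := ih j hj
        have h := nor_check.1
        simp only [List.all_eq_true, Bool.and_eq_true, decide_eq_true_eq, beq_iff_eq, List.mem_range] at h
        obtain ⟨hw, hk'⟩ := h t ht
        obtain ⟨hlt, hM⟩ := hk' j hj15
        refine ⟨hlt, C.rel_trans hrel ?_⟩
        obtain ⟨g, hg, -, hgr⟩ := C.exists_inner t.1 0 hw
        have hgr' : RepBy C.E C.π g (wM [Data.A, Data.B, Data.C] t.1) := fun q hq => by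
          rw [hgr q hq, mv_mm, mpow, mv_idM]
          refine mv_lt (n := 12) (M := wM [Data.A, Data.B, Data.C] t.1) ?_ _
          have hlt : (Data.nor.all fun t => (wM [Data.A, Data.B, Data.C] t.1).all fun m => decide (m < 4096)) = true := by
            decide +kernel
          exact list_lt (List.all_eq_true.mp hlt t ht)
        have hst := List.all_eq_true.mp nor_stab t ht
        simp only [List.all_eq_true, List.contains_iff_mem] at hst
        refine ⟨g, C.mem_M_of_rep hg hgr' hst, ?_⟩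
        obtain ⟨j1, -, j3⟩ := hx j hj15
        obtain ⟨k1, -, k3⟩ := hx _ hlt
        have r1 : RepBy C.E C.π (g * x j) (mm (elt (xi (t.2.getD j 0))) (wM [Data.A, Data.B, Data.C] t.1)) := by
          rw [show mm (elt (xi (t.2.getD j 0))) (wM [Data.A, Data.B, Data.C] t.1) =
            mm (wM [Data.A, Data.B, Data.C] t.1) (elt (xi j)) from hM]
          exact C.rep_mul j1 hgr' j3
        have h := C.conj_mem hg (C.rep_quot (mul_mem k1 hg) (mul_mem hg j1) (C.rep_mul hg k3 hgr') r1)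
        rwa [show g * ((g * x j)⁻¹ * (x (t.2.getD j 0) * g)) * g⁻¹ = (g * x j * g⁻¹)⁻¹ * x (t.2.getD j 0) by group] at h
  have hall : ∀ k < 15, C.Rel (x 0) (x k) := fun k hk =>
    (horb 8 k (List.contains_iff_mem.mp (List.all_eq_true.mp nor_check.2 k (List.mem_range.mpr hk)))).2
  obtain ⟨k, hk, hak⟩ := C.V_index ha ha0
  obtain ⟨l, hl, hbl⟩ := C.V_index hb hb0
  exact C.rel_trans (hsame a (x k) (C.V_le_H ha) (hx k hk).1 k hak (hx k hk).2.2)
    (C.rel_trans (C.rel_trans (C.rel_symm (hall k hk)) (hall l hl))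
      (hsame (x l) b (hx l hl).1 (C.V_le_H hb) l (hx l hl).2.2 hbl))

theorem orbit16 {a : G} (ha : a ∈ C.V) (ha0 : a ∉ C.E) : 16 ∣ {x : G | ∃ q ∈ C.E, q * a * q⁻¹ = x}.ncard := by
  classical
  obtain ⟨k, hk, hr⟩ := C.V_index ha ha0
  have h := List.all_eq_true.mp lift_image k (List.mem_range.mpr hk)
  simp only [List.any_eq_true, Bool.and_eq_true, beq_iff_eq, decide_eq_true_eq] at h
  obtain ⟨c, hcm, hc, hnd, hlen⟩ := h
  have hys := List.all_eq_true.mp inn_cert c hcm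
  simp only [Bool.and_eq_true, decide_eq_true_eq, List.all_eq_true] at hys
  have hxl : ∀ r ∈ c.2.2.2.map (xm (elt c.1)), ∃ e ∈ C.E, C.π (e * a * e⁻¹ * a⁻¹) = r := by
    intro r hr'
    obtain ⟨y, hy, rfl⟩ := List.mem_map.mp hr'
    obtain ⟨e, he, hey⟩ := C.π_surj y (hys.1.2 y hy)
    refine ⟨e, he, ?_⟩
    rw [(C.comm_w (C.V_le_H ha) hr he).2, hey, hc]
    rfl
  choose sec hsecE hsec using hxl
  let S : Set G := {x : G | ∃ q ∈ C.E, q * a * q⁻¹ = x}
  let f : ↥(c.2.2.2.map (xm (elt c.1))).toFinset → ↥S := fun r =>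
    ⟨sec r (List.mem_toFinset.mp r.2) * a * (sec r (List.mem_toFinset.mp r.2))⁻¹, _, hsecE _ _, rfl⟩
  have hf : Function.Injective f := fun r r' e => by
    have e' := congrArg (fun x : ↥S => C.π ((x : G) * a⁻¹)) e
    simp only [f, hsec] at e'
    exact Subtype.ext e'
  have h16 : 16 ≤ S.ncard := by
    rw [← Nat.card_coe_set_eq]
    refine le_trans (le_of_eq ?_) (Nat.card_le_card_of_injective f hf)
    rw [Nat.card_eq_fintype_card, Fintype.card_coe, List.toFinset_card_of_nodup hnd, hlen]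
  letI : MulAction ↥C.E G := MulAction.compHom G ((ConjAct.toConjAct : G ≃* ConjAct G).toMonoidHom.comp C.E.subtype)
  have hS : S = MulAction.orbit ↥C.E a := by
    ext x
    constructor
    · rintro ⟨q, hq, rfl⟩; exact ⟨⟨q, hq⟩, rfl⟩
    · rintro ⟨q, rfl⟩; exact ⟨q, q.2, rfl⟩
  have hd : S.ncard ∣ 2 ^ 13 := by
    rw [hS, ← MulAction.index_stabilizer]
    have hcard : Nat.card ↥C.E = 2 ^ 13 := by rw [C.card]; norm_num
    exact hcard ▸ Subgroup.index_dvd_card _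
  obtain ⟨n, -, hn⟩ := (Nat.dvd_prime_pow Nat.prime_two).mp hd
  show 16 ∣ S.ncard
  rw [hn] at h16 ⊢
  rw [show (16 : ℕ) = 2 ^ 4 by norm_num] at h16 ⊢
  exact pow_dvd_pow 2 ((Nat.pow_le_pow_iff_right (by norm_num)).mp h16)

end Ctx

end Cfsg.Lib.JankoFour
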