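import Cfsg.Agent.LargeFischer.Setting
import Cfsg.Agent.JankoFour.Group
import Cfsg.Agent.JankoFour.Invariant

/-!
Coordinates in a group of Janko-four type: the extraspecial group modulo its centre is the standard module and the
centraliser of the involution is generated over it by five standard elements.
-/

set_option autoImplicit false
set_option maxRecDepth 100000
set_option maxHeartbeats 1000000
set_option linter.style.haveILetI false
set_option linter.unusedSectionVars false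

namespace Cfsg.Lib.JankoFour

open Subgroup QuadraticMap
open Cfsg.Lib.LargeExtra.OutExtra
open Cfsg.Lib.LargeFischer (rep rep_apply rep_ker card_coord)
open Data (gP)

universe u

variable {G : Type u} [Group G] [Finite G]

/-- An element acts on the coordinates by a coded map. -/
def RepBy (E : Subgroup G) (π : G → ℕ) (h : G) (M : List ℕ) : Prop := ∀ q ∈ E, π (h * q * h⁻¹) = mv M (π q)

/-- Coordinates and standard generators. -/
structure Ctx (z : G) (P : Subgroup G) extends Base z P where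
  π : G → ℕ
  π_lt : ∀ q, π q < 4096
  π_mul : ∀ a ∈ E, ∀ b ∈ E, π (a * b) = π a ^^^ π b
  π_surj : ∀ x < 4096, ∃ q ∈ E, π q = x
  π_zero : ∀ q ∈ E, π q = 0 ↔ q = 1 ∨ q = z
  π_sq : ∀ q ∈ E, q * q = 1 ↔ qB (π q) = false
  π_comm : ∀ a ∈ E, ∀ b ∈ E, Commute a b ↔ pB (π a) (π b) = false
  ker : ∀ h ∈ centralizer ({z} : Set G), (∀ q ∈ E, π (h * q * h⁻¹) = π q) → h ∈ E
  ga : G
  gb : G
  gc : G
  gt : G
  memH : ga ∈ centralizer ({z} : Set G) ∧ gb ∈ centralizer ({z} : Set G) ∧ gc ∈ centralizer ({z} : Set G) ∧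
    gt ∈ centralizer ({z} : Set G)
  comm_p : Commute ga p ∧ Commute gb p ∧ Commute gc p ∧ gt * p * gt⁻¹ = p⁻¹
  rep_p : RepBy E π p Data.OM
  rep_a : RepBy E π ga Data.A
  rep_b : RepBy E π gb Data.B
  rep_c : RepBy E π gc Data.C
  rep_t : RepBy E π gt Data.T
  gen : centralizer ({z} : Set G) ≤ E ⊔ Subgroup.closure ({p, ga, gb, gc, gt} : Set G)

/-- The other generator of the subgroup of order three. -/
def Base.swap {z : G} {P : Subgroup G} (B : Base z P) : Base z P where
  E := B.E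
  p := B.p ^ 2
  hz := B.hz
  hE := B.hE
  ext := B.ext
  X := B.X
  card := B.card
  cQ := B.cQ
  nQ := B.nQ
  le := B.le
  hp := by
    refine Eq.trans ?_ B.hp
    refine le_antisymm (zpowers_le.mpr (pow_mem (mem_zpowers _) 2)) (zpowers_le.mpr ?_)
    have h4 : (B.p ^ 2) ^ 2 = B.p := by
      rw [← pow_mul, show 2 * 2 = 3 + 1 by norm_num, pow_succ,
        show B.p ^ 3 = 1 from B.ord ▸ pow_orderOf_eq_one B.p, one_mul]
    have h5 := pow_mem (mem_zpowers (B.p ^ 2)) 2
    rwa [h4] at h5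
  ord := by rw [orderOf_pow, B.ord]; norm_num
  pH := pow_mem B.pH 2
  fpf := by
    intro e he hc
    refine B.fpf e he ?_
    have h4 : (B.p ^ 2) * (B.p ^ 2) = B.p := by
      rw [← pow_add, show 2 + 2 = 3 + 1 by norm_num, pow_succ,
        show B.p ^ 3 = 1 from B.ord ▸ pow_orderOf_eq_one B.p, one_mul]
    have hpz : Commute (B.p ^ 2) z := mem_centralizer_singleton_iff.mp (pow_mem B.pH 2)
    have h : B.p * e * B.p⁻¹ = B.p ^ 2 * (B.p ^ 2 * e * (B.p ^ 2)⁻¹) * (B.p ^ 2)⁻¹ := by
      conv_lhs => rw [← h4]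
      simp only [mul_inv_rev, mul_assoc]
    rcases hc with hc | hc
    · left; rw [h, hc, hc]
    · left
      rw [h, hc, show B.p ^ 2 * (z * e) * (B.p ^ 2)⁻¹ = (B.p ^ 2 * z * (B.p ^ 2)⁻¹) * (B.p ^ 2 * e * (B.p ^ 2)⁻¹) by group,
        hc, hpz.eq, mul_inv_cancel_right, ← mul_assoc, B.X.zz, one_mul]
  ψ := B.ψ
  ψ_surj := B.ψ_surj
  ψ_ker h := by
    rw [B.ψ_ker]
    have h3 : B.p ^ 3 = 1 := B.ord ▸ pow_orderOf_eq_one B.p
    constructor
    · rintro ⟨e, he, k, hk⟩
      exact ⟨e, he, 2 * k, by rw [hk, ← pow_mul, show 2 * (2 * k) = 3 * k + k by ring, pow_add, pow_mul, h3, one_pow, one_mul]⟩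
    · rintro ⟨e, he, k, hk⟩
      exact ⟨e, he, 2 * k, by rw [hk, ← pow_mul]⟩
  L_img m := by
    obtain ⟨h, hc, e⟩ := B.L_img m
    exact ⟨h, hc.pow_right 2, e⟩
  N_img φ hφ := by
    obtain ⟨h, hc, e⟩ := B.N_img φ hφ
    refine ⟨h, ?_, e⟩
    rw [← conj_pow, hc, inv_pow]
  cardH := B.cardH
  NE := B.NE
  deg h hh hn := by
    rcases B.deg h hh hn with e | e
    · exact Or.inl (by rw [← conj_pow, e])
    · exact Or.inr (by rw [← conj_pow, e, inv_pow])

theorem pow_cancel {M : Type*} [Monoid M] {w : M} (h3 : w ^ 3 = 1) {n k : ℕ} (hn : n % 3 ≠ 0) (h : w ^ (n * k) = 1) :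
    w ^ k = 1 := by
  rw [← Nat.div_add_mod n 3, add_mul, mul_assoc, pow_add, pow_mul, h3, one_pow, one_mul] at h
  rcases (show n % 3 = 1 ∨ n % 3 = 2 by omega) with e | e <;> rw [e] at h
  · rwa [one_mul] at h
  · calc w ^ k = w ^ k * (w ^ 3) ^ k := by rw [h3, one_pow, mul_one]
      _ = (w ^ (2 * k)) ^ 2 := by rw [← pow_mul, ← pow_mul, ← pow_add]; ring_nf
      _ = 1 := by rw [h, one_pow]

theorem exists_ctx_coord {z : G} {P : Subgroup G} (B₀ : Base z P) (Q : Subgroup ↥(centralizer ({z} : Set G)))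
    [Q.Normal] (hQ : Q = B₀.E.subgroupOf (centralizer ({z} : Set G))) {ι : Type} [Fintype ι] [DecidableEq ι]
    {T : QuadraticForm (ZMod 2) (ι → ZMod 2)} {zq : ↥Q}
    (D : Coord zq T) : Nonempty (Ctx z P) := by
  classical
  have two : ∀ v : ι → ZMod 2, v + v = 0 := fun v => funext fun i => Cfsg.Lib.LargeFischer.zmod2_dbl (v i)
  have hmQ : ∀ {x : ↥(centralizer ({z} : Set G))}, x ∈ Q ↔ (x : G) ∈ B₀.E := fun {x} => by rw [hQ, mem_subgroupOf]
  have hcQ : centralizer (Q : Set ↥(centralizer ({z} : Set G))) ≤ Q := fun c hc => hmQ.mpr (B₀.cQ (mem_centralizer_iff.mpr fun q hq =>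
    congrArg Subtype.val (mem_centralizer_iff.mp hc ⟨q, B₀.le hq⟩ (hmQ.mpr hq))))
  have hQc : Nat.card ↥Q = 2 ^ 13 := by
    rw [hQ, Nat.card_congr (subgroupOfEquivOfLe B₀.le).toEquiv, B₀.card]; norm_num
  have hVc : Nat.card (ι → ZMod 2) = 4096 := card_coord Q D hQc
  have hqE : ∀ q : ↥Q, ((q : ↥(centralizer ({z} : Set G))) : G) ∈ B₀.E := fun q => hmQ.mp q.2
  have hzv : ((zq : ↥(centralizer ({z} : Set G))) : G) = z := by
    refine (B₀.X.cen _ (hqE zq) fun a ha => ?_).resolve_left fun e => D.es.z_ne_one (Subtype.ext (Subtype.ext e))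
    exact congrArg (fun x : ↥Q => ((x : ↥(centralizer ({z} : Set G))) : G)) (mem_center_iff.mp (D.es.cen.symm ▸ mem_zpowers zq : zq ∈ center ↥Q)
      ⟨⟨a, B₀.le ha⟩, hmQ.mpr ha⟩)
  have hcen : ∀ x : ↥Q, x ∈ center ↥Q ↔ ((x : ↥(centralizer ({z} : Set G))) : G) = 1 ∨ ((x : ↥(centralizer ({z} : Set G))) : G) = z := by
    intro x
    constructor
    · intro h
      rcases center_cases D.es h with r | r
      · exact Or.inl (by rw [r]; rfl)
      · exact Or.inr (by rw [r]; exact hzv)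
    · rintro (r | r)
      · rw [show x = 1 from Subtype.ext (Subtype.ext r)]; exact one_mem _
      · rw [show x = zq from Subtype.ext (Subtype.ext (r.trans hzv.symm)), D.es.cen]; exact mem_zpowers _
  -- the representation
  let R : ↥(centralizer ({z} : Set G)) →* AddMonoid.End (ι → ZMod 2) :=
    { toFun := fun c => ((D.lin (MulAut.conjNormal c)).toAddMonoidHom : AddMonoid.End (ι → ZMod 2))
      map_one' := AddMonoidHom.ext fun v => by
        obtain ⟨x, rfl⟩ := D.surj v
        show D.lin _ (D.π x) = D.π x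
        rw [D.lin_apply, map_one]; rfl
      map_mul' := fun c d => AddMonoidHom.ext fun v => by
        obtain ⟨x, rfl⟩ := D.surj v
        show D.lin _ (D.π x) = D.lin _ (D.lin _ (D.π x))
        rw [D.lin_apply, D.lin_apply, D.lin_apply, map_mul]; rfl }
  have hR : ∀ (c : ↥(centralizer ({z} : Set G))) (x : ↥Q), R c (D.π x) = D.π (MulAut.conjNormal c x) := fun c x => D.lin_apply _ _
  have hRk : ∀ c : ↥(centralizer ({z} : Set G)), R c = 1 ↔ (c : G) ∈ B₀.E := by
    intro c
    rw [← hmQ, ← rep_ker Q D hcQ, MonoidHom.mem_ker]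
    constructor
    · intro h; exact Equiv.ext fun v => congrArg (fun f : AddMonoid.End (ι → ZMod 2) => f v) h
    · intro h; exact AddMonoidHom.ext fun v => congrArg (fun f : Equiv.Perm (ι → ZMod 2) => f v) h
  have hpfix : ∀ B : Base z P, B.E = B₀.E → ∀ v, R ⟨B.p, B.pH⟩ v = v → v = 0 := by
    intro B hBE v hv
    obtain ⟨x, rfl⟩ := D.surj v
    rw [hR, D.eq_iff, hcen] at hv
    refine (D.ker x).mpr ((hcen x).mpr (B.fpf _ (hBE ▸ hqE x) ?_))
    have hpx : Commute B.p z := mem_centralizer_singleton_iff.mp B.pH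
    have hval : ((((MulAut.conjNormal (⟨B.p, B.pH⟩ : ↥(centralizer ({z} : Set G))) x)⁻¹ * x : ↥Q) : ↥(centralizer ({z} : Set G))) : G) =
        (B.p * ((x : ↥(centralizer ({z} : Set G))) : G) * B.p⁻¹)⁻¹ * ((x : ↥(centralizer ({z} : Set G))) : G) := by
      simp [MulAut.conjNormal_apply]
    rw [hval] at hv
    rcases hv with e | e
    · exact Or.inl (inv_mul_eq_one.mp e)
    · refine Or.inr ?_
      rw [inv_mul_eq_iff_eq_mul] at e
      have hc : B.p * ((x : ↥(centralizer ({z} : Set G))) : G) * B.p⁻¹ = ((x : ↥(centralizer ({z} : Set G))) : G) * z := by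
        conv_rhs => rw [e]
        rw [mul_assoc _ z z, B.X.zz, mul_one]
      rw [hc, B.X.central _ (hBE ▸ hqE x)]
  -- elements of the centraliser of the element of order three
  have hkey : ∀ B : Base z P, B.E = B₀.E → ∀ l l' : ↥(centralizer ({z} : Set G)), Commute (l : G) B.p → Commute (l' : G) B.p → B.ψ l = B.ψ l' →
      ∃ k : ℕ, R l = R l' * R ⟨B.p, B.pH⟩ ^ k := by
    intro B hBE l l' hl hl' he
    obtain ⟨e, he', k, hek⟩ := (B.ψ_ker (l'⁻¹ * l)).mp (by rw [map_mul, map_inv, he, inv_mul_cancel])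
    refine ⟨k, ?_⟩
    have hec : Commute e B.p := by
      have h1 : Commute ((l'⁻¹ * l : ↥(centralizer ({z} : Set G))) : G) B.p := by
        simp only [Subgroup.coe_mul, Subgroup.coe_inv]; exact hl'.inv_left.mul_left hl
      rw [hek] at h1
      have := h1.mul_left ((Commute.refl B.p).pow_left k).inv_left
      rwa [mul_inv_cancel_right] at this
    have he0 : e ∈ B₀.E := by rw [← hBE]; exact he'
    have hE : R ⟨e, B₀.le he0⟩ = 1 := (hRk _).mpr he0
    rw [show l = l' * (⟨e, B₀.le he0⟩ * ⟨B.p, B.pH⟩ ^ k) from by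
      rw [← mul_inv_cancel_left l' l]
      exact congrArg (l' * ·) (Subtype.ext (hek.trans (by simp))),
      map_mul, map_mul, map_pow, hE, one_mul]
  obtain ⟨g, φ, ha11, ha1, hb5, hc4, hba, hcb, hac, hgen, hφ, hWA, hWB, hWC⟩ := exists_gens
  -- relations for either choice of the generator
  have hraw : ∀ B : Base z P, B.E = B₀.E → ∃ la lb lc : ↥(centralizer ({z} : Set G)), Commute (la : G) B.p ∧ Commute (lb : G) B.p ∧
      Commute (lc : G) B.p ∧ B.ψ la = MulAut.conj (g 0) ∧ B.ψ lb = MulAut.conj (g 1) ∧ B.ψ lc = MulAut.conj (g 2) ∧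
      Raw (R ⟨B.p, B.pH⟩) (R la) (R lb) (R lc) := by
    intro B hBE
    set w := R ⟨B.p, B.pH⟩ with hw
    have hw3 : w ^ 3 = 1 := by
      rw [hw, ← map_pow, ← map_one R]
      refine congrArg R (Subtype.ext ?_)
      rw [SubgroupClass.coe_pow]
      exact (B.ord ▸ pow_orderOf_eq_one B.p :)
    obtain ⟨la, hla, ea⟩ := B.L_img (g 0)
    obtain ⟨lb, hlb, eb⟩ := B.L_img (g 1)
    obtain ⟨lc, hlc, ec⟩ := B.L_img (g 2)
    have hcom : ∀ l : ↥(centralizer ({z} : Set G)), Commute (l : G) B.p → Commute (R l) w := fun l hl => by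
      refine (Commute.map ?_ R)
      exact Subtype.ext hl.eq
    have hpow : ∀ (l : ↥(centralizer ({z} : Set G))) (n m : ℕ), Commute (l : G) B.p → B.ψ l ^ n = 1 → m % 3 = 0 → (R (l ^ m)) ^ n = 1 := by
      intro l n m hl hln hm
      obtain ⟨k, hk⟩ := hkey B hBE (l ^ n) 1 (by rw [SubgroupClass.coe_pow]; exact hl.pow_left n)
        (by simp) (by rw [map_pow, hln, map_one])
      rw [map_one, one_mul, map_pow] at hk
      rw [map_pow, ← pow_mul, mul_comm m n, pow_mul, hk, ← pow_mul, ← Nat.div_add_mod m 3, hm, add_zero,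
        show k * (3 * (m / 3)) = 3 * (k * (m / 3)) by ring, pow_mul, hw3, one_pow]
    have hψpow : ∀ (l : ↥(centralizer ({z} : Set G))) (x : Spor.M22) (m n : ℕ), B.ψ l = MulAut.conj x → x ^ n = 1 → m % n = 1 →
        B.ψ (l ^ m) = MulAut.conj x := by
      intro l x m n e hx hm
      rw [map_pow, e, ← map_pow, ← Nat.div_add_mod m n, hm, pow_succ, pow_mul, hx, one_pow, one_mul]
    have e1 := hψpow la _ 12 11 ea ha11 rfl
    have e2 := hψpow lb _ 6 5 eb hb5 rfl
    have e3 := hψpow lc _ 9 4 ec hc4 rfl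
    have c1 : Commute ((la ^ 12 : ↥(centralizer ({z} : Set G))) : G) B.p := by rw [SubgroupClass.coe_pow]; exact hla.pow_left _
    have c2 : Commute ((lb ^ 6 : ↥(centralizer ({z} : Set G))) : G) B.p := by rw [SubgroupClass.coe_pow]; exact hlb.pow_left _
    have c3 : Commute ((lc ^ 9 : ↥(centralizer ({z} : Set G))) : G) B.p := by rw [SubgroupClass.coe_pow]; exact hlc.pow_left _
    have n1 : (R (la ^ 12)) ^ 11 = 1 := hpow la 11 12 hla (by rw [ea, ← map_pow, ha11, map_one]) rfl
    have n2 : (R (lb ^ 6)) ^ 5 = 1 := hpow lb 5 6 hlb (by rw [eb, ← map_pow, hb5, map_one]) rfl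
    have n3 : (R (lc ^ 9)) ^ 4 = 1 := hpow lc 4 9 hlc (by rw [ec, ← map_pow, hc4, map_one]) rfl
    refine ⟨la ^ 12, lb ^ 6, lc ^ 9, c1, c2, c3, e1, e2, e3, ?_⟩
    set a := R (la ^ 12) with hadef
    set b := R (lb ^ 6) with hbdef
    set c := R (lc ^ 9) with hcdef
    have hfix := hpfix B hBE
    exact
    { two := two
      card := hVc
      ww := fun v => hfix _ (by
        have h := congrArg (fun f : AddMonoid.End (ι → ZMod 2) => f v) hw3
        simp only [pow_succ, pow_zero, one_mul, AddMonoid.End.coe_mul, Function.comp_apply, AddMonoid.End.coe_one, id_eq] at h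
        rw [map_add, map_add, h]
        abel)
      aw := (hcom _ c1).eq
      bw := (hcom _ c2).eq
      cw := (hcom _ c3).eq
      a11 := n1
      a1 := fun h => ha1 (by
        have hm := (hRk _).mp h
        have : B.ψ (la ^ 12) = 1 := (B.ψ_ker _).mpr ⟨_, hBE ▸ hm, 0, by simp⟩
        rw [e1] at this
        haveI hsimp := Cfsg.Lib.Golay.isSimple_M22
        have hk : g 0 ∈ (MulAut.conj : Spor.M22 →* MulAut Spor.M22).ker := this
        rcases IsSimpleGroup.eq_bot_or_eq_top_of_normal (MulAut.conj : Spor.M22 →* MulAut Spor.M22).ker inferInstance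
          with hb | ht
        · exact mem_bot.mp (hb ▸ hk)
        · exfalso
          have hker : ∀ x : Spor.M22, MulAut.conj x = 1 := fun x => MonoidHom.mem_ker.mp (ht ▸ mem_top x)
          have hI : Cfsg.Inn Spor.M22 = ⊥ := (eq_bot_iff_forall _).mpr fun f ⟨x, hx⟩ => hx ▸ hker x
          have h2 := card_aut_M22.2
          rw [hI, index_bot, card_aut_M22.1] at h2
          norm_num at h2)
      b5 := n2
      c4 := n3
      ba := by
        obtain ⟨k, hk⟩ := hkey B hBE (lb ^ 6 * la ^ 12) ((la ^ 12) ^ 4 * lb ^ 6)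
          (by rw [Subgroup.coe_mul]; exact c2.mul_left c1)
          (by rw [Subgroup.coe_mul, SubgroupClass.coe_pow]; exact (c1.pow_left 4).mul_left c2)
          (by rw [map_mul, map_mul, map_pow B.ψ (la ^ 12) 4, e1, e2, ← map_pow, ← map_mul, ← map_mul, hba])
        rw [map_mul, map_mul, map_pow R (la ^ 12) 4, ← hadef, ← hbdef, ← hw] at hk
        have hs : SemiconjBy b a (a ^ 4 * w ^ k) := by
          show b * a = a ^ 4 * w ^ k * b
          rw [hk, mul_assoc, mul_assoc, ((hcom _ c2).pow_right k).eq]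
        have h11 := (hs.pow_right 11).eq
        rw [n1, mul_one, ((hcom _ c1).pow_left 4 |>.pow_right k).mul_pow, ← pow_mul a, mul_comm 4 11, pow_mul, n1,
          one_pow, one_mul, ← pow_mul, mul_comm k 11] at h11
        have hwk : w ^ (11 * k) = 1 := by
          have h := congrArg (· * b ^ 4) h11.symm
          simpa [mul_assoc, ← pow_succ', n2] using h
        rw [hk, pow_cancel hw3 (by norm_num) hwk, mul_one]
      cb := by
        obtain ⟨k, hk⟩ := hkey B hBE (lc ^ 9 * lb ^ 6) ((lb ^ 6) ^ 2 * lc ^ 9)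
          (by rw [Subgroup.coe_mul]; exact c3.mul_left c2)
          (by rw [Subgroup.coe_mul, SubgroupClass.coe_pow]; exact (c2.pow_left 2).mul_left c3)
          (by rw [map_mul, map_mul, map_pow B.ψ (lb ^ 6) 2, e2, e3, ← map_pow, ← map_mul, ← map_mul, hcb])
        rw [map_mul, map_mul, map_pow R (lb ^ 6) 2, ← hbdef, ← hcdef, ← hw] at hk
        have hs : SemiconjBy c b (b ^ 2 * w ^ k) := by
          show c * b = b ^ 2 * w ^ k * c
          rw [hk, mul_assoc, mul_assoc, ((hcom _ c3).pow_right k).eq]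
        have h5 := (hs.pow_right 5).eq
        rw [n2, mul_one, ((hcom _ c2).pow_left 2 |>.pow_right k).mul_pow, ← pow_mul b, mul_comm 2 5, pow_mul, n2,
          one_pow, one_mul, ← pow_mul, mul_comm k 5] at h5
        have hwk : w ^ (5 * k) = 1 := by
          have h := congrArg (· * c ^ 3) h5.symm
          simpa [mul_assoc, ← pow_succ', n3] using h
        rw [hk, pow_cancel hw3 (by norm_num) hwk, mul_one]
      ac := by
        obtain ⟨k, hk⟩ := hkey B hBE ((la ^ 12 * lc ^ 9) ^ 5) 1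
          (by rw [SubgroupClass.coe_pow, Subgroup.coe_mul]; exact (c1.mul_left c3).pow_left 5) (by simp)
          (by rw [map_pow, map_mul, e1, e3, ← map_mul, ← map_pow, hac, map_one, map_one])
        rw [map_one, one_mul, map_pow, map_mul, ← hadef, ← hcdef, ← hw] at hk
        exact ⟨k, hk⟩ }
  obtain ⟨B, hBE, v₀, hv₀, hne₀⟩ : ∃ B : Base z P, B.E = B₀.E ∧ ∃ la lb lc : ↥(centralizer ({z} : Set G)), ∃ v₀ : ι → ZMod 2,
      (Commute (la : G) B.p ∧ Commute (lb : G) B.p ∧ Commute (lc : G) B.p ∧ B.ψ la = MulAut.conj (g 0) ∧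
        B.ψ lb = MulAut.conj (g 1) ∧ B.ψ lc = MulAut.conj (g 2)) ∧
      ∃ f : ℕ → (ι → ZMod 2), Frame (R ⟨B.p, B.pH⟩) (R la) (R lb) (R lc) f := by
    obtain ⟨la, lb, lc, c1, c2, c3, e1, e2, e3, hr⟩ := hraw B₀ rfl
    obtain ⟨v, hv, h | h⟩ := hr.exists_eigen
    · exact ⟨B₀, rfl, la, lb, lc, v, ⟨c1, c2, c3, e1, e2, e3⟩, hr.exists_frame h hv⟩
    · have hR2 : R ⟨B₀.swap.p, B₀.swap.pH⟩ = R ⟨B₀.p, B₀.pH⟩ * R ⟨B₀.p, B₀.pH⟩ := by
        rw [← map_mul]
        exact congrArg R (Subtype.ext (pow_two B₀.p))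
      exact ⟨B₀.swap, rfl, la, lb, lc, v, ⟨c1.pow_right 2, c2.pow_right 2, c3.pow_right 2, e1, e2, e3⟩,
        hR2 ▸ hr.flip.exists_frame h hv⟩
  obtain ⟨lc, u, ⟨c1, c2, c3, e1, e2, e3⟩, f, F⟩ := hne₀
  rename' v₀ => la, hv₀ => lb
  set w := R ⟨B.p, B.pH⟩ with hw
  -- inner products
  let β : (ι → ZMod 2) → (ι → ZMod 2) → Bool := fun a b => decide (polar (⇑T) a b = 1)
  have hz2 : ∀ r s : ZMod 2, decide (r + s = 1) = (decide (r = 1) ^^ decide (s = 1)) := by decide
  have hT : ∀ (c : ↥(centralizer ({z} : Set G))) v, T (R c v) = T v := fun c v => by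
    obtain ⟨x, rfl⟩ := D.surj v
    rw [hR, D.hT, D.hT, D.sq_aut]
  have hpol : ∀ (c : ↥(centralizer ({z} : Set G))) a b, polar (⇑T) (R c a) (R c b) = polar (⇑T) a b := fun c a b => by
    simp only [polar, ← map_add, hT]
  have hβ : ∀ x < 4096, ∀ y < 4096, β (f x) (f y) = pB x y := by
    refine F.form_eq β (fun a b c => ?_) (fun a b => ?_) (fun a => ?_) ?_ ?_
    · show decide (polar (⇑T) (a + b) c = 1) = _
      rw [polar_add_left, hz2]
    · show decide (polar (⇑T) a b = 1) = _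
      rw [polar_comm]
    · show decide (polar (⇑T) a a = 1) = false
      obtain ⟨x, rfl⟩ := D.surj a
      rw [D.polar_eq, Cfsg.Lib.ExtraOut.cm_of_commute (Commute.refl x)]
      rfl
    · by_contra! hno
      have hz : ∀ a b, polar (⇑T) a b = 0 := fun a b => by
        have hb : ∀ r : ZMod 2, decide (r = 1) = false → r = 0 := by decide
        exact hb _ (by simpa [β] using hno a b)
      haveI : Nontrivial (ι → ZMod 2) := by
        haveI : Finite (ι → ZMod 2) := Nat.finite_of_card_ne_zero (by rw [hVc]; norm_num)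
        exact Finite.one_lt_card_iff_nontrivial.mp (by rw [hVc]; norm_num)
      obtain ⟨v, hv⟩ := exists_ne (0 : ι → ZMod 2)
      exact hv (D.nondeg.1 v fun b => hz v b)
    · rintro M (rfl | rfl | rfl | rfl) a b <;>
      · show decide (polar (⇑T) _ _ = 1) = decide (polar (⇑T) a b = 1)
        rw [hpol]
  have hf0 := F.f_zero
  choose fi hfil hfi using F.surj
  let π : G → ℕ := fun q => if h : q ∈ B.E then fi (D.π ⟨⟨q, B.le h⟩, hmQ.mpr (hBE ▸ h)⟩) else 0
  have hπ : ∀ x : ↥Q, f (π ((x : ↥(centralizer ({z} : Set G))) : G)) = D.π x := fun x => by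
    have hm : ((x : ↥(centralizer ({z} : Set G))) : G) ∈ B.E := hBE ▸ hqE x
    simp only [π, dif_pos hm, hfi]
  have hπlt : ∀ q, π q < 4096 := fun q => by
    simp only [π]; split
    · exact hfil _
    · norm_num
  have hmem : ∀ q ∈ B.E, ∃ x : ↥Q, q = ((x : ↥(centralizer ({z} : Set G))) : G) := fun q hq =>
    ⟨⟨⟨q, B.le hq⟩, hmQ.mpr (hBE ▸ hq)⟩, rfl⟩
  have hcd : ∀ x : ℕ, x < 4096 → π ((((D.surj (f x)).choose : ↥Q) : ↥(centralizer ({z} : Set G))) : G) = x := fun x hx =>
    F.inj _ (hπlt _) _ hx (by rw [hπ, (D.surj (f x)).choose_spec])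
  have hact : ∀ (c : ↥(centralizer ({z} : Set G))) (M : List ℕ), (∀ m ∈ M, m < 4096) → (∀ x < 4096, f (mv M x) = R c (f x)) →
      RepBy B.E π (c : G) M := by
    intro c M hM h q hq
    obtain ⟨x, rfl⟩ := hmem q hq
    refine F.inj _ (hπlt _) _ (mv_lt (n := 12) hM _) ?_
    rw [h _ (hπlt _), hπ, hR, show (c : G) * ((x : ↥(centralizer ({z} : Set G))) : G) * (c : G)⁻¹ = (((MulAut.conjNormal c x : ↥Q) : ↥(centralizer ({z} : Set G))) : G) by
      rw [MulAut.conjNormal_apply]; rfl, hπ]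
  obtain ⟨hA, hB, hC, hOM, -, -, hWAl, hWBl, hWCl⟩ := mats_lt
  have hpA := hact la _ hA F.fA
  -- the outer element
  obtain ⟨t, htp, etφ⟩ := B.N_img φ hφ
  have hτw : ∀ v, R t (w v) = w (w (R t v)) := fun v => by
    have h2 : t * ⟨B.p, B.pH⟩ = (⟨B.p, B.pH⟩ * ⟨B.p, B.pH⟩) * t := Subtype.ext (by
      show (t : G) * B.p = B.p * B.p * (t : G)
      rw [← mul_inv_eq_iff_eq_mul, htp]
      refine inv_eq_of_mul_eq_one_right ?_
      rw [← mul_assoc]
      exact (by simpa [pow_succ] using (B.ord ▸ pow_orderOf_eq_one B.p : B.p ^ 3 = 1)))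
    have := congrArg (fun x : ↥(centralizer ({z} : Set G)) => R x v) h2
    rw [map_mul, map_mul, map_mul] at this
    exact this
  let lift : ℕ → ↥(centralizer ({z} : Set G)) := fun i => [la, lb, lc].getD i la
  have hlift : ∀ i, Commute (lift i : G) B.p ∧ B.ψ (lift i) = MulAut.conj (g ([0, 1, 2].getD i 0)) ∧
      ∀ x < 4096, f (mv ([Data.A, Data.B, Data.C].getD i Data.A) x) = R (lift i) (f x) := by
    intro i
    match i with
    | 0 => exact ⟨c1, e1, F.fA⟩
    | 1 => exact ⟨c2, e2, F.fB⟩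
    | 2 => exact ⟨c3, e3, F.fC⟩
    | i + 3 => exact ⟨c1, e1, F.fA⟩
  have hword : ∀ wd : List ℕ, (∀ i ∈ wd, i < 3) → Commute ((wd.map lift).prod : ↥(centralizer ({z} : Set G))).1 B.p ∧
      B.ψ (wd.map lift).prod = MulAut.conj (wd.map g).prod ∧
      ∀ x < 4096, f (mv (wM [Data.A, Data.B, Data.C] wd) x) = R (wd.map lift).prod (f x) ∧
        mv (wM [Data.A, Data.B, Data.C] wd) x < 4096 := by
    intro wd
    induction wd with
    | nil =>
      intro _
      refine ⟨by simp, by simp, fun x hx => ?_⟩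
      simp only [wM, List.map_nil, List.prod_nil, map_one, mv_idM hx]
      exact ⟨rfl, hx⟩
    | cons i r ih =>
      intro hw3
      obtain ⟨i1, i2, i3⟩ := ih fun j hj => hw3 j (List.mem_cons_of_mem _ hj)
      obtain ⟨l1, l2, l3⟩ := hlift i
      have hi := hw3 i List.mem_cons_self
      have hg : g ([0, 1, 2].getD i 0) = g i := by
        rcases (show i = 0 ∨ i = 1 ∨ i = 2 by omega) with rfl | rfl | rfl <;> rfl
      refine ⟨?_, ?_, fun x hx => ?_⟩
      · simp only [List.map_cons, List.prod_cons, Subgroup.coe_mul]; exact l1.mul_left i1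
      · simp only [List.map_cons, List.prod_cons, map_mul, l2, i2, hg]
      · have hgd : [Data.A, Data.B, Data.C].getD i idM = [Data.A, Data.B, Data.C].getD i Data.A := by
          rcases (show i = 0 ∨ i = 1 ∨ i = 2 by omega) with rfl | rfl | rfl <;> rfl
        simp only [wM, List.map_cons, List.prod_cons, map_mul, mv_mm, hgd]
        refine ⟨?_, mv_lt (n := 12) ?_ _⟩
        · rw [l3 _ (i3 x hx).2, (i3 x hx).1]; rfl
        · rcases (show i = 0 ∨ i = 1 ∨ i = 2 by omega) with rfl | rfl | rfl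
          exacts [hA, hB, hC]
  have hwlt : (∀ i ∈ Data.WAw.1, i < 3) ∧ (∀ i ∈ Data.WBw.1, i < 3) ∧ (∀ i ∈ Data.WCw.1, i < 3) := by decide +kernel
  have htwist : ∀ (W : List ℕ) (wk : List ℕ × ℕ) (l : ↥(centralizer ({z} : Set G))) (x : Spor.M22) (n : ℕ), (∀ m ∈ W, m < 4096) →
      W = mm (mpow Data.OM wk.2) (wM [Data.A, Data.B, Data.C] wk.1) → (∀ i ∈ wk.1, i < 3) →
      B.ψ l = MulAut.conj x → φ x = (wk.1.map g).prod → Commute (l : G) B.p → (R l) ^ n = 1 → n % 3 ≠ 0 →
      (∀ y ∈ idM, (mv W)^[n] y = y) →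
      ∀ p' < 4096, ∀ y < 4096, R t (f p') = f y → R t (R l (f p')) = f (mv W y) := by
    intro W wk l x n hWl hW hwk el hφx cl hln hn hWn p' hp' y hy hty
    set lw : ↥(centralizer ({z} : Set G)) := (⟨B.p, B.pH⟩ : ↥(centralizer ({z} : Set G))) ^ wk.2 * (wk.1.map lift).prod with hlw
    obtain ⟨w1, w2, w3⟩ := hword wk.1 hwk
    have hRW : ∀ q < 4096, f (mv W q) = R lw (f q) := by
      intro q hq
      have hom : ∀ (k : ℕ) (r : ℕ), r < 4096 → f (mv (mpow Data.OM k) r) = (w ^ k) (f r) := by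
        intro k
        induction k with
        | zero => intro r hr; simp [mpow, mv_idM hr]
        | succ k ih =>
          intro r hr
          rw [mpow, mv_mm, ih _ (mv_lt (n := 12) hOM r), F.fW r hr, pow_succ]
          rfl
      rw [hW, mv_mm, hom _ _ (w3 q hq).2, (w3 q hq).1, hlw, map_mul, map_pow]
      rfl
    have hlwc : Commute (lw : G) B.p := by
      rw [hlw, Subgroup.coe_mul, SubgroupClass.coe_pow]
      exact ((Commute.refl B.p).pow_left _).mul_left w1
    have hψlw : B.ψ lw = MulAut.conj (φ x) := by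
      have hp1 : B.ψ ⟨B.p, B.pH⟩ = 1 := (B.ψ_ker _).mpr ⟨1, one_mem _, 1, by simp⟩
      rw [hlw, map_mul, map_pow, hp1, one_pow, one_mul, w2, hφx]
    have hconj : Commute ((t * l * t⁻¹ : ↥(centralizer ({z} : Set G))) : G) B.p := by
      simp only [Subgroup.coe_mul, Subgroup.coe_inv]
      show _ = _
      have ht' : (t : G)⁻¹ * B.p * (t : G) = B.p⁻¹ := by
        conv_lhs => rw [← inv_inv B.p, ← htp]
        group
      calc (t : G) * l * (t : G)⁻¹ * B.p = (t : G) * (l * ((t : G)⁻¹ * B.p * t)) * (t : G)⁻¹ := by group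
        _ = (t : G) * (B.p⁻¹ * l) * (t : G)⁻¹ := by rw [ht', cl.inv_right.eq]
        _ = ((t : G) * B.p * (t : G)⁻¹)⁻¹ * ((t : G) * l * (t : G)⁻¹) := by group
        _ = B.p * ((t : G) * l * (t : G)⁻¹) := by rw [htp, inv_inv]
    obtain ⟨j, hj⟩ := hkey B hBE (t * l * t⁻¹) lw hconj hlwc (by
      rw [map_mul, map_mul, map_inv, etφ, el, hψlw]
      exact MulEquiv.ext fun v => by simp [MulAut.conj_apply])
    rw [← hw] at hj
    have hRn : (R lw) ^ n = 1 := by
      refine AddMonoidHom.ext fun v => ?_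
      obtain ⟨q, hq, rfl⟩ := F.surj v
      have hit : ∀ m, (mv W)^[m] q < 4096 ∧ f ((mv W)^[m] q) = ((R lw) ^ m) (f q) := by
        intro m
        induction m with
        | zero => exact ⟨hq, by simp⟩
        | succ m ih =>
          rw [Function.iterate_succ_apply']
          exact ⟨mv_lt (n := 12) hWl _, by rw [hRW _ ih.1, ih.2, pow_succ']; rfl⟩
      have hadd : ∀ m a b, (mv W)^[m] (a ^^^ b) = (mv W)^[m] a ^^^ (mv W)^[m] b := by
        intro m
        induction m with
        | zero => intro a b; rfl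
        | succ m ih => intro a b; simp only [Function.iterate_succ_apply', ih, mv_xor]
      have h0 : ∀ m, (mv W)^[m] 0 = 0 := fun m => Function.iterate_fixed (mv_zero W) m
      exact (hit n).2.symm.trans (congrArg f (lin_ext (g := id) (· ^^^ ·) 12 (hadd n) (fun a b => rfl) (h0 n)
        (fun i hi => hWn _ (idM_two_pow hi)) q hq))
    have hconjn : (R (t * l * t⁻¹)) ^ n = 1 := by
      rw [← map_pow, conj_pow, map_mul, map_mul, map_pow, hln, mul_one, ← map_mul, mul_inv_cancel, map_one]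
    rw [hj] at hconjn
    have hcw : Commute (R lw) w := Commute.map (Subtype.ext hlwc.eq) R
    rw [(hcw.pow_right j).mul_pow, hRn, one_mul, ← pow_mul, mul_comm] at hconjn
    have hw3 : w ^ 3 = 1 := by
      rw [hw, ← map_pow, ← map_one R]
      refine congrArg R (Subtype.ext ?_)
      rw [SubgroupClass.coe_pow]
      exact (B.ord ▸ pow_orderOf_eq_one B.p :)
    rw [pow_cancel hw3 hn hconjn, mul_one] at hj
    rw [hRW y hy, ← hty, ← hj]
    show (R t * R l) (f p') = (R (t * l * t⁻¹) * R t) (f p')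
    rw [← map_mul, ← map_mul, inv_mul_cancel_right]
  have hla11 : (R la) ^ 11 = 1 ∧ (R lb) ^ 5 = 1 ∧ (R lc) ^ 4 = 1 := by
    have key : ∀ (M : List ℕ) (n : ℕ) (l : ↥(centralizer ({z} : Set G))), (∀ x < 4096, f (mv M x) = R l (f x)) → (∀ m ∈ M, m < 4096) →
        (∀ y < 4096, (mv M)^[n] y = y) → (R l) ^ n = 1 := by
      intro M n l h hM hn
      refine AddMonoidHom.ext fun v => ?_
      obtain ⟨q, hq, rfl⟩ := F.surj v
      have hit : ∀ m, (mv M)^[m] q < 4096 ∧ f ((mv M)^[m] q) = ((R l) ^ m) (f q) := by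
        intro m
        induction m with
        | zero => exact ⟨hq, by simp⟩
        | succ m ih =>
          rw [Function.iterate_succ_apply']
          exact ⟨mv_lt (n := 12) hM _, by rw [h _ ih.1, ih.2, pow_succ']; rfl⟩
      exact (hit n).2.symm.trans (congrArg f (hn q hq))
    have hlin : ∀ (M : List ℕ) (n : ℕ), (∀ j < 12, (mv M)^[n] (2 ^ j) = 2 ^ j) → ∀ y < 4096, (mv M)^[n] y = y := by
      intro M n h
      refine lin_ext (g := id) (· ^^^ ·) 12 ?_ (fun a b => rfl) (Function.iterate_fixed (mv_zero M) n) h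
      clear h
      induction n with
      | zero => intro a b; rfl
      | succ n ih => intro a b; simp only [Function.iterate_succ_apply', ih, mv_xor]
    exact ⟨key _ 11 la F.fA hA (hlin _ 11 (by decide +kernel)), key _ 5 lb F.fB hB (hlin _ 5 (by decide +kernel)),
      key _ 4 lc F.fC hC (hlin _ 4 (by decide +kernel))⟩
  obtain ⟨M, hM, hτ⟩ := F.twist_eq (R t) hτw
    (htwist _ _ la (g 0) 11 hWAl tw_ids.1 hwlt.1 e1 hWA c1 hla11.1 (by norm_num) (by decide +kernel))
    (htwist _ _ lb (g 1) 5 hWBl tw_ids.2.1 hwlt.2.1 e2 hWB c2 hla11.2.1 (by norm_num) (by decide +kernel))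
    (htwist _ _ lc (g 2) 4 hWCl tw_ids.2.2 hwlt.2.2 e3 hWC c3 hla11.2.2 (by norm_num) (by decide +kernel))
    (by
      by_contra! hno
      haveI : Nontrivial (ι → ZMod 2) := by
        haveI : Finite (ι → ZMod 2) := Nat.finite_of_card_ne_zero (by rw [hVc]; norm_num)
        exact Finite.one_lt_card_iff_nontrivial.mp (by rw [hVc]; norm_num)
      obtain ⟨v, hv⟩ := exists_ne (0 : ι → ZMod 2)
      refine hv ?_
      have h : R t⁻¹ (R t v) = v := by
        show (R t⁻¹ * R t) v = v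
        rw [← map_mul, inv_mul_cancel, map_one]; rfl
      rw [← h, hno v, map_zero])
  obtain ⟨j, hj⟩ : ∃ j : ℕ, ∀ x ∈ idM, mv M ((mv Data.OM)^[j] x) = mv Data.T x := by
    simp only [List.mem_cons, List.not_mem_nil, or_false] at hM
    rcases hM with rfl | rfl | rfl
    exacts [⟨0, by decide +kernel⟩, ⟨2, by decide +kernel⟩, ⟨1, by decide +kernel⟩]
  set t' : ↥(centralizer ({z} : Set G)) := t * (⟨B.p, B.pH⟩ : ↥(centralizer ({z} : Set G))) ^ j with ht'
  have hTt : ∀ x < 4096, f (mv Data.T x) = R t' (f x) := by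
    intro x hx
    have hit : ∀ m q, q < 4096 → (mv Data.OM)^[m] q < 4096 ∧ f ((mv Data.OM)^[m] q) = (w ^ m) (f q) := by
      intro m
      induction m with
      | zero => intro q hq; exact ⟨hq, by simp⟩
      | succ m ih =>
        intro q hq
        rw [Function.iterate_succ_apply']
        exact ⟨mv_lt (n := 12) hOM _, by rw [F.fW _ (ih q hq).1, (ih q hq).2, pow_succ']; rfl⟩
    have hadd : ∀ m a b, (mv Data.OM)^[m] (a ^^^ b) = (mv Data.OM)^[m] a ^^^ (mv Data.OM)^[m] b := by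
      intro m
      induction m with
      | zero => intro a b; rfl
      | succ m ih => intro a b; simp only [Function.iterate_succ_apply', ih, mv_xor]
    have he : mv M ((mv Data.OM)^[j] x) = mv Data.T x :=
      lin_ext (f := fun x => mv M ((mv Data.OM)^[j] x)) (· ^^^ ·) 12 (fun a b => by simp only [hadd, mv_xor])
        (mv_xor Data.T) (by rw [Function.iterate_fixed (mv_zero _), mv_zero, mv_zero])
        (fun i hi => hj _ (idM_two_pow hi)) x hx
    rw [← he, ← hτ _ (hit j x hx).1, (hit j x hx).2, ht', map_mul, map_pow]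
    rfl
  have hp' : Commute ((((⟨B.p, B.pH⟩ : ↥(centralizer ({z} : Set G))) ^ j : ↥(centralizer ({z} : Set G)))) : G) B.p := by
    rw [SubgroupClass.coe_pow]; exact (Commute.refl B.p).pow_left j
  refine ⟨{ toBase := B, π := π, π_lt := hπlt
            π_mul := ?_, π_surj := ?_, π_zero := ?_, π_sq := ?_, π_comm := ?_, ker := ?_
            ga := (la : G), gb := (lb : G), gc := (lc : G), gt := (t' : G)
            memH := ⟨la.2, lb.2, lc.2, t'.2⟩
            comm_p := ⟨c1, c2, c3, ?_⟩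
            rep_p := hact ⟨B.p, B.pH⟩ _ hOM F.fW
            rep_a := hpA, rep_b := hact lb _ hB F.fB, rep_c := hact lc _ hC F.fC
            rep_t := hact t' _ mats_lt.2.2.2.2.1 hTt
            gen := ?_ }⟩
  · intro a ha b hb
    obtain ⟨x, rfl⟩ := hmem a ha
    obtain ⟨y, rfl⟩ := hmem b hb
    refine F.inj _ (hπlt _) _ (Nat.xor_lt_two_pow (n := 12) (hπlt _) (hπlt _)) ?_
    rw [show ((x : ↥(centralizer ({z} : Set G))) : G) * ((y : ↥(centralizer ({z} : Set G))) : G) = (((x * y : ↥Q) : ↥(centralizer ({z} : Set G))) : G) from rfl, hπ, F.add, hπ, hπ, D.mul]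
  · intro x hx
    exact ⟨_, hBE ▸ hqE _, hcd x hx⟩
  · intro q hq
    obtain ⟨x, rfl⟩ := hmem q hq
    rw [← hcen, ← D.ker, ← hπ]
    exact ⟨fun h => by rw [h, hf0], fun h => F.inj _ (hπlt _) _ (by norm_num) (h.trans hf0.symm)⟩
  · intro q hq
    obtain ⟨x, rfl⟩ := hmem q hq
    have hw2 : ∀ v, T (w (w v)) = T v := fun v => by rw [hw, hT, hT]
    have hsum : ∀ v, w (w v) = w v + v := fun v => by
      have hz : w (w v) + w v + v = 0 := hpfix B hBE _ (by
        have h := congrArg (fun f : AddMonoid.End (ι → ZMod 2) => f v) (show w * w * w = 1 by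
          rw [hw, ← map_mul, ← map_mul, ← map_one R]
          exact congrArg R (Subtype.ext (by
            simpa [pow_succ] using (B.ord ▸ pow_orderOf_eq_one B.p : B.p ^ 3 = 1))))
        simp only [AddMonoid.End.coe_mul, Function.comp_apply, AddMonoid.End.coe_one, id_eq] at h
        show w (w (w v) + w v + v) = _
        rw [map_add, map_add, h]; abel)
      rw [add_assoc] at hz
      exact (eq_neg_of_add_eq_zero_left hz).trans (eq_neg_of_add_eq_zero_left (two _)).symm
    have hq2 : polar (⇑T) (D.π x) (w (D.π x)) = T (D.π x) := by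
      have h := hw2 (D.π x)
      rw [hsum] at h
      rw [polar, add_comm (D.π x), h, hw, hT]
      generalize T (D.π x) = r
      revert r; decide
    have hqb : qB (π ((x : ↥(centralizer ({z} : Set G))) : G)) = decide (T (D.π x) = 1) := by
      rw [qB, ← hβ _ (hπlt _) _ (mv_lt (n := 12) hOM _), F.fW _ (hπlt _), hπ]
      show decide (polar (⇑T) _ _ = 1) = _
      rw [hq2]
    rw [hqb, D.hT, Cfsg.Lib.LargeExtra.OutExtra.sq,
      show ((x : ↥(centralizer ({z} : Set G))) : G) * ((x : ↥(centralizer ({z} : Set G))) : G) = (((x * x : ↥Q) : ↥(centralizer ({z} : Set G))) : G) from rfl]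
    by_cases hxx : x * x = 1
    · rw [if_pos hxx, hxx]; simp
    · rw [if_neg hxx]
      simp only [decide_true, Bool.true_eq_false, iff_false]
      exact fun e => hxx (Subtype.ext (Subtype.ext e))
  · intro a ha b hb
    obtain ⟨x, rfl⟩ := hmem a ha
    obtain ⟨y, rfl⟩ := hmem b hb
    rw [← hβ _ (hπlt _) _ (hπlt _), hπ, hπ]
    show _ ↔ decide (polar (⇑T) _ _ = 1) = false
    rw [D.polar_eq]
    constructor
    · intro h
      rw [Cfsg.Lib.ExtraOut.cm_of_commute (show Commute y x from (Subtype.ext (Subtype.ext h.eq) : x * y = y * x).symm)]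
      rfl
    · intro h
      have hb : ∀ r : ZMod 2, decide (r = 1) = false → r = 0 := by decide
      exact (congrArg (fun w : ↥Q => ((w : ↥(centralizer ({z} : Set G))) : G)) (commute_of_cm (hb _ h)).eq).symm
  · intro h hh hfix
    rw [hBE, ← hRk ⟨h, hh⟩]
    refine AddMonoidHom.ext fun v => ?_
    obtain ⟨x, rfl⟩ := D.surj v
    show R ⟨h, hh⟩ (D.π x) = D.π x
    rw [hR, ← hπ, ← hπ x]
    congr 1
    rw [MulAut.conjNormal_apply]
    exact hfix _ (hBE ▸ hqE x)
  · show (t' : G) * B.p * (t' : G)⁻¹ = B.p⁻¹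
    rw [ht', Subgroup.coe_mul, mul_inv_rev,
      show ((t : G) * _) * B.p * (_ * (t : G)⁻¹) = (t : G) * (_ * B.p * (_)⁻¹) * (t : G)⁻¹ by
        simp only [mul_assoc]; rfl,
      hp'.eq, mul_inv_cancel_right, htp]
  · set K : Subgroup G := Subgroup.closure ({B.p, (la : G), (lb : G), (lc : G), (t' : G)} : Set G) with hK
    have hpK : B.p ∈ K := subset_closure (by simp)
    let Kh : Subgroup (MulAut Spor.M22) := (K.subgroupOf (centralizer ({z} : Set G))).map B.ψ
    have hin : ∀ m : Spor.M22, MulAut.conj m ∈ Kh := by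
      have hle : Subgroup.closure ({g 0, g 1, g 2} : Set Spor.M22) ≤ Kh.comap MulAut.conj := by
        rw [Subgroup.closure_le]
        rintro x (rfl | rfl | rfl)
        · exact ⟨la, mem_subgroupOf.mpr (subset_closure (by simp)), e1⟩
        · exact ⟨lb, mem_subgroupOf.mpr (subset_closure (by simp)), e2⟩
        · exact ⟨lc, mem_subgroupOf.mpr (subset_closure (by simp)), e3⟩
      intro m
      exact hle (hgen ▸ mem_top m)
    have hψp : B.ψ ⟨B.p, B.pH⟩ = 1 := (B.ψ_ker _).mpr ⟨1, one_mem _, 1, by simp⟩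
    have hall : ∀ a : MulAut Spor.M22, a ∈ Kh := by
      intro a
      by_cases ha : a ∈ Cfsg.Inn Spor.M22
      · obtain ⟨m, rfl⟩ := ha; exact hin m
      · have h2 : a * φ ∈ Cfsg.Inn Spor.M22 :=
          (mul_mem_iff_of_index_two card_aut_M22.2).mpr (iff_of_false ha hφ)
        obtain ⟨m, hm⟩ := h2
        have hφK : φ ∈ Kh := by
          refine ⟨t', mem_subgroupOf.mpr (subset_closure (by simp)), ?_⟩
          rw [ht', map_mul, map_pow, hψp, one_pow, mul_one, etφ]
        have := mul_mem (hin m) (inv_mem hφK)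
        rwa [hm, mul_inv_cancel_right] at this
    intro h hh
    obtain ⟨k, hk, hke⟩ := hall (B.ψ ⟨h, hh⟩)
    obtain ⟨e, he, i, hi⟩ := (B.ψ_ker (⟨h, hh⟩ * k⁻¹)).mp (by rw [map_mul, map_inv, hke, mul_inv_cancel])
    have hhe : h = e * (B.p ^ i * (k : G)) := by
      have hi' : h * (k : G)⁻¹ = e * B.p ^ i := hi
      rw [← mul_assoc, ← hi', inv_mul_cancel_right]
    rw [hhe]
    exact mul_mem_sup he (mul_mem (pow_mem hpK i) (mem_subgroupOf.mp hk))

theorem exists_ctx {z : G} {P : Subgroup G} (hJ : Cfsg.IsOfJankoFourTypeWith z P) : Nonempty (Ctx z P) := by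
  obtain ⟨B⟩ := exists_base hJ
  haveI hn : (B.E.subgroupOf (centralizer ({z} : Set G))).Normal :=
    (normal_subgroupOf_iff_le_normalizer B.le).mpr B.nQ
  have hext : Cfsg.IsExtraspecial 2 ↥(B.E.subgroupOf (centralizer ({z} : Set G))) :=
    Cfsg.Lib.LargeFischer.isExtraspecial_congr (subgroupOfEquivOfLe B.le).symm B.ext
  obtain ⟨zq, hzq⟩ := exists_coord (n := 6) hext
    (by rw [Nat.card_congr (subgroupOfEquivOfLe B.le).toEquiv, B.card]; norm_num)
  rcases hzq with ⟨⟨D⟩⟩ | ⟨-, ⟨D⟩⟩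
  · exact exists_ctx_coord B _ rfl D
  · exact exists_ctx_coord B _ rfl D

end Cfsg.Lib.JankoFour
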