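import Cfsg.Agent.JankoFour.SevenLocal
import Cfsg.Agent.JankoFour.LocalFusion

/-!
The order of the normaliser of a subgroup of order seven.
-/

set_option autoImplicit false
set_option maxRecDepth 100000
set_option maxHeartbeats 1000000
set_option linter.style.haveILetI false
set_option linter.unusedSectionVars false

namespace Cfsg.Lib.JankoFour

open Subgroup
open Cfsg.Lib.Golay
open Cfsg.Lib.HallJankoType

universe u

variable {G : Type u} [Group G] [Finite G]

namespace Ctx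

variable {z : G} {P : Subgroup G} {C : Ctx z P} {S : Sec C}

namespace Sec

theorem s7_card (S : Sec C) : Nat.card (zpowers S.s7) = 7 := by rw [Nat.card_zpowers, S.s7_order]

theorem fac_z (C : Ctx z P) {r : G} (hr : IsConj z r) :
    (Nat.card (centralizer ({r} : Set G))).factorization 7 = 1 := by
  obtain ⟨g, rfl⟩ := isConj_iff.mp hr
  rw [LocalCount.map_centralizer_elem,
    card_map_of_injective (f := (MulAut.conj g).toMonoidHom) (MulAut.conj g).injective, C.cardH,
    show (8192 : ℕ) * 2661120 = 7 * 3114270720 from rfl,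
    Nat.factorization_mul (by norm_num) (by norm_num), Finsupp.add_apply,
    Nat.Prime.factorization_self (by norm_num), Nat.factorization_eq_zero_of_not_dvd (by norm_num)]

namespace Trio

variable (T : Trio S)

include T

theorem fac_t [IsSimpleGroup G] (hG : ¬ IsMulCommutative G) :
    (Nat.card (centralizer ({T.t} : Set G))).factorization 7 = 1 := by
  have hN : Nat.card ↥(normalizer (C.V : Set G)) = 1771 * (138240 * 2048) := by
    rw [show normalizer (C.V : Set G) = normalizer ((C.sextet hG).A : Set G) from rfl, (C.sextet hG).card_normalizer]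
    show 1771 * Nat.card ↥(normalizer (C.V : Set G) ⊓ centralizer ({z} : Set G)) = _
    rw [← C.M_eq, C.M_card.1]
  have hd : Nat.card (centralizer ({T.t} : Set G)) ∣ 1771 * (138240 * 2048) :=
    hN ▸ Subgroup.card_dvd_of_le (C.centralizer_T hG (T.memT hG))
  have h7 : 7 ∣ Nat.card (centralizer ({T.t} : Set G)) := by
    rw [← S.s7_order]
    exact Subgroup.orderOf_dvd_natCard _ (mem_centralizer_singleton_iff.mpr T.comm.1.eq)
  have hp : Nat.Prime 7 := by norm_num
  have h1 := (Nat.Prime.dvd_iff_one_le_factorization hp Nat.card_pos.ne').mp h7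
  have h2 : (Nat.card (centralizer ({T.t} : Set G))).factorization 7 ≤ (1771 * (138240 * 2048) : ℕ).factorization 7 :=
    (Nat.factorization_le_iff_dvd Nat.card_pos.ne' (by norm_num)).mpr hd 7
  rw [show (1771 * (138240 * 2048) : ℕ) = 7 * 71628226560 from rfl,
    Nat.factorization_mul (by norm_num) (by norm_num), Finsupp.add_apply,
    Nat.Prime.factorization_self hp, Nat.factorization_eq_zero_of_not_dvd (show ¬ 7 ∣ (71628226560 : ℕ) by norm_num)] at h2
  omega

theorem t_order : orderOf T.t = 2 :=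
  orderOf_eq_prime (by rw [pow_two, C.V_sq T.mem.1]) T.ne.1

/-- The translate of the involution of the complement is conjugate to it by an element of the trio. -/
theorem t_σ7 : T.t' * S.σ7 * T.t'⁻¹ = T.t * S.σ7 := by
  have h := T.σ7_conj.2.1
  rw [inv_eq_of_mul_eq_one_right (C.V_sq T.mem.2.1)]
  calc T.t' * S.σ7 * T.t' = T.t' * (S.σ7 * T.t' * S.σ7⁻¹) * S.σ7 := by group
    _ = T.t' * T.t'' * S.σ7 := by rw [h]
    _ = T.t * S.σ7 := by rw [T.prod_eq]

theorem t_σ7_z [IsSimpleGroup G] (hG : ¬ IsMulCommutative G) : IsConj z (T.t * S.σ7) :=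
  (S.σ7_z hG).trans (isConj_iff.mpr ⟨T.t', T.t_σ7⟩)

theorem σ7_t_commute : Commute S.σ7 T.t := mul_inv_eq_iff_eq_mul.mp T.σ7_conj.1

/-- The first counting equalities. -/
theorem counts [IsSimpleGroup G] (hG : ¬ IsMulCommutative G) :
    Nat.card (normalizer (zpowers S.s7 : Set G)) = 2520 ∧
      Nat.card ↥(centralizer ({S.σ7} : Set G) ⊓ centralizer (zpowers S.s7 : Set G)) = 84 := by
  classical
  haveI : Fact (Nat.Prime 7) := ⟨by norm_num⟩
  haveI : Fact (Nat.Prime 2) := ⟨Nat.prime_two⟩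
  set S7 := zpowers S.s7 with hS7
  set N := normalizer (S7 : Set G) with hN
  obtain ⟨o1, o2, -, o4⟩ := T.orders hG
  have hσz := S.σ7_z hG
  obtain ⟨g, hg⟩ := isConj_iff.mp hσz.symm
  have hS7le : ∀ {a : G}, Commute S.s7 a → S7 ≤ centralizer ({a} : Set G) := fun h =>
    zpowers_le.mpr (mem_centralizer_singleton_iff.mpr h.eq)
  obtain ⟨i1, i2⟩ := C.inner_seven (S := S7.map (MulAut.conj g).toMonoidHom)
    (by rw [← hg, LocalCount.map_centralizer_elem]; exact map_mono (hS7le S.σ7_commute.symm))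
    (by rw [card_map_of_injective (MulAut.conj g).injective, S.s7_card])
  obtain ⟨e1, e2⟩ := LocalCount.card_local_elem g S.σ7 S7
  rw [hg, i1] at e1
  rw [hg, i2] at e2
  refine ⟨?_, e2.symm⟩
  -- the setting inside the normaliser
  have hCN : centralizer (S7 : Set G) ≤ N := LocalCount.centralizer_le_norm _
  have hcomm_mem : ∀ {x : G}, Commute x S.s7 → x ∈ N := fun h => hCN (mem_centralizer_zpowers.mpr h)
  let zN : ↥N := ⟨S.σ7, hcomm_mem S.σ7_commute⟩
  let tN : ↥N := ⟨T.t, hcomm_mem T.comm.1.symm⟩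
  set Cn := (centralizer (S7 : Set G)).subgroupOf N with hCn
  haveI : Cn.Normal := ⟨fun c hc n => by
    rw [hCn, mem_subgroupOf, mem_centralizer_zpowers] at hc ⊢
    obtain ⟨k, hk⟩ := mem_zpowers_iff.mp ((mem_normalizer_iff.mp (inv_mem n.2) S.s7).mp (mem_zpowers _))
    rw [inv_inv] at hk
    have hck : (c : G) * ((n : G)⁻¹ * S.s7 * n) = (n : G)⁻¹ * S.s7 * n * c := by
      rw [← hk]; exact (hc.zpow_right k).eq
    show ((n : G) * c * (n : G)⁻¹) * S.s7 = S.s7 * ((n : G) * c * (n : G)⁻¹)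
    calc (n : G) * c * (n : G)⁻¹ * S.s7 = n * (c * ((n : G)⁻¹ * S.s7 * n)) * (n : G)⁻¹ := by group
      _ = n * ((n : G)⁻¹ * S.s7 * n * c) * (n : G)⁻¹ := by rw [hck]
      _ = _ := by group⟩
  set Zs := {x : G | orderOf x = 2 ∧ Commute x S.s7 ∧ IsConj z x} with hZs
  set Ts := {x : G | orderOf x = 2 ∧ Commute x S.s7 ∧ ¬ IsConj z x} with hTs
  have hin : ∀ {a : ↥N}, a ∈ Cn → orderOf (a : G) = 2 → ∀ {b : ↥N}, IsConj a b →
      orderOf (b : G) = 2 ∧ Commute (b : G) S.s7 ∧ IsConj (a : G) b := fun {a} ha h2 {b} hab => by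
    obtain ⟨c, rfl⟩ := isConj_iff.mp hab
    refine ⟨?_, mem_centralizer_zpowers.mp (mem_subgroupOf.mp (Normal.conj_mem inferInstance a ha c)),
      isConj_iff.mpr ⟨c, rfl⟩⟩
    show orderOf (MulAut.conj (c : G) a) = 2
    rw [MulEquiv.orderOf_eq, h2]
  have hZiff : ∀ x : G, x ∈ Zs ↔ ∃ hx : x ∈ N, IsConj zN ⟨x, hx⟩ := by
    intro x
    constructor
    · rintro ⟨h2, hc, hz⟩
      obtain ⟨n, hn, e⟩ := LocalCount.conj_in_norm S.s7_card (hσz.symm.trans hz) (hS7le S.σ7_commute.symm)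
        (hS7le hc.symm) (fac_z C hz)
      exact ⟨hcomm_mem hc, isConj_iff.mpr ⟨⟨n, hn⟩, Subtype.ext e⟩⟩
    · rintro ⟨hx, hc⟩
      obtain ⟨h1, h2, h3⟩ := hin (mem_subgroupOf.mpr (mem_centralizer_zpowers.mpr S.σ7_commute)) S.σ7_order hc
      exact ⟨h1, h2, hσz.trans h3⟩
  have hTiff : ∀ x : G, x ∈ Ts ↔ ∃ hx : x ∈ N, IsConj tN ⟨x, hx⟩ := by
    intro x
    constructor
    · rintro ⟨h2, hc, hz⟩
      have hx2 : x * x = 1 := by rw [← pow_two, ← h2, pow_orderOf_eq_one]
      have hx1 : x ≠ 1 := fun e => by rw [e, orderOf_one] at h2; norm_num at h2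
      obtain ⟨v, hv, hxv⟩ := C.to_V hG hx2
      have hv1 : v ≠ 1 := fun e => hx1 (isConj_one_left.mp (e ▸ hxv))
      obtain ⟨m, -, hm⟩ := (C.sextet hG).transitive (T.memT hG)
        (⟨hv, hv1, fun h => hz (h.trans hxv.symm)⟩ : v ∈ (C.sextet hG).T)
      have hxt : IsConj x T.t := hxv.trans (isConj_iff.mpr ⟨m, hm⟩ : IsConj T.t v).symm
      obtain ⟨n, hn, e⟩ := LocalCount.conj_in_norm S.s7_card hxt (hS7le hc.symm) (hS7le T.comm.1) (T.fac_t hG)
      exact ⟨hcomm_mem hc, (isConj_iff.mpr ⟨⟨n, hn⟩, Subtype.ext e⟩ : IsConj ⟨x, hcomm_mem hc⟩ tN).symm⟩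
    · rintro ⟨hx, hc⟩
      obtain ⟨h1, h2, h3⟩ := hin (mem_subgroupOf.mpr (mem_centralizer_zpowers.mpr T.comm.1.symm)) T.t_order hc
      exact ⟨h1, h2, fun h => T.cls.1 (h.trans h3.symm)⟩
  have hzt : ¬ IsConj zN tN := fun h => T.cls.1 (hσz.trans (hin (mem_subgroupOf.mpr
    (mem_centralizer_zpowers.mpr S.σ7_commute)) S.σ7_order h).2.2)
  have hform := LocalCount.two_class_formula_in Cn (z := zN) (t := tN)
    (by rw [← Subgroup.orderOf_coe]; exact S.σ7_order) (by rw [← Subgroup.orderOf_coe]; exact T.t_order)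
    (mem_subgroupOf.mpr (mem_centralizer_zpowers.mpr S.σ7_commute))
    (mem_subgroupOf.mpr (mem_centralizer_zpowers.mpr T.comm.1.symm)) hzt
    (fun x hx h2 => by
      rw [← Subgroup.orderOf_coe] at h2
      by_cases hc : IsConj z (x : G)
      · exact Or.inl ((hZiff _).mp ⟨h2, mem_centralizer_zpowers.mp hx, hc⟩).2
      · exact Or.inr ((hTiff _).mp ⟨h2, mem_centralizer_zpowers.mp hx, hc⟩).2)
  have hcz : Nat.card (centralizer ({zN} : Set ↥N)) = 252 := by
    rw [LocalCount.card_centralizer_coe]; exact e1.symm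
  have hct : Nat.card (centralizer ({tN} : Set ↥N)) = 168 := by
    rw [LocalCount.card_centralizer_coe]; exact o1
  -- involutions commuting with the member of the second class
  have hσ1 : S.σ7 ≠ 1 := fun e => by have h := S.σ7_order; rw [e, orderOf_one] at h; norm_num at h
  have hσ2 : S.σ7 * S.σ7 = 1 := by rw [← pow_two, ← S.σ7_order, pow_orderOf_eq_one]
  obtain ⟨t1, t1', t1'', n4, n5, n6⟩ := T.ne
  have hne : S.σ7 ≠ T.t * S.σ7 := fun e => t1 (mul_eq_right.mp e.symm)
  have hinvσ : S.σ7⁻¹ = S.σ7 := inv_eq_of_mul_eq_one_right hσ2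
  have hZt : ∀ x ∈ Zs, Commute x T.t → x = S.σ7 ∨ x = T.t * S.σ7 := fun x hx hc => by
    rcases T.invol_cases hG hx.1 hx.2.1 hc with r | r | r | r | r
    exacts [absurd (r ▸ hx.2.2) T.cls.1, absurd (r ▸ hx.2.2) T.cls.2.1, absurd (r ▸ hx.2.2) T.cls.2.2, Or.inl r,
      Or.inr r]
  have hTt : ∀ y ∈ Ts, Commute y T.t → y = T.t ∨ y = T.t' ∨ y = T.t'' := fun y hy hc => by
    rcases T.invol_cases hG hy.1 hy.2.1 hc with r | r | r | r | r
    exacts [Or.inl r, Or.inr (Or.inl r), Or.inr (Or.inr r), absurd (r ▸ hσz) hy.2.2,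
      absurd (r ▸ T.t_σ7_z hG) hy.2.2]
  have mZ1 : S.σ7 ∈ Zs := ⟨S.σ7_order, S.σ7_commute, hσz⟩
  have mZ2 : T.t * S.σ7 ∈ Zs := by
    refine ⟨?_, (T.comm.1.symm.mul_left S.σ7_commute), T.t_σ7_z hG⟩
    rw [← T.t_σ7]
    show orderOf (MulAut.conj T.t' S.σ7) = 2
    rw [MulEquiv.orderOf_eq, S.σ7_order]
  have mT : T.t ∈ Ts ∧ T.t' ∈ Ts ∧ T.t'' ∈ Ts :=
    ⟨⟨T.t_order, T.comm.1.symm, T.cls.1⟩,
      ⟨orderOf_eq_prime (by rw [pow_two, C.V_sq T.mem.2.1]) t1', T.comm.2.1.symm, T.cls.2.1⟩,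
      ⟨orderOf_eq_prime (by rw [pow_two, C.V_sq T.mem.2.2]) t1'', T.comm.2.2.symm, T.cls.2.2⟩⟩
  -- pairs over the member of the second class
  have hsq : ∀ {x : G}, x ∈ Zs ∨ x ∈ Ts → x * x = 1 := fun {x} hx => by
    rcases hx with h | h <;> rw [← pow_two, ← h.1, pow_orderOf_eq_one]
  have heven : ∀ {x y : G}, x ∈ Zs → y ∈ Ts → Even (orderOf (x * y)) := fun {x y} hx hy =>
    even_of_not_conj hx.1 hy.1 fun h => hy.2.2 (hx.2.2.trans h)
  have hAt : {p : G × G | p.1 ∈ Zs ∧ p.2 ∈ Ts ∧ pairInvol p.1 p.2 = T.t}.ncard = 4 := by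
    have hval : ∀ x ∈ ({S.σ7, T.t * S.σ7} : Set G), ∀ y ∈ ({T.t', T.t''} : Set G), pairInvol x y = T.t := by
      intro x hx y hy
      refine LocalCount.pairInvol_four (C.V_sq T.mem.1) t1 ?_
      have hcomm := (C.V_comm T.mem.2.1 T.mem.2.2).eq
      have hst : S.σ7 * T.t' * S.σ7 = T.t'' ∧ S.σ7 * T.t'' * S.σ7 = T.t' := by
        have h := T.σ7_conj
        rw [hinvσ] at h
        exact h.2
      rcases hx with rfl | rfl <;> rcases hy with rfl | rfl
      · rw [show S.σ7 * T.t' * (S.σ7 * T.t') = S.σ7 * T.t' * S.σ7 * T.t' by group, hst.1, ← hcomm, T.prod_eq]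
      · rw [show S.σ7 * T.t'' * (S.σ7 * T.t'') = S.σ7 * T.t'' * S.σ7 * T.t'' by group, hst.2, T.prod_eq]
      · calc T.t * S.σ7 * T.t' * (T.t * S.σ7 * T.t')
            = T.t * (S.σ7 * T.t' * T.t * S.σ7) * T.t' := by group
          _ = T.t * ((S.σ7 * T.t' * S.σ7) * (S.σ7⁻¹ * T.t * S.σ7)) * T.t' := by group
          _ = T.t * (T.t'' * T.t) * T.t' := by
            rw [hst.1, mul_assoc S.σ7⁻¹, ← T.σ7_t_commute.eq, inv_mul_cancel_left]
          _ = T.t := by
            rw [(C.V_comm T.mem.2.2 T.mem.1).eq, ← mul_assoc T.t, C.V_sq T.mem.1, one_mul, ← hcomm, T.prod_eq]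
      · calc T.t * S.σ7 * T.t'' * (T.t * S.σ7 * T.t'')
            = T.t * ((S.σ7 * T.t'' * S.σ7) * (S.σ7⁻¹ * T.t * S.σ7)) * T.t'' := by group
          _ = T.t * (T.t' * T.t) * T.t'' := by
            rw [hst.2, mul_assoc S.σ7⁻¹, ← T.σ7_t_commute.eq, inv_mul_cancel_left]
          _ = T.t := by
            rw [(C.V_comm T.mem.2.1 T.mem.1).eq, ← mul_assoc T.t, C.V_sq T.mem.1, one_mul, T.prod_eq]
    have hset : {p : G × G | p.1 ∈ Zs ∧ p.2 ∈ Ts ∧ pairInvol p.1 p.2 = T.t} =
        ({S.σ7, T.t * S.σ7} : Set G) ×ˢ ({T.t', T.t''} : Set G) := by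
      ext ⟨x, y⟩
      constructor
      · rintro ⟨hx, hy, e⟩
        simp only at hx hy e
        obtain ⟨-, c1, c2⟩ := Cfsg.Lib.InvolCalc.central_spec hx.1 hy.1 (heven hx hy)
        rw [show (x * y) ^ (orderOf (x * y) / 2) = T.t from e] at c1 c2
        refine ⟨hZt x hx c1.symm, ?_⟩
        rcases hTt y hy c2.symm with r | r | r
        · exfalso
          subst r
          have hx1 : x ≠ 1 := fun h => by have := hx.1; rw [h, orderOf_one] at this; norm_num at this
          rw [LocalCount.pairInvol_two (by rw [← mul_assoc, mul_assoc x T.t x, ← c1.symm.eq, ← mul_assoc x x,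
              hsq (Or.inl hx), one_mul, C.V_sq T.mem.1])
            (fun h => hx.2.2 |> fun h' => T.cls.1 (by
              rwa [eq_inv_of_mul_eq_one_left h, inv_eq_of_mul_eq_one_right (C.V_sq T.mem.1)] at h'))] at e
          exact hx1 (mul_eq_right.mp e)
        · exact Or.inl r
        · exact Or.inr r
      · rintro ⟨hx, hy⟩
        refine ⟨?_, ?_, hval x hx y hy⟩
        · rcases hx with r | r <;> simp only at r <;> subst r; exacts [mZ1, mZ2]
        · rcases hy with r | r <;> simp only at r <;> subst r; exacts [mT.2.1, mT.2.2]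
    rw [hset, Set.ncard_prod, Set.ncard_pair hne, Set.ncard_pair n6]
  -- the members of the second class commuting with the involution
  set R := centralizer ({S.σ7} : Set G) ⊓ centralizer (S7 : Set G) with hR
  set Y := {y : G | y ∈ Ts ∧ Commute S.σ7 y} with hY
  have hY3 : Y.ncard = 3 := by
    have h := LocalCount.commuting_pairs zN tN
    have h1 : {x : ↥N | IsConj zN x ∧ Commute x tN}.ncard = 2 := by
      rw [← Set.ncard_image_of_injective _ Subtype.val_injective, ← Set.ncard_pair hne]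
      congr 1
      ext x
      constructor
      · rintro ⟨x, ⟨hx1, hx2⟩, rfl⟩
        exact hZt _ ((hZiff _).mpr ⟨x.2, hx1⟩) (congrArg Subtype.val hx2.eq :)
      · rintro (rfl | rfl)
        · exact ⟨zN, ⟨IsConj.refl _, Subtype.ext T.σ7_t_commute.eq⟩, rfl⟩
        · obtain ⟨hx, hc⟩ := (hZiff _).mp mZ2
          exact ⟨⟨_, hx⟩, ⟨hc, Subtype.ext ((Commute.refl T.t).mul_left T.σ7_t_commute).eq⟩, rfl⟩
    have h2 : {y : ↥N | IsConj tN y ∧ Commute zN y}.ncard = Y.ncard := by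
      rw [← Set.ncard_image_of_injective _ Subtype.val_injective]
      congr 1
      ext y
      constructor
      · rintro ⟨y, ⟨hy1, hy2⟩, rfl⟩
        exact ⟨(hTiff _).mpr ⟨y.2, hy1⟩, (congrArg Subtype.val hy2.eq :)⟩
      · rintro ⟨hy1, hy2⟩
        obtain ⟨hy, hc⟩ := (hTiff _).mp hy1
        exact ⟨⟨y, hy⟩, ⟨hc, Subtype.ext hy2.eq⟩, rfl⟩
    rw [h1, h2, hct, hcz] at h
    omega
  have hRY : ∀ {r y : G}, r ∈ R → y ∈ Y → r * y * r⁻¹ ∈ Y := by
    rintro r y ⟨hr1, hr2⟩ ⟨⟨h2, hs, hz⟩, hσ⟩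
    refine ⟨⟨?_, ?_, fun h => hz (h.trans (isConj_iff.mpr ⟨r⁻¹, by group⟩))⟩, ?_⟩
    · show orderOf (MulAut.conj r y) = 2
      rw [MulEquiv.orderOf_eq, h2]
    · exact ((mem_centralizer_zpowers.mp hr2).mul_left hs).mul_left (mem_centralizer_zpowers.mp hr2).inv_left
    · have hr : Commute S.σ7 r := (mem_centralizer_singleton_iff.mp hr1 : r * S.σ7 = S.σ7 * r).symm
      exact (hr.mul_right hσ).mul_right hr.inv_right
  have hYt : T.t ∈ Y := ⟨mT.1, T.σ7_t_commute⟩
  have hYall : ∀ y ∈ Y, ∃ r ∈ R, r * T.t * r⁻¹ = y := by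
    letI : MulAction ↥R G := MulAction.compHom G ((ConjAct.toConjAct : G ≃* ConjAct G).toMonoidHom.comp R.subtype)
    have hsub : MulAction.orbit ↥R T.t ⊆ Y := by
      rintro _ ⟨r, rfl⟩
      exact hRY r.2 hYt
    have hst : Nat.card (MulAction.stabilizer ↥R T.t) = 28 := by
      rw [← o4]
      refine Nat.card_congr
        { toFun := fun r => ⟨r.1.1, mem_inf.mpr ⟨mem_inf.mpr ⟨mem_centralizer_singleton_iff.mpr
            (mul_inv_eq_iff_eq_mul.mp (MulAction.mem_stabilizer_iff.mp r.2)), r.1.2.1⟩, r.1.2.2⟩⟩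
          invFun := fun r => ⟨⟨r.1, mem_inf.mpr ⟨r.2.1.2, r.2.2⟩⟩, MulAction.mem_stabilizer_iff.mpr
            (mul_inv_eq_iff_eq_mul.mpr (mem_centralizer_singleton_iff.mp r.2.1.1))⟩
          left_inv := fun _ => rfl
          right_inv := fun _ => rfl }
    have h := (MulAction.stabilizer ↥R T.t).card_mul_index
    rw [MulAction.index_stabilizer, hst] at h
    intro y hy
    have heq := Set.eq_of_subset_of_ncard_le hsub (by rw [hY3]; omega) (Set.toFinite _)
    obtain ⟨r, hr⟩ := (heq ▸ hy : y ∈ MulAction.orbit ↥R T.t)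
    exact ⟨r, r.2, hr⟩
  have hYcomm : ∀ {y y' : G}, y ∈ Y → y' ∈ Y → Commute y' y → y' = y := by
    intro y y' hy hy' hc
    obtain ⟨r, hr, rfl⟩ := hYall y hy
    have h := hRY (inv_mem hr) hy'
    rw [inv_inv] at h
    have hc' : Commute (r⁻¹ * y' * r) T.t := by
      have := hc.map (MulAut.conj r⁻¹)
      simpa [mul_assoc] using this
    rcases hTt _ h.1 hc' with e | e | e
    · rw [← e]; group
    · have hh := mul_inv_eq_iff_eq_mul.mpr h.2.eq
      rw [e] at hh
      exact absurd (hh.symm.trans T.σ7_conj.2.1) n6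
    · have hh := mul_inv_eq_iff_eq_mul.mpr h.2.eq
      rw [e] at hh
      exact absurd (T.σ7_conj.2.2.symm.trans hh) n6
  have hY2 : ∀ {y : G}, y ∈ Y → y * y = 1 := fun hy => hsq (Or.inr hy.1)
  have hconjY : ∀ {y y' : G}, y ∈ Y → y' ∈ Y → y * y' * y ∈ Y := by
    intro y y' hy hy'
    have hyR : y ∈ R := mem_inf.mpr ⟨mem_centralizer_singleton_iff.mpr hy.2.symm.eq,
      mem_centralizer_zpowers.mpr hy.1.2.1⟩
    have := hRY hyR hy'
    rwa [inv_eq_of_mul_eq_one_right (hY2 hy)] at this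
  have hthird : ∀ {y y' : G}, y ∈ Y → y' ∈ Y → y ≠ y' → y * y' * y ≠ y ∧ y * y' * y ≠ y' := by
    intro y y' hy hy' hne'
    constructor
    · intro e
      exact hne' ((eq_inv_of_mul_eq_one_left (mul_eq_right.mp e)).trans (inv_eq_of_mul_eq_one_right (hY2 hy')))
    · intro e
      refine hne' (hYcomm hy' hy ?_)
      show y * y' = y' * y
      conv_rhs => rw [← e]
      rw [mul_assoc, hY2 hy, mul_one]
  have hthree : ∀ {y y' : G}, y ∈ Y → y' ∈ Y → y * y' * (y * y') * (y * y') = 1 := by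
    intro y y' hy hy'
    by_cases hyy : y = y'
    · subst hyy; simp [hY2 hy]
    obtain ⟨p1, p2⟩ := hthird hy hy' hyy
    obtain ⟨q1, q2⟩ := hthird hy' hy (Ne.symm hyy)
    have heq : y * y' * y = y' * y * y' := by
      by_contra hne'
      have hsub : ({y, y', y * y' * y, y' * y * y'} : Set G) ⊆ Y := by
        rintro w (rfl | rfl | rfl | rfl)
        exacts [hy, hy', hconjY hy hy', hconjY hy' hy]
      have h4 := Set.ncard_le_ncard hsub (Set.toFinite _)
      rw [Set.ncard_insert_of_notMem (by simp [hyy, p1.symm, q2.symm]),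
        Set.ncard_insert_of_notMem (by simp [p2.symm, q1.symm]), Set.ncard_pair hne', hY3] at h4
      omega
    calc y * y' * (y * y') * (y * y') = (y * y' * y) * (y' * y * y') := by group
      _ = 1 := by rw [← heq]; exact hY2 (hconjY hy hy')
  -- pairs over the involution
  have hAz : {p : G × G | p.1 ∈ Zs ∧ p.2 ∈ Ts ∧ pairInvol p.1 p.2 = S.σ7}.ncard = 9 := by
    have hsetY : {p : G × G | p.1 ∈ Zs ∧ p.2 ∈ Ts ∧ pairInvol p.1 p.2 = S.σ7} =
        (fun q : G × G => (q.1 * S.σ7, q.2)) '' (Y ×ˢ Y) := by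
      ext ⟨x, y⟩
      constructor
      · rintro ⟨hx, hy, e⟩
        simp only at hx hy e
        obtain ⟨-, c1, c2⟩ := Cfsg.Lib.InvolCalc.central_spec hx.1 hy.1 (heven hx hy)
        rw [show (x * y) ^ (orderOf (x * y) / 2) = S.σ7 from e] at c1 c2
        have hyY : y ∈ Y := ⟨hy, c2⟩
        have hxR : x ∈ R := mem_inf.mpr ⟨mem_centralizer_singleton_iff.mpr c1.symm.eq,
          mem_centralizer_zpowers.mpr hx.2.1⟩
        have hx2 := hsq (Or.inl hx)
        obtain ⟨w, hw, hwx⟩ := LocalCount.exists_fixed_of_three hY3 (f := fun w => x * w * x⁻¹)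
          (fun w hw => hRY hxR hw) (fun w _ => by
            rw [inv_eq_of_mul_eq_one_right hx2, show x * (x * w * x) * x = (x * x) * w * (x * x) by group, hx2,
              one_mul, mul_one])
        obtain ⟨r, hr, rfl⟩ := hYall w hw
        have hrσ : Commute r S.σ7 := mem_centralizer_singleton_iff.mp hr.1
        have hrs : Commute r S.s7 := mem_centralizer_zpowers.mp hr.2
        have hx' : r⁻¹ * x * r ∈ Zs := ⟨by
            rw [show r⁻¹ * x * r = MulAut.conj r⁻¹ x by simp, MulEquiv.orderOf_eq, hx.1],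
          (hrs.inv_left.mul_left hx.2.1).mul_left hrs,
          hx.2.2.trans (isConj_iff.mpr ⟨r⁻¹, by group⟩)⟩
        have hcx : Commute (r⁻¹ * x * r) T.t := by
          have h0 : Commute x (r * T.t * r⁻¹) := mul_inv_eq_iff_eq_mul.mp hwx
          have := h0.map (MulAut.conj r⁻¹)
          simpa [mul_assoc] using this
        rcases hZt _ hx' hcx with e' | e'
        · exfalso
          have hxσ : x = S.σ7 := by
            rw [show x = r * (r⁻¹ * x * r) * r⁻¹ by group, e', hrσ.eq, mul_inv_cancel_right]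
          rw [hxσ, LocalCount.pairInvol_two (by
              rw [← mul_assoc, mul_assoc S.σ7 y S.σ7, ← c2.eq, ← mul_assoc S.σ7, hσ2, one_mul, hY2 hyY])
            (fun h => hy.2.2 (by
              rw [← inv_eq_of_mul_eq_one_right h, hinvσ]; exact hσz))] at e
          exact (fun hy1 : y ≠ 1 => hy1 (mul_eq_left.mp e))
            (fun h => by have := hy.1; rw [h, orderOf_one] at this; norm_num at this)
        · refine ⟨(r * T.t * r⁻¹, y), ⟨hw, hyY⟩, ?_⟩
          refine Prod.ext ?_ rfl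
          show r * T.t * r⁻¹ * S.σ7 = x
          rw [show x = r * (r⁻¹ * x * r) * r⁻¹ by group, e', mul_assoc (r * T.t), hrσ.inv_left.eq]
          group
      · rintro ⟨⟨w, y'⟩, ⟨hw, hy'⟩, e⟩
        simp only [Prod.mk.injEq] at e hw hy'
        obtain ⟨rfl, rfl⟩ := e
        obtain ⟨r, hr, rfl⟩ := hYall w hw
        have hrσ : Commute r S.σ7 := mem_centralizer_singleton_iff.mp hr.1
        have hrs : Commute r S.s7 := mem_centralizer_zpowers.mp hr.2
        have e0 : r * T.t * r⁻¹ * S.σ7 = r * (T.t * S.σ7) * r⁻¹ := by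
          rw [mul_assoc (r * T.t), hrσ.inv_left.eq]; group
        refine ⟨⟨?_, ?_, ?_⟩, hy'.1, ?_⟩
        · rw [e0]
          show orderOf (MulAut.conj r (T.t * S.σ7)) = 2
          rw [MulEquiv.orderOf_eq, mZ2.1]
        · exact ((hrs.mul_left T.comm.1.symm).mul_left hrs.inv_left).mul_left S.σ7_commute
        · rw [e0]; exact (T.t_σ7_z hG).trans (isConj_iff.mpr ⟨r, rfl⟩)
        · refine LocalCount.pairInvol_six hσ2 hσ1 (w := r * T.t * r⁻¹ * y') (hw.2.mul_right hy'.2)
            (hthree hw hy') ?_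
          simp only
          rw [← hw.2.eq, mul_assoc]
    rw [hsetY, Set.ncard_image_of_injective _ (fun a b e => by
      simp only [Prod.mk.injEq, mul_left_inj] at e
      exact Prod.ext e.1 e.2), Set.ncard_prod, hY3]
  rw [hform, LocalCount.pairSet_coe N zN tN zN hZiff hTiff, LocalCount.pairSet_coe N zN tN tN hZiff hTiff, hcz, hct,
    show {p : G × G | p.1 ∈ Zs ∧ p.2 ∈ Ts ∧ pairInvol p.1 p.2 = (zN : G)}.ncard = 9 from hAz,
    show {p : G × G | p.1 ∈ Zs ∧ p.2 ∈ Ts ∧ pairInvol p.1 p.2 = (tN : G)}.ncard = 4 from hAt]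

end Trio

end Sec

end Ctx

end Cfsg.Lib.JankoFour
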