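import Cfsg.Agent.JankoFour.Section
import Cfsg.Agent.Golay.SevenPairs

/-!
An element of order seven of the complement and the three elements of the second class it centralises.
-/

set_option autoImplicit false
set_option maxRecDepth 100000
set_option maxHeartbeats 1000000
set_option linter.style.haveILetI false
set_option linter.unusedSectionVars false

namespace Cfsg.Lib.JankoFour

open Subgroup
open Cfsg.Lib.Golay
open scoped Pointwise

universe u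

variable {G : Type u} [Group G] [Finite G]

/-- The element of order seven among the permutations of the points. -/
def xPt : ↥Cfsg.M24 := ⟨xSeven, xSeven_mem⟩

/-- The chosen involution among the permutations of the points. -/
def gPt : ↥Cfsg.M24 := ⟨toP cgSevenG0.1, cgTrio_le (mem_cgTrio_of_norm
  (seven_le.2 (seven_le.1 seven_gens_mem.1)) (normalizer_seven.mpr (seven_le.1 seven_gens_mem.1)).2)⟩

namespace Ctx

variable {z : G} {P : Subgroup G} {C : Ctx z P} (S : Sec C)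

namespace Sec

/-- The element of order seven of the complement. -/
def s7 : G := S.l xPt

/-- The involution of the complement centralising it. -/
def σ7 : G := S.l gPt

theorem s7_mem_N : S.s7 ∈ normalizer (C.V : Set G) := S.KN (S.l_mem _)

theorem s7_order : orderOf S.s7 = 7 := by
  rw [s7, orderOf_injective S.l S.l_injective, ← Subgroup.orderOf_coe]
  exact orderOf_xSeven

theorem σ7_order : orderOf S.σ7 = 2 := by
  rw [σ7, orderOf_injective S.l S.l_injective, ← Subgroup.orderOf_coe]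
  exact sevenG0_invol.1

theorem l_conj_s7 {m : ↥Cfsg.M24} {k : ℤ} (h : (m : Equiv.Perm Cfsg.GolayPt) * xSeven * (m : Equiv.Perm Cfsg.GolayPt)⁻¹ = xSeven ^ k) :
    S.l m * S.s7 * (S.l m)⁻¹ = S.s7 ^ k := by
  rw [s7, ← map_inv, ← map_mul, ← map_mul, ← map_zpow]
  exact congrArg S.l (Subtype.ext (by simpa [xPt] using h))

theorem l_mem_norm {m : ↥Cfsg.M24} (hm : (m : Equiv.Perm Cfsg.GolayPt) ∈ cgSevenN.grp) :
    S.l m ∈ normalizer (zpowers S.s7 : Set G) := by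
  obtain ⟨k, hk⟩ := mem_zpowers_iff.mp (normalizer_seven.mpr hm).2
  rw [mem_normalizer_zpowers, S.l_conj_s7 hk.symm]
  exact zpow_mem (mem_zpowers _) k

theorem l_commute {m : ↥Cfsg.M24} (hm : (m : Equiv.Perm Cfsg.GolayPt) ∈ cgSeven.grp) : Commute (S.l m) S.s7 :=
  (Commute.map (Subtype.ext (centralizer_seven.mpr hm).2 : m * xPt = xPt * m) S.l :)

theorem σ7_commute : Commute S.σ7 S.s7 := S.l_commute seven_gens_mem.1

theorem φ_norm {n : G} (hn : n ∈ normalizer (C.V : Set G)) (hS : n ∈ normalizer (zpowers S.s7 : Set G)) :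
    S.φ ⟨n, hn⟩ ∈ cgSevenN.grp := by
  refine normalizer_seven.mp ⟨S.range_le _, ?_⟩
  obtain ⟨k, hk⟩ := mem_zpowers_iff.mp ((mem_normalizer_iff.mp hS S.s7).mp (mem_zpowers _))
  refine mem_zpowers_iff.mpr ⟨k, ?_⟩
  have e : (⟨n, hn⟩ : ↥(normalizer (C.V : Set G))) * ⟨S.s7, S.s7_mem_N⟩ * (⟨n, hn⟩ : ↥(normalizer (C.V : Set G)))⁻¹ =
      ⟨S.s7, S.s7_mem_N⟩ ^ k := Subtype.ext (by simpa using hk.symm)
  have h := congrArg S.φ e
  rw [map_mul, map_mul, map_inv, map_zpow, show (⟨S.s7, S.s7_mem_N⟩ : ↥(normalizer (C.V : Set G))) =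
    ⟨S.l xPt, S.KN (S.l_mem _)⟩ from rfl, S.φ_l] at h
  exact h.symm

theorem φ_comm {n : G} (hn : n ∈ normalizer (C.V : Set G)) (hS : Commute n S.s7) :
    S.φ ⟨n, hn⟩ ∈ cgSeven.grp := by
  refine centralizer_seven.mp ⟨S.range_le _, ?_⟩
  have e : (⟨n, hn⟩ : ↥(normalizer (C.V : Set G))) * ⟨S.s7, S.s7_mem_N⟩ =
      ⟨S.s7, S.s7_mem_N⟩ * ⟨n, hn⟩ := Subtype.ext hS.eq
  have h := congrArg S.φ e
  rw [map_mul, map_mul, show (⟨S.s7, S.s7_mem_N⟩ : ↥(normalizer (C.V : Set G))) =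
    ⟨S.l xPt, S.KN (S.l_mem _)⟩ from rfl, S.φ_l] at h
  exact h

theorem V_norm_comm {v : G} (hv : v ∈ C.V) (h : v ∈ normalizer (zpowers S.s7 : Set G)) : Commute v S.s7 := by
  obtain ⟨k, hk⟩ := mem_zpowers_iff.mp ((mem_normalizer_iff.mp h S.s7).mp (mem_zpowers _))
  have h1 : v * S.s7 * v⁻¹ * S.s7⁻¹ ∈ C.V := by
    rw [show v * S.s7 * v⁻¹ * S.s7⁻¹ = v * (S.s7 * v⁻¹ * S.s7⁻¹) by group]
    exact mul_mem hv ((mem_normalizer_iff.mp S.s7_mem_N _).mp (inv_mem hv))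
  rw [← hk, ← zpow_sub_one, s7, ← map_zpow] at h1
  have h2 := S.l_mem_V h1
  show v * S.s7 = S.s7 * v
  rw [← mul_inv_eq_iff_eq_mul, ← hk]
  conv_rhs => rw [← zpow_one S.s7]
  rw [← sub_add_cancel k 1, zpow_add, zpow_one, s7, ← map_zpow, h2, map_one, one_mul]

/-- No conjugate of the involution in the distinguished subgroup commutes with the element of order seven. -/
theorem s7_not_fix {r : G} (hr : r ∈ C.V) (hc : IsConj z r) : ¬ Commute S.s7 r := by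
  intro h
  obtain ⟨m, hm, rfl⟩ := C.fuse hr hc
  have hmem : m⁻¹ * S.s7 * m ∈ C.M := by
    rw [C.M_eq]
    refine mem_inf.mpr ⟨mul_mem (mul_mem (inv_mem hm) S.s7_mem_N) hm, mem_centralizer_singleton_iff.mpr ?_⟩
    calc m⁻¹ * S.s7 * m * z = m⁻¹ * (S.s7 * (m * z * m⁻¹)) * m := by group
      _ = m⁻¹ * (m * z * m⁻¹ * S.s7) * m := by rw [h.eq]
      _ = _ := by group
  have hd := Subgroup.orderOf_dvd_natCard (s := C.M) hmem
  rw [C.M_card.1, show m⁻¹ * S.s7 * m = MulAut.conj m⁻¹ S.s7 by simp, MulEquiv.orderOf_eq, S.s7_order] at hd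
  norm_num at hd

/-- The three members of the second class centralised by the element of order seven. -/
theorem exists_trio : ∃ t t' t'' : G, (t ∈ C.V ∧ t' ∈ C.V ∧ t'' ∈ C.V) ∧
    (¬ IsConj z t ∧ ¬ IsConj z t' ∧ ¬ IsConj z t'') ∧
    (S.pairOf t = {ptAt 5, ptAt 11} ∧ S.pairOf t' = {ptAt 0, ptAt 5} ∧ S.pairOf t'' = {ptAt 0, ptAt 11}) ∧
    (t ≠ 1 ∧ t' ≠ 1 ∧ t'' ≠ 1 ∧ t ≠ t' ∧ t ≠ t'' ∧ t' ≠ t'') ∧
    (Commute S.s7 t ∧ Commute S.s7 t' ∧ Commute S.s7 t'') ∧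
    ∀ u ∈ C.V, Commute S.s7 u → u = 1 ∨ u = t ∨ u = t' ∨ u = t'' := by
  obtain ⟨-, -, -, -, -, -, -, -, -, -, d1, d2, d3, -⟩ := seven_fix_tab
  obtain ⟨t, ht, t1, tc, tp⟩ := S.exists_pair d3
  obtain ⟨t', ht', t1', tc', tp'⟩ := S.exists_pair d1
  obtain ⟨t'', ht'', t1'', tc'', tp''⟩ := S.exists_pair d2
  have hne : ∀ {a b c : Cfsg.GolayPt}, a ≠ b → a ≠ c → ∀ d, ({a, d} : Set Cfsg.GolayPt) ≠ {b, c} :=
    fun {a b c} h h' d e => by
      rcases (e ▸ Set.mem_insert a _ : a ∈ ({b, c} : Set Cfsg.GolayPt)) with r | r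
      exacts [h r, h' r]
  have n1 : t ≠ t' := fun e => hne d1 d2 (ptAt 5) (by rw [← tp', ← tp, e])
  have n2 : t ≠ t'' := fun e => hne d1 d2 (ptAt 11) (by rw [← tp'', ← tp, e])
  have n3 : t' ≠ t'' := fun e => hne d1.symm d3 (ptAt 0) (by rw [Set.pair_comm, ← tp', ← tp'', e])
  have hfix : ∀ {u}, u ∈ C.V → u ≠ 1 → ¬ IsConj z u →
      (Commute S.s7 u ↔ xSeven • S.pairOf u = S.pairOf u) := fun {u} hu h1 hc => by
    have h := S.fix_iff ⟨S.l xPt, S.KN (S.l_mem _)⟩ hu h1 hc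
    rw [S.φ_l] at h
    rw [← show ((xPt : ↥Cfsg.M24) : Equiv.Perm Cfsg.GolayPt) = xSeven from rfl, ← h]
    exact mul_inv_eq_iff_eq_mul.symm
  have hpair : ∀ {a b : Cfsg.GolayPt}, xSeven a = a → xSeven b = b →
      xSeven • ({a, b} : Set Cfsg.GolayPt) = {a, b} := fun {a b} ha hb => by
    rw [Set.smul_set_insert, Set.smul_set_singleton, Equiv.Perm.smul_def, Equiv.Perm.smul_def, ha, hb]
  have f0 := xSeven_fix.mpr (Or.inl (rfl : (ptAt 0 : Cfsg.GolayPt) = ptAt 0))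
  have f5 := xSeven_fix.mpr (Or.inr (Or.inl (rfl : (ptAt 5 : Cfsg.GolayPt) = ptAt 5)))
  have f11 := xSeven_fix.mpr (Or.inr (Or.inr (rfl : (ptAt 11 : Cfsg.GolayPt) = ptAt 11)))
  refine ⟨t, t', t'', ⟨ht, ht', ht''⟩, ⟨tc, tc', tc''⟩, ⟨tp, tp', tp''⟩, ⟨t1, t1', t1'', n1, n2, n3⟩,
    ⟨(hfix ht t1 tc).mpr (tp ▸ hpair f5 f11), (hfix ht' t1' tc').mpr (tp' ▸ hpair f0 f5),
      (hfix ht'' t1'' tc'').mpr (tp'' ▸ hpair f0 f11)⟩, fun u hu hc => ?_⟩
  by_cases h1 : u = 1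
  · exact Or.inl h1
  have hn : ¬ IsConj z u := fun h => S.s7_not_fix hu h hc
  obtain ⟨a, b, hab, e⟩ := S.pairOf_spec hu h1 hn
  have hx := (hfix hu h1 hn).mp hc
  rw [e] at hx
  obtain ⟨ha, hb⟩ := pair_fixed hab hx
  have hm := mem_fixPairs hab ha hb
  simp only [fixPairs, Set.mem_insert_iff, Set.mem_singleton_iff, ← e] at hm
  rcases hm with h | h | h
  · exact Or.inr (Or.inr (Or.inl (S.pairOf_inj hu h1 hn ht' t1' tc' (h.trans tp'.symm))))
  · exact Or.inr (Or.inr (Or.inr (S.pairOf_inj hu h1 hn ht'' t1'' tc'' (h.trans tp''.symm))))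
  · exact Or.inr (Or.inl (S.pairOf_inj hu h1 hn ht t1 tc (h.trans tp.symm)))

end Sec

end Ctx

end Cfsg.Lib.JankoFour
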