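import Cfsg.Agent.JankoFour.Classify
import Cfsg.Agent.LargeFischer.SextetGraph

/-!
The sextet setting of a group of Janko-four type, and the conjugates of the distinguished subgroup.
-/

set_option autoImplicit false
set_option maxRecDepth 100000
set_option maxHeartbeats 1000000
set_option linter.style.haveILetI false
set_option linter.unusedSectionVars false

namespace Cfsg.Lib.JankoFour

open Subgroup
open Data (W0)
open Cfsg.Lib.LargeFischer (Sextet)

universe u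

variable {G : Type u} [Group G] [Finite G]

namespace Ctx

variable {z : G} {P : Subgroup G} (C : Ctx z P)

include C

theorem line_count [IsSimpleGroup G] (hG : ¬ IsMulCommutative G) {t : G} (ht : t ∈ C.V ⊓ C.E) (h1 : t ≠ 1)
    (hc : ¬ IsConj z t) :
    {v : G | v ∈ C.V ⊓ C.E ∧ v ≠ 1 ∧ ¬ IsConj z v ∧ t * v ≠ 1 ∧ ¬ IsConj z (t * v)}.ncard = 4 := by
  obtain ⟨-, h0, hn1⟩ := C.inner_card hG
  have hmem : ∀ a ∈ C.V ⊓ C.E, (a ≠ 1 ∧ ¬ IsConj z a) ↔ C.π a ∈ partW 1 := by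
    intro a ha
    constructor
    · rintro ⟨a1, hn⟩
      rcases C.A0_cases ha with r | r | r | r
      exacts [absurd r a1, absurd (r ▸ IsConj.refl z) hn, absurd (h0 a r) hn, r.2]
    · exact fun h => ⟨(C.lifts_A0 ⟨ha.2, h⟩).2.1, hn1 a ⟨ha.2, h⟩⟩
  have htp : C.π t ∈ partW 1 := (hmem t ht).mp ⟨h1, hc⟩
  have hf := List.all_eq_true.mp part_facts.2.2 _ htp
  rw [beq_iff_eq] at hf
  set l := (partW 1).filter fun v => (partW 1).contains (C.π t ^^^ v) with hl
  have hset : {v : G | v ∈ C.V ⊓ C.E ∧ v ≠ 1 ∧ ¬ IsConj z v ∧ t * v ≠ 1 ∧ ¬ IsConj z (t * v)} = C.liftsOf l := by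
    ext v
    constructor
    · rintro ⟨hv, a, b, c, d⟩
      have e2 := (hmem _ (mul_mem ht hv)).mp ⟨c, d⟩
      rw [C.π_mul t ht.2 v hv.2] at e2
      exact ⟨hv.2, List.mem_filter.mpr ⟨(hmem v hv).mp ⟨a, b⟩, List.contains_iff_mem.mpr e2⟩⟩
    · rintro ⟨hvE, hvl⟩
      obtain ⟨hv1, hv2⟩ := List.mem_filter.mp hvl
      have hv : v ∈ C.V ⊓ C.E := (C.lifts_A0 (c := 1) ⟨hvE, hv1⟩).1
      obtain ⟨a, b⟩ := (hmem v hv).mpr hv1
      obtain ⟨c, d⟩ := (hmem _ (mul_mem ht hv)).mpr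
        (by rw [C.π_mul t ht.2 v hvE]; exact List.contains_iff_mem.mp hv2)
      exact ⟨hv, a, b, c, d⟩
  rw [hset, C.lifts_ncard ((partW_nodup 1).filter _)
    (fun x hx => (W0_spec (mem_partW.mp (List.mem_filter.mp hx).1).1).1), hf]

/-- The sextet setting. -/
noncomputable def sextet [IsSimpleGroup G] (hG : ¬ IsMulCommutative G) : Sextet G z where
  A := C.V
  A0 := C.V ⊓ C.E
  Q := C.E
  sq := fun _ ha => C.V_sq ha
  cardA := by rw [C.V_spec.2.1]; norm_num
  le0 := inf_le_left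
  mem0 := C.pre.mem0
  ne1 := C.X.ne
  card0 := C.card_Wt
  fuse := fun _ ha hc => C.fuse ha hc
  inner := (C.inner_card hG).1
  swap := fun a ha h1 hz => by
    rw [C.X.central a ha.2]
    exact C.swap_conj ha.2 h1 hz
  line := fun _ ht h1 hc => C.line_count hG ht h1 hc
  self := fun g hg => C.centralizer_V (mem_centralizer_iff.mpr fun v hv => (mul_inv_eq_iff_eq_mul.mp (hg v hv)).symm)
  inv0 := fun _ hm hz _ ha => C.inv0 hm hz ha
  coset := fun _ ha ha0 _ hb hb0 => C.coset0 ha ha0 hb hb0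
  qN := fun _ hq => C.M_normalizes (C.E_le_M hq)
  qcoset := fun _ hq _ ha => C.qcoset hq ha
  big := fun _ ha ha0 => C.big ha ha0

theorem large : 138240 * 2048 ≤ Nat.card ↥(normalizer (C.V : Set G) ⊓ centralizer ({z} : Set G)) := by
  rw [← C.M_eq, C.M_card.1]

/-- The action of the normaliser is that of the largest Mathieu group. -/
theorem exists_hom [IsSimpleGroup G] (hG : ¬ IsMulCommutative G) :
    ∃ φ : ↥(normalizer (C.V : Set G)) →* ↥Cfsg.M24, Function.Surjective φ ∧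
      φ.ker = C.V.subgroupOf (normalizer (C.V : Set G)) := by
  obtain ⟨t, ht⟩ := (C.sextet hG).T_nonempty
  obtain ⟨φ, hs, hk, -⟩ := (C.sextet hG).exists_hom C.large ht
  exact ⟨φ, hs, hk⟩

/-- Every elementary abelian subgroup of order two to the eleventh is conjugate to the distinguished one. -/
theorem conj_V {W : Subgroup G} (hW : Cfsg.IsElementaryAbelian 2 W) (hc : Nat.card ↥W = 2 ^ 11) :
    ∃ g : G, W = C.V.map (MulAut.conj g).toMonoidHom := by
  haveI : Fact (Nat.Prime 2) := ⟨Nat.prime_two⟩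
  obtain ⟨T, hT⟩ := (IsPGroup.of_card hc : IsPGroup 2 ↥W).exists_le_sylow
  obtain ⟨T₀, hT₀⟩ := C.sylow
  obtain ⟨g, hg⟩ := MulAction.exists_smul_eq G T₀ T
  refine ⟨g, (C.unique T).unique ⟨hT, hW, hc⟩ ⟨?_, ?_, (card_map_of_injective (MulAut.conj g).injective).trans C.V_spec.2.1⟩⟩
  · rw [← hg, Sylow.coe_subgroup_smul]
    exact map_mono (hT₀ ▸ C.V_spec.2.2)
  · refine ⟨⟨⟨fun a b => Subtype.ext ?_⟩⟩, ?_⟩
    · obtain ⟨x, hx, ex⟩ := a.2
      obtain ⟨y, hy, ey⟩ := b.2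
      show (a : G) * b = b * a
      rw [← ex, ← ey, ← map_mul, ← map_mul, (C.V_comm hx hy).eq]
    · rintro _ ⟨x, hx, rfl⟩
      rw [← map_pow, pow_two, C.V_sq hx, map_one]

end Ctx

end Cfsg.Lib.JankoFour
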