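import Cfsg.Agent.JankoFour.StabChecks

/-!
The stabiliser of the distinguished subgroup in the centraliser of the involution.
-/

set_option autoImplicit false
set_option maxRecDepth 100000
set_option maxHeartbeats 1000000
set_option linter.style.haveILetI false
set_option linter.unusedSectionVars false

namespace Cfsg.Lib.JankoFour

open Subgroup
open Data (W0 w0B X0 chainC imgC)

universe u

variable {G : Type u} [Group G] [Finite G]

theorem W0_of_span {x : ℕ} (hx : x ∈ W0) : x ∈ spanX w0B := by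
  have h := w0B_gen
  simp only [Bool.and_eq_true, List.all_eq_true, List.contains_iff_mem] at h
  exact h.2 x hx

theorem W0_stable {M : List ℕ} (hM : ∀ b ∈ w0B, mv M b ∈ W0) {x : ℕ} (hx : x ∈ W0) : mv M x ∈ W0 :=
  spanX_ind (p := fun x => mv M x ∈ W0) (by rw [mv_zero]; exact W0_zero) w0B
    (fun b hb y hy => by rw [mv_xor]; exact W0_xor (hM b hb) hy) x (W0_of_span hx)

theorem w0B_mem {b : ℕ} (hb : b ∈ w0B) : b ∈ W0 := by
  have h := w0B_gen
  simp only [Bool.and_eq_true, List.all_eq_true, List.contains_iff_mem] at h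
  exact h.1 b (mem_spanX _ b hb)

theorem apartAll_spec : ∀ (l : List (List ℕ)), apartAll l = true → l.Pairwise fun M N => apart M N = true := by
  intro l
  induction l with
  | nil => intro _; exact List.Pairwise.nil
  | cons M r ih =>
    intro h
    simp only [apartAll, Bool.and_eq_true, List.all_eq_true] at h
    exact List.pairwise_cons.mpr ⟨h.1, ih h.2⟩

theorem apart_getD (f : List ℕ → List ℕ) {l : List (List ℕ)} (h : apartAll (l.map f) = true) {i j : ℕ} (hij : i < j)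
    (hj : j < l.length) : apart (f (l.getD i [])) (f (l.getD j [])) = true := by
  have := List.pairwise_iff_getElem.mp (apartAll_spec _ h) i j (by rw [List.length_map]; omega)
    (by rw [List.length_map]; omega) hij
  rw [List.getElem_map, List.getElem_map] at this
  rwa [List.getD_eq_getElem _ _ (by omega), List.getD_eq_getElem _ _ hj]

theorem all_getD {p : List ℕ → Prop} {l : List (List ℕ)} (h : ∀ w ∈ l, p w) {j : ℕ} (hj : j < l.length) :
    p (l.getD j []) := by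
  rw [List.getD_eq_getElem _ _ hj]; exact h _ (List.getElem_mem hj)

namespace Ctx

variable {z : G} {P : Subgroup G} (C : Ctx z P)

include C

theorem exists_word (w : List ℕ) (hw : ∀ i ∈ w, i < 5) :
    ∃ g ∈ centralizer ({z} : Set G), RepBy C.E C.π g (wM gens5 w) := by
  obtain ⟨ha, hb, hc, ht⟩ := C.memH
  induction w with
  | nil => exact ⟨1, one_mem _, C.rep_one⟩
  | cons i r ih =>
    obtain ⟨g, hg, hr⟩ := ih fun j hj => hw j (List.mem_cons_of_mem _ hj)
    have hi := hw i List.mem_cons_self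
    rcases (show i = 0 ∨ i = 1 ∨ i = 2 ∨ i = 3 ∨ i = 4 by omega) with rfl | rfl | rfl | rfl | rfl
    · exact ⟨C.ga * g, mul_mem ha hg, C.rep_mul hg C.rep_a hr⟩
    · exact ⟨C.gb * g, mul_mem hb hg, C.rep_mul hg C.rep_b hr⟩
    · exact ⟨C.gc * g, mul_mem hc hg, C.rep_mul hg C.rep_c hr⟩
    · exact ⟨C.gt * g, mul_mem ht hg, C.rep_mul hg C.rep_t hr⟩
    · exact ⟨C.p * g, mul_mem C.pH hg, C.rep_mul hg C.rep_p hr⟩

/-- The stabiliser of the distinguished subgroup. -/
def M : Subgroup G where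
  carrier := {h | h ∈ centralizer ({z} : Set G) ∧ ∀ q ∈ C.Wt, h * q * h⁻¹ ∈ C.Wt}
  one_mem' := ⟨one_mem _, fun q hq => by simpa using hq⟩
  mul_mem' := by
    rintro a b ⟨ha, ha'⟩ ⟨hb, hb'⟩
    refine ⟨mul_mem ha hb, fun q hq => ?_⟩
    rw [show a * b * q * (a * b)⁻¹ = a * (b * q * b⁻¹) * a⁻¹ by group]
    exact ha' _ (hb' q hq)
  inv_mem' := by
    rintro a ⟨ha, ha'⟩
    refine ⟨inv_mem ha, fun q hq => ?_⟩
    have him : (fun x => a * x * a⁻¹) '' C.Wt = C.Wt :=
      Set.eq_of_subset_of_ncard_le (Set.image_subset_iff.mpr ha')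
        (by rw [Set.ncard_image_of_injective _ fun x y e => by simpa using e]) (Set.toFinite _)
    obtain ⟨x, hx, e⟩ : q ∈ (fun x => a * x * a⁻¹) '' C.Wt := him.symm ▸ hq
    rw [inv_inv, ← show a * x * a⁻¹ = q from e, show a⁻¹ * (a * x * a⁻¹) * a = x by group]
    exact hx

theorem mem_M_of_rep {g : G} {M : List ℕ} (hg : g ∈ centralizer ({z} : Set G)) (hr : RepBy C.E C.π g M)
    (hM : ∀ b ∈ w0B, mv M b ∈ W0) : g ∈ C.M :=
  ⟨hg, fun q hq => ⟨C.conj_mem hg hq.1, by rw [hr q hq.1]; exact W0_stable hM hq.2⟩⟩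

/-- The elements of the stabiliser fixing a list of codes. -/
def Fx (l : List ℕ) : Subgroup G where
  carrier := {h | h ∈ C.M ∧ ∀ q ∈ C.E, C.π q ∈ l → C.π (h * q * h⁻¹) = C.π q}
  one_mem' := ⟨one_mem _, fun q _ _ => by simp⟩
  mul_mem' := by
    rintro a b ⟨ha, ha'⟩ ⟨hb, hb'⟩
    refine ⟨mul_mem ha hb, fun q hq hl => ?_⟩
    have e := hb' q hq hl
    rw [show a * b * q * (a * b)⁻¹ = a * (b * q * b⁻¹) * a⁻¹ by group, ha' _ (C.conj_mem hb.1 hq) (e ▸ hl), e]
  inv_mem' := by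
    rintro a ⟨ha, ha'⟩
    refine ⟨inv_mem ha, fun q hq hl => ?_⟩
    have e := C.π_eq (C.conj_mem ha.1 hq) hq (ha' q hq hl)
    rcases e with e | e
    · rw [show a⁻¹ * q * a⁻¹⁻¹ = q by
        conv_lhs => rw [← e]
        group]
    · have : a⁻¹ * q * a⁻¹⁻¹ = z * q := by
        have hz : a⁻¹ * z = z * a⁻¹ := (C.z_comm (inv_mem ha.1)).eq
        calc a⁻¹ * q * a⁻¹⁻¹ = a⁻¹ * (z * (z * q)) * a := by rw [← mul_assoc z z, C.X.zz, one_mul, inv_inv]
          _ = a⁻¹ * (z * (a * q * a⁻¹)) * a := by rw [e]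
          _ = (a⁻¹ * z) * a * q := by group
          _ = z * a⁻¹ * a * q := by rw [hz]
          _ = z * q := by group
      rw [this, C.π_z_mul hq]

theorem chain_le : ∀ (L : List (ℕ × List (List ℕ))) (prev : List ℕ), chainOK prev L = true → (∀ x ∈ prev, x ∈ W0) →
    ∃ l, (∀ x ∈ l, x ∈ W0) ∧ (L.map fun c => c.2.length).prod * Nat.card ↥(C.Fx l) ≤ Nat.card ↥(C.Fx prev) := by
  intro L
  induction L with
  | nil => intro prev _ hp; exact ⟨prev, hp, by simp⟩
  | cons c r ih =>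
    intro prev h hp
    simp only [chainOK, Bool.and_eq_true, List.all_eq_true, decide_eq_true_eq, List.contains_iff_mem] at h
    obtain ⟨⟨⟨hb, hw⟩, hnd⟩, hr⟩ := h
    obtain ⟨l, hlW, hl⟩ := ih _ hr (List.forall_mem_cons.mpr ⟨hb, hp⟩)
    refine ⟨l, hlW, ?_⟩
    rw [List.map_cons, List.prod_cons, mul_assoc]
    refine (Nat.mul_le_mul_left _ hl).trans ?_
    have hg : ∀ j : Fin c.2.length, ∃ g ∈ C.Fx prev, RepBy C.E C.π g (wM gens5 c.2[j]) := by
      intro j
      have hj := hw _ (List.getElem_mem j.2)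
      simp only [wordOK, Bool.and_eq_true, List.all_eq_true, decide_eq_true_eq, List.contains_iff_mem, beq_iff_eq] at hj
      obtain ⟨g, hg, hgr⟩ := C.exists_word _ hj.1
      exact ⟨g, ⟨C.mem_M_of_rep hg hgr hj.2.1, fun q hq hl => by rw [hgr q hq]; exact hj.2.2 _ hl⟩, hgr⟩
    choose g hgF hgr using hg
    obtain ⟨q, hq, hπq⟩ := C.π_surj c.1 (W0_spec hb).1
    let f : Fin c.2.length × ↥(C.Fx (c.1 :: prev)) → ↥(C.Fx prev) := fun t =>
      ⟨g t.1 * t.2, mul_mem (hgF t.1) ⟨t.2.2.1, fun q hq hl => t.2.2.2 q hq (List.mem_cons_of_mem _ hl)⟩⟩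
    have hval : ∀ t, C.π ((f t : G) * q * (f t : G)⁻¹) = mv (wM gens5 c.2[t.1]) c.1 := fun t => by
      show C.π (g t.1 * (t.2 : G) * q * (g t.1 * (t.2 : G))⁻¹) = _
      rw [show g t.1 * (t.2 : G) * q * (g t.1 * (t.2 : G))⁻¹ = g t.1 * ((t.2 : G) * q * (t.2 : G)⁻¹) * (g t.1)⁻¹ by group,
        hgr _ _ (C.conj_mem t.2.2.1.1 hq), t.2.2.2 q hq (hπq ▸ List.mem_cons_self), hπq]
    have hf : Function.Injective f := fun a b e => by
      have h := hval a
      rw [e, hval] at h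
      have hab : a.1 = b.1 := Fin.ext ((hnd.getElem_inj_iff (hi := by simp) (hj := by simp)).mp
        (by simpa using h.symm))
      refine Prod.ext hab (Subtype.ext ?_)
      have e' : g a.1 * (a.2 : G) = g b.1 * (b.2 : G) := congrArg Subtype.val e
      rw [hab] at e'
      exact mul_left_cancel e'
    have := Nat.card_le_card_of_injective f hf
    rwa [Nat.card_prod, Nat.card_eq_fintype_card (α := Fin _), Fintype.card_fin] at this

theorem exists_fix_elts : ∃ x : Fin 16 → G, ∀ i, x i ∈ centralizer ({z} : Set G) ∧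
    ∃ n < 256, n ∈ spanL X0.2 ∧ (n = if i.val < 15 then xi i.val else 0) ∧ RepBy C.E C.π (x i) (elt n) := by
  obtain ⟨hxi, -, -⟩ := xi_facts
  have : ∀ i : Fin 16, ∃ g ∈ centralizer ({z} : Set G),
      RepBy C.E C.π g (elt (if i.val < 15 then xi i.val else 0)) := fun i => by
    refine C.exists_elt ?_
    split
    · next h => exact (hxi _ h).1
    · norm_num
  choose x hx hr using this
  refine ⟨x, fun i => ⟨hx i, _, ?_, ?_, rfl, hr i⟩⟩
  all_goals split
  · next h => exact (hxi _ h).1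
  · norm_num
  · next h => exact (hxi _ h).2.1
  · decide +kernel

theorem M_bound : Nat.card ↥C.M * 77 ≤ 8192 * 2661120 := by
  obtain ⟨hlen, hw, hap⟩ := img_ok
  simp only [List.all_eq_true, decide_eq_true_eq] at hw
  have hg : ∀ j : Fin 77, ∃ g ∈ centralizer ({z} : Set G), RepBy C.E C.π g (wM gens5 (imgC.getD j [])) := fun j =>
    C.exists_word _ (all_getD (p := fun w => ∀ i ∈ w, i < 5) hw (lt_of_lt_of_eq j.2 hlen.symm))
  choose g hgH hgr using hg
  have hdist : ∀ i j : Fin 77, i < j → ∀ m ∈ C.M, g i ≠ g j * m := by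
    intro i j hij m hm e
    have h : apart (wM gens5 (imgC.getD i [])) (wM gens5 (imgC.getD j [])) = true :=
      apart_getD (wM gens5) hap hij (lt_of_lt_of_eq j.2 hlen.symm)
    simp only [apart, List.any_eq_true] at h
    obtain ⟨a, ha, b, hb, hab⟩ := h
    obtain ⟨qa, hqa, rfl⟩ := C.π_surj a (W0_spec (w0B_mem ha)).1
    obtain ⟨qb, hqb, rfl⟩ := C.π_surj b (W0_spec (w0B_mem hb)).1
    rw [← hgr i qa hqa, ← hgr j qb hqb] at hab
    have hq := hm.2 qa ⟨hqa, w0B_mem ha⟩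
    have hc : Commute (m * qa * m⁻¹) qb := (C.π_comm _ hq.1 qb hqb).mpr (W0_perp hq.2 (w0B_mem hb))
    have hc2 : Commute (g i * qa * (g i)⁻¹) (g j * qb * (g j)⁻¹) := by
      rw [e, show g j * m * qa * (g j * m)⁻¹ = g j * (m * qa * m⁻¹) * (g j)⁻¹ by group]
      exact hc.map (MulAut.conj (g j))
    rw [(C.π_comm _ (C.conj_mem (hgH i) hqa) _ (C.conj_mem (hgH j) hqb)).mp hc2] at hab
    exact absurd hab (by decide)
  let f : Fin 77 × ↥C.M → ↥(centralizer ({z} : Set G)) := fun t => ⟨g t.1 * t.2, mul_mem (hgH _) t.2.2.1⟩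
  have hf : Function.Injective f := fun a b e => by
    have e' : g a.1 * (a.2 : G) = g b.1 * (b.2 : G) := congrArg Subtype.val e
    rcases lt_trichotomy a.1 b.1 with h | h | h
    · exact absurd (by rw [← mul_assoc, ← e', mul_inv_cancel_right] : g a.1 = g b.1 * ((b.2 : G) * (a.2 : G)⁻¹))
        (hdist _ _ h _ (mul_mem b.2.2 (inv_mem a.2.2)))
    · rw [h] at e'; exact Prod.ext h (Subtype.ext (mul_left_cancel e'))
    · exact absurd (by rw [← mul_assoc, e', mul_inv_cancel_right] : g b.1 = g a.1 * ((a.2 : G) * (b.2 : G)⁻¹))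
        (hdist _ _ h _ (mul_mem a.2.2 (inv_mem b.2.2)))
  have := Nat.card_le_card_of_injective f hf
  rw [Nat.card_prod, Nat.card_eq_fintype_card (α := Fin 77), Fintype.card_fin, C.cardH] at this
  rwa [mul_comm]

theorem M_card : Nat.card ↥C.M = 138240 * 2048 ∧
    ∀ h ∈ C.M, (∀ q ∈ C.Wt, C.π (h * q * h⁻¹) = C.π q) →
      ∃ n < 256, n ∈ spanL X0.2 ∧ RepBy C.E C.π h (elt n) := by
  classical
  obtain ⟨x, hx⟩ := C.exists_fix_elts
  choose n hn hspan hnv hrep using fun i => (hx i).2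
  have hfixW : ∀ i ∈ spanL X0.2, ∀ w ∈ W0, mv (elt i) w = w := by
    have h : ((spanL X0.2).all fun i => W0.all fun w => mv (elt i) w == w) = true := by decide +kernel
    simp only [List.all_eq_true, beq_iff_eq] at h
    exact h
  obtain ⟨l, hlW, hl⟩ := C.chain_le chainC [] chain_ok.1 (List.forall_mem_nil _)
  rw [chain_ok.2] at hl
  have hM := C.M_bound
  have h0 : C.Fx [] ≤ C.M := fun h hh => hh.1
  have hle := Subgroup.card_le_of_le h0
  have hxe : ∀ (i : Fin 16) (e : G), e ∈ C.E → RepBy C.E C.π (x i * e) (elt (n i)) := fun i e he q hq => by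
    rw [C.rep_mul (C.le he) (hrep i) (C.rep_E he) q hq, mv_mm, mv_idM (C.π_lt q)]
  have hfix : ∀ (i : Fin 16) (e : G), e ∈ C.E → x i * e ∈ C.M ∧ ∀ q ∈ C.Wt, C.π (x i * e * q * (x i * e)⁻¹) = C.π q := by
    intro i e he
    have h : ∀ q ∈ C.Wt, C.π (x i * e * q * (x i * e)⁻¹) = C.π q := fun q hq => by
      rw [hxe i e he q hq.1, hfixW _ (hspan i) _ hq.2]
    refine ⟨⟨mul_mem (hx i).1 (C.le he), fun q hq => ⟨C.conj_mem (mul_mem (hx i).1 (C.le he)) hq.1, ?_⟩⟩, h⟩
    rw [h q hq]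
    exact hq.2
  -- the fixers are exactly these
  let K : Subgroup G :=
    { carrier := {h | h ∈ C.M ∧ ∀ q ∈ C.Wt, C.π (h * q * h⁻¹) = C.π q}
      one_mem' := ⟨one_mem _, fun q _ => by simp⟩
      mul_mem' := by
        rintro a b ⟨ha, ha'⟩ ⟨hb, hb'⟩
        refine ⟨mul_mem ha hb, fun q hq => ?_⟩
        rw [show a * b * q * (a * b)⁻¹ = a * (b * q * b⁻¹) * a⁻¹ by group, ha' _ (hb.2 q hq), hb' q hq]
      inv_mem' := by
        rintro a ⟨ha, ha'⟩
        refine ⟨inv_mem ha, fun q hq => ?_⟩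
        have h := ha' _ ((inv_mem ha : a⁻¹ ∈ C.M).2 q hq)
        rwa [show a * (a⁻¹ * q * a⁻¹⁻¹) * a⁻¹ = q by group, eq_comm] at h }
  have hKl : K ≤ C.Fx l := fun h hh => ⟨hh.1, fun q hq hl => hh.2 q ⟨hq, hlW _ hl⟩⟩
  let f : Fin 16 × ↥C.E → ↥K := fun t => ⟨x t.1 * t.2, hfix t.1 t.2 t.2.2⟩
  have hf : Function.Injective f := fun a b e => by
    have e' : x a.1 * (a.2 : G) = x b.1 * (b.2 : G) := congrArg Subtype.val e
    have hv := elt_inj (hn a.1) (hn b.1) (C.rep_unique (e' ▸ hxe a.1 a.2 a.2.2) (hxe b.1 b.2 b.2.2))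
    rw [hnv, hnv] at hv
    have hd : ∀ a < 16, ∀ b < 16, (if a < 15 then xi a else 0) = (if b < 15 then xi b else 0) → a = b := by
      decide +kernel
    have hab : a.1 = b.1 := Fin.ext (hd _ a.1.2 _ b.1.2 hv)
    rw [hab] at e'
    exact Prod.ext hab (Subtype.ext (mul_left_cancel e'))
  have hK := Nat.card_le_card_of_injective f hf
  have hc : Nat.card (Fin 16 × ↥C.E) = 131072 := by rw [Nat.card_prod, Nat.card_eq_fintype_card, Fintype.card_fin, C.card]
  rw [hc] at hK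
  have hK' := Subgroup.card_le_of_le hKl
  refine ⟨by omega, fun h hh hq => ?_⟩
  have hbij : Function.Bijective f :=
    hf.bijective_of_nat_card_le (by rw [hc]; omega)
  obtain ⟨⟨i, e⟩, he⟩ := hbij.2 ⟨h, hh, hq⟩
  refine ⟨n i, hn i, hspan i, ?_⟩
  rw [← show x i * (e : G) = h from congrArg Subtype.val he]
  exact hxe i e e.2

theorem mem_V_of_comm {h : G} (hh : h ∈ centralizer ({z} : Set G)) (hc : ∀ q ∈ C.Wt, Commute h q) : h ∈ C.V := by
  have hfix : ∀ q ∈ C.Wt, h * q * h⁻¹ = q := fun q hq => by rw [(hc q hq).eq, mul_inv_cancel_right]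
  obtain ⟨n, hn, hs, hr⟩ := C.M_card.2 h ⟨hh, fun q hq => (hfix q hq).symm ▸ hq⟩ fun q hq => by rw [hfix q hq]
  exact C.mem_V.mpr ⟨⟨hh, n, hn, hs, hr⟩, hc⟩

theorem Wt_le_V {q : G} (hq : q ∈ C.Wt) : q ∈ C.V :=
  C.mem_V.mpr ⟨⟨C.le hq.1, 0, by norm_num, by decide +kernel, by rw [elt_zero]; exact C.rep_E hq.1⟩,
    fun v hv => (C.π_comm q hq.1 v hv.1).mpr (W0_perp hq.2 hv.2)⟩

theorem mem_Wt_iff {q : G} : q ∈ C.V ⊓ C.E ↔ q ∈ C.Wt :=
  ⟨fun h => ⟨h.2, C.perp_W0 h.2 (C.mem_V.mp h.1).2⟩, fun h => ⟨C.Wt_le_V h, h.1⟩⟩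

theorem V_le_H {v : G} (hv : v ∈ C.V) : v ∈ centralizer ({z} : Set G) := (C.mem_V.mp hv).1.1

theorem V_comm {a b : G} (ha : a ∈ C.V) (hb : b ∈ C.V) : Commute a b :=
  congrArg Subtype.val (C.V_spec.1.1.is_comm.comm (⟨a, ha⟩ : ↥C.V) ⟨b, hb⟩)

theorem V_sq {a : G} (ha : a ∈ C.V) : a * a = 1 := by rw [← pow_two]; exact C.V_spec.1.2 a ha

theorem z_mem_Wt : z ∈ C.Wt := ⟨C.X.mem, by rw [(C.π_zero z C.X.mem).mpr (Or.inr rfl)]; exact W0_zero⟩

theorem centralizer_V : centralizer (C.V : Set G) ≤ C.V := fun _g hg =>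
  C.mem_V_of_comm (mem_centralizer_singleton_iff.mpr ((mem_centralizer_iff.mp hg z (C.Wt_le_V C.z_mem_Wt)).symm))
    fun q hq => (mem_centralizer_iff.mp hg q (C.Wt_le_V hq)).symm

theorem M_conj_V {m v : G} (hm : m ∈ C.M) (hv : v ∈ C.V) : m * v * m⁻¹ ∈ C.V := by
  refine C.mem_V_of_comm (mul_mem (mul_mem hm.1 (C.V_le_H hv)) (inv_mem hm.1)) fun q hq => ?_
  have h := C.V_comm hv (C.Wt_le_V ((inv_mem hm : m⁻¹ ∈ C.M).2 q hq))
  have := h.map (MulAut.conj m)
  simpa [mul_assoc] using this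

theorem M_eq : C.M = normalizer (C.V : Set G) ⊓ centralizer ({z} : Set G) := by
  refine le_antisymm (fun m hm => ⟨Subgroup.mem_normalizer_fintype fun v hv => C.M_conj_V hm hv, hm.1⟩) ?_
  rintro m ⟨hm, hz⟩
  exact ⟨hz, fun q hq => C.mem_Wt_iff.mp ⟨(mem_normalizer_iff.mp hm q).mp (C.Wt_le_V hq), C.conj_mem hz hq.1⟩⟩

theorem card_Wt : Nat.card ↥(C.V ⊓ C.E) = 128 := by
  classical
  have hlen : W0.toFinset.card = 64 := by rw [List.toFinset_card_of_nodup W0_facts.2.1, W0_facts.2.2.1]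
  refine le_antisymm ((C.card_inf_le W0.toFinset fun a ha => List.mem_toFinset.mpr (C.mem_Wt_iff.mp ha).2).trans
    (by rw [hlen])) ?_
  choose sec hsecE hsec using fun v : ↥(W0.toFinset) => C.π_surj v.1 (W0_spec (List.mem_toFinset.mp v.2)).1
  have hb : ∀ b : Bool, (if b then z else 1) ∈ C.E := fun b => by cases b <;> simp [C.X.mem, one_mem]
  have hπ : ∀ (v : ↥(W0.toFinset)) (b : Bool), C.π ((if b then z else 1) * sec v) = v.1 := fun v b => by
    rw [C.π_mul _ (hb b) _ (hsecE v), (C.π_zero _ (hb b)).mpr (by cases b <;> simp), Nat.zero_xor, hsec]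
  let f : ↥(W0.toFinset) × Bool → ↥(C.V ⊓ C.E) := fun t => ⟨(if t.2 then z else 1) * sec t.1,
    C.mem_Wt_iff.mpr ⟨mul_mem (hb t.2) (hsecE t.1), by rw [hπ]; exact List.mem_toFinset.mp t.1.2⟩⟩
  have hf : Function.Injective f := by
    rintro ⟨v, b⟩ ⟨v', b'⟩ e
    have e' : (if b then z else 1) * sec v = (if b' then z else 1) * sec v' := congrArg Subtype.val e
    have hv : v = v' := Subtype.ext (by rw [← hπ v b, ← hπ v' b', e'])
    subst hv
    have e3 := mul_right_cancel e'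
    cases b <;> cases b' <;> first | rfl | exact absurd e3 C.X.ne.symm | exact absurd e3 C.X.ne
  have := Nat.card_le_card_of_injective f hf
  rw [Nat.card_prod, Nat.card_eq_fintype_card (α := ↥(W0.toFinset)), Fintype.card_coe, hlen] at this
  simpa using this

end Ctx

end Cfsg.Lib.JankoFour
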