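import Cfsg.Agent.JankoFour.FusionChecks
import Cfsg.Agent.JankoFour.StabData

/-!
Finite checks for the stabiliser of the distinguished fixed space and the orbits of singular vectors.
-/

set_option autoImplicit false
set_option maxRecDepth 100000

namespace Cfsg.Lib.JankoFour

open Data (W0 w0B chainC imgC sTree reps)

/-- The standard maps. -/
def gens5 : List (List ℕ) := [Data.A, Data.B, Data.C, Data.T, Data.OM]

/-- Entry of the forest. -/
def tEnt (x : ℕ) : ℕ := (sTree >>> (8 * x)) % 256

/-- The orbit of a singular vector. -/
def cls (x : ℕ) : ℕ := tEnt x % 2

/-- The step from a singular vector towards its representative. -/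
def tGen (x : ℕ) : ℕ := tEnt x % 16 / 2

/-- The depth in the forest. -/
def tRank (x : ℕ) : ℕ := tEnt x / 16

/-- Validity of one entry. -/
def tOK (x : ℕ) : Bool :=
  x == 0 || qB x || if tRank x == 0 then x == reps.getD (cls x) 0 else
    decide (tGen x < 5) &&
      (fun y => decide (tRank y < tRank x) && cls y == cls x && !qB y && y != 0) (mv (gens5.getD (tGen x) idM) x)

theorem tree_ok : ((List.range 4096).all tOK) = true := by decide +kernel

/-- The members of a class in the distinguished space. -/
def partW (c : ℕ) : List ℕ := W0.filter fun x => x != 0 && cls x == c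

theorem part_facts : (partW 0).length = 45 ∧ (partW 1).length = 18 ∧
    ((partW 1).all fun t => (((partW 1).filter fun v => (partW 1).contains (t ^^^ v))).length == 2) = true := by
  decide +kernel

/-- A word stabilises the distinguished space and fixes a list. -/
def wordOK (prev w : List ℕ) : Bool :=
  w.all (fun i => decide (i < 5)) &&
    (fun M => w0B.all (fun b => W0.contains (mv M b)) && prev.all fun q => mv M q == q) (wM gens5 w)

/-- Validity of a base chain. -/
def chainOK (prev : List ℕ) : List (ℕ × List (List ℕ)) → Bool
  | [] => true
  | c :: r => W0.contains c.1 && c.2.all (wordOK prev) &&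
      decide ((c.2.map fun w => mv (wM gens5 w) c.1).Nodup) && chainOK (c.1 :: prev) r

theorem chain_ok : chainOK [] chainC = true ∧ ((chainC.map fun c => c.2.length).prod = 2160) := by decide +kernel

/-- Two images of the distinguished space contain a non-orthogonal pair. -/
def apart (M N : List ℕ) : Bool := w0B.any fun a => w0B.any fun b => pB (mv M a) (mv N b)

/-- The images in a list are pairwise apart. -/
def apartAll : List (List ℕ) → Bool
  | [] => true
  | M :: r => r.all (apart M) && apartAll r

theorem img_ok : imgC.length = 77 ∧ (imgC.all fun w => w.all fun i => decide (i < 5)) = true ∧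
    apartAll (imgC.map (wM gens5)) = true := by decide +kernel

theorem nor_stab : (Data.nor.all fun t =>
    (fun M => w0B.all fun b => W0.contains (mv M b)) (wM [Data.A, Data.B, Data.C] t.1)) = true := by decide +kernel

theorem lift_image : ((List.range 15).all fun k => Data.innC.any fun c => c.1 == (Data.liftX.getD k (0, 0, [])).1 &&
    (fun l => decide l.Nodup && l.length == 16) (c.2.2.2.map (xm (elt c.1)))) = true := by decide +kernel

theorem w0B_gen : ((spanX w0B).all W0.contains && (W0.all (spanX w0B).contains)) = true := by decide +kernel

end Cfsg.Lib.JankoFour
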