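import Cfsg.Agent.JankoFour.Setting
import Cfsg.Agent.JankoFour.SylowChecks

/-!
A Sylow 2-subgroup of the centraliser of the involution in a group of Janko-four type, described by the table of its
image modulo the extraspecial subgroup; it is a Sylow 2-subgroup of the whole group.
-/

set_option autoImplicit false
set_option maxRecDepth 100000
set_option maxHeartbeats 1000000
set_option linter.style.haveILetI false
set_option linter.unusedSectionVars false

namespace Cfsg.Lib.JankoFour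

open Subgroup
open Data (els)

universe u

variable {G : Type u} [Group G] [Finite G]

theorem list_lt {M : List ℕ} (h : M.all (fun m => decide (m < 4096)) = true) : ∀ m ∈ M, m < 4096 := fun m hm => by
  simpa using List.all_eq_true.mp h m hm

theorem elt_lt (i : ℕ) : ∀ m ∈ elt i, m < 4096 := by
  by_cases hi : i < els.length
  · rw [elt, List.getD_eq_getElem _ _ hi]
    exact list_lt (List.all_eq_true.mp els_lt.1 _ (List.getElem_mem hi))
  · rw [elt, List.getD_eq_default _ _ (not_lt.mp hi)]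
    decide +kernel

/-- Maps with twelve columns agreeing on the whole space are equal. -/
theorem mat_ext {M N : List ℕ} (hM : M.length = 12) (hN : N.length = 12) (h : ∀ x < 4096, mv M x = mv N x) : M = N := by
  have h2pow : ∀ (L : List ℕ) (k : ℕ), mv L (2 ^ k) = L.getD k 0 := by
    intro L
    induction L with
    | nil => intro k; simp [mv]
    | cons m r ih =>
      intro k
      cases k with
      | zero => simp [mv, mv_zero]
      | succ k =>
        have h1 : 2 ^ (k + 1) % 2 = 0 := by rw [pow_succ]; simp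
        have h2 : 2 ^ (k + 1) / 2 = 2 ^ k := by rw [pow_succ]; simp
        simp [mv, h1, h2, ih]
  refine List.ext_getElem (hM.trans hN.symm) fun k hk hk' => ?_
  have := h (2 ^ k) (Nat.pow_lt_pow_right (a := 2) (by norm_num) (show k < 12 by omega))
  rwa [h2pow, h2pow, List.getD_eq_getElem _ _ hk, List.getD_eq_getElem _ _ hk'] at this

theorem els_length : els.length = 256 := by
  have h := table_check
  simp only [Bool.and_eq_true, beq_iff_eq] at h
  exact h.1.1.1.1.1

theorem elt_inj {i j : ℕ} (hi : i < 256) (hj : j < 256) (h : ∀ x < 4096, mv (elt i) x = mv (elt j) x) : i = j := by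
  have hl : els.length = 256 := els_length
  have hk : ∀ k < 256, (elt k).length = 12 ∧ elt k = els.getD k idM := fun k hk => ⟨by
    rw [elt, List.getD_eq_getElem _ _ (by omega)]
    exact beq_iff_eq.mp (List.all_eq_true.mp els_faithful _ (List.getElem_mem _)), rfl⟩
  have he := mat_ext (hk i hi).1 (hk j hj).1 h
  rw [elt, elt, List.getD_eq_getElem _ _ (by omega), List.getD_eq_getElem _ _ (by omega)] at he
  exact (els_lt.2.getElem_inj_iff).mp he

namespace Ctx

variable {z : G} {P : Subgroup G} (C : Ctx z P)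

include C

theorem conj_mem {h q : G} (hh : h ∈ centralizer ({z} : Set G)) (hq : q ∈ C.E) : h * q * h⁻¹ ∈ C.E :=
  (mem_normalizer_iff.mp (C.nQ hh) q).mp hq

theorem rep_one : RepBy C.E C.π 1 idM := fun q hq => by
  rw [one_mul, inv_one, mul_one, mv_idM (C.π_lt q)]

theorem rep_mul {g h : G} {M N : List ℕ} (hh : h ∈ centralizer ({z} : Set G)) (hg : RepBy C.E C.π g M)
    (hr : RepBy C.E C.π h N) : RepBy C.E C.π (g * h) (mm M N) := fun q hq => by
  rw [mv_mm, ← hr q hq, ← hg _ (C.conj_mem hh hq)]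
  congr 1; group

theorem rep_pow {g : G} {M : List ℕ} (hh : g ∈ centralizer ({z} : Set G)) (hg : RepBy C.E C.π g M) (k : ℕ) :
    RepBy C.E C.π (g ^ k) (mpow M k) := by
  induction k with
  | zero => rw [pow_zero]; exact C.rep_one
  | succ k ih => rw [pow_succ]; exact C.rep_mul hh ih hg

theorem rep_E {e : G} (he : e ∈ C.E) : RepBy C.E C.π e idM := fun q hq => by
  rw [mv_idM (C.π_lt q)]
  rcases C.X.conj_cases he hq with e' | e'
  · rw [e']
  · rw [e', C.π_mul z C.X.mem q hq, (C.π_zero z C.X.mem).mpr (Or.inr rfl), Nat.zero_xor]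

theorem rep_unique {g : G} {M N : List ℕ} (hM : RepBy C.E C.π g M) (hN : RepBy C.E C.π g N) :
    ∀ x < 4096, mv M x = mv N x := fun x hx => by
  obtain ⟨q, hq, rfl⟩ := C.π_surj x hx
  rw [← hM q hq, hN q hq]

theorem rep_quot {g h : G} {M : List ℕ} (hg : g ∈ centralizer ({z} : Set G)) (hh : h ∈ centralizer ({z} : Set G))
    (hM : RepBy C.E C.π g M) (hN : RepBy C.E C.π h M) : h⁻¹ * g ∈ C.E := by
  refine C.ker _ (mul_mem (inv_mem hh) hg) fun q hq => ?_
  obtain ⟨hq', hq''⟩ : h⁻¹ * (g * q * g⁻¹) * h ∈ C.E ∧ g * q * g⁻¹ ∈ C.E :=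
    ⟨by simpa using C.conj_mem (inv_mem hh) (C.conj_mem hg hq), C.conj_mem hg hq⟩
  have e1 : h⁻¹ * g * q * (h⁻¹ * g)⁻¹ = h⁻¹ * (g * q * g⁻¹) * h := by group
  rw [e1]
  have h2 := hN _ hq'
  rw [show h * (h⁻¹ * (g * q * g⁻¹) * h) * h⁻¹ = g * q * g⁻¹ by group, hM q hq] at h2
  -- the map is injective
  let S : Fin 4096 → Fin 4096 := fun x => if hx : mv M x.val < 4096 then ⟨_, hx⟩ else x
  have hs : ∀ x < 4096, mv M x < 4096 ∧ ∃ y < 4096, mv M y = x := fun x hx => by
    obtain ⟨r, hr, rfl⟩ := C.π_surj x hx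
    refine ⟨by rw [← hM r hr]; exact C.π_lt _, C.π (g⁻¹ * r * g), C.π_lt _, ?_⟩
    have hr' : g⁻¹ * r * g ∈ C.E := by simpa using C.conj_mem (inv_mem hg) hr
    rw [← hM _ hr']
    congr 1; group
  have hsurj : Function.Surjective S := fun x => by
    obtain ⟨y, hy, e⟩ := (hs x.val x.2).2
    exact ⟨⟨y, hy⟩, Fin.ext (by simp only [S, dif_pos (hs y hy).1]; exact e)⟩
  have hinj := Finite.injective_iff_surjective.mpr hsurj
  have := @hinj ⟨_, C.π_lt q⟩ ⟨_, C.π_lt (h⁻¹ * (g * q * g⁻¹) * h)⟩ (Fin.ext (by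
    simp only [S, dif_pos (hs _ (C.π_lt _)).1]; exact h2))
  exact (congrArg Fin.val this).symm

/-- An element of the centraliser with the given inner word. -/
theorem exists_inner (w : List ℕ) (k : ℕ) (hw : ∀ i ∈ w, i < 3) : ∃ g ∈ centralizer ({z} : Set G), Commute g C.p ∧
    RepBy C.E C.π g (mm (mpow Data.OM k) (wM [Data.A, Data.B, Data.C] w)) := by
  suffices h : ∃ g ∈ centralizer ({z} : Set G), Commute g C.p ∧ RepBy C.E C.π g (wM [Data.A, Data.B, Data.C] w) by
    obtain ⟨g, hg, hc, hr⟩ := h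
    exact ⟨C.p ^ k * g, mul_mem (pow_mem C.pH k) hg, ((Commute.refl C.p).pow_left k).mul_left hc,
      C.rep_mul hg (C.rep_pow C.pH C.rep_p k) hr⟩
  induction w with
  | nil => exact ⟨1, one_mem _, Commute.one_left _, C.rep_one⟩
  | cons i r ih =>
    obtain ⟨g, hg, hc, hr⟩ := ih fun j hj => hw j (List.mem_cons_of_mem _ hj)
    obtain ⟨ha, hb, hcc, -⟩ := C.memH
    obtain ⟨c1, c2, c3, -⟩ := C.comm_p
    rcases (show i = 0 ∨ i = 1 ∨ i = 2 by have := hw i List.mem_cons_self; omega) with rfl | rfl | rfl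
    · exact ⟨C.ga * g, mul_mem ha hg, c1.mul_left hc, C.rep_mul hg C.rep_a hr⟩
    · exact ⟨C.gb * g, mul_mem hb hg, c2.mul_left hc, C.rep_mul hg C.rep_b hr⟩
    · exact ⟨C.gc * g, mul_mem hcc hg, c3.mul_left hc, C.rep_mul hg C.rep_c hr⟩

theorem exists_sgen (k : ℕ) : ∃ g ∈ centralizer ({z} : Set G), RepBy C.E C.π g (sgen k) := by
  obtain ⟨ha, hb, hc, ht⟩ := C.memH
  have hw : ∀ w : List ℕ, ∃ g ∈ centralizer ({z} : Set G),
      RepBy C.E C.π g (wM [Data.A, Data.B, Data.C, Data.T] w) := by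
    intro w
    induction w with
    | nil => exact ⟨1, one_mem _, C.rep_one⟩
    | cons i r ih =>
      obtain ⟨g, hg, hr⟩ := ih
      match i with
      | 0 => exact ⟨C.ga * g, mul_mem ha hg, C.rep_mul hg C.rep_a hr⟩
      | 1 => exact ⟨C.gb * g, mul_mem hb hg, C.rep_mul hg C.rep_b hr⟩
      | 2 => exact ⟨C.gc * g, mul_mem hc hg, C.rep_mul hg C.rep_c hr⟩
      | 3 => exact ⟨C.gt * g, mul_mem ht hg, C.rep_mul hg C.rep_t hr⟩
      | i + 4 => exact ⟨1 * g, mul_mem (one_mem _) hg, C.rep_mul hg C.rep_one hr⟩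
  obtain ⟨g, hg, hr⟩ := hw (Data.sw.getD k (0, [])).2
  exact ⟨C.p ^ (Data.sw.getD k (0, [])).1 * g, mul_mem (pow_mem C.pH _) hg, C.rep_mul hg (C.rep_pow C.pH C.rep_p _) hr⟩

omit C in
theorem tree (j : ℕ) (hj0 : 0 < j) (hj : j < 256) : ∃ p k : ℕ, p < j ∧ k < 6 ∧
    ∀ i < 256, mul8 i j = col8 k (mul8 i p) := by
  have h := table_check
  simp only [Bool.and_eq_true, List.all_eq_true, List.mem_range, beq_iff_eq, decide_eq_true_eq] at h
  have h' := fun i hi => (h.2 i hi).2 (j - 1) (by omega)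
  simp only [show j - 1 + 1 = j by omega] at h'
  exact ⟨_, _, (h' 0 (by norm_num)).1.1, (h' 0 (by norm_num)).1.2, fun i hi => (h' i hi).2⟩

omit C in
theorem mul8_zero {i : ℕ} (hi : i < 256) : mul8 i 0 = i := by
  have h := table_check
  simp only [Bool.and_eq_true, List.all_eq_true, List.mem_range, beq_iff_eq] at h
  exact (h.2 i hi).1

omit C in
theorem gen_eq {i k : ℕ} (hi : i < 256) (hk : k < 6) : mm (elt i) (sgen k) = elt (col8 k i) := by
  have h := gen_check
  simp only [List.all_eq_true, List.mem_range, beq_iff_eq] at h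
  exact h i hi k hk

omit C in
theorem mul8_lt (i j : ℕ) : mul8 i j < 256 := Nat.mod_lt _ (by norm_num)

omit C in
theorem mul8_spec {i j : ℕ} (hi : i < 256) (hj : j < 256) :
    ∀ x < 4096, mv (elt (mul8 i j)) x = mv (elt i) (mv (elt j) x) := by
  have h0 : elt 0 = idM := by
    have h := table_check
    simp only [Bool.and_eq_true, beq_iff_eq] at h
    exact h.1.2
  induction j using Nat.strong_induction_on generalizing i with
  | _ j ih =>
    intro x hx
    rcases Nat.eq_zero_or_pos j with rfl | hj0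
    · rw [mul8_zero hi, h0, mv_idM hx]
    obtain ⟨p, k, hp, hk, e⟩ := tree j hj0 hj
    have hp' : p < 256 := by omega
    have e0 := e 0 (by norm_num)
    have h0j : ∀ i < 256, ∀ y < 4096, mv (elt (mul8 i p)) y = mv (elt i) (mv (elt p) y) := fun i hi => ih p hp hi hp'
    have hz : ∀ m < 256, mul8 0 m = m := by
      intro m hm
      have h : ∀ m < 256, mul8 0 m = m := by decide +kernel
      exact h m hm
    rw [hz j hj, hz p hp'] at e0
    have hsl : ∀ m ∈ sgen k, m < 4096 := by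
      have h : ∀ k < 6, ∀ m ∈ sgen k, m < 4096 := by decide +kernel
      exact h k hk
    rw [e i hi, ← gen_eq (mul8_lt i p) hk, mv_mm, h0j i hi _ (mv_lt (n := 12) hsl _), e0, ← gen_eq hp' hk, mv_mm]

/-- The elements realised. -/
theorem exists_elt {i : ℕ} (hi : i < 256) : ∃ g ∈ centralizer ({z} : Set G), RepBy C.E C.π g (elt i) := by
  induction i using Nat.strong_induction_on with
  | _ i ih =>
    rcases Nat.eq_zero_or_pos i with rfl | hi0
    · have h0 : elt 0 = idM := by
        have h := table_check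
        simp only [Bool.and_eq_true, beq_iff_eq] at h
        exact h.1.2
      exact ⟨1, one_mem _, h0 ▸ C.rep_one⟩
    · obtain ⟨p, k, hp, hk, e⟩ := tree i hi0 hi
      have hz : ∀ m < 256, mul8 0 m = m := by decide +kernel
      have e0 := e 0 (by norm_num)
      rw [hz i hi, hz p (by omega)] at e0
      obtain ⟨g, hg, hr⟩ := ih p hp (by omega)
      obtain ⟨s, hs, hsr⟩ := C.exists_sgen k
      refine ⟨g * s, mul_mem hg hs, ?_⟩
      rw [e0, ← gen_eq (show p < 256 by omega) hk]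
      exact C.rep_mul hs hr hsr

/-- The elements acting by elements of the table. -/
def Sset : Set G := {h | h ∈ centralizer ({z} : Set G) ∧ ∃ i < 256, RepBy C.E C.π h (elt i)}

theorem Sset_mul {g h : G} {i j : ℕ} (hi : i < 256) (hj : j < 256) (hh : h ∈ centralizer ({z} : Set G))
    (hgi : RepBy C.E C.π g (elt i)) (hhj : RepBy C.E C.π h (elt j)) : RepBy C.E C.π (g * h) (elt (mul8 i j)) :=
  fun q hq => by rw [mul8_spec hi hj _ (C.π_lt q), ← mv_mm]; exact C.rep_mul hh hgi hhj q hq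

/-- The Sylow subgroup. -/
def S : Subgroup G where
  carrier := C.Sset
  one_mem' := by
    obtain ⟨g, hg, hr⟩ := C.exists_elt (show 0 < 256 by norm_num)
    refine ⟨one_mem _, 0, by norm_num, ?_⟩
    have h0 : elt 0 = idM := by
      have h := table_check
      simp only [Bool.and_eq_true, beq_iff_eq] at h
      exact h.1.2
    rw [h0]; exact C.rep_one
  mul_mem' := by
    rintro g h ⟨hg, i, hi, hri⟩ ⟨hh, j, hj, hrj⟩
    exact ⟨mul_mem hg hh, mul8 i j, mul8_lt i j, C.Sset_mul hi hj hh hri hrj⟩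
  inv_mem' := by
    rintro g ⟨hg, i, hi, hri⟩
    have hpow : ∀ n : ℕ, g ^ n ∈ C.Sset := by
      intro n
      induction n with
      | zero =>
        refine ⟨by simp, 0, by norm_num, ?_⟩
        have h0 : elt 0 = idM := by
          have h := table_check
          simp only [Bool.and_eq_true, beq_iff_eq] at h
          exact h.1.2
        rw [pow_zero, h0]; exact C.rep_one
      | succ n ih =>
        obtain ⟨hn, j, hj, hrj⟩ := ih
        rw [pow_succ]
        exact ⟨mul_mem hn hg, mul8 j i, mul8_lt j i, C.Sset_mul hj hi hg hrj hri⟩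
    have e : g⁻¹ = g ^ (orderOf g - 1) := by
      refine inv_eq_of_mul_eq_one_right ?_
      rw [← pow_succ', Nat.sub_add_cancel (orderOf_pos g), pow_orderOf_eq_one]
    rw [e]; exact hpow _

theorem mem_S {h : G} : h ∈ C.S ↔ h ∈ centralizer ({z} : Set G) ∧ ∃ i < 256, RepBy C.E C.π h (elt i) := Iff.rfl

theorem E_le_S : C.E ≤ C.S := fun e he => by
  refine C.mem_S.mpr ⟨C.le he, 0, by norm_num, ?_⟩
  have h0 : elt 0 = idM := by
    have h := table_check
    simp only [Bool.and_eq_true, beq_iff_eq] at h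
    exact h.1.2
  rw [h0]; exact C.rep_E he

theorem card_S : Nat.card ↥C.S = 2 ^ 21 := by
  classical
  choose idx hidx hrep using fun h : ↥C.S => (C.mem_S.mp h.2).2
  choose sec hsecH hsec using fun i : Fin 256 => C.exists_elt i.2
  have hf : ∀ (h : ↥C.S), (sec ⟨idx h, hidx h⟩)⁻¹ * (h : G) ∈ C.E := fun h =>
    C.rep_quot (C.mem_S.mp h.2).1 (hsecH _) (hrep h) (hsec _)
  let f : ↥C.S → Fin 256 × ↥C.E := fun h => (⟨idx h, hidx h⟩, ⟨_, hf h⟩)
  have hbij : Function.Bijective f := by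
    constructor
    · intro a b e
      simp only [f, Prod.mk.injEq, Fin.mk.injEq, Subtype.mk.injEq] at e
      obtain ⟨e1, e2⟩ := e
      have e3 : sec ⟨idx a, hidx a⟩ = sec ⟨idx b, hidx b⟩ := by simp only [e1]
      rw [e3] at e2
      exact Subtype.ext (mul_left_cancel e2)
    · rintro ⟨i, e, he⟩
      have hm : sec i * e ∈ C.S := by
        refine C.mem_S.mpr ⟨mul_mem (hsecH i) (C.le he), i.val, i.2, fun q hq => ?_⟩
        rw [C.rep_mul (C.le he) (hsec i) (C.rep_E he) q hq, mv_mm, mv_idM (C.π_lt q)]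
      refine ⟨⟨_, hm⟩, ?_⟩
      have hi : idx ⟨_, hm⟩ = i.val := elt_inj (hidx _) i.2 (C.rep_unique (hrep _) fun q hq => by
        show C.π (sec i * e * q * (sec i * e)⁻¹) = _
        rw [C.rep_mul (C.le he) (hsec i) (C.rep_E he) q hq, mv_mm, mv_idM (C.π_lt q)])
      simp only [f, Prod.mk.injEq, Subtype.mk.injEq]
      refine ⟨Fin.ext hi, ?_⟩
      rw [show (⟨idx ⟨_, hm⟩, hidx _⟩ : Fin 256) = i from Fin.ext hi, inv_mul_cancel_left]
  rw [Nat.card_congr (Equiv.ofBijective f hbij), Nat.card_prod, C.card, Nat.card_eq_fintype_card, Fintype.card_fin]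
  norm_num

theorem sylow : ∃ T : Sylow 2 G, (T : Subgroup G) = C.S := by
  have hp : IsPGroup 2 ↥C.S := IsPGroup.of_card C.card_S
  obtain ⟨T, hT⟩ := hp.exists_le_sylow
  refine ⟨T, ?_⟩
  by_contra hne
  have hlt : C.S < (T : Subgroup G) := lt_of_le_of_ne hT (Ne.symm hne)
  haveI : Fact (Nat.Prime 2) := ⟨Nat.prime_two⟩
  haveI : Group.IsNilpotent ↥(T : Subgroup G) := T.2.isNilpotent
  have hn := normalizerCondition_of_isNilpotent (G := ↥(T : Subgroup G)) (C.S.subgroupOf (T : Subgroup G)) (lt_top_iff_ne_top.mpr fun h =>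
    absurd (subgroupOf_eq_top.mp h) (not_le_of_gt hlt))
  obtain ⟨⟨x, hxT⟩, hx, hxS⟩ := SetLike.exists_of_lt hn
  have hxn : ∀ s, s ∈ C.S → x * s * x⁻¹ ∈ C.S := fun s hs => by
    have := (mem_normalizer_iff.mp hx ⟨s, hT hs⟩).mp (mem_subgroupOf.mpr hs)
    simpa [mem_subgroupOf] using this
  have hmap : C.S.map (MulAut.conj x).toMonoidHom = C.S := by
    refine eq_of_le_of_card_ge ?_ (le_of_eq (card_map_of_injective (MulAut.conj x).injective).symm)
    rintro _ ⟨s, hs, rfl⟩
    exact hxn s hs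
  have hxz : x * z * x⁻¹ ∈ C.E := by
    refine C.cQ (mem_centralizer_iff.mpr fun e he => ?_)
    obtain ⟨e', he', ee⟩ : e ∈ C.S.map (MulAut.conj x).toMonoidHom := by rw [hmap]; exact C.E_le_S he
    have hzc : Commute e' z := mem_centralizer_singleton_iff.mp (C.mem_S.mp he').1
    rw [← ee]
    show x * e' * x⁻¹ * (x * z * x⁻¹) = x * z * x⁻¹ * (x * e' * x⁻¹)
    rw [show x * e' * x⁻¹ * (x * z * x⁻¹) = x * (e' * z) * x⁻¹ by group, hzc.eq]
    group
  have hfix : x * z * x⁻¹ = z := by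
    refine (C.X.cen _ hxz fun a ha => ?_).resolve_left fun e => C.X.ne (by simpa using e)
    obtain ⟨e', he', ee⟩ : a ∈ C.S.map (MulAut.conj x).toMonoidHom := by rw [hmap]; exact C.E_le_S ha
    have hzc : Commute e' z := mem_centralizer_singleton_iff.mp (C.mem_S.mp he').1
    rw [← ee]
    show x * e' * x⁻¹ * (x * z * x⁻¹) = x * z * x⁻¹ * (x * e' * x⁻¹)
    rw [show x * e' * x⁻¹ * (x * z * x⁻¹) = x * (e' * z) * x⁻¹ by group, hzc.eq]
    group
  have hxH : x ∈ centralizer ({z} : Set G) := mem_centralizer_singleton_iff.mpr (mul_inv_eq_iff_eq_mul.mp hfix)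
  have hle : C.S ⊔ zpowers x ≤ (T : Subgroup G) ⊓ centralizer ({z} : Set G) :=
    sup_le (le_inf hT fun s hs => (C.mem_S.mp hs).1) (zpowers_le.mpr ⟨hxT, hxH⟩)
  have hgt : C.S < (T : Subgroup G) ⊓ centralizer ({z} : Set G) := lt_of_le_of_ne (le_sup_left.trans hle) fun e =>
    hxS (mem_subgroupOf.mpr (e ▸ (⟨hxT, hxH⟩ : x ∈ (T : Subgroup G) ⊓ centralizer ({z} : Set G))))
  have hp2 : IsPGroup 2 ↥((T : Subgroup G) ⊓ centralizer ({z} : Set G)) := T.2.to_le inf_le_left
  obtain ⟨n, hn'⟩ := hp2.exists_card_eq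
  have hd : Nat.card ↥((T : Subgroup G) ⊓ centralizer ({z} : Set G)) ∣ 8192 * 2661120 :=
    C.cardH ▸ card_dvd_of_le inf_le_right
  have hlt' : 2 ^ 21 < 2 ^ n := by
    rw [← hn', ← C.card_S]
    exact lt_of_le_of_ne (Nat.le_of_dvd Nat.card_pos (card_dvd_of_le hgt.le))
      fun e => hgt.ne (eq_of_le_of_card_ge hgt.le e.ge)
  have h22 : 2 ^ 22 ∣ 8192 * 2661120 :=
    dvd_trans (pow_dvd_pow 2 ((Nat.pow_lt_pow_iff_right (by norm_num)).mp hlt')) (hn' ▸ hd)
  norm_num at h22

end Ctx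

end Cfsg.Lib.JankoFour
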