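import Cfsg.Agent.JankoFour.CentralP
import Cfsg.Agent.JankoFour.MathieuThree
import Cfsg.Agent.Fusion.ExceptionShape

/-!
A Sylow 3-subgroup and its normaliser.
-/

set_option autoImplicit false
set_option maxRecDepth 100000
set_option linter.style.haveILetI false
set_option linter.unusedSectionVars false

namespace Cfsg.Lib.JankoFour

open Subgroup
open scoped commutatorElement

universe u

variable {G : Type u} [Group G] [Finite G]

namespace Ctx

variable {z : G} {P : Subgroup G} (C : Ctx z P)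

include C

theorem exists_hom_K : ∃ φ : ↥(centralizer ({z} : Set G) ⊓ centralizer (P : Set G)) →* Spor.M22,
    Function.Surjective φ ∧ (∀ x, MulAut.conj (φ x) = C.ψ (Subgroup.inclusion inf_le_left x)) ∧
    Nat.card ↥φ.ker = 6 ∧ ∀ x ∈ φ.ker, ∃ k : ℕ, (x : G) = C.p ^ k ∨ (x : G) = z * C.p ^ k := by
  classical
  set K := centralizer ({z} : Set G) ⊓ centralizer (P : Set G) with hK
  have hKH : K ≤ centralizer ({z} : Set G) := inf_le_left
  let α : ↥K →* ↥(MulAut.conj : Spor.M22 →* MulAut Spor.M22).range :=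
    (C.ψ.comp (Subgroup.inclusion hKH)).codRestrict _ fun x => by
      obtain ⟨m, hm⟩ := C.psi_inn (h := Subgroup.inclusion hKH x) (C.mem_K.mp x.2).2
      exact ⟨m, hm.symm⟩
  let φ : ↥K →* Spor.M22 := (MonoidHom.ofInjective conjM22_injective).symm.toMonoidHom.comp α
  have hφ : ∀ x : ↥K, MulAut.conj (φ x) = C.ψ (Subgroup.inclusion hKH x) := fun x => by
    have h := congrArg Subtype.val ((MonoidHom.ofInjective conjM22_injective).apply_symm_apply (α x))
    rw [MonoidHom.ofInjective_apply] at h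
    exact h
  have hsurj : Function.Surjective φ := fun m => by
    obtain ⟨h, hh, e⟩ := C.psi_surj_K m
    exact ⟨⟨h, hh⟩, conjM22_injective ((hφ _).trans e)⟩
  have hsmall : ∀ x ∈ φ.ker, ∃ k : ℕ, (x : G) = C.p ^ k ∨ (x : G) = z * C.p ^ k := fun x hx =>
    C.psi_one (h := Subgroup.inclusion hKH x) (C.mem_K.mp x.2).2
      (by rw [← hφ, MonoidHom.mem_ker.mp hx, map_one])
  refine ⟨φ, hsurj, hφ, ?_, hsmall⟩
  have hzK : z ∈ K := C.mem_K.mpr ⟨mem_centralizer_singleton_iff.mpr rfl, (C.z_comm C.pH).symm⟩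
  have hpK : C.p ∈ K := C.mem_K.mpr ⟨C.pH, Commute.refl _⟩
  let g : ↥K := ⟨z * C.p, mul_mem hzK hpK⟩
  have hzp : Commute z C.p := (C.z_comm C.pH).symm
  have hgo : orderOf g = 6 := by
    rw [← Subgroup.orderOf_coe]
    show orderOf (z * C.p) = 6
    rw [hzp.orderOf_mul_eq_mul_orderOf_of_coprime (by rw [C.hz, C.ord]; norm_num), C.hz, C.ord]
  have hp3 : C.p ^ 3 = 1 := C.ord ▸ pow_orderOf_eq_one C.p
  have hz2 : z ^ 2 = 1 := C.hz ▸ pow_orderOf_eq_one z
  have hg4 : (z * C.p) ^ 4 = C.p := by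
    rw [hzp.mul_pow, show (4 : ℕ) = 2 * 2 from rfl, pow_mul, hz2, one_pow, one_mul,
      show 2 * 2 = 3 + 1 from rfl, pow_succ, hp3, one_mul]
  have hg3 : (z * C.p) ^ 3 = z := by
    rw [hzp.mul_pow, hp3, mul_one, pow_succ, hz2, one_mul]
  have hker : φ.ker = zpowers g := by
    refine le_antisymm (fun x hx => ?_) (zpowers_le.mpr (MonoidHom.mem_ker.mpr (M22_center fun m => ?_)))
    · obtain ⟨k, e | e⟩ := hsmall x hx
      · rw [show x = g ^ (4 * k) from Subtype.ext (by
          rw [Subgroup.coe_pow]; show (x : G) = (z * C.p) ^ (4 * k); rw [pow_mul, hg4, e])]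
        exact pow_mem (mem_zpowers g) _
      · rw [show x = g ^ (3 + 4 * k) from Subtype.ext (by
          rw [Subgroup.coe_pow]; show (x : G) = (z * C.p) ^ (3 + 4 * k); rw [pow_add, pow_mul, hg4, hg3, e])]
        exact pow_mem (mem_zpowers g) _
    · obtain ⟨y, rfl⟩ := hsurj m
      rw [← map_mul, ← map_mul]
      refine congrArg φ (Subtype.ext ?_)
      obtain ⟨hyH, hyp⟩ := C.mem_K.mp y.2
      show z * C.p * y = y * (z * C.p)
      exact ((C.z_comm hyH).mul_right hyp).eq.symm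
  rw [hker, Nat.card_zpowers, hgo]

theorem exists_sylow_three [IsSimpleGroup G] (hG : ¬ IsMulCommutative G)
    (hP : P ≤ ⁅centralizer ({z} : Set G) ⊓ centralizer (P : Set G), centralizer ({z} : Set G) ⊓ centralizer (P : Set G)⁆) :
    ∃ R : Subgroup G, P ≤ R ∧ R ≤ centralizer ({z} : Set G) ⊓ centralizer (P : Set G) ∧ Nat.card ↥R = 27 ∧
      (∃ a ∈ R, ∃ b ∈ R, a * b ≠ b * a) ∧ (∀ x ∈ R, x ^ 3 = 1) ∧
      (∀ x ∈ R, (∀ y ∈ R, y * x = x * y) → x ∈ P) ∧
      normalizer (R : Set G) ≤ centralizer ({z} : Set G) ∧ Nat.card ↥(normalizer (R : Set G)) = 864 := by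
  classical
  haveI : Fact (Nat.Prime 3) := ⟨Nat.prime_three⟩
  have hperf := C.K_perfect hG hP
  set K := centralizer ({z} : Set G) ⊓ centralizer (P : Set G) with hK
  obtain ⟨φ, hsurj, hk6, hsmall⟩ : ∃ φ : ↥K →* Spor.M22, Function.Surjective φ ∧ Nat.card ↥φ.ker = 6 ∧
      ∀ x ∈ φ.ker, ∃ k : ℕ, (x : G) = C.p ^ k ∨ (x : G) = z * C.p ^ k := by
    obtain ⟨φ, h1, -, h2, h3⟩ := C.exists_hom_K
    exact ⟨φ, h1, h2, h3⟩
  have hcardK : Nat.card ↥K = 443520 * 6 := by
    rw [card_eq_card_quotient_mul_card_subgroup φ.ker, hk6,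
      Nat.card_congr (QuotientGroup.quotientKerEquivOfSurjective φ hsurj).toEquiv, Cfsg.Lib.Golay.card_M22]
  let R' : Sylow 3 ↥K := default
  have hR27 : Nat.card ↥(R' : Subgroup ↥K) = 27 := by
    rw [R'.card_eq_multiplicity, hcardK, show (443520 : ℕ) * 6 = 3 ^ 3 * 98560 by norm_num,
      Nat.factorization_mul (by norm_num) (by norm_num), Finsupp.add_apply,
      Nat.factorization_eq_zero_of_not_dvd (by norm_num : ¬ 3 ∣ 98560), Nat.prime_three.factorization_pow,
      Finsupp.single_eq_same, add_zero]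
    rfl
  have hp3 : C.p ^ 3 = 1 := C.ord ▸ pow_orderOf_eq_one C.p
  have hpK : C.p ∈ K := C.mem_K.mpr ⟨C.pH, Commute.refl _⟩
  let p' : ↥K := ⟨C.p, hpK⟩
  have hp'c : ∀ y : ↥K, y * p' = p' * y := fun y => Subtype.ext (C.mem_K.mp y.2).2.eq
  have hp'R : p' ∈ (R' : Subgroup ↥K) := by
    haveI : (zpowers p').Normal := ⟨fun a ha y => by
      obtain ⟨i, rfl⟩ := mem_zpowers_iff.mp ha
      rw [((show Commute y p' from hp'c y).zpow_right i).eq, mul_inv_cancel_right]
      exact zpow_mem (mem_zpowers p') i⟩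
    have hpg : IsPGroup 3 ↥(zpowers p') := IsPGroup.of_card (n := 1) (by
      rw [Nat.card_zpowers, ← Subgroup.orderOf_coe, pow_one]; exact C.ord)
    rw [← R'.is_maximal' (R'.isPGroup'.to_sup_of_normal_right hpg) le_sup_left]
    exact mem_sup_right (mem_zpowers p')
  -- the image
  set Q := (R' : Subgroup ↥K).map φ with hQdef
  let f := φ.comp (R' : Subgroup ↥K).subtype
  have hprod := (card_eq_card_quotient_mul_card_subgroup f.ker).symm
  rw [Nat.card_congr (QuotientGroup.quotientKerEquivRange f).toEquiv, hR27] at hprod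
  have hrange : f.range = Q := by
    rw [hQdef, MonoidHom.range_eq_map, ← Subgroup.map_map, ← MonoidHom.range_eq_map, Subgroup.range_subtype]
  rw [hrange] at hprod
  have hk3 : Nat.card ↥f.ker ∣ 3 := by
    refine (show Nat.card ↥f.ker ∣ Nat.gcd 27 6 from Nat.dvd_gcd (Dvd.intro_left _ hprod) ?_)
    rw [← hk6, ← Subgroup.card_map_of_injective (f := (R' : Subgroup ↥K).subtype) Subtype.val_injective]
    refine Subgroup.card_dvd_of_le ?_
    rintro _ ⟨x, hx, rfl⟩
    exact hx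
  have hQ9 : Nat.card ↥Q = 9 := by
    have hd : Nat.card ↥Q ∣ 9 := by
      refine (show Nat.card ↥Q ∣ Nat.gcd 27 443520 from Nat.dvd_gcd (Dvd.intro _ hprod) ?_)
      rw [← Cfsg.Lib.Golay.card_M22]
      exact card_subgroup_dvd_card Q
    have h1 := Nat.le_of_dvd (by norm_num) hd
    have h2 := Nat.le_of_dvd (by norm_num) hk3
    nlinarith
  obtain ⟨hN72, hQreal⟩ := M22_sylow_three Q hQ9
  have hRker : ∀ x ∈ (R' : Subgroup ↥K), φ x = 1 → x ∈ zpowers p' := by
    intro x hx h1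
    have h9 : x ^ 27 = 1 := by
      have h := congrArg Subtype.val (pow_card_eq_one' (x := (⟨x, hx⟩ : ↥(R' : Subgroup ↥K))))
      rw [hR27, SubmonoidClass.coe_pow] at h
      exact h
    obtain ⟨k, e | e⟩ := hsmall x h1
    · rw [show x = p' ^ k from Subtype.ext (by rw [Subgroup.coe_pow]; exact e)]
      exact pow_mem (mem_zpowers p') k
    · exfalso
      have h := congrArg Subtype.val h9
      rw [Subgroup.coe_pow, e, (C.z_comm C.pH).symm.pow_right k |>.mul_pow, ← pow_mul, mul_comm k, pow_mul,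
        show (27 : ℕ) = 3 * 9 from rfl, pow_mul C.p 3 9, hp3, one_pow, one_pow, mul_one,
        show 3 * 9 = 2 * 13 + 1 from rfl, pow_succ, pow_mul, pow_two, C.X.zz, one_pow, one_mul] at h
      exact C.X.ne h
  have hnonab : ∃ a ∈ (R' : Subgroup ↥K), ∃ b ∈ (R' : Subgroup ↥K), a * b ≠ b * a := by
    by_contra! hab
    letI : CommGroup ↥(R' : Subgroup ↥K) :=
      { (inferInstance : Group ↥(R' : Subgroup ↥K)) with mul_comm := fun a b => Subtype.ext (hab a a.2 b b.2) }
    let τ := MonoidHom.transfer (MonoidHom.id ↥(R' : Subgroup ↥K))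
    have htop : commutator ↥K = ⊤ := Subgroup.map_injective K.subtype_injective (by
      rw [map_subtype_commutator, hperf, ← MonoidHom.range_eq_map, Subgroup.range_subtype])
    have h1 : τ p' = 1 := by
      have h : commutator ↥K ≤ τ.ker := Abelianization.commutator_subset_ker τ
      exact MonoidHom.mem_ker.mp (h (htop ▸ mem_top p'))
    have key : ∀ (k : ℕ) (g₀ : ↥K), g₀⁻¹ * p' ^ k * g₀ ∈ (R' : Subgroup ↥K) → g₀⁻¹ * p' ^ k * g₀ = p' ^ k :=
      fun k g₀ _ => by
        rw [mul_assoc, ← ((show Commute g₀ p' from hp'c g₀).pow_right k).eq, inv_mul_cancel_left]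
    have h2 := congrArg Subtype.val ((MonoidHom.transfer_eq_pow (MonoidHom.id ↥(R' : Subgroup ↥K)) p' key).symm.trans h1)
    have h3 : p' ^ (R' : Subgroup ↥K).index = 1 := h2
    have h4 := congrArg Subtype.val h3
    rw [Subgroup.coe_pow] at h4
    have hidx : (R' : Subgroup ↥K).index = 98560 := by
      have h := Subgroup.card_mul_index (R' : Subgroup ↥K)
      rw [hR27, hcardK] at h
      omega
    have h5 := orderOf_dvd_of_pow_eq_one h4
    rw [hidx, C.ord] at h5
    norm_num at h5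
  obtain ⟨a, ha, b, hb, hab⟩ := hnonab
  have hext : Cfsg.IsExtraspecial 3 ↥(R' : Subgroup ↥K) :=
    Cfsg.Lib.Fusion.isExtraspecial_of_cube (by rw [hR27]; norm_num) (a := ⟨a, ha⟩) (b := ⟨b, hb⟩)
      fun e => hab (congrArg Subtype.val e)
  have hcenter : ∀ x ∈ (R' : Subgroup ↥K), (∀ y ∈ (R' : Subgroup ↥K), y * x = x * y) → x ∈ zpowers p' := by
    intro x hx hc
    have hle : (zpowers (⟨p', hp'R⟩ : ↥(R' : Subgroup ↥K))) ≤ center ↥(R' : Subgroup ↥K) :=
      zpowers_le.mpr (mem_center_iff.mpr fun y => Subtype.ext (hp'c y))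
    have heq := Subgroup.eq_of_le_of_card_ge hle (by
      rw [hext.2, Nat.card_zpowers, ← Subgroup.orderOf_coe, ← Subgroup.orderOf_coe]
      exact C.ord.ge)
    have hxc : (⟨x, hx⟩ : ↥(R' : Subgroup ↥K)) ∈ center ↥(R' : Subgroup ↥K) :=
      mem_center_iff.mpr fun y => Subtype.ext (hc y y.2)
    rw [← heq] at hxc
    obtain ⟨i, hi⟩ := mem_zpowers_iff.mp hxc
    exact mem_zpowers_iff.mpr ⟨i, congrArg Subtype.val hi⟩
  have hexp : ∀ x ∈ (R' : Subgroup ↥K), x ^ 3 = 1 := by
    intro x hx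
    have hxQ : φ x ∈ Q := mem_map_of_mem φ hx
    obtain ⟨h3, m, hm⟩ := hQreal _ hxQ
    obtain ⟨i, hi⟩ := mem_zpowers_iff.mp (hRker _ (pow_mem hx 3) (by rw [map_pow, h3]))
    have hx9 : x ^ 9 = 1 := by
      rw [show (9 : ℕ) = 3 * 3 from rfl, pow_mul, ← hi, ← zpow_natCast, ← zpow_mul, mul_comm, zpow_mul,
        zpow_natCast, show p' ^ 3 = 1 from Subtype.ext (by rw [Subgroup.coe_pow]; exact hp3), one_zpow]
    obtain ⟨g, rfl⟩ := hsurj m
    set c := x * (g * x * g⁻¹) with hc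
    have hck : φ c = 1 := by rw [hc, map_mul, map_mul, map_mul, map_inv, hm, mul_inv_cancel]
    have hc6 : c ^ 6 = 1 := by
      have h := pow_card_eq_one' (x := (⟨c, MonoidHom.mem_ker.mpr hck⟩ : ↥φ.ker))
      rw [hk6] at h
      exact congrArg Subtype.val h
    have hcc : ∀ y : ↥K, Commute y c := by
      intro y
      obtain ⟨k, e | e⟩ := hsmall c (MonoidHom.mem_ker.mpr hck)
      · exact Subtype.ext (show (y : G) * c = c * y by rw [e]; exact ((C.mem_K.mp y.2).2.pow_right k).eq)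
      · exact Subtype.ext (show (y : G) * c = c * y by
          rw [e]; exact ((C.z_comm (C.mem_K.mp y.2).1).mul_right ((C.mem_K.mp y.2).2.pow_right k)).eq)
    have hg3 : g * x ^ 3 * g⁻¹ = x ^ 3 := by
      rw [← hi, ((show Commute g p' from hp'c g).zpow_right i).eq, mul_inv_cancel_right]
    have he : g * x * g⁻¹ = x⁻¹ * c := by rw [hc, inv_mul_cancel_left]
    have h6 : x ^ 6 = c ^ 3 := by
      have h := conj_pow (i := 3) (a := g) (b := x)
      rw [hg3, he, (hcc x⁻¹).mul_pow, inv_pow] at h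
      rw [show x ^ 6 = x ^ 3 * x ^ 3 by rw [← pow_add]]
      nth_rw 2 [← h]
      rw [mul_inv_cancel_left]
    have h12 : x ^ 12 = 1 := by
      rw [show (12 : ℕ) = 6 * 2 from rfl, pow_mul, h6, ← pow_mul]; exact hc6
    rw [show (12 : ℕ) = 9 + 3 from rfl, pow_add, hx9, one_mul] at h12
    exact h12
  -- normalisers
  have hRchar : ∀ y : ↥K, φ y ∈ Q → y ^ 3 = 1 → y ∈ (R' : Subgroup ↥K) := by
    intro y hy h3
    obtain ⟨r, hr, e⟩ := hy
    have hrc : φ (r⁻¹ * y) = 1 := by rw [map_mul, map_inv, e, inv_mul_cancel]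
    obtain ⟨k, hk | hk⟩ := hsmall _ (MonoidHom.mem_ker.mpr hrc)
    · rw [show y = r * p' ^ k from Subtype.ext (by
        rw [Subgroup.coe_mul, Subgroup.coe_pow]
        show (y : G) = r * C.p ^ k
        rw [← hk, Subgroup.coe_mul, Subgroup.coe_inv, mul_inv_cancel_left])]
      exact mul_mem hr (pow_mem hp'R k)
    · exfalso
      have hy' : (y : G) = r * (z * C.p ^ k) := by
        rw [← hk, Subgroup.coe_mul, Subgroup.coe_inv, mul_inv_cancel_left]
      have h := congrArg Subtype.val h3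
      rw [Subgroup.coe_pow, hy', (((C.z_comm (C.mem_K.mp r.2).1).mul_right
        ((C.mem_K.mp r.2).2.pow_right k))).mul_pow, ((C.z_comm C.pH).symm.pow_right k).mul_pow,
        ← pow_mul, mul_comm k, pow_mul, hp3, one_pow, mul_one, show (r : G) ^ 3 = 1 from by
          have := congrArg Subtype.val (hexp r hr); rwa [Subgroup.coe_pow] at this,
        one_mul, pow_succ, pow_two, C.X.zz, one_mul] at h
      exact C.X.ne h
  have hNK : normalizer ((R' : Subgroup ↥K) : Set ↥K) = (normalizer (Q : Set Spor.M22)).comap φ := by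
    refine le_antisymm (le_trans (Subgroup.le_comap_map φ _) (Subgroup.comap_mono (Subgroup.le_normalizer_map φ)))
      fun y hy => mem_normalizer_iff.mpr fun n => ?_
    have hQy := mem_normalizer_iff.mp hy
    constructor
    · intro hn
      refine hRchar _ ?_ (by rw [conj_pow, hexp n hn, mul_one, mul_inv_cancel])
      rw [map_mul, map_mul, map_inv]
      exact (hQy _).mp (mem_map_of_mem φ hn)
    · intro hn
      refine hRchar _ ?_ ?_
      · refine (hQy _).mpr ?_
        rw [← map_inv, ← map_mul, ← map_mul]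
        exact mem_map_of_mem φ hn
      · have h := hexp _ hn
        rw [conj_pow, conj_eq_one_iff] at h
        exact h
  have hN432 : Nat.card ↥(normalizer ((R' : Subgroup ↥K) : Set ↥K)) = 432 := by
    have h1 := Subgroup.card_mul_index ((normalizer (Q : Set Spor.M22)).comap φ)
    rw [Subgroup.index_comap_of_surjective _ hsurj, hcardK] at h1
    have h2 := Subgroup.card_mul_index (normalizer (Q : Set Spor.M22))
    rw [hN72, Cfsg.Lib.Golay.card_M22] at h2
    rw [hNK]
    have h3 : (normalizer (Q : Set Spor.M22)).index = 6160 := by omega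
    rw [h3] at h1
    omega
  -- in the whole group
  set R := (R' : Subgroup ↥K).map K.subtype with hRdef
  have hRK : R ≤ K := map_subtype_le _
  have hcR : ∀ x ∈ R, (∀ y ∈ R, y * x = x * y) → x ∈ P := by
    rintro _ ⟨x, hx, rfl⟩ hc
    obtain ⟨i, hi⟩ := mem_zpowers_iff.mp (hcenter x hx fun y hy => Subtype.ext (hc y (mem_map_of_mem _ hy)))
    rw [← hi]
    show ((p' ^ i : ↥K) : G) ∈ P
    rw [Subgroup.coe_zpow]
    exact zpow_mem C.p_mem i
  have hPR : P ≤ R := fun x hx => by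
    obtain ⟨i, rfl⟩ := mem_zpowers_iff.mp (C.mem_zp hx)
    exact zpow_mem (mem_map_of_mem K.subtype hp'R : C.p ∈ R) i
  have hNP : normalizer (R : Set G) ≤ normalizer (P : Set G) := by
    intro g hg
    have hsub : ∀ g ∈ normalizer (R : Set G), ∀ x ∈ P, g * x * g⁻¹ ∈ P := by
      intro g hg x hx
      refine hcR _ ((mem_normalizer_iff.mp hg x).mp (hPR hx)) fun y hy => ?_
      have hy' : g⁻¹ * y * g ∈ R := by
        have := (mem_normalizer_iff.mp (inv_mem hg) y).mp hy
        rwa [inv_inv] at this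
      have hxy : g⁻¹ * y * g * x = x * (g⁻¹ * y * g) :=
        (mem_centralizer_iff.mp (mem_inf.mp (hRK hy')).2 x hx).symm
      calc y * (g * x * g⁻¹) = g * (g⁻¹ * y * g * x) * g⁻¹ := by group
        _ = g * (x * (g⁻¹ * y * g)) * g⁻¹ := by rw [hxy]
        _ = g * x * g⁻¹ * y := by group
    refine mem_normalizer_iff.mpr fun x => ⟨hsub g hg x, fun hx => ?_⟩
    have := hsub _ (inv_mem hg) _ hx
    rwa [show g⁻¹ * (g * x * g⁻¹) * g⁻¹⁻¹ = x by group] at this
  have hNH : normalizer (R : Set G) ≤ centralizer ({z} : Set G) := le_trans hNP (C.normalizer_P_le hG)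
  refine ⟨R, hPR, hRK, by rw [Subgroup.card_map_of_injective Subtype.val_injective, hR27],
    ⟨a, mem_map_of_mem K.subtype ha, b, mem_map_of_mem K.subtype hb, fun e => hab (Subtype.ext e)⟩, ?_, hcR, hNH, ?_⟩
  · rintro _ ⟨x, hx, rfl⟩
    rw [← map_pow, hexp x hx, map_one]
  set N := normalizer (R : Set G) with hN
  have hNKmap : N ⊓ K = (normalizer ((R' : Subgroup ↥K) : Set ↥K)).map K.subtype := by
    have hmem : ∀ n : ↥K, (n : G) ∈ R ↔ n ∈ (R' : Subgroup ↥K) := fun n =>
      ⟨fun ⟨m, hm, e⟩ => (Subtype.ext e : m = n) ▸ hm, fun h => mem_map_of_mem _ h⟩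
    ext g
    constructor
    · intro hg
      obtain ⟨hgN, hgK⟩ := mem_inf.mp hg
      refine ⟨⟨g, hgK⟩, mem_normalizer_iff.mpr fun n => ?_, rfl⟩
      rw [← hmem, ← hmem]
      exact mem_normalizer_iff.mp hgN n
    · rintro ⟨y, hy, rfl⟩
      refine mem_inf.mpr ⟨Subgroup.le_normalizer_map K.subtype (mem_map_of_mem _ hy), y.2⟩
  have hNK432 : Nat.card ↥(N ⊓ K) = 432 := by
    rw [hNKmap, Subgroup.card_map_of_injective Subtype.val_injective, hN432]
  -- an element inverting the centre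
  obtain ⟨t, htN, htp⟩ : ∃ t ∈ N, t * C.p * t⁻¹ = C.p⁻¹ := by
    have htp := C.comm_p.2.2.2
    have htH := C.memH.2.2.2
    have htK : ∀ x ∈ K, C.gt * x * C.gt⁻¹ ∈ K := by
      intro x hx
      obtain ⟨hxH, hxp⟩ := C.mem_K.mp hx
      refine C.mem_K.mpr ⟨mul_mem (mul_mem htH hxH) (inv_mem htH), ?_⟩
      have h := Commute.map hxp (MulAut.conj C.gt)
      simp only [MulAut.conj_apply] at h
      rw [htp] at h
      exact inv_inv C.p ▸ h.inv_right
    have hle : R.map (MulAut.conj C.gt).toMonoidHom ≤ K := by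
      rintro _ ⟨x, hx, rfl⟩
      exact htK x (hRK hx)
    have hc : Nat.card ↥((R.map (MulAut.conj C.gt).toMonoidHom).subgroupOf K) =
        3 ^ (Nat.card ↥K).factorization 3 := by
      rw [Nat.card_congr (subgroupOfEquivOfLe hle).toEquiv, Subgroup.card_map_of_injective (MulAut.conj C.gt).injective,
        Subgroup.card_map_of_injective Subtype.val_injective, R'.card_eq_multiplicity]
    obtain ⟨k, hk⟩ := MulAction.exists_smul_eq ↥K (Sylow.ofCard _ hc) R'
    refine ⟨(k : G) * C.gt, ?_, ?_⟩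
    · have hk' : ∀ x : ↥K, x ∈ (R.map (MulAut.conj C.gt).toMonoidHom).subgroupOf K →
          k * x * k⁻¹ ∈ (R' : Subgroup ↥K) := by
        intro x hx
        rw [← hk]
        exact ⟨x, hx, rfl⟩
      have hle2 : R.map (MulAut.conj ((k : G) * C.gt)).toMonoidHom ≤ R := by
        rintro _ ⟨x, hx, rfl⟩
        refine ⟨k * ⟨C.gt * x * C.gt⁻¹, htK x (hRK hx)⟩ * k⁻¹, hk' _ (mem_subgroupOf.mpr ⟨x, hx, rfl⟩), ?_⟩
        show (k : G) * (C.gt * x * C.gt⁻¹) * (k : G)⁻¹ = (k : G) * C.gt * x * ((k : G) * C.gt)⁻¹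
        group
      have heq := Subgroup.eq_of_le_of_card_ge hle2
        (le_of_eq (Subgroup.card_map_of_injective (MulAut.conj ((k : G) * C.gt)).injective).symm)
      refine mem_normalizer_iff.mpr fun x => ⟨fun hx => ?_, fun hx => ?_⟩
      · rw [← heq]; exact ⟨x, hx, rfl⟩
      · rw [← heq] at hx
        obtain ⟨y, hy, e⟩ := hx
        rwa [← (MulAut.conj ((k : G) * C.gt)).injective e]
    · rw [show (k : G) * C.gt * C.p * ((k : G) * C.gt)⁻¹ = k * (C.gt * C.p * C.gt⁻¹) * (k : G)⁻¹ by group, htp,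
        (C.mem_K.mp k.2).2.inv_right.eq, mul_inv_cancel_right]
  have hne : C.p⁻¹ ≠ C.p := fun e => by
    have h : C.p ^ 2 = 1 := by rw [pow_two]; nth_rw 1 [← e]; exact inv_mul_cancel _
    have h' := orderOf_dvd_of_pow_eq_one h
    rw [C.ord] at h'
    norm_num at h'
  have hidx : ((N ⊓ K).subgroupOf N).index = 2 := by
    refine Subgroup.index_eq_two_iff.mpr ⟨⟨t, htN⟩, fun b => ?_⟩
    have hmem : ∀ x : ↥N, x ∈ (N ⊓ K).subgroupOf N ↔ (x : G) * C.p * (x : G)⁻¹ = C.p := by
      intro x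
      rw [mem_subgroupOf, mem_inf, C.mem_K]
      exact ⟨fun h => by rw [h.2.2.eq, mul_inv_cancel_right],
        fun h => ⟨x.2, hNH x.2, mul_inv_eq_iff_eq_mul.mp h⟩⟩
    have hbt : ((b * ⟨t, htN⟩ : ↥N) : G) * C.p * ((b * ⟨t, htN⟩ : ↥N) : G)⁻¹ = ((b : G) * C.p * (b : G)⁻¹)⁻¹ := by
      rw [Subgroup.coe_mul, show (b : G) * t * C.p * ((b : G) * t)⁻¹ = b * (t * C.p * t⁻¹) * (b : G)⁻¹ by group, htp]
      group
    rcases C.deg b (hNH b.2) (hNP b.2) with e | e
    · refine Or.inr ⟨(hmem b).mpr e, fun h => hne ?_⟩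
      have := (hmem _).mp h
      rwa [hbt, e] at this
    · refine Or.inl ⟨(hmem _).mpr (by rw [hbt, e, inv_inv]), fun h => hne ?_⟩
      have := (hmem b).mp h
      rwa [e] at this
  have h := Subgroup.card_mul_index ((N ⊓ K).subgroupOf N)
  rw [hidx, Nat.card_congr (subgroupOfEquivOfLe inf_le_left).toEquiv, hNK432] at h
  omega

end Ctx

end Cfsg.Lib.JankoFour
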